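import Groth.Agent.Lib.Helper62.K0Sub

/-!
`K₀(P) ≅ K₀(D^b_P(C))` for a weak Serre class `P` of an abelian category `C`.
-/

set_option autoImplicit false
universe w v u

open CategoryTheory CategoryTheory.Limits CategoryTheory.Pretriangulated DerivedCategory
open ZeroObject

namespace Groth.Agent.Lib.Helper62.K0D

section Chi

variable {C : Type u} [Category.{v} C] [Abelian C] [HasDerivedCategory.{w} C]
  (P : ObjectProperty C) [WSerre.IsWeakSerre P]

/-- The family of classes of the cohomology objects. -/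
noncomputable def hcl (K : DerivedCategory C) (i : ℤ) : KZero.K0sub P :=
  KZero.clSub P ((homologyFunctor C i).obj K)

/-- Euler characteristic of the cohomology. -/
noncomputable def chi (K : DerivedCategory C) : KZero.K0sub P := alt (hcl P K)

lemma bddSupp_hcl (K : DerivedCategory C) (a b : ℤ) (ha : K.IsGE a) (hb : K.IsLE b) :
    BddSupp (hcl P K) :=
  BddSupp.of_bounds a b (fun i hi => by
    rcases hi with h | h
    · exact clSub_zero P _ (K.isZero_of_isGE a i h)
    · exact clSub_zero P _ (K.isZero_of_isLE b i h))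

lemma bddSupp_image {X Y : DerivedCategory C} (f : ∀ i : ℤ, (homologyFunctor C i).obj X ⟶ (homologyFunctor C i).obj Y)
    (a b : ℤ) (ha : X.IsGE a) (hb : X.IsLE b) :
    BddSupp (fun i => KZero.clSub P (Abelian.image (f i))) :=
  BddSupp.of_bounds a b (fun i hi => by
    apply clSub_zero
    have hz : IsZero ((homologyFunctor C i).obj X) := by
      rcases hi with h | h
      · exact X.isZero_of_isGE a i h
      · exact X.isZero_of_isLE b i h
    have : Abelian.factorThruImage (f i) = 0 := hz.eq_of_src _ _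
    rw [IsZero.iff_id_eq_zero, ← cancel_epi (Abelian.factorThruImage (f i))]
    rw [this]
    simp)

/-- Additivity of the Euler characteristic on distinguished triangles. -/
lemma chi_triangle (T : Triangle (DerivedCategory C)) (hT : T ∈ distTriang _)
    (h₁ : ∀ i : ℤ, P ((homologyFunctor C i).obj T.obj₁))
    (h₂ : ∀ i : ℤ, P ((homologyFunctor C i).obj T.obj₂))
    (h₃ : ∀ i : ℤ, P ((homologyFunctor C i).obj T.obj₃))
    (a₁ b₁ : ℤ) (ha₁ : T.obj₁.IsGE a₁) (hb₁ : T.obj₁.IsLE b₁)
    (a₂ b₂ : ℤ) (ha₂ : T.obj₂.IsGE a₂) (hb₂ : T.obj₂.IsLE b₂)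
    (a₃ b₃ : ℤ) (ha₃ : T.obj₃.IsGE a₃) (hb₃ : T.obj₃.IsLE b₃) :
    chi P T.obj₂ = chi P T.obj₁ + chi P T.obj₃ := by
  let U : ℤ → KZero.K0sub P := fun i =>
    KZero.clSub P (Abelian.image ((homologyFunctor C i).map T.mor₁))
  let V : ℤ → KZero.K0sub P := fun i =>
    KZero.clSub P (Abelian.image ((homologyFunctor C i).map T.mor₂))
  let W : ℤ → KZero.K0sub P := fun i =>
    KZero.clSub P (Abelian.image (HomologySequence.δ T i (i + 1) rfl))
  have hU : BddSupp U := bddSupp_image P (fun i => (homologyFunctor C i).map T.mor₁) a₁ b₁ ha₁ hb₁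
  have hV : BddSupp V := bddSupp_image P (fun i => (homologyFunctor C i).map T.mor₂) a₂ b₂ ha₂ hb₂
  have hW : BddSupp W := by
    refine BddSupp.of_bounds a₃ b₃ (fun i hi => ?_)
    apply clSub_zero
    have hz : IsZero ((homologyFunctor C i).obj T.obj₃) := by
      rcases hi with h | h
      · exact T.obj₃.isZero_of_isGE a₃ i h
      · exact T.obj₃.isZero_of_isLE b₃ i h
    have : Abelian.factorThruImage (HomologySequence.δ T i (i + 1) rfl) = 0 := hz.eq_of_src _ _
    rw [IsZero.iff_id_eq_zero,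
      ← cancel_epi (Abelian.factorThruImage (HomologySequence.δ T i (i + 1) rfl)), this]
    simp
  have eq₁ : ∀ i : ℤ, hcl P T.obj₁ (i + 1) = W i + U (i + 1) := fun i =>
    clSub_exact P _ (HomologySequence.exact₁ T hT i (i + 1) rfl) (h₃ i) (h₁ (i + 1)) (h₂ (i + 1))
  have eq₂ : ∀ i : ℤ, hcl P T.obj₂ i = U i + V i := fun i =>
    clSub_exact P _ (HomologySequence.exact₂ T hT i) (h₁ i) (h₂ i) (h₃ i)
  have eq₃ : ∀ i : ℤ, hcl P T.obj₃ i = V i + W i := fun i =>
    clSub_exact P _ (HomologySequence.exact₃ T hT i (i + 1) rfl) (h₂ i) (h₃ i) (h₁ (i + 1))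
  have e₁ : - chi P T.obj₁ = alt W - alt U := by
    unfold chi
    rw [← alt_succ, alt_congr eq₁, alt_add hW hU.succ, alt_succ U]
    abel
  have e₂ : chi P T.obj₂ = alt U + alt V := by
    unfold chi
    rw [alt_congr eq₂, alt_add hU hV]
  have e₃ : chi P T.obj₃ = alt V + alt W := by
    unfold chi
    rw [alt_congr eq₃, alt_add hV hW]
  have e₁' : chi P T.obj₁ = alt U - alt W := by
    rw [← neg_neg (chi P T.obj₁), e₁]
    abel
  rw [e₁', e₂, e₃]
  abel

end Chi

section Tr

variable {D : Type u} [Category.{v} D] [Preadditive D] [HasZeroObject D] [HasShift D ℤ]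
  [∀ n : ℤ, (shiftFunctor D n).Additive] [Pretriangulated D] (Q : ObjectProperty D)

lemma clTr_eq {X : D} (h : Q X) :
    KZero.clTr Q X = QuotientAddGroup.mk (FreeAbelianGroup.of ⟨X, h⟩) := dif_pos h

lemma clTr_triangle (T : Triangle D) (hT : T ∈ distTriang D) (h₁ : Q T.obj₁) (h₂ : Q T.obj₂)
    (h₃ : Q T.obj₃) : KZero.clTr Q T.obj₂ = KZero.clTr Q T.obj₁ + KZero.clTr Q T.obj₃ := by
  rw [clTr_eq Q h₁, clTr_eq Q h₂, clTr_eq Q h₃, ← QuotientAddGroup.mk_add,
    QuotientAddGroup.eq]
  have h : FreeAbelianGroup.of (⟨T.obj₂, h₂⟩ : Subtype Q) - FreeAbelianGroup.of ⟨T.obj₁, h₁⟩ -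
      FreeAbelianGroup.of ⟨T.obj₃, h₃⟩ ∈ KZero.relTr Q :=
    AddSubgroup.subset_closure ⟨T, h₁, h₂, h₃, hT, rfl⟩
  have h' := (KZero.relTr Q).neg_mem h
  convert h' using 1
  abel

lemma clTr_zero_obj (h0 : Q (0 : D)) : KZero.clTr Q (0 : D) = 0 := by
  have h := clTr_triangle Q _ (contractible_distinguished (0 : D)) h0 h0 h0
  change KZero.clTr Q (0 : D) = KZero.clTr Q (0 : D) + KZero.clTr Q (0 : D) at h
  have : KZero.clTr Q (0 : D) + 0 = KZero.clTr Q (0 : D) + KZero.clTr Q (0 : D) := by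
    rw [add_zero]; exact h
  exact (add_left_cancel this).symm

lemma clTr_iso (h0 : Q (0 : D)) {X Y : D} (e : X ≅ Y) (hX : Q X) (hY : Q Y) :
    KZero.clTr Q X = KZero.clTr Q Y := by
  have hT : Triangle.mk e.hom (0 : Y ⟶ (0 : D)) 0 ∈ distTriang D := by
    refine isomorphic_distinguished _ (contractible_distinguished X) _ ?_
    exact Triangle.isoMk _ _ (Iso.refl _) e.symm (Iso.refl _)
      (by change e.hom ≫ e.inv = 𝟙 X ≫ 𝟙 X; simp)
      (by change (0 : Y ⟶ (0 : D)) ≫ 𝟙 _ = e.inv ≫ (0 : X ⟶ (0 : D)); simp)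
      (by change (0 : (0 : D) ⟶ X⟦(1 : ℤ)⟧) ≫ (shiftFunctor D (1 : ℤ)).map (𝟙 X) =
            𝟙 (0 : D) ≫ (0 : (0 : D) ⟶ X⟦(1 : ℤ)⟧); simp)
  have h := clTr_triangle Q _ hT hX hY h0
  change KZero.clTr Q Y = KZero.clTr Q X + KZero.clTr Q (0 : D) at h
  rw [clTr_zero_obj Q h0, add_zero] at h
  exact h.symm

lemma clTr_isZero (h0 : Q (0 : D)) {Z : D} (hZ : IsZero Z) (hQ : Q Z) : KZero.clTr Q Z = 0 := by
  rw [clTr_iso Q h0 (hZ.iso (isZero_zero D)) hQ h0, clTr_zero_obj Q h0]

lemma clTr_shift_one (h0 : Q (0 : D)) (K : D) (hK : Q K) (hK' : Q (K⟦(1 : ℤ)⟧)) :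
    KZero.clTr Q (K⟦(1 : ℤ)⟧) = - KZero.clTr Q K := by
  have hT := rot_of_distTriang _ (contractible_distinguished K)
  have h := clTr_triangle Q _ hT hK h0 hK'
  change KZero.clTr Q (0 : D) = KZero.clTr Q K + KZero.clTr Q (K⟦(1 : ℤ)⟧) at h
  rw [clTr_zero_obj Q h0] at h
  exact (neg_eq_of_add_eq_zero_right h.symm).symm

end Tr

section Main

variable {C : Type u} [Category.{v} C] [Abelian C] [HasDerivedCategory.{w} C]
  (P : ObjectProperty C) [WSerre.IsWeakSerre P]

/-- The bounded objects of the derived category with cohomology in `P`. -/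
abbrev QP : ObjectProperty (DerivedCategory C) := fun K : DerivedCategory C =>
  (∀ i : ℤ, P ((DerivedCategory.homologyFunctor C i).obj K)) ∧
    ∃ a b : ℤ, (DerivedCategory.TStructure.t (C := C)).IsGE K a ∧
      (DerivedCategory.TStructure.t (C := C)).IsLE K b

lemma qP_mk (K : DerivedCategory C) (h : ∀ i : ℤ, P ((homologyFunctor C i).obj K)) (a b : ℤ)
    (ha : K.IsGE a) (hb : K.IsLE b) : QP P K := ⟨h, a, b, ha, hb⟩

lemma qP_of_iso {K L : DerivedCategory C} (e : K ≅ L) (h : QP P K) : QP P L := by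
  obtain ⟨h, a, b, ha, hb⟩ := h
  exact ⟨fun i => P.prop_of_iso ((homologyFunctor C i).mapIso e) (h i), a, b,
    TStructure.t.isGE_of_iso e a, TStructure.t.isLE_of_iso e b⟩

lemma qP_of_isZero {K : DerivedCategory C} (hK : IsZero K) : QP P K :=
  ⟨fun i => P.prop_of_isZero ((homologyFunctor C i).map_isZero hK), 0, 0,
    TStructure.t.isGE_of_isZero hK 0, TStructure.t.isLE_of_isZero hK 0⟩

lemma qP_zero : QP P (0 : DerivedCategory C) := qP_of_isZero P (isZero_zero _)

lemma qP_single (Y : C) (hY : P Y) (m : ℤ) : QP P ((singleFunctor C m).obj Y) :=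
  ⟨WSE.cohIn_single P Y hY m, m, m, inferInstance, inferInstance⟩

lemma chi_iso {K L : DerivedCategory C} (e : K ≅ L) (h : ∀ i : ℤ, P ((homologyFunctor C i).obj K)) :
    chi P K = chi P L :=
  alt_congr (fun i => clSub_iso P ((homologyFunctor C i).mapIso e) (h i))

lemma chi_isZero {K : DerivedCategory C} (hK : IsZero K) : chi P K = 0 :=
  alt_eq_zero _ (fun i => clSub_zero P _ ((homologyFunctor C i).map_isZero hK))

lemma chi_single (Y : C) (hY : P Y) (m : ℤ) :
    chi P ((singleFunctor C m).obj Y) = (m.negOnePow : ℤ) • KZero.clSub P Y := by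
  unfold chi
  rw [alt_eq_single _ m]
  · congr 1
    exact clSub_iso P ((singleFunctorCompHomologyFunctorIso C m).app Y)
      (WSE.cohIn_single P Y hY m m)
  · intro i hi
    apply clSub_zero
    rcases lt_or_gt_of_ne hi with h | h
    · exact isZero_of_isGE _ m i h
    · exact isZero_of_isLE _ m i h

lemma clTr_single_succ (Y : C) (hY : P Y) (m : ℤ) :
    KZero.clTr (QP P) ((singleFunctor C m).obj Y) =
      - KZero.clTr (QP P) ((singleFunctor C (m + 1)).obj Y) := by
  have e : ((singleFunctor C (m + 1)).obj Y)⟦(1 : ℤ)⟧ ≅ (singleFunctor C m).obj Y :=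
    ((singleFunctors C).shiftIso 1 m (m + 1) (by lia)).app Y
  have hQ : QP P (((singleFunctor C (m + 1)).obj Y)⟦(1 : ℤ)⟧) :=
    qP_of_iso P e.symm (qP_single P Y hY m)
  rw [← clTr_iso (QP P) (qP_zero P) e hQ (qP_single P Y hY m),
    clTr_shift_one (QP P) (qP_zero P) _ (qP_single P Y hY (m + 1)) hQ]

lemma clTr_single (Y : C) (hY : P Y) (m : ℤ) :
    KZero.clTr (QP P) ((singleFunctor C m).obj Y) =
      (m.negOnePow : ℤ) • KZero.clTr (QP P) ((singleFunctor C 0).obj Y) := by
  induction m using Int.induction_on with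
  | zero => simp
  | succ k ih =>
    have h := clTr_single_succ P Y hY k
    rw [ih] at h
    rw [Int.negOnePow_succ, Units.val_neg, neg_smul, h, neg_neg]
  | pred k ih =>
    have h := clTr_single_succ P Y hY (-(k : ℤ) - 1)
    rw [sub_add_cancel, ih] at h
    rw [h, Int.negOnePow_sub, Int.negOnePow_one]
    simp

/-- The morphism `K₀(P) ⟶ K₀(D^b_P(C))` induced by `X ↦ X[0]`. -/
noncomputable def phi : KZero.K0sub P →+ KZero.K0tr (QP P) :=
  QuotientAddGroup.lift (KZero.relSub P)
    (FreeAbelianGroup.lift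
      (fun X : Subtype P => KZero.clTr (QP P) ((singleFunctor C 0).obj X.1)))
    (by
      unfold KZero.relSub
      rw [AddSubgroup.closure_le]
      rintro x ⟨S, h₁, h₂, h₃, hS, rfl⟩
      rw [SetLike.mem_coe, AddMonoidHom.mem_ker, map_sub, map_sub,
        FreeAbelianGroup.lift_apply_of, FreeAbelianGroup.lift_apply_of,
        FreeAbelianGroup.lift_apply_of]
      have h := clTr_triangle (QP P) _ hS.singleTriangle_distinguished
        (qP_single P _ h₁ 0) (qP_single P _ h₂ 0) (qP_single P _ h₃ 0)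
      change KZero.clTr (QP P) ((singleFunctor C 0).obj S.X₂) =
        KZero.clTr (QP P) ((singleFunctor C 0).obj S.X₁) +
          KZero.clTr (QP P) ((singleFunctor C 0).obj S.X₃) at h
      rw [h]
      abel)

lemma phi_clSub (X : C) (hX : P X) :
    phi P (KZero.clSub P X) = KZero.clTr (QP P) ((singleFunctor C 0).obj X) := by
  rw [clSub_eq P hX]
  unfold phi
  rw [QuotientAddGroup.lift_mk, FreeAbelianGroup.lift_apply_of]

/-- The morphism `K₀(D^b_P(C)) ⟶ K₀(P)` given by the Euler characteristic of the cohomology. -/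
noncomputable def psi : KZero.K0tr (QP P) →+ KZero.K0sub P :=
  QuotientAddGroup.lift (KZero.relTr (QP P))
    (FreeAbelianGroup.lift (fun K : Subtype (QP P) => chi P K.1))
    (by
      unfold KZero.relTr
      rw [AddSubgroup.closure_le]
      rintro x ⟨T, h₁, h₂, h₃, hT, rfl⟩
      rw [SetLike.mem_coe, AddMonoidHom.mem_ker, map_sub, map_sub,
        FreeAbelianGroup.lift_apply_of, FreeAbelianGroup.lift_apply_of,
        FreeAbelianGroup.lift_apply_of]
      obtain ⟨h₁, a₁, b₁, ha₁, hb₁⟩ := h₁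
      obtain ⟨h₂, a₂, b₂, ha₂, hb₂⟩ := h₂
      obtain ⟨h₃, a₃, b₃, ha₃, hb₃⟩ := h₃
      have h := chi_triangle P T hT h₁ h₂ h₃ a₁ b₁ ha₁ hb₁ a₂ b₂ ha₂ hb₂ a₃ b₃ ha₃ hb₃
      change chi P T.obj₂ - chi P T.obj₁ - chi P T.obj₃ = 0
      rw [h]
      abel)

lemma psi_clTr (K : DerivedCategory C) (hK : QP P K) :
    psi P (KZero.clTr (QP P) K) = chi P K := by
  rw [clTr_eq (QP P) hK]
  unfold psi
  rw [QuotientAddGroup.lift_mk, FreeAbelianGroup.lift_apply_of]

lemma phi_chi_single (Y : C) (hY : P Y) (m : ℤ) :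
    phi P (chi P ((singleFunctor C m).obj Y)) =
      KZero.clTr (QP P) ((singleFunctor C m).obj Y) := by
  rw [chi_single P Y hY m, map_zsmul, phi_clSub P Y hY, clTr_single P Y hY m]

lemma phi_chi_bounded (n : ℕ) :
    ∀ (a b : ℤ) (_ : b < a + n) (K : DerivedCategory C) [K.IsGE a] [K.IsLE b]
      (_ : ∀ i : ℤ, P ((homologyFunctor C i).obj K)),
      phi P (chi P K) = KZero.clTr (QP P) K := by
  induction n with
  | zero =>
    intro a b hab K _ _ hK
    have hz : IsZero K := TStructure.t.isZero K b a (by lia)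
    rw [chi_isZero P hz, map_zero, clTr_isZero (QP P) (qP_zero P) hz (qP_of_isZero P hz)]
  | succ n ih =>
    intro a b hab K hKa hKb hK
    have hT := TStructure.t.triangleLTGE_distinguished b K
    have i1 : ((TStructure.t.truncLT b).obj K).IsLE (b - 1) := inferInstance
    have i2 : ((TStructure.t.truncLT b).obj K).IsGE a := inferInstance
    have i3 : ((TStructure.t.truncGE b).obj K).IsGE b := inferInstance
    have i4 : ((TStructure.t.truncGE b).obj K).IsLE b := inferInstance
    have c1 : ∀ i : ℤ, P ((homologyFunctor C i).obj ((TStructure.t.truncLT b).obj K)) := by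
      intro i
      by_cases hi : i < b
      · have := Groth.Agent.Lib.Helper22.isIso_homologyMap_truncLTι K b i hi
        exact P.prop_of_iso (asIso ((homologyFunctor C i).map
          ((TStructure.t.truncLTι b).app K))).symm (hK i)
      · exact P.prop_of_isZero
          (isZero_of_isLE ((TStructure.t.truncLT b).obj K) (b - 1) i (by lia))
    have c3 : ∀ i : ℤ, P ((homologyFunctor C i).obj ((TStructure.t.truncGE b).obj K)) := by
      intro i
      by_cases hi : b ≤ i
      · have := Groth.Agent.Lib.Helper22.isIso_homologyMap_truncGEπ K b i hi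
        exact P.prop_of_iso (asIso ((homologyFunctor C i).map
          ((TStructure.t.truncGEπ b).app K))) (hK i)
      · exact P.prop_of_isZero
          (isZero_of_isGE ((TStructure.t.truncGE b).obj K) b i (by lia))
    have h1 : phi P (chi P ((TStructure.t.truncLT b).obj K)) =
        KZero.clTr (QP P) ((TStructure.t.truncLT b).obj K) :=
      ih a (b - 1) (by lia) _ c1
    have h3 : phi P (chi P ((TStructure.t.truncGE b).obj K)) =
        KZero.clTr (QP P) ((TStructure.t.truncGE b).obj K) := by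
      obtain ⟨Y, ⟨e⟩⟩ := exists_iso_singleFunctor_obj_of_isGE_of_isLE
        ((TStructure.t.truncGE b).obj K) b
      have hY : P Y :=
        P.prop_of_iso ((homologyFunctor C b).mapIso e ≪≫
          (singleFunctorCompHomologyFunctorIso C b).app Y) (c3 b)
      rw [chi_iso P e c3, phi_chi_single P Y hY b]
      exact (clTr_iso (QP P) (qP_zero P) e (qP_mk P _ c3 b b i3 i4) (qP_single P Y hY b)).symm
    have hχ := chi_triangle P _ hT c1 hK c3 a (b - 1) i2 i1 a b hKa hKb b b i3 i4
    have hcl := clTr_triangle (QP P) _ hT (qP_mk P _ c1 a (b - 1) i2 i1)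
      (qP_mk P _ hK a b hKa hKb) (qP_mk P _ c3 b b i3 i4)
    change chi P K = chi P ((TStructure.t.truncLT b).obj K) +
      chi P ((TStructure.t.truncGE b).obj K) at hχ
    change KZero.clTr (QP P) K = KZero.clTr (QP P) ((TStructure.t.truncLT b).obj K) +
      KZero.clTr (QP P) ((TStructure.t.truncGE b).obj K) at hcl
    rw [hχ, map_add, h1, h3, hcl]

lemma phi_chi (K : DerivedCategory C) (hK : QP P K) :
    phi P (chi P K) = KZero.clTr (QP P) K := by
  obtain ⟨h, a, b, ha, hb⟩ := hK
  have : K.IsGE a := ha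
  have : K.IsLE b := hb
  exact phi_chi_bounded P (b - a + 1).toNat a b (by lia) K h

/-- `K₀(P) ≃ K₀(D^b_P(C))`. -/
noncomputable def k0Equiv : KZero.K0sub P ≃+ KZero.K0tr (QP P) :=
  AddMonoidHom.toAddEquiv (phi P) (psi P)
    (by
      apply QuotientAddGroup.addMonoidHom_ext
      apply FreeAbelianGroup.lift_ext
      rintro ⟨X, hX⟩
      change psi P (phi P (QuotientAddGroup.mk (FreeAbelianGroup.of ⟨X, hX⟩))) =
        QuotientAddGroup.mk (FreeAbelianGroup.of ⟨X, hX⟩)
      rw [← clSub_eq P hX, phi_clSub P X hX, psi_clTr P _ (qP_single P X hX 0),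
        chi_single P X hX 0]
      simp)
    (by
      apply QuotientAddGroup.addMonoidHom_ext
      apply FreeAbelianGroup.lift_ext
      rintro ⟨K, hK⟩
      change phi P (psi P (QuotientAddGroup.mk (FreeAbelianGroup.of ⟨K, hK⟩))) =
        QuotientAddGroup.mk (FreeAbelianGroup.of ⟨K, hK⟩)
      rw [← clTr_eq (QP P) hK, psi_clTr P K hK, phi_chi P K hK])

lemma k0Equiv_clSub (X : C) (hX : P X) :
    k0Equiv P (KZero.clSub P X) = KZero.clTr (QP P) ((singleFunctor C 0).obj X) :=
  phi_clSub P X hX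

end Main

end Groth.Agent.Lib.Helper62.K0D
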