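import Mathlib.CategoryTheory.Monoidal.Cartesian.Grp
import Mathlib.CategoryTheory.Monoidal.Cartesian.Over
import Mathlib.CategoryTheory.Limits.Shapes.Pullback.IsPullback.Basic
import Mathlib.CategoryTheory.Limits.Constructions.Over.Connected
import Mathlib.AlgebraicGeometry.Morphisms.Separated
import Mathlib.AlgebraicGeometry.Morphisms.ClosedImmersion

/-!
Group schemes: the diagonal is a base change of the unit section; hence a group scheme whose unit
section is a closed immersion is separated.
-/

namespace Groth.Agent.Lib.Helper62

open CategoryTheory Limits MonoidalCategory CartesianMonoidalCategory MonObj AlgebraicGeometry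

universe u

/-- In a cartesian monoidal category, the diagonal of a group object is the pullback of the unit
along the division map. -/
theorem isPullback_diag_unit {C : Type*} [Category C] [CartesianMonoidalCategory C] (G : C)
    [GrpObj G] :
    IsPullback (lift (𝟙 G) (𝟙 G)) (toUnit G) (fst G G / snd G G) η[G] := by
  refine ⟨⟨?_⟩, ⟨PullbackCone.IsLimit.mk _ (fun s => s.fst ≫ fst G G) ?_ ?_ ?_⟩⟩
  · rw [GrpObj.comp_div]
    simp [Hom.one_def]
  · intro s
    have h := s.condition
    rw [GrpObj.comp_div] at h
    have h' : s.snd ≫ η[G] = 1 := by
      rw [Hom.one_def]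
      congr 1
      exact toUnit_unique _ _
    rw [h', div_eq_one] at h
    ext
    · simp
    · simp [h]
  · intro s
    exact toUnit_unique _ _
  · intro s m h1 h2
    rw [← h1]
    simp

/-- A group scheme whose unit section is a closed immersion is separated. -/
theorem isSeparated_of_isClosedImmersion_unit (S : Scheme.{u}) (G : Over S) [GrpObj G]
    (h : IsClosedImmersion η[G].left) : IsSeparated G.hom := by
  have sq := (isPullback_diag_unit G).map (Over.forget S)
  have hΔ : IsClosedImmersion (lift (𝟙 G) (𝟙 G)).left :=
    MorphismProperty.of_isPullback (P := @IsClosedImmersion) sq.flip h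
  refine ⟨?_⟩
  have e : pullback.diagonal G.hom = (lift (𝟙 G) (𝟙 G)).left := by
    apply pullback.hom_ext
    · simp only [pullback.diagonal_fst, Over.lift_left]
      exact (pullback.lift_fst _ _ _).symm
    · simp only [pullback.diagonal_snd, Over.lift_left]
      exact (pullback.lift_snd _ _ _).symm
  rw [e]
  exact hΔ

end Groth.Agent.Lib.Helper62
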