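import Mathlib

set_option autoImplicit false

namespace Groth.Agent.Lib.Helper62

open TensorProduct

universe u v w

lemma flat_of_faithfullyFlat_of_flat (A : Type u) (B : Type v) (D : Type w)
    [CommRing A] [CommRing B] [CommRing D]
    [Algebra A B] [Algebra B D] [Algebra A D] [IsScalarTower A B D]
    [Module.FaithfullyFlat B D] [Module.Flat A D] : Module.Flat A B := by
  rw [Module.Flat.iff_lTensor_preserves_injective_linearMap]
  intro N P _ _ _ _ f hf
  let g : B ⊗[A] N →ₗ[B] B ⊗[A] P := AlgebraTensorModule.map LinearMap.id f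
  have hg : (g : B ⊗[A] N → B ⊗[A] P) = f.lTensor B := by
    ext x
    rfl
  rw [← hg, ← Module.FaithfullyFlat.lTensor_injective_iff_injective B D g]
  have key : ∀ x : D ⊗[B] (B ⊗[A] N),
      AlgebraTensorModule.cancelBaseChange A B D D P (g.lTensor D x) =
      f.lTensor D (AlgebraTensorModule.cancelBaseChange A B D D N x) := by
    intro x
    induction x using TensorProduct.induction_on with
    | zero => simp
    | add x y hx hy => simp only [map_add, hx, hy]
    | tmul d y =>
      induction y using TensorProduct.induction_on with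
      | zero => simp
      | add x y hx hy => simp only [map_add, tmul_add, hx, hy]
      | tmul b n => simp [g]
  have h1 : Function.Injective (fun x : D ⊗[B] (B ⊗[A] N) ↦
      f.lTensor D (AlgebraTensorModule.cancelBaseChange A B D D N x)) :=
    (Module.Flat.lTensor_preserves_injective_linearMap f hf).comp
      (AlgebraTensorModule.cancelBaseChange A B D D N).injective
  intro x y hxy
  apply h1
  simp only [← key, hxy]

end Groth.Agent.Lib.Helper62

namespace Groth.Agent.Lib.Helper62

open CategoryTheory AlgebraicGeometry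

universe u

lemma ringHom_flat_of_retract {A B C : Type u} [CommRing A] [CommRing B] [CommRing C]
    (ψ : A →+* B) (hψ : ψ.Flat) (σ : B →+* C) (ι : C →+* B)
    (h1 : σ.comp ι = RingHom.id C) (h2 : ι.comp (σ.comp ψ) = ψ) : (σ.comp ψ).Flat := by
  letI : Algebra A B := ψ.toAlgebra
  letI : Algebra A C := (σ.comp ψ).toAlgebra
  change Module.Flat A C
  have hψ' : Module.Flat A B := hψ
  let i : C →ₗ[A] B :=
    { toFun := ι
      map_add' := map_add ι
      map_smul' := fun a c ↦ by
        simp only [Algebra.smul_def, map_mul, RingHom.id_apply]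
        congr 1
        exact RingHom.congr_fun h2 a }
  let r : B →ₗ[A] C :=
    { toFun := σ
      map_add' := map_add σ
      map_smul' := fun a b ↦ by
        simp only [Algebra.smul_def, map_mul, RingHom.id_apply]
        rfl }
  refine Module.Flat.of_retract i r ?_
  ext c
  exact RingHom.congr_fun h1 c

lemma flat_of_retract_aux {A C' B C D : CommRingCat.{u}} (η : A ⟶ C') (ρ : C' ⟶ B) (σ : B ⟶ C)
    (ε : C' ≅ C) (δ : A ≅ D) (φ : D ⟶ C) (hρσ : ρ ≫ σ = ε.hom)
    (key : η ≫ ε.hom = δ.hom ≫ φ) (hflat : (η ≫ ρ).hom.Flat) : φ.hom.Flat := by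
  rw [← RingHom.Flat.respectsIso.cancel_left_isIso δ.hom φ, ← CommRingCat.hom_comp, ← key, ← hρσ,
    ← Category.assoc, CommRingCat.hom_comp]
  refine ringHom_flat_of_retract _ hflat _ (ε.inv ≫ ρ).hom ?_ ?_
  · rw [← CommRingCat.hom_comp, Category.assoc, hρσ, Iso.inv_hom_id]; rfl
  · rw [← CommRingCat.hom_comp, ← CommRingCat.hom_comp]
    congr 1
    rw [Category.assoc, Category.assoc, reassoc_of% hρσ, Iso.hom_inv_id_assoc]

lemma flat_stalkMap_of_section {Y' P Z : Scheme.{u}} (s : Y' ⟶ P) (r : P ⟶ Y')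
    (hsr : s ≫ r = 𝟙 Y') (h : Y' ⟶ Z) (y' : Y')
    (hflat : ((r ≫ h).stalkMap (s y')).hom.Flat) : (h.stalkMap y').hom.Flat := by
  have e : r (s y') = y' := by
    rw [← Scheme.Hom.comp_apply, hsr]; rfl
  have hρσ : r.stalkMap (s y') ≫ s.stalkMap y' = (Y'.presheaf.stalkCongr (.of_eq e)).hom := by
    rw [← Scheme.Hom.stalkMap_comp, Scheme.Hom.stalkMap_congr_hom _ _ hsr y']
    simp
  have hflat' : (h.stalkMap (r (s y')) ≫ r.stalkMap (s y')).hom.Flat := by
    have := hflat
    rw [Scheme.Hom.stalkMap_comp] at this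
    exact this
  exact flat_of_retract_aux (h.stalkMap (r (s y'))) (r.stalkMap (s y')) (s.stalkMap y')
    (Y'.presheaf.stalkCongr (.of_eq e)) (Z.presheaf.stalkCongr (.of_eq (congrArg h e))) (h.stalkMap y')
    hρσ (Scheme.Hom.stalkMap_congr_point h (r (s y')) y' e) hflat'

lemma flat_of_section {Y' P Z : Scheme.{u}} (s : Y' ⟶ P) (r : P ⟶ Y')
    (hsr : s ≫ r = 𝟙 Y') (h : Y' ⟶ Z) [Flat (r ≫ h)] : Flat h :=
  Flat.of_stalkMap _ fun y' ↦
    flat_stalkMap_of_section s r hsr h y' (Flat.stalkMap (r ≫ h) (s y'))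

lemma ringHom_flat_of_comp_of_faithfullyFlat {A B D : Type u} [CommRing A] [CommRing B] [CommRing D]
    (α : A →+* B) (β : B →+* D) (hβ : β.FaithfullyFlat) (h : (β.comp α).Flat) : α.Flat := by
  algebraize [α, β, β.comp α]
  exact flat_of_faithfullyFlat_of_flat A B D

lemma flat_of_flat_comp_of_surjective {Y' Y Z : Scheme.{u}} (g : Y' ⟶ Y) (q : Y ⟶ Z)
    [Flat g] [Surjective g] [Flat (g ≫ q)] : Flat q := by
  refine Flat.of_stalkMap _ fun y ↦ ?_
  obtain ⟨y', rfl⟩ := g.surjective y
  have h0 : ((g ≫ q).stalkMap y').hom.Flat := Flat.stalkMap (g ≫ q) y'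
  rw [Scheme.Hom.stalkMap_comp] at h0
  have h1 : ((g.stalkMap y').hom.comp (q.stalkMap (g y')).hom).Flat := h0
  refine ringHom_flat_of_comp_of_faithfullyFlat _ _ ?_ h1
  have h2 : (g.stalkMap y').hom.Flat := Flat.stalkMap g y'
  algebraize [(g.stalkMap y').hom]
  rw [← RingHom.algebraMap_toAlgebra (g.stalkMap y').hom, RingHom.faithfullyFlat_algebraMap_iff]
  haveI : IsLocalHom (algebraMap (Y.presheaf.stalk (g y')) (Y'.presheaf.stalk y')) := by
    rw [RingHom.algebraMap_toAlgebra]; infer_instance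
  exact Module.FaithfullyFlat.of_flat_of_isLocalHom

end Groth.Agent.Lib.Helper62
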