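import Groth.Agent.Lib.Helper62.StkGlue

/-!
# Objects locally in the essential image of a fully faithful functor of stacks (helper62)
-/

set_option autoImplicit false
set_option backward.isDefEq.respectTransparency false
set_option backward.isDefEq.respectTransparency.types false
universe v u
open CategoryTheory CategoryTheory.Functor FibCat

namespace Groth.Agent.Lib.Helper62.StkLocEss

open Groth.Agent.Lib.Helper17 Groth.Agent.Lib.Helper17.FG Groth.Agent.Lib.Helper62.StkFF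
open Groth.Agent.Lib.Helper98.StkPost Groth.Agent.Lib.Helper62.StkGlue

variable {C : Type u} [Category.{v} C] {𝒳 𝒴 : BasedCategory.{v, max u v} C}

/-- If `F` is fully faithful, objects glue in `𝒳` along `R` and morphisms glue in `𝒴` along `R`, then an
object of `𝒴` which is in the essential image of `F` along every arrow of `R` is in the essential image. -/
theorem exists_preimage_of_locally (h𝒴 : IsFibGrpd 𝒴.p) (F : 𝒳 ⥤ᵇ 𝒴)
    [F.toFunctor.Full] [F.toFunctor.Faithful] (y : 𝒴.obj) (R : Sieve (𝒴.p.obj y))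
    (hR𝒳 : (Stk.resSieve R 𝒳).EssSurj) (hR𝒴 : Stk.IsPrestackFor R 𝒴)
    (h : ∀ ⦃V : C⦄ (f : V ⟶ 𝒴.p.obj y), R f → ∃ (x : 𝒳.obj) (φ : F.obj x ⟶ y), 𝒴.p.IsHomLift f φ) :
    ∃ (ξ : 𝒳.obj) (e : F.obj ξ ≅ y), 𝒴.p.IsHomLift (𝟙 (𝒴.p.obj y)) e.hom := by
  obtain ⟨Y, π, hπ, hπc⟩ := exists_yoneda h𝒴 y rfl
  -- the restriction of `Y` to `R` factors through `F`
  obtain ⟨D, ⟨e₁⟩⟩ := exists_factor_of_ff F ((Stk.resSieve R 𝒴).obj Y) (by
    intro a
    obtain ⟨x, φ, hφ⟩ := h a.obj.hom a.property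
    obtain ⟨τ, hτ1, -⟩ := exists_iso_of_lifts h𝒴 a.obj.hom φ hφ (π a.obj) (hπ a.obj)
    exact ⟨x, τ, hτ1⟩)
  -- glue in `𝒳`
  obtain ⟨G, ⟨e₂⟩⟩ := hR𝒳.mem_essImage D
  have e₃ : (Stk.resSieve R 𝒴).obj (BasedFunctor.comp G F) ≅ (Stk.resSieve R 𝒴).obj Y :=
    (post (Stk.sieveCat R) F).mapIso e₂ ≪≫ e₁
  have := hR𝒴.1
  have := hR𝒴.2
  let e₄ : BasedFunctor.comp G F ≅ Y := (Stk.resSieve R 𝒴).preimageIso e₃
  let T : Over (𝒴.p.obj y) := Over.mk (𝟙 (𝒴.p.obj y))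
  have h1 : 𝒴.p.IsHomLift (𝟙 (𝒴.p.obj y)) (e₄.hom.toNatTrans.app T) :=
    BasedNatTrans.isHomLift e₄.hom rfl
  have h2 : 𝒴.p.IsHomLift (𝟙 (𝒴.p.obj y)) (π T) := hπ T
  have h3 : IsIso (π T) := isIso_of_lift_id h𝒴 (π T) h2
  have h4 : IsIso (e₄.hom.toNatTrans.app T) := isIso_of_lift_id h𝒴 _ h1
  have h5 : IsIso (e₄.hom.toNatTrans.app T ≫ π T) := inferInstance
  refine ⟨G.obj T, @asIso _ _ _ _ (e₄.hom.toNatTrans.app T ≫ π T) h5, ?_⟩
  change 𝒴.p.IsHomLift (𝟙 (𝒴.p.obj y)) (e₄.hom.toNatTrans.app T ≫ π T)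
  infer_instance

end Groth.Agent.Lib.Helper62.StkLocEss
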