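import Groth.Prelude.Def_AlgSp
import Mathlib.CategoryTheory.Limits.Types.Pullbacks
import Mathlib.CategoryTheory.Sites.Limits
import Mathlib.CategoryTheory.Limits.FunctorCategory.EpiMono

/-!
A morphism of fppf sheaves which is representable by monomorphisms of schemes is a monomorphism.
-/

set_option autoImplicit false
universe u
open CategoryTheory CategoryTheory.Limits AlgebraicGeometry Opposite

namespace Groth.Agent.Lib.Helper62

open AlgSp

variable {S : Scheme.{u}}

/-- Sections of a pullback square of sheaves: existence. -/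
theorem isPullback_sections_exists' {A B D E : Sp S} {t : A ⟶ B} {l : A ⟶ D} {r : B ⟶ E} {b : D ⟶ E}
    (h : IsPullback t l r b) (Z : (Over S)ᵒᵖ) (x : B.obj.obj Z) (y : D.obj.obj Z)
    (hxy : r.hom.app Z x = b.hom.app Z y) : ∃ a, t.hom.app Z a = x ∧ l.hom.app Z a = y := by
  have h1 := (h.map (sheafToPresheaf (J S) (Type (u+1)))).map ((evaluation _ _).obj Z)
  exact Types.exists_of_isPullback h1 x y hxy

/-- A morphism of sheaves representable by monomorphisms of schemes is a monomorphism. -/
theorem mono_of_repWith (P : MorphismProperty Scheme.{u})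
    (hP : ∀ {X Y : Scheme.{u}} (f : X ⟶ Y), P f → Mono f) {F G : Sp S} (m : F ⟶ G)
    (hm : RepWith P m) : Mono m := by
  rw [repWith_iff] at hm
  obtain ⟨hrep, hprop⟩ := hm
  suffices h : Mono m.hom from Sheaf.Hom.mono_of_presheaf_mono _ _ m
  rw [NatTrans.mono_iff_mono_app]
  intro T
  rw [mono_iff_injective]
  intro x x' hxx'
  obtain ⟨T⟩ := T
  -- the section `z = m x` as a morphism `h_T ⟶ G`
  let g : (yon S).obj T ⟶ G :=
    (GrothendieckTopology.uliftYonedaEquiv.{u + 1} (J S) (X := T) (F := G)).symm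
      (m.hom.app (op T) x)
  have hg : g.hom.app (op T) ⟨𝟙 T⟩ = m.hom.app (op T) x :=
    (GrothendieckTopology.uliftYonedaEquiv.{u + 1} (J S) (X := T) (F := G)).apply_symm_apply
      (m.hom.app (op T) x)
  obtain ⟨V, snd, fst, hpb⟩ := hrep g
  have hmono : Mono snd.left := hP _ (hprop g fst snd hpb)
  have hmono' : Mono snd := (Over.forget S).mono_of_mono_map hmono
  obtain ⟨a, ha1, ha2⟩ := isPullback_sections_exists' hpb (op T) x ⟨𝟙 T⟩ hg.symm
  obtain ⟨a', ha1', ha2'⟩ := isPullback_sections_exists' hpb (op T) x' ⟨𝟙 T⟩ (hxx' ▸ hg.symm)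
  have haa' : a = a' := by
    apply ULift.ext
    rw [← cancel_mono snd]
    have e1 := congrArg ULift.down ha2
    have e2 := congrArg ULift.down ha2'
    exact e1.trans e2.symm
  rw [← ha1, ← ha1', haa']

end Groth.Agent.Lib.Helper62
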