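import Groth.Agent.Lib.Helper62.StkCone

/-!
# Gluing morphisms of a prestack along a sieve by unique local existence (helper62)
-/

set_option autoImplicit false
set_option backward.isDefEq.respectTransparency false
set_option backward.isDefEq.respectTransparency.types false
universe v u
open CategoryTheory CategoryTheory.Functor FibCat

namespace Groth.Agent.Lib.Helper62.StkGlueHom

open Groth.Agent.Lib.Helper17 Groth.Agent.Lib.Helper17.FG Groth.Agent.Lib.Helper62.StkFF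
open Groth.Agent.Lib.Helper62.StkGlue Groth.Agent.Lib.Helper62.StkLocTriv
open Groth.Agent.Lib.Helper62.StkCone

variable {C : Type u} [Category.{v} C] {𝒳 : BasedCategory.{v, max u v} C}

theorem base_eq {R S : C} {f₁ f₂ : R ⟶ S} {a b : 𝒳.obj} {χ : a ⟶ b}
    (h₁ : 𝒳.p.IsHomLift f₁ χ) (h₂ : 𝒳.p.IsHomLift f₂ χ) : f₁ = f₂ :=
  (IsHomLift.fac 𝒳.p f₁ χ).trans (IsHomLift.fac 𝒳.p f₂ χ).symm

theorem isHomLift_congr'' {R S : C} {f f' : R ⟶ S} (h : f = f') {a b : 𝒳.obj}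
    {φ : a ⟶ b} (hf : 𝒳.p.IsHomLift f φ) : 𝒳.p.IsHomLift f' φ := by
  subst h; exact hf

theorem isHomLift_id_of_eq' {R R' : C} (h : R = R') {a b : 𝒳.obj} (φ : a ⟶ b)
    (hφ : 𝒳.p.IsHomLift (𝟙 R) φ) : 𝒳.p.IsHomLift (𝟙 R') φ := by
  subst h; exact hφ

/-- parallel morphisms over an identity which agree along one lift of every arrow of a sieve along which
morphisms glue uniquely are equal -/
theorem eq_of_locally (h𝒳 : IsFibGrpd 𝒳.p) {U : C} (t t' : 𝒳.obj) (ht : 𝒳.p.obj t = U) (R : Sieve U)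
    (hR : (Stk.resSieve R 𝒳).Faithful) (θ₁ θ₂ : t ⟶ t') (h₁ : 𝒳.p.IsHomLift (𝟙 U) θ₁)
    (h₂ : 𝒳.p.IsHomLift (𝟙 U) θ₂)
    (h : ∀ ⦃V : C⦄ (f : V ⟶ U), R f → ∃ (s : 𝒳.obj) (l : s ⟶ t), 𝒳.p.IsHomLift f l ∧
      l ≫ θ₁ = l ≫ θ₂) : θ₁ = θ₂ := by
  have hi : IsIso θ₂ := isIso_of_lift_id h𝒳 θ₂ h₂
  have hinv : 𝒳.p.IsHomLift (𝟙 U) (inv θ₂) := IsHomLift.lift_id_inv_isIso (p := 𝒳.p) U θ₂
  have hθ : 𝒳.p.IsHomLift (𝟙 U) (θ₁ ≫ inv θ₂) := inferInstance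
  have key : θ₁ ≫ inv θ₂ = 𝟙 _ := by
    refine eq_id_of_locally h𝒳 t ht R hR _ hθ ?_
    intro V f hf s l hl
    obtain ⟨s₀, l₀, hl₀, e⟩ := h f hf
    obtain ⟨τ, -, hτ⟩ := exists_iso_of_lifts h𝒳 f l hl l₀ hl₀
    rw [← hτ]
    simp only [Category.assoc]
    rw [← Category.assoc l₀, e]
    simp
  have : θ₁ = (θ₁ ≫ inv θ₂) ≫ θ₂ := by simp
  rw [this, key, Category.id_comp]

/-- gluing a morphism from unique local existence -/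
theorem glue_unique (h𝒳 : IsFibGrpd 𝒳.p) {U : C} (R : Sieve U) (hfull : (Stk.resSieve R 𝒳).Full)
    (x₁ x₂ : 𝒳.obj) (hx₁ : 𝒳.p.obj x₁ = U) (hx₂ : 𝒳.p.obj x₂ = U)
    (P : ∀ {z : 𝒳.obj}, (z ⟶ x₁) → (z ⟶ x₂) → Prop)
    (hex : ∀ ⦃V : C⦄ (f : V ⟶ U), R f → ∀ {z : 𝒳.obj} (l : z ⟶ x₁), 𝒳.p.IsHomLift f l →
      ∃ m : z ⟶ x₂, 𝒳.p.IsHomLift f m ∧ P l m)
    (huniq : ∀ ⦃V : C⦄ (f : V ⟶ U), R f → ∀ {z : 𝒳.obj} (l : z ⟶ x₁) (m m' : z ⟶ x₂),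
      𝒳.p.IsHomLift f l → 𝒳.p.IsHomLift f m → 𝒳.p.IsHomLift f m' → P l m → P l m' → m = m')
    (hpre : ∀ {z z' : 𝒳.obj} (k : z' ⟶ z) (l : z ⟶ x₁) (m : z ⟶ x₂), P l m → P (k ≫ l) (k ≫ m)) :
    ∃ θ : x₁ ⟶ x₂, 𝒳.p.IsHomLift (𝟙 U) θ ∧
      ∀ ⦃V : C⦄ (f : V ⟶ U), R f → ∀ {z : 𝒳.obj} (l : z ⟶ x₁), 𝒳.p.IsHomLift f l → P l (l ≫ θ) := by
  obtain ⟨Y, π, hπ, hπc⟩ := exists_yoneda h𝒳 x₁ hx₁
  let D : Stk.sieveCat R ⥤ᵇ 𝒳 := (Stk.resSieve R 𝒳).obj Y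
  have hD : ∀ {a b : (Stk.sieveCat R).obj} (k : a ⟶ b), D.map k = Y.map k.hom := fun k => rfl
  let c : Cone D :=
    { pt := x₁
      hpt := hx₁
      π := fun a => π a.obj
      lift := fun a => hπ a.obj
      nat := fun {a b} k => hπc k.hom }
  have hm : ∀ a : (Stk.sieveCat R).obj, ∃ m : D.obj a ⟶ x₂, 𝒳.p.IsHomLift a.obj.hom m ∧
      P (π a.obj) m := fun a => hex a.obj.hom a.property (π a.obj) (hπ a.obj)
  choose m hm1 hm2 using hm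
  let c' : Cone D :=
    { pt := x₂
      hpt := hx₂
      π := m
      lift := hm1
      nat := fun {a b} k => by
        have l1 : 𝒳.p.IsHomLift k.hom.left (D.map k) := map_isHomLift D _ _ (sieve_map_lift k)
        have l2 := hm1 b
        have l3 : 𝒳.p.IsHomLift (k.hom.left ≫ b.obj.hom) (D.map k ≫ m b) := inferInstance
        have l4 : 𝒳.p.IsHomLift a.obj.hom (D.map k ≫ m b) := isHomLift_congr'' (Over.w k.hom) l3
        refine huniq a.obj.hom a.property (π a.obj) _ _ (hπ a.obj) l4 (hm1 a) ?_ (hm2 a)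
        have := hpre (D.map k) (π b.obj) (m b) (hm2 b)
        rw [hD k, hπc k.hom] at this
        exact this }
  obtain ⟨θ, hθ, hθc⟩ := cone_hom_exists h𝒳 hfull c c'
  refine ⟨θ, hθ, ?_⟩
  intro V f hf z l hl
  let a : (Stk.sieveCat R).obj := ⟨Over.mk f, hf⟩
  obtain ⟨τ, -, hτ⟩ := exists_iso_of_lifts h𝒳 f l hl (π a.obj) (hπ a.obj)
  have e1 : π a.obj ≫ θ = m a := hθc a
  have := hpre τ.hom (π a.obj) (m a) (hm2 a)
  rw [hτ, ← e1, ← Category.assoc, hτ] at this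
  exact this

end Groth.Agent.Lib.Helper62.StkGlueHom
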