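import Groth.Agent.Lib.Helper62.StkGlue
import Groth.Agent.Lib.Helper17.EquivGen

/-!
# Full subcategories of stacks in groupoids (helper62)
-/

set_option autoImplicit false
set_option backward.isDefEq.respectTransparency false
set_option backward.isDefEq.respectTransparency.types false
universe v u
open CategoryTheory CategoryTheory.Functor FibCat

namespace Groth.Agent.Lib.Helper62.StkFullSub

open Groth.Agent.Lib.Helper17 Groth.Agent.Lib.Helper17.FG Groth.Agent.Lib.Helper62.StkFF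
open Groth.Agent.Lib.Helper98.StkPost Groth.Agent.Lib.Helper62.StkGlue

variable {C : Type u} [Category.{v} C] {𝒳 : BasedCategory.{v, max u v} C}

theorem isHomLift_id_of_eq {x y : 𝒳.obj} {S S' : C} (h : S = S') (φ : x ⟶ y)
    (hφ : 𝒳.p.IsHomLift (𝟙 S) φ) : 𝒳.p.IsHomLift (𝟙 S') φ := by
  subst h; exact hφ

variable (Q : ObjectProperty 𝒳.obj)

/-- the full subcategory as a category over `C` -/
abbrev sub : BasedCategory.{v, max u v} C := BasedCategory.ofFunctor (Q.ι ⋙ 𝒳.p)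

/-- the inclusion of the full subcategory, over `C` -/
def incl : sub Q ⥤ᵇ 𝒳 where
  toFunctor := Q.ι
  w := rfl

instance : (incl Q).toFunctor.Full := inferInstanceAs Q.ι.Full
instance : (incl Q).toFunctor.Faithful := inferInstanceAs Q.ι.Faithful

variable {Q}

theorem isFibGrpd_sub (h𝒳 : IsFibGrpd 𝒳.p)
    (h1 : ∀ ⦃y x : 𝒳.obj⦄ (φ : y ⟶ x), Q x → ∃ (y' : 𝒳.obj) (e : y ≅ y'), Q y' ∧ 𝒳.p.IsHomLift (𝟙 (𝒳.p.obj y)) e.hom) :
    IsFibGrpd (sub Q).p := by
  refine ⟨?_, ?_⟩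
  · intro x V f
    obtain ⟨y, φ, hφ⟩ := h𝒳.exists_lift (x := x.obj) f
    obtain ⟨y', e, hy', he⟩ := h1 φ x.property
    have hy : 𝒳.p.obj y = V := IsHomLift.domain_eq 𝒳.p f φ
    have he' : 𝒳.p.IsHomLift (𝟙 V) e.hom := isHomLift_id_of_eq hy _ he
    have hei : 𝒳.p.IsHomLift (𝟙 V) e.inv := IsHomLift.lift_id_inv (p := 𝒳.p) V e
    refine ⟨⟨y', hy'⟩, ObjectProperty.homMk (e.inv ≫ φ), ?_⟩
    apply isHomLift_of_map (incl Q)
    change 𝒳.p.IsHomLift f (e.inv ≫ φ)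
    infer_instance
  · intro y x φ
    apply EG.sc_of_map_sc (incl Q)
    exact h𝒳.isStronglyCartesian ((incl Q).map φ)

theorem isStackFor_sub (h𝒳 : IsFibGrpd 𝒳.p)
    (h1 : ∀ ⦃y x : 𝒳.obj⦄ (φ : y ⟶ x), Q x → ∃ (y' : 𝒳.obj) (e : y ≅ y'), Q y' ∧ 𝒳.p.IsHomLift (𝟙 (𝒳.p.obj y)) e.hom)
    {U : C} (R : Sieve U) (hR : Stk.IsStackFor R 𝒳)
    (h3 : ∀ (x : 𝒳.obj), 𝒳.p.obj x = U →
      (∀ ⦃V : C⦄ (f : V ⟶ U), R f → ∀ (y : 𝒳.obj) (φ : y ⟶ x), 𝒳.p.IsHomLift f φ →
        ∃ (y' : 𝒳.obj) (e : y ≅ y'), Q y' ∧ 𝒳.p.IsHomLift (𝟙 V) e.hom) →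
      ∃ (x' : 𝒳.obj) (e : x ≅ x'), Q x' ∧ 𝒳.p.IsHomLift (𝟙 U) e.hom) :
    Stk.IsStackFor R (sub Q) := by
  have hR' : (Stk.resSieve R 𝒳).IsEquivalence := hR
  have hpf : (post (Stk.sieveCat R) (incl Q)).Full := post_full (incl Q)
  have hpfa : (post (Stk.sieveCat R) (incl Q)).Faithful := post_faithful (incl Q)
  have hpf' : (post (overCat U) (incl Q)).Full := post_full (incl Q)
  have hpfa' : (post (overCat U) (incl Q)).Faithful := post_faithful (incl Q)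
  have e := sq (Stk.sieveIncl R) (incl Q)
  have hfull : (Stk.resSieve R (sub Q) ⋙ post (Stk.sieveCat R) (incl Q)).Full := Functor.Full.of_iso e.symm
  have hfaith : (Stk.resSieve R (sub Q) ⋙ post (Stk.sieveCat R) (incl Q)).Faithful :=
    Functor.Faithful.of_iso e.symm
  have hf1 : (Stk.resSieve R (sub Q)).Full := Functor.Full.of_comp_faithful _ (post (Stk.sieveCat R) (incl Q))
  have hf2 : (Stk.resSieve R (sub Q)).Faithful := Functor.Faithful.of_comp _ (post (Stk.sieveCat R) (incl Q))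
  have hes : (Stk.resSieve R (sub Q)).EssSurj := by
    constructor
    intro D
    obtain ⟨G, ⟨e₂⟩⟩ := (inferInstance : (Stk.resSieve R 𝒳).EssSurj).mem_essImage
      (BasedFunctor.comp D (incl Q))
    let T : Over U := Over.mk (𝟙 U)
    -- the glued object is isomorphic to an object of `Q`
    obtain ⟨x', ex, hx', hex⟩ := h3 (G.obj T) (G.w_obj T) (by
      intro V f hf y φ hφ
      let a : (Stk.sieveCat R).obj := ⟨Over.mk f, hf⟩
      let k : Over.mk f ⟶ T := Over.homMk f (by simp [T])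
      have hk : (overCat U).p.IsHomLift f k := IsHomLift.map (Over.forget U) k
      have hGk : 𝒳.p.IsHomLift f (G.map k) := inferInstance
      obtain ⟨τ, hτ, -⟩ := exists_iso_of_lifts h𝒳 f φ hφ (G.map k) hGk
      have h2 : 𝒳.p.IsHomLift (𝟙 V) (e₂.hom.toNatTrans.app a) := BasedNatTrans.isHomLift e₂.hom rfl
      have h3' : IsIso (e₂.hom.toNatTrans.app a) := isIso_of_lift_id h𝒳 _ h2
      refine ⟨(D.obj a).obj, τ ≪≫ @asIso _ _ _ _ (e₂.hom.toNatTrans.app a) h3', (D.obj a).property, ?_⟩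
      change 𝒳.p.IsHomLift (𝟙 V) (τ.hom ≫ e₂.hom.toNatTrans.app a)
      infer_instance)
    -- hence all values of `G` are
    obtain ⟨G', ⟨e'⟩⟩ := exists_factor_of_ff (incl Q) G (by
      intro a
      let k : a ⟶ T := Over.homMk a.hom (by simp [T])
      obtain ⟨y', ey, hy', hey⟩ := h1 (G.map k ≫ ex.hom) hx'
      have hey' : 𝒳.p.IsHomLift (𝟙 ((overCat U).p.obj a)) ey.hom := isHomLift_id_of_eq (G.w_obj a) _ hey
      refine ⟨⟨y', hy'⟩, ey.symm, ?_⟩
      exact IsHomLift.lift_id_inv (p := 𝒳.p) ((overCat U).p.obj a) ey)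
    refine ⟨G', ⟨?_⟩⟩
    have e₄ : (post (Stk.sieveCat R) (incl Q)).obj ((Stk.resSieve R (sub Q)).obj G') ≅
        (post (Stk.sieveCat R) (incl Q)).obj D :=
      (Stk.resSieve R 𝒳).mapIso e' ≪≫ e₂
    exact (post (Stk.sieveCat R) (incl Q)).preimageIso e₄
  exact { faithful := hf2, full := hf1, essSurj := hes }

end Groth.Agent.Lib.Helper62.StkFullSub
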