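import Mathlib

/-!
`D(A)/D_P(A) ≃ D(A/P)` when the quotient functor has a fully faithful left adjoint.
-/

set_option autoImplicit false
universe w w' v v' u u'

open CategoryTheory CategoryTheory.Limits

namespace Groth.Agent.Lib.Helper62.SerreLoc

section Adj

variable {C₁ : Type u} {C₂ : Type u'} [Category.{v} C₁] [Category.{v'} C₂] [Preadditive C₁]
  [Preadditive C₂] {G : C₁ ⥤ C₂} {F : C₂ ⥤ C₁} [G.Additive] [F.Additive] (adj : G ⊣ F)
  {ι : Type*} (c : ComplexShape ι)

/-- An adjunction between additive functors induces an adjunction on homological complexes. -/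
noncomputable def mapHomologicalComplexAdj :
    G.mapHomologicalComplex c ⊣ F.mapHomologicalComplex c :=
  Adjunction.mkOfUnitCounit
    { unit :=
        { app := fun K =>
            { f := fun n => adj.unit.app (K.X n)
              comm' := fun i j _ => (adj.unit.naturality (K.d i j)).symm }
          naturality := fun K K' φ => by
            ext n
            exact adj.unit.naturality (φ.f n) }
      counit :=
        { app := fun M =>
            { f := fun n => adj.counit.app (M.X n)
              comm' := fun i j _ => (adj.counit.naturality (M.d i j)).symm }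
          naturality := fun M M' φ => by
            ext n
            exact adj.counit.naturality (φ.f n) }
      left_triangle := by
        ext K n
        simp
        exact adj.left_triangle_components (K.X n)
      right_triangle := by
        ext M n
        simp
        exact adj.right_triangle_components (M.X n) }

@[simp]
lemma mapHomologicalComplexAdj_unit_app_f (K : HomologicalComplex C₁ c) (n : ι) :
    ((mapHomologicalComplexAdj adj c).unit.app K).f n = adj.unit.app (K.X n) := rfl

instance [IsIso adj.unit] : IsIso (mapHomologicalComplexAdj adj c).unit := by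
  have : ∀ K, IsIso ((mapHomologicalComplexAdj adj c).unit.app K) := fun K => by
    have : ∀ n, IsIso (((mapHomologicalComplexAdj adj c).unit.app K).f n) := fun n => by
      rw [mapHomologicalComplexAdj_unit_app_f]
      exact NatIso.isIso_app_of_isIso adj.unit (K.X n)
    exact HomologicalComplex.Hom.isIso_of_components _
  exact NatIso.isIso_of_isIso_app _

end Adj

section DerivedZero

open DerivedCategory

variable {C : Type u} [Category.{v} C] [Abelian C] [HasDerivedCategory.{w} C]

/-- An object of the derived category with vanishing cohomology is zero. -/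
lemma isZero_of_homology (Y : DerivedCategory C)
    (h : ∀ n : ℤ, IsZero ((homologyFunctor C n).obj Y)) : IsZero Y := by
  let K := Q.objPreimage Y
  let e : Q.obj K ≅ Y := Q.objObjPreimageIso Y
  have hK : ∀ n : ℤ, IsZero (K.homology n) := fun n =>
    (h n).of_iso (((homologyFunctorFactors C n).app K).symm ≪≫ (homologyFunctor C n).mapIso e)
  have hq : QuasiIso (0 : K ⟶ K) := by
    rw [quasiIso_iff]
    intro n
    rw [quasiIsoAt_iff_isIso_homologyMap]
    exact isIso_of_source_target_iso_zero _ (hK n).isoZero (hK n).isoZero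
  have h0 : IsIso (Q.map (0 : K ⟶ K)) := by
    rw [isIso_Q_map_iff_quasiIso]
    exact hq
  rw [Functor.map_zero] at h0
  refine IsZero.of_iso ?_ e.symm
  rw [IsZero.iff_id_eq_zero]
  have := IsIso.hom_inv_id (0 : Q.obj K ⟶ Q.obj K)
  rw [zero_comp] at this
  exact this.symm

end DerivedZero

section Main

open DerivedCategory

variable {A : Type u} [Category.{v} A] [Abelian A] [HasDerivedCategory.{w} A]
  (P : ObjectProperty A) [P.IsSerreClass]
  {Q' : Type u'} [Category.{v'} Q'] [Abelian Q'] [HasDerivedCategory.{w'} Q']
  (V : A ⥤ Q') [V.IsLocalization P.isoModSerre] [V.Additive] [PreservesFiniteLimits V]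
  [PreservesFiniteColimits V]

/-- The cohomology of the image of a complex under an exact functor. -/
noncomputable def homologyMapIso (K : CochainComplex A ℤ) (i : ℤ) :
    ((V.mapHomologicalComplex (ComplexShape.up ℤ)).obj K).homology i ≅ V.obj (K.homology i) :=
  (K.sc i).mapHomologyIso V

/-- An exact functor commutes with the cohomology functors of the derived categories. -/
noncomputable def mapDerivedCategoryHomologyIso (Y : DerivedCategory A) (i : ℤ) :
    (homologyFunctor Q' i).obj (V.mapDerivedCategory.obj Y) ≅
      V.obj ((homologyFunctor A i).obj Y) :=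
  (homologyFunctor Q' i).mapIso (V.mapDerivedCategory.mapIso (Q.objObjPreimageIso Y).symm) ≪≫
    (homologyFunctor Q' i).mapIso (V.mapDerivedCategoryFactors.app (Q.objPreimage Y)) ≪≫
    (homologyFunctorFactors Q' i).app _ ≪≫ homologyMapIso V (Q.objPreimage Y) i ≪≫
    V.mapIso ((homologyFunctorFactors A i).app (Q.objPreimage Y)).symm ≪≫
    V.mapIso ((homologyFunctor A i).mapIso (Q.objObjPreimageIso Y))

/-- The objects of `D(A)` with cohomology in `P`. -/
def DP : ObjectProperty (DerivedCategory A) :=
  fun X => ∀ n : ℤ, P ((homologyFunctor A n).obj X)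

include P in
lemma DP_iff_isZero (Z : DerivedCategory A) : DP P Z ↔ IsZero (V.mapDerivedCategory.obj Z) := by
  constructor
  · intro hZ
    apply isZero_of_homology
    intro n
    exact (((ObjectProperty.SerreClassLocalization.isZero_obj_iff V P _).2 (hZ n))).of_iso
      (mapDerivedCategoryHomologyIso V Z n)
  · intro hZ n
    rw [← ObjectProperty.SerreClassLocalization.isZero_obj_iff V P]
    exact ((homologyFunctor Q' n).map_isZero hZ).of_iso (mapDerivedCategoryHomologyIso V Z n).symm

lemma trW_DP_eq :
    (DP P).trW = (MorphismProperty.isomorphisms _).inverseImage V.mapDerivedCategory := by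
  ext X X' φ
  change _ ↔ IsIso (V.mapDerivedCategory.map φ)
  constructor
  · rintro ⟨Z, g, h, hT, hZ⟩
    have hT' := V.mapDerivedCategory.map_distinguished _ hT
    exact (Pretriangulated.Triangle.isZero₃_iff_isIso₁ _ hT').1 ((DP_iff_isZero P V Z).1 hZ)
  · intro hφ
    obtain ⟨Z, g, h, hT⟩ := Pretriangulated.distinguished_cocone_triangle φ
    have hT' := V.mapDerivedCategory.map_distinguished _ hT
    exact ⟨Z, g, h, hT, (DP_iff_isZero P V Z).2
      ((Pretriangulated.Triangle.isZero₃_iff_isIso₁ _ hT').2 hφ)⟩

/-- Every morphism of the derived category is isomorphic to the image of a morphism of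
complexes. -/
lemma exists_arrow_iso {X X' : DerivedCategory A} (φ : X ⟶ X') :
    ∃ (K K' : CochainComplex A ℤ) (f : K ⟶ K'), Nonempty (Arrow.mk (Q.map f) ≅ Arrow.mk φ) := by
  let eX : Q.obj (Q.objPreimage X) ≅ X := Q.objObjPreimageIso X
  let eX' : Q.obj (Q.objPreimage X') ≅ X' := Q.objObjPreimageIso X'
  obtain ⟨K'', s, hs, g, hφ⟩ := right_fac (eX.hom ≫ φ ≫ eX'.inv)
  refine ⟨K'', _, g, ⟨Arrow.isoMk (asIso (Q.map s) ≪≫ eX) eX' ?_⟩⟩
  have h1 : Q.map s ≫ (eX.hom ≫ φ ≫ eX'.inv) = Q.map g := by
    rw [hφ, IsIso.hom_inv_id_assoc]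
  dsimp
  rw [← h1]
  simp

variable (U : Q' ⥤ A) (adj : U ⊣ V) [IsIso adj.unit]

include adj in
/-- `D(A/P)` is the Verdier quotient of `D(A)` by the objects with cohomology in `P`. -/
theorem isLocalization : V.mapDerivedCategory.IsLocalization (DP P).trW := by
  rw [trW_DP_eq P V]
  haveI : U.Additive := adj.left_adjoint_additive
  let adjc := mapHomologicalComplexAdj adj (ComplexShape.up ℤ)
  haveI : (U.mapHomologicalComplex (ComplexShape.up ℤ)).Full :=
    (adjc.fullyFaithfulLOfIsIsoUnit).full
  haveI : (U.mapHomologicalComplex (ComplexShape.up ℤ)).Faithful :=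
    (adjc.fullyFaithfulLOfIsIsoUnit).faithful
  haveI h1 : (V.mapHomologicalComplex (ComplexShape.up ℤ)).IsLocalization
      ((MorphismProperty.isomorphisms _).inverseImage
        (V.mapHomologicalComplex (ComplexShape.up ℤ))) := adjc.isLocalization'
  let W₃ : MorphismProperty (CochainComplex A ℤ) :=
    (MorphismProperty.isomorphisms _).inverseImage (Q ⋙ V.mapDerivedCategory)
  let e : Q ⋙ V.mapDerivedCategory ≅ V.mapHomologicalComplex (ComplexShape.up ℤ) ⋙ Q :=
    V.mapDerivedCategoryFactors
  haveI h2 : (V.mapHomologicalComplex (ComplexShape.up ℤ) ⋙ Q).IsLocalization W₃ := by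
    refine Functor.IsLocalization.comp (V.mapHomologicalComplex (ComplexShape.up ℤ)) Q
      ((MorphismProperty.isomorphisms _).inverseImage
        (V.mapHomologicalComplex (ComplexShape.up ℤ)))
      (HomologicalComplex.quasiIso Q' (ComplexShape.up ℤ)) W₃ ?_ ?_ ?_
    · intro K K' f hf
      exact (NatIso.isIso_map_iff e f).1 hf
    · intro K K' f hf
      change IsIso ((Q ⋙ V.mapDerivedCategory).map f)
      rw [NatIso.isIso_map_iff e f]
      change IsIso (Q.map ((V.mapHomologicalComplex (ComplexShape.up ℤ)).map f))
      haveI : IsIso ((V.mapHomologicalComplex (ComplexShape.up ℤ)).map f) := hf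
      infer_instance
    · intro Y Y' g hg
      have ea : Arrow.mk g ≅ Arrow.mk ((V.mapHomologicalComplex (ComplexShape.up ℤ)).map
          ((U.mapHomologicalComplex (ComplexShape.up ℤ)).map g)) :=
        Arrow.isoMk (asIso (adjc.unit.app Y)) (asIso (adjc.unit.app Y'))
          (adjc.unit.naturality g).symm
      refine ⟨_, _, (U.mapHomologicalComplex (ComplexShape.up ℤ)).map g, ?_, ⟨ea.symm⟩⟩
      change IsIso ((Q ⋙ V.mapDerivedCategory).map _)
      rw [NatIso.isIso_map_iff e]
      change IsIso (Q.map ((V.mapHomologicalComplex (ComplexShape.up ℤ)).map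
          ((U.mapHomologicalComplex (ComplexShape.up ℤ)).map g)))
      rw [isIso_Q_map_iff_quasiIso, ← HomologicalComplex.mem_quasiIso_iff]
      exact ((HomologicalComplex.quasiIso Q' (ComplexShape.up ℤ)).arrow_mk_iso_iff ea).1 hg
  haveI h3 : (Q ⋙ V.mapDerivedCategory).IsLocalization W₃ :=
    Functor.IsLocalization.of_iso W₃ e.symm
  refine Functor.IsLocalization.of_comp Q V.mapDerivedCategory
    (HomologicalComplex.quasiIso A (ComplexShape.up ℤ)) _ W₃ ?_ ?_
  · intro K K' f hf
    change IsIso (V.mapDerivedCategory.map (Q.map f))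
    haveI : IsIso (Q.map f) := by
      rw [isIso_Q_map_iff_quasiIso, ← HomologicalComplex.mem_quasiIso_iff]
      exact hf
    infer_instance
  · ext X X' φ
    constructor
    · intro hφ
      obtain ⟨K, K', f, ⟨ea⟩⟩ := exists_arrow_iso φ
      refine ⟨K, K', f, ?_, ⟨ea⟩⟩
      exact ((MorphismProperty.isomorphisms _).arrow_mk_iso_iff
        (V.mapDerivedCategory.mapArrow.mapIso ea)).2 hφ
    · rintro ⟨K, K', f, hf, ⟨ea⟩⟩
      exact ((MorphismProperty.isomorphisms _).arrow_mk_iso_iff
        (V.mapDerivedCategory.mapArrow.mapIso ea)).1 hf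

end Main

end Groth.Agent.Lib.Helper62.SerreLoc
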