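import Mathlib.RingTheory.Flat.EquationalCriterion
import Mathlib.RingTheory.Ideal.Operations
import Mathlib.RingTheory.Nilpotent.Lemmas
import Mathlib.RingTheory.Artinian.Ring

/-!
Nilpotent Nakayama and the "iso modulo a nilpotent ideal with flat target is iso" lemma.
-/

namespace Groth.Agent.Lib.Helper62

open Submodule

variable {A : Type*} [CommRing A] {M N : Type*} [AddCommGroup M] [AddCommGroup N]
  [Module A M] [Module A N]

/-- Nilpotent Nakayama, generation form. -/
theorem eq_top_of_sup_smul_top_eq_top (I : Ideal A) (hI : IsNilpotent I) (P : Submodule A N)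
    (h : P ⊔ I • (⊤ : Submodule A N) = ⊤) : P = ⊤ := by
  obtain ⟨n, hn⟩ := hI
  have key : ∀ m : ℕ, (⊤ : Submodule A N) ≤ P ⊔ I ^ m • (⊤ : Submodule A N) := by
    intro m
    induction m with
    | zero => simp
    | succ m ih =>
      calc (⊤ : Submodule A N) ≤ P ⊔ I ^ m • (⊤ : Submodule A N) := ih
        _ = P ⊔ I ^ m • (P ⊔ I • (⊤ : Submodule A N)) := by rw [h]
        _ = P ⊔ (I ^ m • P ⊔ I ^ m • (I • (⊤ : Submodule A N))) := by rw [Submodule.smul_sup]
        _ ≤ P ⊔ I ^ (m + 1) • (⊤ : Submodule A N) := by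
          rw [← Submodule.mul_smul, ← pow_succ]
          refine sup_le le_sup_left (sup_le ?_ le_sup_right)
          exact le_trans Submodule.smul_le_right le_sup_left
  have := key n
  rw [hn] at this
  simpa using this

/-- Nilpotent Nakayama, vanishing form. -/
theorem eq_bot_of_le_smul (I : Ideal A) (hI : IsNilpotent I) (K : Submodule A M)
    (h : K ≤ I • K) : K = ⊥ := by
  obtain ⟨n, hn⟩ := hI
  have key : ∀ m : ℕ, K ≤ I ^ m • K := by
    intro m
    induction m with
    | zero => simp
    | succ m ih =>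
      calc K ≤ I • K := h
        _ ≤ I • (I ^ m • K) := Submodule.smul_mono le_rfl ih
        _ = I ^ (m + 1) • K := by rw [← Submodule.mul_smul, ← pow_succ']
  have := key n
  rw [hn] at this
  simpa using this

/-- If `φ : M → N` is surjective with `N` flat, then `ker φ ∩ I M ⊆ I ker φ`. -/
theorem mem_smul_ker_of_flat [Module.Flat A N] (I : Ideal A) (φ : M →ₗ[A] N)
    (hφ : Function.Surjective φ) (x : M) (hx : φ x = 0)
    (hxI : x ∈ I • (⊤ : Submodule A M)) : x ∈ I • LinearMap.ker φ := by
  classical
  have h1 : (⊤ : Submodule A M) = span A (Set.range (id : M → M)) := by simp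
  rw [h1, Submodule.mem_ideal_smul_span_iff_exists_sum] at hxI
  obtain ⟨a, ha, rfl⟩ := hxI
  rw [Finsupp.sum, ← Finset.sum_coe_sort] at hx ⊢
  simp only [id_eq] at hx ⊢
  rw [map_sum] at hx
  simp only [map_smul] at hx
  obtain ⟨κ, b, z, hz, hb⟩ := Module.Flat.isTrivialRelation_of_sum_smul_eq_zero
    (f := fun i : a.support => a i) (x := fun i : a.support => φ i) hx
  simp only at hz hb
  choose u hu using fun j => hφ (z j)
  have hk : ∀ i : a.support, ((i : M) - ∑ j, b i j • u j) ∈ LinearMap.ker φ := by
    intro i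
    rw [LinearMap.mem_ker, map_sub, map_sum, hz i]
    simp [hu]
  have hsum : ∑ i : a.support, a i • (i : M) =
      ∑ i : a.support, a i • ((i : M) - ∑ j, b i j • u j) := by
    have h2 : ∑ i : a.support, a i • ∑ j, b i j • u j = 0 := by
      simp_rw [Finset.smul_sum, smul_smul]
      rw [Finset.sum_comm]
      simp_rw [← Finset.sum_smul, hb, zero_smul, Finset.sum_const_zero]
    simp_rw [smul_sub, Finset.sum_sub_distrib, h2, sub_zero]
  rw [hsum]
  exact Submodule.sum_mem _ fun i _ => Submodule.smul_mem_smul (ha i) (hk i)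

/-- A linear map into a flat module that is bijective modulo a nilpotent ideal is bijective. -/
theorem bijective_of_flat_of_isNilpotent [Module.Flat A N] (I : Ideal A) (hI : IsNilpotent I)
    (φ : M →ₗ[A] N)
    (h1 : ∀ w : N, ∃ v : M, w - φ v ∈ I • (⊤ : Submodule A N))
    (h2 : ∀ v : M, φ v ∈ I • (⊤ : Submodule A N) → v ∈ I • (⊤ : Submodule A M)) :
    Function.Bijective φ := by
  have hsurj : Function.Surjective φ := by
    rw [← LinearMap.range_eq_top]
    apply eq_top_of_sup_smul_top_eq_top I hI
    rw [eq_top_iff]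
    intro w _
    obtain ⟨v, hv⟩ := h1 w
    have : w = φ v + (w - φ v) := by abel
    rw [this]
    exact Submodule.add_mem_sup (LinearMap.mem_range_self φ v) hv
  refine ⟨?_, hsurj⟩
  rw [← LinearMap.ker_eq_bot]
  apply eq_bot_of_le_smul I hI
  intro x hx
  have hx0 : φ x = 0 := hx
  exact mem_smul_ker_of_flat I φ hsurj x hx0 (h2 x (by rw [hx0]; exact Submodule.zero_mem _))

/-- The maximal ideal of a local artinian ring is nilpotent. -/
theorem isNilpotent_maximalIdeal (A : Type*) [CommRing A] [IsLocalRing A] [IsArtinianRing A] :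
    IsNilpotent (IsLocalRing.maximalIdeal A) := by
  have := IsArtinianRing.isNilpotent_jacobson_bot (R := A)
  rwa [IsLocalRing.jacobson_eq_maximalIdeal _ bot_ne_top] at this

end Groth.Agent.Lib.Helper62
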