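import Groth.Prelude.Def_DefoSh
import Groth.Agent.Lib.Helper62.NilpFlat

/-!
Isomorphisms of modules over a scheme detected on stalks; morphisms of deformations of a module are
stalkwise bijective.
-/

universe u

open CategoryTheory AlgebraicGeometry

namespace Groth.Agent.Lib.Helper62

theorem isIso_of_stalkMapₗ_bijective {X : Scheme.{u}} {M N : X.Modules} (φ : M ⟶ N)
    (h : ∀ p : X, Function.Bijective (RefHull.stalkMapₗ φ p)) : IsIso φ := by
  have h1 : IsIso ((Scheme.Modules.toPresheaf X).map φ) := by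
    let F : TopCat.Sheaf Ab X := ⟨M.presheaf, M.isSheaf⟩
    let G : TopCat.Sheaf Ab X := ⟨N.presheaf, N.isSheaf⟩
    let f : F ⟶ G := ⟨(Scheme.Modules.toPresheaf X).map φ⟩
    have hf : ∀ x : X, IsIso ((TopCat.Presheaf.stalkFunctor Ab x).map f.1) := by
      intro x
      have hb : Function.Bijective ((TopCat.Presheaf.stalkFunctor Ab x).map f.1).hom := h x
      exact (ConcreteCategory.isIso_iff_bijective _).2 hb
    have := TopCat.Presheaf.isIso_of_stalkFunctor_map_iso f
    exact (TopCat.Sheaf.forget Ab X).map_isIso f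
  exact isIso_of_reflects_iso φ (Scheme.Modules.toPresheaf X)

open DefoSh

variable {k : Type u} [Field k] {X : Scheme.{u}} [X.Over (Spec (CommRingCat.of k))]
  {E : X.Modules} {A : ArtFun.Art k k}

/-- Elements of `m • stalk` die under the reduction. -/
theorem defo_π_of_mem (D : DefoSh.Defo E A) (p : X) (v : ↑(D.sheaf.presheaf.stalk p))
    (hv : letI := DefoSh.stalkModule D.sheaf D.act.toRingHom p
      v ∈ IsLocalRing.maximalIdeal A • (⊤ : Submodule A ↑(D.sheaf.presheaf.stalk p))) :
    RefHull.stalkMapₗ D.π p v = 0 := by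
  letI := DefoSh.stalkModule D.sheaf D.act.toRingHom p
  refine Submodule.smul_induction_on hv ?_ ?_
  · intro a ha w _
    rw [ArtFun.Art.mem_maximalIdeal_iff] at ha
    have h1 := D.act_π a ha
    change RefHull.stalkMapₗ D.π p (RefHull.stalkMapₗ (D.act a) p w) = 0
    rw [← DefoSh.stalkMapₗ_comp_apply, h1]
    exact DefoSh.stalkMapₗ_zero_apply p w
  · intro x y hx hy
    rw [map_add, hx, hy, add_zero]

theorem defo_stalk_bijective (D D' : DefoSh.Defo E A) (φ : D.sheaf ⟶ D'.sheaf)
    (hact : ∀ a : A, D.act a ≫ φ = φ ≫ D'.act a) (hπ : φ ≫ D'.π = D.π) (p : X) :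
    Function.Bijective (RefHull.stalkMapₗ φ p) := by
  letI := DefoSh.stalkModule D.sheaf D.act.toRingHom p
  letI := DefoSh.stalkModule D'.sheaf D'.act.toRingHom p
  haveI : Module.Flat A ↑(D'.sheaf.presheaf.stalk p) := D'.flat p
  let ψ : ↑(D.sheaf.presheaf.stalk p) →ₗ[A] ↑(D'.sheaf.presheaf.stalk p) :=
    { toFun := RefHull.stalkMapₗ φ p
      map_add' := map_add _
      map_smul' := by
        intro a v
        change RefHull.stalkMapₗ φ p (RefHull.stalkMapₗ (D.act a) p v) =
          RefHull.stalkMapₗ (D'.act a) p (RefHull.stalkMapₗ φ p v)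
        rw [← DefoSh.stalkMapₗ_comp_apply, ← DefoSh.stalkMapₗ_comp_apply, hact a] }
  have hcomp : ∀ v, RefHull.stalkMapₗ D'.π p (ψ v) = RefHull.stalkMapₗ D.π p v := by
    intro v
    change RefHull.stalkMapₗ D'.π p (RefHull.stalkMapₗ φ p v) = _
    rw [← DefoSh.stalkMapₗ_comp_apply, hπ]
  have := bijective_of_flat_of_isNilpotent (IsLocalRing.maximalIdeal A)
    (isNilpotent_maximalIdeal A) ψ ?_ ?_
  · exact this
  · intro w
    obtain ⟨v, hv⟩ := D.surj p (RefHull.stalkMapₗ D'.π p w)
    refine ⟨v, D'.ker_le p _ ?_⟩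
    rw [map_sub, hcomp, hv, sub_self]
  · intro v hv
    apply D.ker_le p
    rw [← hcomp]
    exact defo_π_of_mem D' p _ hv

end Groth.Agent.Lib.Helper62
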