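import Mathlib

/-!
Injective amplitude: vanishing of `Hom(F[0], X[i])` versus bounded complexes of injectives.
-/

set_option autoImplicit false
universe w v u

open CategoryTheory CategoryTheory.Limits CategoryTheory.Pretriangulated DerivedCategory

namespace Groth.Agent.Lib.Helper62.InjAmp

variable {C : Type u} [Category.{v} C] [Abelian C] [HasDerivedCategory.{w} C]

/-- The single complex, with the `HomologicalComplex.single` spelling. -/
noncomputable abbrev sgl (i : ℤ) (F : C) : CochainComplex C ℤ :=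
  (HomologicalComplex.single C (ComplexShape.up ℤ) i).obj F

/-- Lemma A: vanishing of all maps `F[0] ⟶ X[i]` kills `Q.map ζ` for chain maps `ζ : F[-i] ⟶ K`. -/
lemma Q_map_eq_zero_of_vanishing (K : CochainComplex C ℤ) (X : DerivedCategory C)
    (e : Q.obj K ≅ X) (F : C) (i : ℤ) (ζ : sgl i F ⟶ K)
    (h : ∀ φ : (DerivedCategory.singleFunctor C 0).obj F ⟶
      (shiftFunctor (DerivedCategory C) i).obj X, φ = 0) : Q.map ζ = 0 := by
  let ζ' : (CochainComplex.singleFunctor C i).obj F ⟶ K := ζ
  have h1 := h (((DerivedCategory.singleFunctors C).shiftIso i 0 i (by simp)).inv.app F ≫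
    (shiftFunctor (DerivedCategory C) i).map
      ((singleFunctorIsoCompQ C i).hom.app F ≫ Q.map ζ' ≫ e.hom))
  have h2 : (shiftFunctor (DerivedCategory C) i).map
      ((singleFunctorIsoCompQ C i).hom.app F ≫ Q.map ζ' ≫ e.hom) = 0 := by
    have := congrArg (fun t => ((DerivedCategory.singleFunctors C).shiftIso i 0 i
      (by simp)).hom.app F ≫ t) h1
    simpa using this
  have h3 : (singleFunctorIsoCompQ C i).hom.app F ≫ Q.map ζ' ≫ e.hom = 0 :=
    (shiftFunctor (DerivedCategory C) i).map_injective (by simpa using h2)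
  have h4 := congrArg (fun t => (singleFunctorIsoCompQ C i).inv.app F ≫ t ≫ e.inv) h3
  have h5 : Q.map ζ' = 0 := by simpa using h4
  exact h5

/-- The chain map `Z^i(K)[-i] ⟶ K`. -/
noncomputable def cyclesMapFromSingle (K : CochainComplex C ℤ) (i : ℤ) :
    sgl i (K.cycles i) ⟶ K :=
  HomologicalComplex.mkHomFromSingle (K.iCycles i) (fun k _ => by simp)

omit [HasDerivedCategory.{w} C] in
lemma cyclesMapFromSingle_f (K : CochainComplex C ℤ) (i : ℤ) :
    (cyclesMapFromSingle K i).f i =
      (HomologicalComplex.singleObjXSelf (ComplexShape.up ℤ) i (K.cycles i)).hom ≫ K.iCycles i :=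
  HomologicalComplex.mkHomFromSingle_f _ _

/-- Lemma B. -/
lemma exactAt_of_Q_map_cyclesMapFromSingle_eq_zero (K : CochainComplex C ℤ) (i : ℤ)
    (h : Q.map (cyclesMapFromSingle K i) = 0) : K.ExactAt i := by
  have h0 : HomologicalComplex.homologyMap (cyclesMapFromSingle K i) i = 0 := by
    have nat : (DerivedCategory.homologyFunctor C i).map (Q.map (cyclesMapFromSingle K i)) ≫
        (DerivedCategory.homologyFunctorFactors C i).hom.app K =
        (DerivedCategory.homologyFunctorFactors C i).hom.app (sgl i (K.cycles i)) ≫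
          (HomologicalComplex.homologyFunctor C (ComplexShape.up ℤ) i).map
            (cyclesMapFromSingle K i) :=
      (DerivedCategory.homologyFunctorFactors C i).hom.naturality (cyclesMapFromSingle K i)
    rw [h, Functor.map_zero, zero_comp] at nat
    have h' : (HomologicalComplex.homologyFunctor C (ComplexShape.up ℤ) i).map
        (cyclesMapFromSingle K i) = 0 := by
      rw [← cancel_epi ((DerivedCategory.homologyFunctorFactors C i).hom.app
        (sgl i (K.cycles i))), comp_zero]
      exact nat.symm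
    exact h'
  have h1 : HomologicalComplex.cyclesMap (cyclesMapFromSingle K i) i =
      (HomologicalComplex.singleObjCyclesSelfIso (ComplexShape.up ℤ) i (K.cycles i)).hom := by
    rw [← cancel_mono (K.iCycles i), HomologicalComplex.cyclesMap_i,
      HomologicalComplex.singleObjCyclesSelfIso_hom, Category.assoc, cyclesMapFromSingle_f]
  have h2 := HomologicalComplex.homologyπ_naturality (cyclesMapFromSingle K i) i
  rw [h0, comp_zero, h1] at h2
  have h3 : K.homologyπ i = 0 := by
    rw [← cancel_epi (HomologicalComplex.singleObjCyclesSelfIso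
      (ComplexShape.up ℤ) i (K.cycles i)).hom, comp_zero]
    exact h2.symm
  rw [HomologicalComplex.exactAt_iff_isZero_homology]
  rw [IsZero.iff_id_eq_zero, ← cancel_epi (K.homologyπ i), h3, zero_comp, zero_comp]

/-- Lemma C. -/
lemma exists_factor_of_Q_map_eq_zero (K : CochainComplex C ℤ) [K.IsKInjective] (F : C) (i j : ℤ)
    (hij : j + 1 = i) (ζ : sgl i F ⟶ K) (h : Q.map ζ = 0) :
    ∃ g : F ⟶ K.X j, g ≫ K.d j i =
      (HomologicalComplex.singleObjXSelf (ComplexShape.up ℤ) i F).inv ≫ ζ.f i := by
  have h1 : Qh.map ((HomotopyCategory.quotient C (ComplexShape.up ℤ)).map ζ) = 0 := by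
    have nat : Qh.map ((HomotopyCategory.quotient C (ComplexShape.up ℤ)).map ζ) ≫
        (quotientCompQhIso C).hom.app K = (quotientCompQhIso C).hom.app (sgl i F) ≫ Q.map ζ :=
      (quotientCompQhIso C).hom.naturality ζ
    rw [h, comp_zero] at nat
    rw [← cancel_mono ((quotientCompQhIso C).hom.app K), zero_comp]
    exact nat
  have h2 : (HomotopyCategory.quotient C (ComplexShape.up ℤ)).map ζ = 0 :=
    (CochainComplex.IsKInjective.Qh_map_bijective _ K).1 (by rw [h1, Functor.map_zero])
  have hom : Homotopy ζ 0 := HomotopyCategory.homotopyOfEq _ _ (by simpa using h2)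
  have hc := hom.comm i
  have hd : dNext i hom.hom = 0 := by
    rw [dNext_eq hom.hom (show (ComplexShape.up ℤ).Rel i (i + 1) from rfl)]
    have : (sgl i F).d i (i + 1) = 0 := by
      apply (HomologicalComplex.isZero_single_obj_X (ComplexShape.up ℤ) i F (i + 1)
        (by lia)).eq_of_tgt
    rw [this, zero_comp]
  rw [hd, zero_add, prevD_eq hom.hom (show (ComplexShape.up ℤ).Rel j i from hij)] at hc
  refine ⟨(HomologicalComplex.singleObjXSelf (ComplexShape.up ℤ) i F).inv ≫ hom.hom i j, ?_⟩
  simp only [HomologicalComplex.zero_f, add_zero] at hc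
  rw [Category.assoc, ← hc]

/-- Upper bound lemma: if all `Q.map ζ` vanish for `ζ : F[-i] ⟶ J`, `i > n`, with `J` K-injective,
then `J` is cohomologically `≤ n` and `Z^n(J)` is a retract of `J^n`. -/
lemma isLE_and_retract (J : CochainComplex C ℤ) [J.IsKInjective] (n : ℤ)
    (hv : ∀ (F : C) (i : ℤ), n < i → ∀ ζ : sgl i F ⟶ J, Q.map ζ = 0) :
    J.IsLE n ∧ Nonempty (Retract (J.cycles n) (J.X n)) := by
  refine ⟨?_, ?_⟩
  · rw [CochainComplex.isLE_iff]
    intro i hi
    exact exactAt_of_Q_map_cyclesMapFromSingle_eq_zero J i (hv _ i hi _)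
  · obtain ⟨g, hg⟩ := exists_factor_of_Q_map_eq_zero J (J.cycles (n + 1)) (n + 1) n rfl
      (cyclesMapFromSingle J (n + 1)) (hv _ _ (by lia) _)
    rw [cyclesMapFromSingle_f, Iso.inv_hom_id_assoc] at hg
    have h0 : J.iCycles n ≫ J.toCycles n (n + 1) = 0 := by
      rw [← cancel_mono (J.iCycles (n + 1)), Category.assoc, HomologicalComplex.toCycles_i,
        HomologicalComplex.iCycles_d, zero_comp]
    have hk : (𝟙 (J.X n) - J.toCycles n (n + 1) ≫ g) ≫ J.d n (n + 1) = 0 := by
      rw [Preadditive.sub_comp, Category.id_comp, Category.assoc, hg,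
        HomologicalComplex.toCycles_i, sub_self]
    refine ⟨{ i := J.iCycles n
              r := J.liftCycles (𝟙 (J.X n) - J.toCycles n (n + 1) ≫ g) (n + 1) (by simp) hk
              retract := ?_ }⟩
    rw [← cancel_mono (J.iCycles n), Category.assoc, HomologicalComplex.liftCycles_i,
      Preadditive.comp_sub, Category.comp_id, reassoc_of% h0, zero_comp, sub_zero,
      Category.id_comp]

omit [HasDerivedCategory.{w} C] in
/-- The canonical truncation of a complex of injectives with `Z^n` injective. -/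
lemma truncLE_props (J : CochainComplex C ℤ) (hJ : ∀ q, Injective (J.X q)) (a n : ℤ)
    (han : a ≤ n) [J.IsStrictlyGE a] (hZ : Injective (J.cycles n)) :
    (∀ q, Injective ((J.truncLE n).X q)) ∧ (J.truncLE n).IsStrictlyGE a ∧
      (J.truncLE n).IsStrictlyLE n := by
  refine ⟨fun q => ?_, ?_, inferInstance⟩
  · obtain h | rfl | h := lt_trichotomy q n
    · have := hJ q
      exact Injective.of_iso (J.truncLEXIso n q h).symm inferInstance
    · exact Injective.of_iso (J.truncLEXIsoCycles q).symm inferInstance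
    · exact (CochainComplex.isZero_of_isStrictlyLE _ n _ h).injective
  · rw [CochainComplex.isStrictlyGE_iff]
    intro q hq
    exact IsZero.of_iso (J.isZero_of_isStrictlyGE a q hq) (J.truncLEXIso n q (by lia))

/-- Vanishing lemma: if `X ≅ Q(I)` with `I` K-injective and `I^i = 0`, all maps `F[0] ⟶ X[i]`
vanish. -/
lemma eq_zero_of_isZero (I : CochainComplex C ℤ) [I.IsKInjective] (X : DerivedCategory C)
    (e : Q.obj I ≅ X) (F : C) (i : ℤ) (hi : IsZero (I.X i))
    (φ : (DerivedCategory.singleFunctor C 0).obj F ⟶ (shiftFunctor (DerivedCategory C) i).obj X) :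
    φ = 0 := by
  let ψ : Q.obj (sgl 0 F) ⟶ Q.obj (I⟦i⟧) :=
    (singleFunctorIsoCompQ C 0).inv.app F ≫ φ ≫ (shiftFunctor (DerivedCategory C) i).map e.inv ≫
      (Q.commShiftIso i).inv.app I
  obtain ⟨g, hg⟩ := (CochainComplex.IsKInjective.Qh_map_bijective
    ((HomotopyCategory.quotient C (ComplexShape.up ℤ)).obj (sgl 0 F)) (I⟦i⟧)).2
    ((quotientCompQhIso C).hom.app (sgl 0 F) ≫ ψ ≫ (quotientCompQhIso C).inv.app _)
  obtain ⟨γ, rfl⟩ := (HomotopyCategory.quotient C (ComplexShape.up ℤ)).map_surjective g
  have hγ : γ = 0 := by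
    apply HomologicalComplex.from_single_hom_ext
    apply (IsZero.of_iso hi (I.shiftFunctorObjXIso i 0 i (by simp))).eq_of_tgt
  have hψ : ψ = 0 := by
    have h1 := congrArg (fun t => (quotientCompQhIso C).inv.app (sgl 0 F) ≫ t ≫
      (quotientCompQhIso C).hom.app _) hg
    simp only [Category.assoc, Iso.inv_hom_id_app, Iso.inv_hom_id_app_assoc,
      Category.comp_id] at h1
    rw [← h1, hγ, Functor.map_zero, Functor.map_zero, zero_comp, comp_zero]
  have h2 : φ ≫ ((shiftFunctor (DerivedCategory C) i).map e.inv ≫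
      (Q.commShiftIso i).inv.app I) = 0 := by
    have : IsIso ((singleFunctorIsoCompQ C 0).inv.app F) := inferInstance
    exact (cancel_epi ((singleFunctorIsoCompQ C 0).inv.app F)).1 (by rw [comp_zero]; exact hψ)
  exact (cancel_mono ((shiftFunctor (DerivedCategory C) i).map e.inv ≫
      (Q.commShiftIso i).inv.app I)).1 (by rw [zero_comp]; exact h2)

/-- Lifting the inverse of a quasi-isomorphism with K-injective source. -/
lemma exists_retraction_of_quasiIso {I J : CochainComplex C ℤ} [I.IsKInjective] (s : I ⟶ J)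
    [QuasiIso s] : ∃ r : J ⟶ I, QuasiIso r ∧ Q.map s ≫ Q.map r = 𝟙 _ := by
  have : IsIso (Q.map s) := (isIso_Q_map_iff_quasiIso C s).2 inferInstance
  obtain ⟨g, hg⟩ := (CochainComplex.IsKInjective.Qh_map_bijective
    ((HomotopyCategory.quotient C (ComplexShape.up ℤ)).obj J) I).2
    ((quotientCompQhIso C).hom.app J ≫ inv (Q.map s) ≫ (quotientCompQhIso C).inv.app _)
  obtain ⟨r, rfl⟩ := (HomotopyCategory.quotient C (ComplexShape.up ℤ)).map_surjective g
  have hr : Q.map r = inv (Q.map s) := by
    have nat : Qh.map ((HomotopyCategory.quotient C (ComplexShape.up ℤ)).map r) ≫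
        (quotientCompQhIso C).hom.app I = (quotientCompQhIso C).hom.app J ≫ Q.map r :=
      (quotientCompQhIso C).hom.naturality r
    rw [hg] at nat
    simp only [Category.assoc, Iso.inv_hom_id_app, Category.comp_id] at nat
    exact ((cancel_epi ((quotientCompQhIso C).hom.app J)).1 nat).symm
  refine ⟨r, ?_, by rw [hr, IsIso.hom_inv_id]⟩
  rw [← isIso_Q_map_iff_quasiIso C, hr]
  infer_instance

/-- Main existence statement. -/
theorem exists_bounded_injective (J : CochainComplex C ℤ) (hJ : ∀ q, Injective (J.X q))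
    (a n : ℤ) (han : a ≤ n) [J.IsStrictlyGE a] (X : DerivedCategory C) (e : Q.obj J ≅ X)
    (hv : ∀ (F : C) (i : ℤ), n < i → ∀ φ : (DerivedCategory.singleFunctor C 0).obj F ⟶
      (shiftFunctor (DerivedCategory C) i).obj X, φ = 0) :
    ∃ (I : CochainComplex C ℤ) (r : J ⟶ I), (∀ q, Injective (I.X q)) ∧ I.IsStrictlyGE a ∧
      I.IsStrictlyLE n ∧ QuasiIso r := by
  have hK : J.IsKInjective := CochainComplex.isKInjective_of_injective J a
  obtain ⟨hle, ⟨ret⟩⟩ := isLE_and_retract J n
    (fun F i hi ζ => Q_map_eq_zero_of_vanishing J X e F i ζ (hv F i hi))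
  have := hJ n
  have hZ : Injective (J.cycles n) := ret.injective
  obtain ⟨h1, h2, h3⟩ := truncLE_props J hJ a n han hZ
  have hK' : (J.truncLE n).IsKInjective := CochainComplex.isKInjective_of_injective _ a
  obtain ⟨r, hr, -⟩ := exists_retraction_of_quasiIso (J.ιTruncLE n)
  exact ⟨J.truncLE n, r, h1, h2, h3, hr⟩

end Groth.Agent.Lib.Helper62.InjAmp
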