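import Mathlib.Algebra.Homology.DerivedCategory.HomologySequence
import Mathlib.Algebra.Homology.HomologicalComplex
import Mathlib.Algebra.Homology.ShortComplex.HomologicalComplex

/-!
Stupid truncation `σ_{≥ n}` of a cochain complex indexed by `ℤ`, its inclusion into the complex, and
the behaviour on cohomology of chain maps which are isomorphisms in degrees `≥ n`.
Transfer of `IsIso`/`Epi` between `homologyMap` and the homology functor of the derived category.
-/

universe w v u

open CategoryTheory Limits HomologicalComplex ZeroObject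

namespace Groth.Agent.Lib.Helper62

section

variable {C : Type u} [Category.{v} C] [Abelian C]

/-- A chain map which is an isomorphism in degrees `≥ n` induces isomorphisms on `H^i`, `i > n`. -/
theorem isIso_homologyMap_of_isIso_f_ge (n : ℤ) {K L : CochainComplex C ℤ} (φ : K ⟶ L)
    (hφ : ∀ i : ℤ, n ≤ i → IsIso (φ.f i)) (i : ℤ) (hi : n < i) : IsIso (homologyMap φ i) := by
  have h1 : IsIso (φ.f ((ComplexShape.up ℤ).prev i)) := hφ _ (by simp; omega)
  have h2 : IsIso (φ.f i) := hφ _ (by omega)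
  have h3 : IsIso (φ.f ((ComplexShape.up ℤ).next i)) := hφ _ (by simp; omega)
  exact ShortComplex.isIso_homologyMap_of_epi_of_isIso_of_mono'
    ((shortComplexFunctor C (ComplexShape.up ℤ) i).map φ)
    (inferInstanceAs (Epi (φ.f ((ComplexShape.up ℤ).prev i)))) h2
    (inferInstanceAs (Mono (φ.f ((ComplexShape.up ℤ).next i))))

/-- A chain map which is an isomorphism in degrees `≥ n` induces an epimorphism on `H^n`. -/
theorem epi_homologyMap_of_isIso_f_ge (n : ℤ) {K L : CochainComplex C ℤ} (φ : K ⟶ L)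
    (hφ : ∀ i : ℤ, n ≤ i → IsIso (φ.f i)) : Epi (homologyMap φ n) := by
  have h2 : IsIso (φ.f n) := hφ _ (by omega)
  have h3 : IsIso (φ.f ((ComplexShape.up ℤ).next n)) := hφ _ (by simp)
  have := ShortComplex.isIso_cyclesMap_of_isIso_of_mono'
    ((shortComplexFunctor C (ComplexShape.up ℤ) n).map φ) h2
    (inferInstanceAs (Mono (φ.f ((ComplexShape.up ℤ).next n))))
  exact ShortComplex.epi_homologyMap_of_epi_cyclesMap'
    ((shortComplexFunctor C (ComplexShape.up ℤ) n).map φ) inferInstance

/-- The endomorphism of `E.X i` whose kernel is the degree `i` term of `σ_{≥ n} E`. -/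
noncomputable def sigmaGEt (n : ℤ) (E : CochainComplex C ℤ) (i : ℤ) : E.X i ⟶ E.X i :=
  if n ≤ i then 0 else 𝟙 _

theorem sigmaGEt_of_le (n : ℤ) (E : CochainComplex C ℤ) (i : ℤ) (hi : n ≤ i) :
    sigmaGEt n E i = 0 := if_pos hi

theorem sigmaGEt_of_lt (n : ℤ) (E : CochainComplex C ℤ) (i : ℤ) (hi : i < n) :
    sigmaGEt n E i = 𝟙 _ := if_neg (by omega)

theorem sigmaGE_aux (n : ℤ) (E : CochainComplex C ℤ) (i j : ℤ) :
    (kernel.ι (sigmaGEt n E i) ≫ E.d i j) ≫ sigmaGEt n E j = 0 := by
  by_cases hj : n ≤ j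
  · rw [sigmaGEt_of_le n E j hj, comp_zero]
  · by_cases hij : i + 1 = j
    · have h0 : kernel.ι (sigmaGEt n E i) = 0 := by
        rw [← Category.comp_id (kernel.ι (sigmaGEt n E i)), ← sigmaGEt_of_lt n E i (by omega),
          kernel.condition]
      rw [h0, zero_comp, zero_comp]
    · rw [E.shape i j hij, comp_zero, zero_comp]

/-- The stupid truncation `σ_{≥ n} E` (realised as a subcomplex of `E`). -/
noncomputable def sigmaGE (n : ℤ) (E : CochainComplex C ℤ) : CochainComplex C ℤ where
  X i := kernel (sigmaGEt n E i)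
  d i j := kernel.lift _ (kernel.ι _ ≫ E.d i j) (sigmaGE_aux n E i j)
  shape i j hij := by
    rw [← cancel_mono (kernel.ι _), kernel.lift_ι, E.shape i j hij, comp_zero, zero_comp]
  d_comp_d' i j k _ _ := by
    rw [← cancel_mono (kernel.ι _), Category.assoc, kernel.lift_ι, kernel.lift_ι_assoc,
      Category.assoc, E.d_comp_d, comp_zero, zero_comp]

/-- The inclusion `σ_{≥ n} E ⟶ E`. -/
noncomputable def sigmaGEι (n : ℤ) (E : CochainComplex C ℤ) : sigmaGE n E ⟶ E where
  f _ := kernel.ι _
  comm' _ _ _ := (kernel.lift_ι _ _ _).symm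

theorem isIso_kernel_ι_of_eq_zero {A B : C} (φ : A ⟶ B) (h : φ = 0) : IsIso (kernel.ι φ) := by
  subst h
  infer_instance

theorem isZero_kernel_of_eq_id {A : C} (φ : A ⟶ A) (h : φ = 𝟙 A) : IsZero (kernel φ) := by
  subst h
  exact isZero_kernel_of_mono _

theorem isIso_sigmaGEι_f (n : ℤ) (E : CochainComplex C ℤ) (i : ℤ) (hi : n ≤ i) :
    IsIso ((sigmaGEι n E).f i) :=
  isIso_kernel_ι_of_eq_zero _ (sigmaGEt_of_le n E i hi)

instance mono_sigmaGEι_f (n : ℤ) (E : CochainComplex C ℤ) (i : ℤ) : Mono ((sigmaGEι n E).f i) :=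
  inferInstanceAs (Mono (kernel.ι _))

theorem isZero_sigmaGE_X (n : ℤ) (E : CochainComplex C ℤ) (i : ℤ) (hi : i < n) :
    IsZero ((sigmaGE n E).X i) :=
  isZero_kernel_of_eq_id _ (sigmaGEt_of_lt n E i hi)

/-- The terms of `σ_{≥ n} E` in degrees `≥ n`. -/
noncomputable def sigmaGEXIso (n : ℤ) (E : CochainComplex C ℤ) (i : ℤ) (hi : n ≤ i) :
    (sigmaGE n E).X i ≅ E.X i :=
  @asIso _ _ _ _ ((sigmaGEι n E).f i) (isIso_sigmaGEι_f n E i hi)

theorem isIso_homologyMap_sigmaGEι (n : ℤ) (E : CochainComplex C ℤ) (i : ℤ) (hi : n < i) :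
    IsIso (homologyMap (sigmaGEι n E) i) :=
  isIso_homologyMap_of_isIso_f_ge n _ (isIso_sigmaGEι_f n E) i hi

theorem epi_homologyMap_sigmaGEι (n : ℤ) (E : CochainComplex C ℤ) :
    Epi (homologyMap (sigmaGEι n E) n) :=
  epi_homologyMap_of_isIso_f_ge n _ (isIso_sigmaGEι_f n E)

end

section

variable {C : Type u} [Category.{v} C] [Abelian C] [HasDerivedCategory.{w} C]

open DerivedCategory

theorem isIso_homologyFunctor_map_Q_iff {K L : CochainComplex C ℤ} (f : K ⟶ L) (i : ℤ) :
    IsIso ((DerivedCategory.homologyFunctor C i).map (Q.map f)) ↔ IsIso (homologyMap f i) :=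
  NatIso.isIso_map_iff (homologyFunctorFactors C i) f

theorem epi_homologyFunctor_map_Q_iff {K L : CochainComplex C ℤ} (f : K ⟶ L) (i : ℤ) :
    Epi ((DerivedCategory.homologyFunctor C i).map (Q.map f)) ↔ Epi (homologyMap f i) := by
  let e := homologyFunctorFactors C i
  change Epi ((Q ⋙ DerivedCategory.homologyFunctor C i).map f) ↔
    Epi ((HomologicalComplex.homologyFunctor C (ComplexShape.up ℤ) i).map f)
  constructor
  · intro _
    have h1 : (HomologicalComplex.homologyFunctor C (ComplexShape.up ℤ) i).map f =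
        e.inv.app K ≫ (Q ⋙ DerivedCategory.homologyFunctor C i).map f ≫ e.hom.app L := by
      rw [e.hom.naturality f, Iso.inv_hom_id_app_assoc]
    rw [h1]
    infer_instance
  · intro _
    have h1 : (Q ⋙ DerivedCategory.homologyFunctor C i).map f =
        e.hom.app K ≫ (HomologicalComplex.homologyFunctor C (ComplexShape.up ℤ) i).map f ≫
          e.inv.app L := by
      rw [← e.hom.naturality_assoc f, Iso.hom_inv_id_app, Category.comp_id]
    rw [h1]
    infer_instance

end

end Groth.Agent.Lib.Helper62
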