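import Mathlib.AlgebraicGeometry.AffineScheme
import Mathlib.AlgebraicGeometry.Stalk
import Mathlib.RingTheory.AdicCompletion.RingHom
import Mathlib.RingTheory.LocalRing.MaximalIdeal.Basic

/-!
Morphisms from the spectrum of a complete local ring are limits of morphisms from the
infinitesimal neighbourhoods of the closed point.
-/

namespace Groth.Agent.Lib.Helper62

open CategoryTheory AlgebraicGeometry

universe u

/-- A morphism from an affine scheme with range in an affine open factors through `fromSpec`. -/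
theorem exists_SpecMap_fromSpec {X : Scheme.{u}} {U : X.Opens} (hU : IsAffineOpen U)
    {R : CommRingCat.{u}} (g : Spec R ⟶ X) (hg : Set.range g ⊆ (U : Set X)) :
    ∃ φ : Γ(X, U) ⟶ R, Spec.map φ ≫ hU.fromSpec = g := by
  have hg' : Set.range g ⊆ Set.range U.ι := by rwa [Scheme.Opens.range_ι]
  refine ⟨Spec.preimage (IsOpenImmersion.lift U.ι g hg' ≫ hU.isoSpec.hom), ?_⟩
  rw [Spec.map_preimage, Category.assoc, hU.isoSpec_hom_fromSpec, IsOpenImmersion.lift_fac]

theorem SpecMap_fromSpec_injective {X : Scheme.{u}} {U : X.Opens} (hU : IsAffineOpen U)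
    {R : CommRingCat.{u}} (φ₁ φ₂ : Γ(X, U) ⟶ R)
    (h : Spec.map φ₁ ≫ hU.fromSpec = Spec.map φ₂ ≫ hU.fromSpec) : φ₁ = φ₂ :=
  Spec.map_injective ((cancel_mono _).mp h)

/-- A morphism from the spectrum of a local ring whose closed point lands in an open `U` has range
in `U`. -/
theorem range_subset_of_closedPoint_mem {X : Scheme.{u}} {R : Type u} [CommRing R] [IsLocalRing R]
    (f : Spec (CommRingCat.of R) ⟶ X) (U : X.Opens) (hU : f (IsLocalRing.closedPoint R) ∈ U) :
    Set.range f ⊆ (U : Set X) := by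
  rintro _ ⟨y, rfl⟩
  exact ((IsLocalRing.specializes_closedPoint y).map f.continuous).mem_open U.2 hU

section

variable (A : Type u) [CommRing A] [IsLocalRing A]

/-- Every point of `Spec (A ⧸ 𝔪 ^ n)` maps to the closed point of `Spec A`. -/
theorem SpecMap_mk_pow_apply (n : ℕ)
    (y : Spec (CommRingCat.of (A ⧸ (IsLocalRing.maximalIdeal A) ^ n))) :
    (Spec.map (CommRingCat.ofHom (Ideal.Quotient.mk ((IsLocalRing.maximalIdeal A) ^ n)))) y =
      IsLocalRing.closedPoint A := by
  apply PrimeSpectrum.ext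
  change Ideal.comap (Ideal.Quotient.mk ((IsLocalRing.maximalIdeal A) ^ n)) y.asIdeal =
    IsLocalRing.maximalIdeal A
  have hprime : (Ideal.comap (Ideal.Quotient.mk ((IsLocalRing.maximalIdeal A) ^ n))
      y.asIdeal).IsPrime := Ideal.comap_isPrime _ _
  have hle : (IsLocalRing.maximalIdeal A) ^ n ≤
      Ideal.comap (Ideal.Quotient.mk ((IsLocalRing.maximalIdeal A) ^ n)) y.asIdeal := by
    intro a ha
    rw [Ideal.mem_comap, Ideal.Quotient.eq_zero_iff_mem.mpr ha]
    exact Ideal.zero_mem _
  exact ((IsLocalRing.maximalIdeal.isMaximal A).eq_of_le hprime.ne_top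
    (Ideal.IsPrime.le_of_pow_le hle)).symm

end

end Groth.Agent.Lib.Helper62
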