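import Groth.Agent.Lib.Helper62.StkGlue
import Groth.Agent.Lib.Helper62.StkFullSub
import Groth.Agent.Lib.Helper17.EquivGen
import Groth.Agent.Lib.Helper17.FibProd

/-!
# Automorphisms that are locally trivial are trivial (helper62)

and the descent of faithfulness / setoid-ness along locally essentially surjective functors.
-/

set_option autoImplicit false
set_option backward.isDefEq.respectTransparency false
set_option backward.isDefEq.respectTransparency.types false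
universe v u
open CategoryTheory CategoryTheory.Functor FibCat

namespace Groth.Agent.Lib.Helper62.StkLocTriv

open Groth.Agent.Lib.Helper17 Groth.Agent.Lib.Helper17.FG Groth.Agent.Lib.Helper62.StkFF
open Groth.Agent.Lib.Helper98.StkPost Groth.Agent.Lib.Helper62.StkGlue
open Groth.Agent.Lib.Helper62.StkFullSub Groth.Agent.Lib.Helper17.FP Groth.Agent.Lib.Helper17.TH

variable {C : Type u} [Category.{v} C]

section Criterion

variable {𝒳 𝒴 : BasedCategory.{v, max u v} C}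

/-- A functor over `C` between categories fibred in groupoids is faithful as soon as the automorphisms over
identities it kills are trivial. -/
theorem faithful_of_aut (h𝒳 : IsFibGrpd 𝒳.p) (h𝒴 : IsFibGrpd 𝒴.p) (f : 𝒳 ⥤ᵇ 𝒴)
    (h : ∀ (x : 𝒳.obj) (α : x ⟶ x), 𝒳.p.IsHomLift (𝟙 (𝒳.p.obj x)) α → f.map α = 𝟙 _ → α = 𝟙 x) :
    f.toFunctor.Faithful := by
  constructor
  intro x x' φ ψ hφψ
  have hφψ' : f.map φ = f.map ψ := hφψ
  have hφ : 𝒳.p.IsHomLift (𝒳.p.map φ) φ := inferInstance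
  have hψ : 𝒳.p.IsHomLift (𝒳.p.map φ) ψ := by
    apply isHomLift_of_map f
    rw [← hφψ']
    exact map_isHomLift f _ φ hφ
  obtain ⟨α, hα1, hα2, -⟩ := exists_factor h𝒳 (𝒳.p.map φ) ψ hψ φ hφ
  have hfα : f.map α = 𝟙 _ := by
    have l1 : 𝒴.p.IsHomLift (𝟙 (𝒳.p.obj x)) (f.map α) := map_isHomLift f _ α hα1
    have l2 : 𝒴.p.IsHomLift (𝟙 (𝒳.p.obj x)) (𝟙 (f.obj x)) := IsHomLift.id (f.w_obj x)
    refine eq_of_comp_eq h𝒴 (𝟙 _) (𝒳.p.map φ) (f.map ψ) (map_isHomLift f _ ψ hψ) _ _ l1 l2 ?_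
    rw [Category.id_comp]
    change f.map α ≫ f.map ψ = f.map ψ
    rw [← hφψ']
    have : f.map α ≫ f.map ψ = f.map (α ≫ ψ) := (f.toFunctor.map_comp α ψ).symm
    rw [hφψ', this, hα2, hφψ']
  have := h x α hα1 hfα
  rw [← hα2, this, Category.id_comp]

end Criterion

section LocTriv

variable {𝒯 : BasedCategory.{v, max u v} C}

/-- Restriction of an automorphism over the identity along a morphism. -/
theorem exists_restrict (h𝒯 : IsFibGrpd 𝒯.p) {U V : C} (f : V ⟶ U) {s t : 𝒯.obj} (l : s ⟶ t)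
    (hl : 𝒯.p.IsHomLift f l) (θ : t ⟶ t) (hθ : 𝒯.p.IsHomLift (𝟙 U) θ) :
    ∃ θs : s ⟶ s, 𝒯.p.IsHomLift (𝟙 V) θs ∧ θs ≫ l = l ≫ θ := by
  have h1 : 𝒯.p.IsHomLift f (l ≫ θ) := inferInstance
  obtain ⟨θs, h2, h3, -⟩ := exists_factor h𝒯 f l hl (l ≫ θ) h1
  exact ⟨θs, h2, h3⟩

/-- An automorphism over the identity which is trivial along every arrow of a sieve along which
morphisms of `𝒯` glue uniquely is trivial. -/
theorem eq_id_of_locally (h𝒯 : IsFibGrpd 𝒯.p) {U : C} (t : 𝒯.obj) (ht : 𝒯.p.obj t = U) (R : Sieve U)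
    (hR : (Stk.resSieve R 𝒯).Faithful) (θ : t ⟶ t) (hθ : 𝒯.p.IsHomLift (𝟙 U) θ)
    (h : ∀ ⦃V : C⦄ (f : V ⟶ U), R f → ∀ (s : 𝒯.obj) (l : s ⟶ t), 𝒯.p.IsHomLift f l → l ≫ θ = l) :
    θ = 𝟙 t := by
  obtain ⟨Y, π, hπ, hπc⟩ := exists_yoneda h𝒯 t ht
  let T : Over U := Over.mk (𝟙 U)
  have h2 : 𝒯.p.IsHomLift (𝟙 U) (π T) := hπ T
  have h3 : IsIso (π T) := isIso_of_lift_id h𝒯 (π T) h2
  have h4 : 𝒯.p.IsHomLift (𝟙 U) (inv (π T)) := IsHomLift.lift_id_inv_isIso (p := 𝒯.p) U (π T)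
  have hθ' : 𝒯.p.IsHomLift (𝟙 U) (π T ≫ θ ≫ inv (π T)) := by
    have : 𝒯.p.IsHomLift (𝟙 U) (θ ≫ inv (π T)) := inferInstance
    infer_instance
  have hev := Groth.Agent.Lib.Helper86.TwoYoneda.evalAtId_isEquivalence_of_isFibGrpd (U := U) h𝒯
  obtain ⟨Θ, hΘ⟩ := (FibCat.evalAtId 𝒯 U).map_surjective (X := Y) (Y := Y) ⟨π T ≫ θ ≫ inv (π T), hθ'⟩
  have hΘ' : Θ.toNatTrans.app T = π T ≫ θ ≫ inv (π T) := congrArg Subtype.val hΘ
  have hres : (Stk.resSieve R 𝒯).map Θ = (Stk.resSieve R 𝒯).map (𝟙 Y) := by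
    apply BasedNatTrans.homCategory.ext
    ext a
    change Θ.toNatTrans.app a.obj = 𝟙 (Y.obj a.obj)
    let k : a.obj ⟶ T := Over.homMk a.obj.hom (by simp [T])
    have l1 : 𝒯.p.IsHomLift (𝟙 a.obj.left) (Θ.toNatTrans.app a.obj) :=
      BasedNatTrans.isHomLift Θ rfl
    have l2 : 𝒯.p.IsHomLift (𝟙 a.obj.left) (𝟙 (Y.obj a.obj)) := IsHomLift.id (Y.w_obj a.obj)
    refine eq_of_comp_eq h𝒯 (𝟙 _) a.obj.hom (π a.obj) (hπ a.obj) _ _ l1 l2 ?_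
    rw [Category.id_comp, ← hπc k, ← Category.assoc]
    have nat : Θ.toNatTrans.app a.obj ≫ Y.map k = Y.map k ≫ Θ.toNatTrans.app T :=
      (Θ.toNatTrans.naturality k).symm
    rw [nat, hΘ']
    simp only [Category.assoc, IsIso.inv_hom_id, Category.comp_id]
    rw [← Category.assoc, hπc k]
    exact h a.obj.hom a.property _ (π a.obj) (hπ a.obj)
  have hΘid : Θ = 𝟙 Y := (Stk.resSieve R 𝒯).map_injective hres
  have h5 : π T ≫ θ ≫ inv (π T) = 𝟙 _ := by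
    rw [← hΘ', hΘid]
    rfl
  have h6 : θ = inv (π T) ≫ (π T ≫ θ ≫ inv (π T)) ≫ π T := by simp
  rw [h6, h5]
  simp

end LocTriv

section Descent

variable {𝒮₁ 𝒮₂ 𝒯₁ : BasedCategory.{v, max u v} C}

/-- Faithfulness descends along a locally essentially surjective functor (S12798). -/
theorem faithful_of_fpFst_faithful (J : GrothendieckTopology C) (h₁ : IsFibGrpd 𝒮₁.p)
    (h₃ : Stk.IsStack J 𝒯₁) (F : 𝒮₂ ⥤ᵇ 𝒮₁) (G : 𝒯₁ ⥤ᵇ 𝒮₁)
    (hF : ∀ y : 𝒮₁.obj, ∃ R ∈ J (𝒮₁.p.obj y), ∀ ⦃V : C⦄ (f : V ⟶ 𝒮₁.p.obj y), R f →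
      ∃ (x : 𝒮₂.obj) (φ : F.obj x ⟶ y), 𝒮₁.p.IsHomLift f φ)
    (hG' : (FibCat.fpFst F G).toFunctor.Faithful) : G.toFunctor.Faithful := by
  apply faithful_of_aut h₃.1 h₁ G
  intro t θ hθ hGθ
  obtain ⟨R, hR, hloc⟩ := hF (G.obj t)
  have ht : 𝒯₁.p.obj t = 𝒮₁.p.obj (G.obj t) := (G.w_obj t).symm
  have hθ' : 𝒯₁.p.IsHomLift (𝟙 (𝒮₁.p.obj (G.obj t))) θ := isHomLift_id_of_eq ht _ hθ
  have hRf : (Stk.resSieve R 𝒯₁).IsEquivalence := h₃.2 R hR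
  refine eq_id_of_locally h₃.1 t ht R inferInstance θ hθ' ?_
  intro V f hf s l hl
  obtain ⟨x, φ, hφ⟩ := hloc f hf
  obtain ⟨θs, hθs, hθs2⟩ := exists_restrict h₃.1 f l hl θ hθ'
  have hGl : 𝒮₁.p.IsHomLift f (G.map l) := map_isHomLift G f l hl
  obtain ⟨σ, hσ, -⟩ := exists_iso_of_lifts h₁ f φ hφ (G.map l) hGl
  have hx : 𝒮₂.p.obj x = V := (F.w_obj x).symm.trans (IsHomLift.domain_eq 𝒮₁.p f φ)
  have hσ' : 𝒮₁.p.IsHomLift (𝟙 (𝒮₂.p.obj x)) σ.hom := isHomLift_id_of_eq hx.symm _ hσ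
  let z : (fp F G).obj := mkObj x s σ hσ'
  have hGθs : G.map θs = 𝟙 _ := by
    have l1 : 𝒮₁.p.IsHomLift (𝟙 V) (G.map θs) := map_isHomLift G _ θs hθs
    have l2 : 𝒮₁.p.IsHomLift (𝟙 V) (𝟙 (G.obj s)) :=
      IsHomLift.id ((G.w_obj s).trans (IsHomLift.domain_eq 𝒯₁.p f l))
    refine eq_of_comp_eq h₁ (𝟙 _) f (G.map l) hGl _ _ l1 l2 ?_
    rw [Category.id_comp]
    have e1 : G.map θs ≫ G.map l = G.map (θs ≫ l) := (G.toFunctor.map_comp θs l).symm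
    have e2 : G.map (l ≫ θ) = G.map l ≫ G.map θ := G.toFunctor.map_comp l θ
    rw [e1, hθs2, e2, hGθ, Category.comp_id]
  let m : z ⟶ z := mkHom (z := z) (z' := z) (𝟙 x) θs (by
    change F.map (𝟙 x) ≫ σ.hom = σ.hom ≫ G.map θs
    rw [hGθs]
    have : F.map (𝟙 x) = 𝟙 _ := F.toFunctor.map_id x
    rw [this, Category.id_comp, Category.comp_id])
  have hm : m = 𝟙 z := (FibCat.fpFst F G).toFunctor.map_injective rfl
  have hs : θs = 𝟙 s := congrArg (fun m => m.hom.snd) hm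
  rw [← hθs2, hs, Category.id_comp]

/-- Being fibred in setoids descends along a fully faithful, locally essentially surjective functor
(S12799). -/
theorem isFibSetoid_of_fp (J : GrothendieckTopology C) (h₁ : IsFibGrpd 𝒮₁.p)
    (h₃ : Stk.IsStack J 𝒯₁) (F : 𝒮₂ ⥤ᵇ 𝒮₁) [F.toFunctor.Full] [F.toFunctor.Faithful]
    (hF : ∀ y : 𝒮₁.obj, ∃ R ∈ J (𝒮₁.p.obj y), ∀ ⦃V : C⦄ (f : V ⟶ 𝒮₁.p.obj y), R f →
      ∃ (x : 𝒮₂.obj) (φ : F.obj x ⟶ y), 𝒮₁.p.IsHomLift f φ)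
    (G : 𝒯₁ ⥤ᵇ 𝒮₁) (h : FibCat.IsFibSetoid (FibCat.fp F G).p) : FibCat.IsFibSetoid 𝒯₁.p := by
  rw [EG.isFibSetoid_iff_thinOver] at h ⊢
  refine ⟨h₃.1, ?_⟩
  -- automorphisms over identities are trivial
  have haut : ∀ (t : 𝒯₁.obj) (θ : t ⟶ t), 𝒯₁.p.IsHomLift (𝟙 (𝒯₁.p.obj t)) θ → θ = 𝟙 t := by
    intro t θ hθ
    obtain ⟨R, hR, hloc⟩ := hF (G.obj t)
    have ht : 𝒯₁.p.obj t = 𝒮₁.p.obj (G.obj t) := (G.w_obj t).symm
    have hθ' : 𝒯₁.p.IsHomLift (𝟙 (𝒮₁.p.obj (G.obj t))) θ := isHomLift_id_of_eq ht _ hθ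
    have hRf : (Stk.resSieve R 𝒯₁).IsEquivalence := h₃.2 R hR
    refine eq_id_of_locally h₃.1 t ht R inferInstance θ hθ' ?_
    intro V f hf s l hl
    obtain ⟨x, φ, hφ⟩ := hloc f hf
    obtain ⟨θs, hθs, hθs2⟩ := exists_restrict h₃.1 f l hl θ hθ'
    have hGl : 𝒮₁.p.IsHomLift f (G.map l) := map_isHomLift G f l hl
    obtain ⟨σ, hσ, -⟩ := exists_iso_of_lifts h₁ f φ hφ (G.map l) hGl
    have hx : 𝒮₂.p.obj x = V := (F.w_obj x).symm.trans (IsHomLift.domain_eq 𝒮₁.p f φ)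
    have hσ' : 𝒮₁.p.IsHomLift (𝟙 (𝒮₂.p.obj x)) σ.hom := isHomLift_id_of_eq hx.symm _ hσ
    have hσi : 𝒮₁.p.IsHomLift (𝟙 V) σ.inv := IsHomLift.lift_id_inv (p := 𝒮₁.p) V σ
    let z : (fp F G).obj := mkObj x s σ hσ'
    have hGθs : 𝒮₁.p.IsHomLift (𝟙 V) (G.map θs) := map_isHomLift G _ θs hθs
    let ξ : x ⟶ x := F.toFunctor.preimage (σ.hom ≫ G.map θs ≫ σ.inv)
    have hξ : F.map ξ = σ.hom ≫ G.map θs ≫ σ.inv := F.toFunctor.map_preimage _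
    have hξl : 𝒮₂.p.IsHomLift (𝟙 V) ξ := by
      apply isHomLift_of_map F
      rw [hξ]
      have : 𝒮₁.p.IsHomLift (𝟙 V) (G.map θs ≫ σ.inv) := inferInstance
      infer_instance
    let m : z ⟶ z := mkHom (z := z) (z' := z) ξ θs (by
      change F.map ξ ≫ σ.hom = σ.hom ≫ G.map θs
      rw [hξ]
      simp)
    have hml : (fp F G).p.IsHomLift (𝟙 V) m := by
      rw [isHomLift_iff_fst]
      exact hξl
    have hidl : (fp F G).p.IsHomLift (𝟙 V) (𝟙 z) := IsHomLift.id hx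
    have hm : m = 𝟙 z := h.2 V m (𝟙 z) hml hidl
    have hs : θs = 𝟙 s := congrArg (fun m => m.hom.snd) hm
    rw [← hθs2, hs, Category.id_comp]
  intro U a b φ ψ hφ hψ
  have hψi : IsIso ψ := isIso_of_lift_id h₃.1 ψ hψ
  have hψinv : 𝒯₁.p.IsHomLift (𝟙 U) (inv ψ) := IsHomLift.lift_id_inv_isIso (p := 𝒯₁.p) U ψ
  have ha : 𝒯₁.p.obj a = U := IsHomLift.domain_eq 𝒯₁.p (𝟙 U) φ
  have h1 : 𝒯₁.p.IsHomLift (𝟙 U) (φ ≫ inv ψ) := inferInstance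
  have h2 := haut a (φ ≫ inv ψ) (isHomLift_id_of_eq ha.symm _ h1)
  have h3 : φ = (φ ≫ inv ψ) ≫ ψ := by simp
  rw [h3, h2, Category.id_comp]

end Descent

end Groth.Agent.Lib.Helper62.StkLocTriv
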