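import Groth.Agent.Lib.Helper62.StkGlue
import Groth.Agent.Lib.Helper62.StkLocTriv

/-!
# The stack condition along a sieve in terms of cones (helper62)

For `𝒳` fibred in groupoids over `C`, a sieve `R` on `U` and a functor `D : sieveCat R ⟶ 𝒳` over `C`
(a descent datum), a *cone* on `D` is an object `x` over `U` with morphisms `D a ⟶ x` over the arrows
`a` of `R`, compatible with the transition morphisms.  `IsStackFor R 𝒳` holds iff every `D` has a cone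
and any two cones on the same `D` are related by a unique morphism over the identity.
-/

set_option autoImplicit false
set_option backward.isDefEq.respectTransparency false
set_option backward.isDefEq.respectTransparency.types false
universe v u
open CategoryTheory CategoryTheory.Functor FibCat

namespace Groth.Agent.Lib.Helper62.StkCone

open Groth.Agent.Lib.Helper17 Groth.Agent.Lib.Helper17.FG Groth.Agent.Lib.Helper62.StkFF
open Groth.Agent.Lib.Helper62.StkGlue Groth.Agent.Lib.Helper62.StkLocTriv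

variable {C : Type u} [Category.{v} C] {𝒳 : BasedCategory.{v, max u v} C}
variable {U : C} {R : Sieve U}

/-- A cone on a descent datum. -/
structure Cone (D : Stk.sieveCat R ⥤ᵇ 𝒳) where
  pt : 𝒳.obj
  hpt : 𝒳.p.obj pt = U
  π : ∀ a : (Stk.sieveCat R).obj, D.obj a ⟶ pt
  lift : ∀ a : (Stk.sieveCat R).obj, 𝒳.p.IsHomLift a.obj.hom (π a)
  nat : ∀ {a b : (Stk.sieveCat R).obj} (k : a ⟶ b), D.map k ≫ π b = π a

/-- the structure arrow `a ⟶ 𝟙_U` of the slice -/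
def toT (a : Over U) : a ⟶ Over.mk (𝟙 U) := Over.homMk a.hom (by simp)

theorem toT_lift (a : Over U) : (overCat U).p.IsHomLift a.hom (toT a) :=
  hl_of_eq (p := (overCat U).p) (a := a) (b := Over.mk (𝟙 U)) (f := a.hom) (φ := toT a) rfl

theorem toT_comp {a b : Over U} (k : a ⟶ b) : k ≫ toT b = toT a := by
  apply Over.OverMorphism.ext
  simp [toT]

theorem sieve_map_lift {a b : (Stk.sieveCat R).obj} (k : a ⟶ b) :
    (Stk.sieveCat R).p.IsHomLift k.hom.left k :=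
  hl_of_eq (p := (Stk.sieveCat R).p) (a := a) (b := b) (f := k.hom.left) (φ := k) rfl

/-- the canonical cone on the restriction of a functor from the slice -/
def coneOfFunctor (G : overCat U ⥤ᵇ 𝒳) : Cone ((Stk.resSieve R 𝒳).obj G) where
  pt := G.obj (Over.mk (𝟙 U))
  hpt := G.w_obj _
  π a := G.map (toT a.obj)
  lift a := map_isHomLift G _ _ (toT_lift a.obj)
  nat {a b} k := by
    change G.map k.hom ≫ G.map (toT b.obj) = G.map (toT a.obj)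
    rw [← toT_comp k.hom]
    exact (G.toFunctor.map_comp _ _).symm

/-- transport a cone along an isomorphism of descent data -/
def Cone.ofIso {D D' : Stk.sieveCat R ⥤ᵇ 𝒳} (c : Cone D) (e : D' ≅ D) : Cone D' where
  pt := c.pt
  hpt := c.hpt
  π a := e.hom.toNatTrans.app a ≫ c.π a
  lift a := by
    have h1 : 𝒳.p.IsHomLift (𝟙 a.obj.left) (e.hom.toNatTrans.app a) := BasedNatTrans.isHomLift e.hom rfl
    have h2 := c.lift a
    infer_instance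
  nat {a b} k := by
    have := e.hom.toNatTrans.naturality k
    rw [← Category.assoc, this, Category.assoc, c.nat k]

/-- a cone on `D` exhibits `D` as the restriction of a functor from the slice -/
theorem exists_iso_of_cone (h𝒳 : IsFibGrpd 𝒳.p) {D : Stk.sieveCat R ⥤ᵇ 𝒳} (c : Cone D) :
    ∃ (G : overCat U ⥤ᵇ 𝒳) (ρ : ∀ a : Over U, G.obj a ⟶ c.pt)
      (e : D ≅ (Stk.resSieve R 𝒳).obj G),
      (∀ a : Over U, 𝒳.p.IsHomLift a.hom (ρ a)) ∧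
      (∀ {a b : Over U} (k : a ⟶ b), G.map k ≫ ρ b = ρ a) ∧
      (∀ a : (Stk.sieveCat R).obj, e.hom.toNatTrans.app a ≫ ρ a.obj = c.π a) := by
  obtain ⟨Y, ρ, hρ, hρc⟩ := exists_yoneda h𝒳 c.pt c.hpt
  have hτ : ∀ a : (Stk.sieveCat R).obj, ∃ τ : D.obj a ≅ Y.obj a.obj,
      𝒳.p.IsHomLift (𝟙 a.obj.left) τ.hom ∧ τ.hom ≫ ρ a.obj = c.π a :=
    fun a => exists_iso_of_lifts h𝒳 a.obj.hom (c.π a) (c.lift a) (ρ a.obj) (hρ a.obj)
  choose τ hτ1 hτ2 using hτ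
  refine ⟨Y, ρ, BasedNatIso.mkNatIso (NatIso.ofComponents τ ?_) ?_, hρ, hρc, hτ2⟩
  · intro a b k
    change D.map k ≫ (τ b).hom = (τ a).hom ≫ Y.map k.hom
    have l1 : 𝒳.p.IsHomLift k.hom.left (D.map k) := map_isHomLift D _ _ (sieve_map_lift k)
    have l2 := hτ1 b
    have l3 := hτ1 a
    have l4 : 𝒳.p.IsHomLift k.hom.left (Y.map k.hom) :=
      map_isHomLift Y _ _ (hl_of_eq (p := (overCat U).p) (a := a.obj) (b := b.obj)
        (f := k.hom.left) (φ := k.hom) rfl)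
    have m1 : 𝒳.p.IsHomLift k.hom.left (D.map k ≫ (τ b).hom) := inferInstance
    have m2 : 𝒳.p.IsHomLift k.hom.left ((τ a).hom ≫ Y.map k.hom) := inferInstance
    refine eq_of_comp_eq h𝒳 k.hom.left b.obj.hom (ρ b.obj) (hρ b.obj) _ _ m1 m2 ?_
    rw [Category.assoc, hτ2, c.nat k, Category.assoc, hρc k.hom, hτ2]
  · intro a
    exact hτ1 a

/-- comparison morphisms between cones are unique when restriction is faithful -/
theorem cone_hom_unique (h𝒳 : IsFibGrpd 𝒳.p) (hfa : (Stk.resSieve R 𝒳).Faithful)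
    {D : Stk.sieveCat R ⥤ᵇ 𝒳} (c c' : Cone D) (φ₁ φ₂ : c.pt ⟶ c'.pt)
    (h₁ : 𝒳.p.IsHomLift (𝟙 U) φ₁) (h₂ : 𝒳.p.IsHomLift (𝟙 U) φ₂)
    (e₁ : ∀ a, c.π a ≫ φ₁ = c'.π a) (e₂ : ∀ a, c.π a ≫ φ₂ = c'.π a) : φ₁ = φ₂ := by
  have hi : IsIso φ₂ := isIso_of_lift_id h𝒳 φ₂ h₂
  have hinv : 𝒳.p.IsHomLift (𝟙 U) (inv φ₂) := IsHomLift.lift_id_inv_isIso (p := 𝒳.p) U φ₂
  have hθ : 𝒳.p.IsHomLift (𝟙 U) (φ₁ ≫ inv φ₂) := inferInstance
  have key : φ₁ ≫ inv φ₂ = 𝟙 _ := by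
    refine eq_id_of_locally h𝒳 c.pt c.hpt R hfa _ hθ ?_
    intro V f hf s l hl
    let a : (Stk.sieveCat R).obj := ⟨Over.mk f, hf⟩
    obtain ⟨τ, -, hτ⟩ := exists_iso_of_lifts h𝒳 f l hl (c.π a) (c.lift a)
    rw [← hτ]
    simp only [Category.assoc]
    rw [← Category.assoc (c.π a), e₁ a, ← e₂ a]
    simp
  have : φ₁ = (φ₁ ≫ inv φ₂) ≫ φ₂ := by simp
  rw [this, key, Category.id_comp]

/-- comparison morphisms between cones exist when restriction is full -/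
theorem cone_hom_exists (h𝒳 : IsFibGrpd 𝒳.p) (hfull : (Stk.resSieve R 𝒳).Full)
    {D : Stk.sieveCat R ⥤ᵇ 𝒳} (c c' : Cone D) :
    ∃ φ : c.pt ⟶ c'.pt, 𝒳.p.IsHomLift (𝟙 U) φ ∧ ∀ a, c.π a ≫ φ = c'.π a := by
  obtain ⟨G, ρ, e, hρ, hρc, he⟩ := exists_iso_of_cone h𝒳 c
  obtain ⟨G', ρ', e', hρ', hρc', he'⟩ := exists_iso_of_cone h𝒳 c'
  obtain ⟨Γ, hΓ⟩ := (Stk.resSieve R 𝒳).map_surjective (e.inv ≫ e'.hom)
  let T : Over U := Over.mk (𝟙 U)
  have l1 : 𝒳.p.IsHomLift (𝟙 U) (ρ T) := hρ T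
  have l2 : 𝒳.p.IsHomLift (𝟙 U) (ρ' T) := hρ' T
  have hi : IsIso (ρ T) := isIso_of_lift_id h𝒳 _ l1
  have l3 : 𝒳.p.IsHomLift (𝟙 U) (inv (ρ T)) := IsHomLift.lift_id_inv_isIso (p := 𝒳.p) U (ρ T)
  have l4 : 𝒳.p.IsHomLift (𝟙 U) (Γ.toNatTrans.app T) := BasedNatTrans.isHomLift Γ rfl
  have l5 : 𝒳.p.IsHomLift (𝟙 U) (Γ.toNatTrans.app T ≫ ρ' T) := inferInstance
  refine ⟨inv (ρ T) ≫ Γ.toNatTrans.app T ≫ ρ' T, inferInstance, ?_⟩
  intro a
  have hΓa : Γ.toNatTrans.app a.obj = e.inv.toNatTrans.app a ≫ e'.hom.toNatTrans.app a :=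
    congrArg (fun t => t.toNatTrans.app a) hΓ
  have nat : G.map (toT a.obj) ≫ Γ.toNatTrans.app T = Γ.toNatTrans.app a.obj ≫ G'.map (toT a.obj) :=
    Γ.toNatTrans.naturality (toT a.obj)
  have eid : e.hom.toNatTrans.app a ≫ e.inv.toNatTrans.app a = 𝟙 _ :=
    congrArg (fun t => t.toNatTrans.app a) e.hom_inv_id
  calc c.π a ≫ inv (ρ T) ≫ Γ.toNatTrans.app T ≫ ρ' T
      = e.hom.toNatTrans.app a ≫ (G.map (toT a.obj) ≫ ρ T) ≫ inv (ρ T) ≫ Γ.toNatTrans.app T ≫ ρ' T := by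
        rw [← he a, hρc (toT a.obj)]; simp only [Category.assoc]
    _ = e.hom.toNatTrans.app a ≫ (G.map (toT a.obj) ≫ Γ.toNatTrans.app T) ≫ ρ' T := by
        simp only [Category.assoc, IsIso.hom_inv_id_assoc]
    _ = (e.hom.toNatTrans.app a ≫ e.inv.toNatTrans.app a) ≫ e'.hom.toNatTrans.app a ≫
          G'.map (toT a.obj) ≫ ρ' T := by
        rw [nat, hΓa]; simp only [Category.assoc]
    _ = c'.π a := by
        rw [eid, Category.id_comp, hρc' (toT a.obj), he' a]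

theorem cones_of_essSurj (hes : (Stk.resSieve R 𝒳).EssSurj) (D : Stk.sieveCat R ⥤ᵇ 𝒳) :
    Nonempty (Cone D) := by
  obtain ⟨G, ⟨e⟩⟩ := hes.mem_essImage D
  exact ⟨(coneOfFunctor G).ofIso e.symm⟩

theorem essSurj_of_cones (h𝒳 : IsFibGrpd 𝒳.p)
    (h : ∀ D : Stk.sieveCat R ⥤ᵇ 𝒳, Nonempty (Cone D)) : (Stk.resSieve R 𝒳).EssSurj := by
  constructor
  intro D
  obtain ⟨c⟩ := h D
  obtain ⟨G, -, e, -, -, -⟩ := exists_iso_of_cone h𝒳 c
  exact ⟨G, ⟨e.symm⟩⟩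

/-- the cone on `G|R` with vertex `H(𝟙)` attached to a morphism `G|R ⟶ H|R` -/
def coneOfHom {G H : overCat U ⥤ᵇ 𝒳}
    (γ : (Stk.resSieve R 𝒳).obj G ⟶ (Stk.resSieve R 𝒳).obj H) :
    Cone ((Stk.resSieve R 𝒳).obj G) where
  pt := H.obj (Over.mk (𝟙 U))
  hpt := H.w_obj _
  π a := γ.toNatTrans.app a ≫ H.map (toT a.obj)
  lift a := by
    have h1 : 𝒳.p.IsHomLift (𝟙 a.obj.left) (γ.toNatTrans.app a) := BasedNatTrans.isHomLift γ rfl
    have h2 : 𝒳.p.IsHomLift a.obj.hom (H.map (toT a.obj)) := map_isHomLift H _ _ (toT_lift a.obj)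
    infer_instance
  nat {a b} k := by
    have n := γ.toNatTrans.naturality k
    have e2 : H.map k.hom ≫ H.map (toT b.obj) = H.map (toT a.obj) := by
      rw [← toT_comp k.hom]; exact (H.toFunctor.map_comp _ _).symm
    rw [← Category.assoc, n, Category.assoc]
    change γ.toNatTrans.app a ≫ H.map k.hom ≫ H.map (toT b.obj) = _
    rw [e2]

theorem faithful_of_cones (h𝒳 : IsFibGrpd 𝒳.p)
    (huniq : ∀ (D : Stk.sieveCat R ⥤ᵇ 𝒳) (c c' : Cone D) (φ₁ φ₂ : c.pt ⟶ c'.pt),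
      𝒳.p.IsHomLift (𝟙 U) φ₁ → 𝒳.p.IsHomLift (𝟙 U) φ₂ →
      (∀ a, c.π a ≫ φ₁ = c'.π a) → (∀ a, c.π a ≫ φ₂ = c'.π a) → φ₁ = φ₂) :
    (Stk.resSieve R 𝒳).Faithful := by
  constructor
  intro G H α β hαβ
  have hev := Groth.Agent.Lib.Helper86.TwoYoneda.evalAtId_isEquivalence_of_isFibGrpd (U := U) h𝒳
  apply (FibCat.evalAtId 𝒳 U).map_injective
  apply Subtype.ext
  change α.toNatTrans.app (Over.mk (𝟙 U)) = β.toNatTrans.app (Over.mk (𝟙 U))
  refine huniq _ (coneOfFunctor G) (coneOfHom ((Stk.resSieve R 𝒳).map α)) _ _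
    (BasedNatTrans.isHomLift α rfl) (BasedNatTrans.isHomLift β rfl) ?_ ?_
  · intro a
    exact α.toNatTrans.naturality (toT a.obj)
  · intro a
    have h1 : ((Stk.resSieve R 𝒳).map α).toNatTrans.app a = β.toNatTrans.app a.obj :=
      congrArg (fun t => t.toNatTrans.app a) hαβ
    change G.map (toT a.obj) ≫ β.toNatTrans.app (Over.mk (𝟙 U)) =
      ((Stk.resSieve R 𝒳).map α).toNatTrans.app a ≫ H.map (toT a.obj)
    rw [h1]
    exact β.toNatTrans.naturality (toT a.obj)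

theorem full_of_cones (h𝒳 : IsFibGrpd 𝒳.p)
    (hex : ∀ (D : Stk.sieveCat R ⥤ᵇ 𝒳) (c c' : Cone D),
      ∃ φ : c.pt ⟶ c'.pt, 𝒳.p.IsHomLift (𝟙 U) φ ∧ ∀ a, c.π a ≫ φ = c'.π a) :
    (Stk.resSieve R 𝒳).Full := by
  constructor
  intro G H γ
  have hev := Groth.Agent.Lib.Helper86.TwoYoneda.evalAtId_isEquivalence_of_isFibGrpd (U := U) h𝒳
  obtain ⟨φ, hφ, hφc⟩ := hex _ (coneOfFunctor G) (coneOfHom γ)
  obtain ⟨α, hα⟩ := (FibCat.evalAtId 𝒳 U).map_surjective (X := G) (Y := H) ⟨φ, hφ⟩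
  have hα' : α.toNatTrans.app (Over.mk (𝟙 U)) = φ := congrArg Subtype.val hα
  refine ⟨α, ?_⟩
  apply BasedNatTrans.homCategory.ext
  ext a
  change α.toNatTrans.app a.obj = γ.toNatTrans.app a
  have l1 : 𝒳.p.IsHomLift (𝟙 a.obj.left) (α.toNatTrans.app a.obj) := BasedNatTrans.isHomLift α rfl
  have l2 : 𝒳.p.IsHomLift (𝟙 a.obj.left) (γ.toNatTrans.app a) := BasedNatTrans.isHomLift γ rfl
  have l3 : 𝒳.p.IsHomLift a.obj.hom (H.map (toT a.obj)) := map_isHomLift H _ _ (toT_lift a.obj)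
  refine eq_of_comp_eq h𝒳 (𝟙 _) a.obj.hom (H.map (toT a.obj)) l3 _ _ l1 l2 ?_
  have n := α.toNatTrans.naturality (toT a.obj)
  rw [← n, hα']
  exact hφc a

/-- The stack condition along a sieve, in terms of cones. -/
theorem isStackFor_iff_cones (h𝒳 : IsFibGrpd 𝒳.p) :
    Stk.IsStackFor R 𝒳 ↔ (∀ D : Stk.sieveCat R ⥤ᵇ 𝒳, Nonempty (Cone D)) ∧
      (∀ (D : Stk.sieveCat R ⥤ᵇ 𝒳) (c c' : Cone D),
        ∃! φ : c.pt ⟶ c'.pt, 𝒳.p.IsHomLift (𝟙 U) φ ∧ ∀ a, c.π a ≫ φ = c'.π a) := by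
  constructor
  · intro h
    have h' : (Stk.resSieve R 𝒳).IsEquivalence := h
    refine ⟨cones_of_essSurj inferInstance, ?_⟩
    intro D c c'
    obtain ⟨φ, hφ, hφc⟩ := cone_hom_exists h𝒳 inferInstance c c'
    refine ⟨φ, ⟨hφ, hφc⟩, ?_⟩
    rintro φ' ⟨hφ', hφc'⟩
    exact cone_hom_unique h𝒳 inferInstance c c' φ' φ hφ' hφ hφc' hφc
  · rintro ⟨h1, h2⟩
    have hes := essSurj_of_cones h𝒳 h1
    have hfull : (Stk.resSieve R 𝒳).Full := full_of_cones h𝒳 (fun D c c' => by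
      obtain ⟨φ, hφ, -⟩ := h2 D c c'
      exact ⟨φ, hφ⟩)
    have hfaith : (Stk.resSieve R 𝒳).Faithful := faithful_of_cones h𝒳 (fun D c c' φ₁ φ₂ l₁ l₂ e₁ e₂ => by
      obtain ⟨φ, -, hu⟩ := h2 D c c'
      rw [hu φ₁ ⟨l₁, e₁⟩, hu φ₂ ⟨l₂, e₂⟩])
    exact { faithful := hfaith, full := hfull, essSurj := hes }


end Groth.Agent.Lib.Helper62.StkCone
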