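import Groth.Agent.Lib.Helper62.StkGlue
import Groth.Agent.Lib.Helper62.StkLocTriv

/-!
# The refinement lemma for the stack condition along sieves (helper62)
-/

set_option autoImplicit false
set_option backward.isDefEq.respectTransparency false
set_option backward.isDefEq.respectTransparency.types false
universe v₂ u₂ v u
open CategoryTheory CategoryTheory.Functor FibCat

namespace Groth.Agent.Lib.Helper62.StkRefine

open Groth.Agent.Lib.Helper17 Groth.Agent.Lib.Helper17.FG Groth.Agent.Lib.Helper62.StkFF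
open Groth.Agent.Lib.Helper62.StkGlue

variable {C : Type u} [Category.{v} C] {𝒳 : BasedCategory.{v₂, u₂} C}
variable {U : C} {S R : Sieve U}

/-- the inclusion of a smaller sieve into a bigger one, over `C` -/
def inclLE (hSR : S ≤ R) : Stk.sieveCat S ⥤ᵇ Stk.sieveCat R where
  toFunctor := ObjectProperty.ιOfLE (fun a ha => hSR _ ha)
  w := rfl

/-- composition with an arrow of the sieve: `C/V ⟶ R` -/
def mu (a : (Stk.sieveCat R).obj) : overCat a.obj.left ⥤ᵇ Stk.sieveCat R where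
  toFunctor := ObjectProperty.lift _ (Over.map a.obj.hom)
    (fun b => R.downward_closed a.property b.hom)
  w := rfl

/-- composition with an arrow, on the pulled back sieve -/
def nu (S : Sieve U) (a : (Stk.sieveCat R).obj) :
    Stk.sieveCat (S.pullback a.obj.hom) ⥤ᵇ Stk.sieveCat S where
  toFunctor := ObjectProperty.lift _ (ObjectProperty.ι _ ⋙ Over.map a.obj.hom) (fun c => c.property)
  w := rfl

theorem square (hSR : S ≤ R) (a : (Stk.sieveCat R).obj) :
    BasedFunctor.comp (Stk.sieveIncl (S.pullback a.obj.hom)) (mu a) =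
      BasedFunctor.comp (nu S a) (inclLE hSR) := rfl

/-- the canonical isomorphism `(𝟙 ≫ f) ≅ f` in the sieve -/
def jIso (a : (Stk.sieveCat R).obj) : (mu a).obj (Over.mk (𝟙 a.obj.left)) ≅ a :=
  ObjectProperty.isoMk _ (Over.isoMk (Iso.refl _) (by simp [mu]))

theorem restr_inclLE_faithful (hSR : S ≤ R)
    (hR : ∀ ⦃V : C⦄ (f : V ⟶ U), R f → (Stk.resSieve (S.pullback f) 𝒳).Faithful) :
    (Stk.restr (inclLE hSR) 𝒳).Faithful := by
  constructor
  intro G H α β h
  apply BasedNatTrans.homCategory.ext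
  ext a
  have := hR a.obj.hom a.property
  have h1 : BasedCategory.whiskerLeft (mu a) α = BasedCategory.whiskerLeft (mu a) β := by
    apply (Stk.resSieve (S.pullback a.obj.hom) 𝒳).map_injective
    apply BasedNatTrans.homCategory.ext
    ext c
    exact congrArg (fun t => t.toNatTrans.app ((nu S a).obj c)) h
  have h2 : α.toNatTrans.app ((mu a).obj (Over.mk (𝟙 a.obj.left))) =
      β.toNatTrans.app ((mu a).obj (Over.mk (𝟙 a.obj.left))) :=
    congrArg (fun t => t.toNatTrans.app (Over.mk (𝟙 a.obj.left))) h1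
  have n1 := α.toNatTrans.naturality (jIso a).hom
  have n2 := β.toNatTrans.naturality (jIso a).hom
  have hiso : IsIso (G.toFunctor.map (jIso a).hom) := inferInstance
  rw [← cancel_epi (G.toFunctor.map (jIso a).hom), n1, n2, h2]


section Full

variable {𝒵 : BasedCategory.{v, max u v} C}

open Groth.Agent.Lib.Helper62.StkLocTriv

theorem jIso_inv_lift (a : (Stk.sieveCat R).obj) :
    (Stk.sieveCat R).p.IsHomLift (𝟙 a.obj.left) (jIso a).inv :=
  hl_of_eq (p := (Stk.sieveCat R).p) (a := a) (b := (mu a).obj (Over.mk (𝟙 a.obj.left)))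
    (f := 𝟙 a.obj.left) (φ := (jIso a).inv) rfl

theorem jIso_hom_lift (a : (Stk.sieveCat R).obj) :
    (Stk.sieveCat R).p.IsHomLift (𝟙 a.obj.left) (jIso a).hom :=
  hl_of_eq (p := (Stk.sieveCat R).p) (b := a) (a := (mu a).obj (Over.mk (𝟙 a.obj.left)))
    (f := 𝟙 a.obj.left) (φ := (jIso a).hom) rfl

/-- the arrow of the big sieve attached to an arrow of the pulled back sieve -/
def kOf (hSR : S ≤ R) (a : (Stk.sieveCat R).obj) {V : C} (g : V ⟶ a.obj.left)
    (hg : S (g ≫ a.obj.hom)) :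
    (inclLE hSR).obj (⟨Over.mk (g ≫ a.obj.hom), hg⟩ : (Stk.sieveCat S).obj) ⟶ a :=
  ObjectProperty.homMk (Over.homMk g rfl)

theorem kOf_lift (hSR : S ≤ R) (a : (Stk.sieveCat R).obj) {V : C} (g : V ⟶ a.obj.left)
    (hg : S (g ≫ a.obj.hom)) : (Stk.sieveCat R).p.IsHomLift g (kOf hSR a g hg) :=
  hl_of_eq (p := (Stk.sieveCat R).p)
    (a := (inclLE hSR).obj (⟨Over.mk (g ≫ a.obj.hom), hg⟩ : (Stk.sieveCat S).obj)) (b := a)
    (f := g) (φ := kOf hSR a g hg) rfl

/-- uniqueness of a morphism over the identity determined on the smaller sieve -/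
theorem star_unique (h𝒵 : IsFibGrpd 𝒵.p) (hSR : S ≤ R) (a : (Stk.sieveCat R).obj)
    (hfa : (Stk.resSieve (S.pullback a.obj.hom) 𝒵).Faithful) (G H : Stk.sieveCat R ⥤ᵇ 𝒵)
    (δ δ' : G.obj a ⟶ H.obj a) (hδ : 𝒵.p.IsHomLift (𝟙 a.obj.left) δ)
    (hδ' : 𝒵.p.IsHomLift (𝟙 a.obj.left) δ')
    (h : ∀ (c : (Stk.sieveCat S).obj) (k : (inclLE hSR).obj c ⟶ a), G.map k ≫ δ = G.map k ≫ δ') :
    δ = δ' := by
  have hi : IsIso δ' := isIso_of_lift_id h𝒵 δ' hδ'
  have hinv : 𝒵.p.IsHomLift (𝟙 a.obj.left) (inv δ') :=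
    IsHomLift.lift_id_inv_isIso (p := 𝒵.p) a.obj.left δ'
  have hθ : 𝒵.p.IsHomLift (𝟙 a.obj.left) (δ ≫ inv δ') := inferInstance
  have key : δ ≫ inv δ' = 𝟙 _ := by
    refine eq_id_of_locally h𝒵 (G.obj a) (G.w_obj a) (S.pullback a.obj.hom) hfa _ hθ ?_
    intro V g hg s l hl
    have hk : 𝒵.p.IsHomLift g (G.map (kOf hSR a g hg)) :=
      map_isHomLift G g _ (kOf_lift hSR a g hg)
    obtain ⟨τ, -, hτ⟩ := exists_iso_of_lifts h𝒵 g l hl (G.map (kOf hSR a g hg)) hk
    rw [← hτ]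
    simp only [Category.assoc]
    rw [← Category.assoc (G.map (kOf hSR a g hg)), h _ (kOf hSR a g hg)]
    simp
  have : δ = (δ ≫ inv δ') ≫ δ' := by simp
  rw [this, key, Category.id_comp]

/-- existence of a morphism over the identity with prescribed restrictions to the smaller sieve -/
theorem star_exists (hSR : S ≤ R) (a : (Stk.sieveCat R).obj)
    (hfull : (Stk.resSieve (S.pullback a.obj.hom) 𝒵).Full) (G H : Stk.sieveCat R ⥤ᵇ 𝒵)
    (γ : (Stk.restr (inclLE hSR) 𝒵).obj G ⟶ (Stk.restr (inclLE hSR) 𝒵).obj H) :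
    ∃ αa : G.obj a ⟶ H.obj a, 𝒵.p.IsHomLift (𝟙 a.obj.left) αa ∧
      ∀ (c : (Stk.sieveCat S).obj) (k : (inclLE hSR).obj c ⟶ a),
        G.map k ≫ αa = γ.toNatTrans.app c ≫ H.map k := by
  let γa : (Stk.resSieve (S.pullback a.obj.hom) 𝒵).obj (BasedFunctor.comp (mu a) G) ⟶
      (Stk.resSieve (S.pullback a.obj.hom) 𝒵).obj (BasedFunctor.comp (mu a) H) :=
    BasedCategory.whiskerLeft (nu S a) γ
  obtain ⟨αA, hαA⟩ := (Stk.resSieve (S.pullback a.obj.hom) 𝒵).map_surjective γa
  let T : Over a.obj.left := Over.mk (𝟙 a.obj.left)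
  refine ⟨G.map (jIso a).inv ≫ αA.toNatTrans.app T ≫ H.map (jIso a).hom, ?_, ?_⟩
  · have l1 : 𝒵.p.IsHomLift (𝟙 a.obj.left) (G.map (jIso a).inv) :=
      map_isHomLift G _ _ (jIso_inv_lift a)
    have l2 : 𝒵.p.IsHomLift (𝟙 a.obj.left) (H.map (jIso a).hom) :=
      map_isHomLift H _ _ (jIso_hom_lift a)
    have l3 : 𝒵.p.IsHomLift (𝟙 a.obj.left) (αA.toNatTrans.app T) :=
      BasedNatTrans.isHomLift αA rfl
    have l4 : 𝒵.p.IsHomLift (𝟙 a.obj.left) (αA.toNatTrans.app T ≫ H.map (jIso a).hom) :=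
      inferInstance
    infer_instance
  · intro c k
    let g : c.obj.left ⟶ a.obj.left := k.hom.left
    have hg : g ≫ a.obj.hom = c.obj.hom := Over.w k.hom
    let b : Over a.obj.left := Over.mk g
    let c' : (Stk.sieveCat (S.pullback a.obj.hom)).obj :=
      ⟨b, by show S (g ≫ a.obj.hom); rw [hg]; exact c.property⟩
    let i' : c ≅ (nu S a).obj c' :=
      ObjectProperty.isoMk _ (Over.isoMk (Iso.refl _) (by
        rw [Iso.refl_hom, Category.id_comp]; exact hg))
    let tb : b ⟶ T := Over.homMk g (by simp [T, b])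
    have hk : k = (inclLE hSR).map i'.hom ≫ (mu a).map tb ≫ (jIso a).hom := by
      apply ObjectProperty.hom_ext
      apply Over.OverMorphism.ext
      change g = 𝟙 _ ≫ g ≫ 𝟙 _
      simp
    have nA : G.map ((mu a).map tb) ≫ αA.toNatTrans.app T =
        αA.toNatTrans.app b ≫ H.map ((mu a).map tb) := αA.toNatTrans.naturality tb
    have hAb : αA.toNatTrans.app b = γ.toNatTrans.app ((nu S a).obj c') :=
      congrArg (fun t => t.toNatTrans.app c') hαA
    have nγ : G.map ((inclLE hSR).map i'.hom) ≫ γ.toNatTrans.app ((nu S a).obj c') =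
        γ.toNatTrans.app c ≫ H.map ((inclLE hSR).map i'.hom) := γ.toNatTrans.naturality i'.hom
    have e1 : G.map k ≫ G.map (jIso a).inv =
        G.map ((inclLE hSR).map i'.hom) ≫ G.map ((mu a).map tb) := by
      rw [hk]
      simp only [Functor.map_comp, Category.assoc, Iso.map_hom_inv_id, Category.comp_id]
    have e2 : H.map k = H.map ((inclLE hSR).map i'.hom) ≫ H.map ((mu a).map tb) ≫
        H.map (jIso a).hom := by
      rw [hk]
      simp only [Functor.map_comp]
    calc G.map k ≫ G.map (jIso a).inv ≫ αA.toNatTrans.app T ≫ H.map (jIso a).hom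
        = (G.map k ≫ G.map (jIso a).inv) ≫ αA.toNatTrans.app T ≫ H.map (jIso a).hom := by
          simp only [Category.assoc]
      _ = G.map ((inclLE hSR).map i'.hom) ≫ (G.map ((mu a).map tb) ≫ αA.toNatTrans.app T) ≫
            H.map (jIso a).hom := by
          rw [e1]; simp only [Category.assoc]
      _ = (G.map ((inclLE hSR).map i'.hom) ≫ γ.toNatTrans.app ((nu S a).obj c')) ≫
            H.map ((mu a).map tb) ≫ H.map (jIso a).hom := by
          rw [nA, hAb]; simp only [Category.assoc]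
      _ = γ.toNatTrans.app c ≫ H.map k := by
          rw [nγ, e2]; simp only [Category.assoc]

theorem restr_inclLE_full (h𝒵 : IsFibGrpd 𝒵.p) (hSR : S ≤ R)
    (hR : ∀ ⦃V : C⦄ (f : V ⟶ U), R f → Stk.IsPrestackFor (S.pullback f) 𝒵) :
    (Stk.restr (inclLE hSR) 𝒵).Full := by
  constructor
  intro G H γ
  have hex := fun a : (Stk.sieveCat R).obj =>
    star_exists hSR a (hR a.obj.hom a.property).1 G H γ
  choose α hαl hαs using hex
  have hnat : ∀ {a' a : (Stk.sieveCat R).obj} (k₀ : a' ⟶ a),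
      G.map k₀ ≫ α a = α a' ≫ H.map k₀ := by
    intro a' a k₀
    have lk : (Stk.sieveCat R).p.IsHomLift k₀.hom.left k₀ :=
      hl_of_eq (p := (Stk.sieveCat R).p) (a := a') (b := a) (f := k₀.hom.left) (φ := k₀) rfl
    have lH : 𝒵.p.IsHomLift k₀.hom.left (H.map k₀) := map_isHomLift H _ _ lk
    have lG : 𝒵.p.IsHomLift k₀.hom.left (G.map k₀) := map_isHomLift G _ _ lk
    have := hαl a
    have lGα : 𝒵.p.IsHomLift k₀.hom.left (G.map k₀ ≫ α a) := inferInstance
    obtain ⟨δ, hδ1, hδ2, -⟩ := exists_factor h𝒵 k₀.hom.left (H.map k₀) lH (G.map k₀ ≫ α a) lGα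
    have hδα : δ = α a' := by
      refine star_unique h𝒵 hSR a' (hR a'.obj.hom a'.property).2 G H δ (α a') hδ1 (hαl a') ?_
      intro c k
      rw [hαs a' c k]
      have lk' : (Stk.sieveCat R).p.IsHomLift k.hom.left k :=
        hl_of_eq (p := (Stk.sieveCat R).p) (a := (inclLE hSR).obj c) (b := a') (f := k.hom.left)
          (φ := k) rfl
      have lGk : 𝒵.p.IsHomLift k.hom.left (G.map k) := map_isHomLift G _ _ lk'
      have lHk : 𝒵.p.IsHomLift k.hom.left (H.map k) := map_isHomLift H _ _ lk'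
      have lγ : 𝒵.p.IsHomLift (𝟙 ((inclLE hSR).obj c).obj.left) (γ.toNatTrans.app c) :=
        BasedNatTrans.isHomLift γ rfl
      have m1 : 𝒵.p.IsHomLift k.hom.left (G.map k ≫ δ) := inferInstance
      have m2 : 𝒵.p.IsHomLift k.hom.left (γ.toNatTrans.app c ≫ H.map k) := inferInstance
      refine eq_of_comp_eq h𝒵 k.hom.left k₀.hom.left (H.map k₀) lH _ _ m1 m2 ?_
      rw [Category.assoc, hδ2, ← Category.assoc, ← Functor.map_comp, hαs a c (k ≫ k₀),
        Functor.map_comp, Category.assoc]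
    rw [← hδ2, hδα]
  refine ⟨{ toNatTrans := { app := α, naturality := fun a' a k₀ => hnat k₀ }, isHomLift' := hαl }, ?_⟩
  apply BasedNatTrans.homCategory.ext
  ext c
  have h1 := hαs ((inclLE hSR).obj c) c (𝟙 _)
  have e1 : G.map (𝟙 ((inclLE hSR).obj c)) = 𝟙 _ := G.toFunctor.map_id _
  have e2 : H.map (𝟙 ((inclLE hSR).obj c)) = 𝟙 _ := H.toFunctor.map_id _
  rw [e1, e2] at h1
  exact (Category.id_comp _).symm.trans (h1.trans (Category.comp_id _))

/-- The refinement lemma (S12815). -/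
theorem isStackFor_of_le (h𝒵 : IsFibGrpd 𝒵.p) (hSR : S ≤ R) (hS : Stk.IsStackFor S 𝒵)
    (hR : ∀ ⦃V : C⦄ (f : V ⟶ U), R f → Stk.IsPrestackFor (S.pullback f) 𝒵) :
    Stk.IsStackFor R 𝒵 := by
  have hS' : (Stk.resSieve S 𝒵).IsEquivalence := hS
  have hfull := restr_inclLE_full h𝒵 hSR hR
  have hfaith := restr_inclLE_faithful (𝒳 := 𝒵) hSR (fun V f hf => (hR f hf).2)
  have e : Stk.resSieve R 𝒵 ⋙ Stk.restr (inclLE hSR) 𝒵 ≅ Stk.resSieve S 𝒵 :=
    NatIso.ofComponents (fun G => Iso.refl _) (by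
      intro G H α
      apply BasedNatTrans.homCategory.ext
      ext c
      simp
      rfl)
  have hcomp : (Stk.resSieve R 𝒵 ⋙ Stk.restr (inclLE hSR) 𝒵).IsEquivalence :=
    Functor.isEquivalence_of_iso e.symm
  have hes : (Stk.restr (inclLE hSR) 𝒵).EssSurj := by
    constructor
    intro D
    obtain ⟨G, ⟨i⟩⟩ := (inferInstance : (Stk.resSieve S 𝒵).EssSurj).mem_essImage D
    exact ⟨(Stk.resSieve R 𝒵).obj G, ⟨i⟩⟩
  have hΦ : (Stk.restr (inclLE hSR) 𝒵).IsEquivalence :=
    { faithful := hfaith, full := hfull, essSurj := hes }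
  exact Functor.isEquivalence_of_comp_right (Stk.resSieve R 𝒵) (Stk.restr (inclLE hSR) 𝒵)

end Full

end Groth.Agent.Lib.Helper62.StkRefine
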