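import Groth.Agent.Lib.Helper22.WayOut
import Groth.Prelude.Def_WeakSerre

/-!
Way-out dévissage for an adjunction `L.mapDerivedCategory ⊣ R` where `L` is an exact functor:
equivalence between bounded below derived categories with cohomology in weak Serre subcategories.
-/

set_option autoImplicit false
universe w w' v v' u u'

open CategoryTheory CategoryTheory.Limits CategoryTheory.Pretriangulated DerivedCategory

namespace Groth.Agent.Lib.Helper62.WSE

section Exact

variable {𝒜 : Type u} [Category.{v} 𝒜] [Abelian 𝒜] [HasDerivedCategory.{w} 𝒜]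
  {ℬ : Type u'} [Category.{v'} ℬ] [Abelian ℬ] [HasDerivedCategory.{w'} ℬ]
  (L : 𝒜 ⥤ ℬ) [L.Additive] [PreservesFiniteLimits L] [PreservesFiniteColimits L]

/-- The cohomology of the image of a complex under an exact functor. -/
noncomputable def homologyMapIso (K : CochainComplex 𝒜 ℤ) (i : ℤ) :
    ((L.mapHomologicalComplex (ComplexShape.up ℤ)).obj K).homology i ≅ L.obj (K.homology i) :=
  (K.sc i).mapHomologyIso L

/-- An exact functor commutes with the cohomology functors of the derived categories. -/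
noncomputable def mapDerivedCategoryHomologyIso (Y : DerivedCategory 𝒜) (i : ℤ) :
    (homologyFunctor ℬ i).obj (L.mapDerivedCategory.obj Y) ≅
      L.obj ((homologyFunctor 𝒜 i).obj Y) :=
  (homologyFunctor ℬ i).mapIso (L.mapDerivedCategory.mapIso (Q.objObjPreimageIso Y).symm) ≪≫
    (homologyFunctor ℬ i).mapIso (L.mapDerivedCategoryFactors.app (Q.objPreimage Y)) ≪≫
    (homologyFunctorFactors ℬ i).app _ ≪≫ homologyMapIso L (Q.objPreimage Y) i ≪≫
    L.mapIso ((homologyFunctorFactors 𝒜 i).app (Q.objPreimage Y)).symm ≪≫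
    L.mapIso ((homologyFunctor 𝒜 i).mapIso (Q.objObjPreimageIso Y))

lemma isGE_mapDerivedCategory (Y : DerivedCategory 𝒜) (a : ℤ) [Y.IsGE a] :
    (L.mapDerivedCategory.obj Y).IsGE a := by
  rw [isGE_iff]
  intro i hi
  exact (L.map_isZero (isZero_of_isGE Y a i hi)).of_iso (mapDerivedCategoryHomologyIso L Y i)

lemma isLE_mapDerivedCategory (Y : DerivedCategory 𝒜) (a : ℤ) [Y.IsLE a] :
    (L.mapDerivedCategory.obj Y).IsLE a := by
  rw [isLE_iff]
  intro i hi
  exact (L.map_isZero (isZero_of_isLE Y a i hi)).of_iso (mapDerivedCategoryHomologyIso L Y i)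

end Exact

section FiveTerm

variable {C : Type u} [Category.{v} C] [Abelian C] (P : ObjectProperty C) [WSerre.IsWeakSerre P]

/-- In an exact sequence `X₁ ⟶ X₂ ⟶ X₃ ⟶ X₄ ⟶ X₅` whose four outer terms lie in a weak Serre
subcategory, the middle term lies in it. -/
lemma prop_of_exact₅ {X₁ X₂ X₃ X₄ X₅ : C} (f₁ : X₁ ⟶ X₂) (f₂ : X₂ ⟶ X₃) (f₃ : X₃ ⟶ X₄)
    (f₄ : X₄ ⟶ X₅) (w₁₂ : f₁ ≫ f₂ = 0) (w₂₃ : f₂ ≫ f₃ = 0) (w₃₄ : f₃ ≫ f₄ = 0)
    (h₂ : (ShortComplex.mk f₁ f₂ w₁₂).Exact) (h₃ : (ShortComplex.mk f₂ f₃ w₂₃).Exact)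
    (h₄ : (ShortComplex.mk f₃ f₄ w₃₄).Exact) (p₁ : P X₁) (p₂ : P X₂) (p₄ : P X₄) (p₅ : P X₅) :
    P X₃ := by
  have hK₄ : P (kernel f₄) := P.prop_kernel f₄ p₄ p₅
  -- `kernel f₃` is a cokernel of `f₁`
  let S₁ : ShortComplex C := ShortComplex.mk f₁ (kernel.lift f₃ f₂ w₂₃) (by ext; simp [w₁₂])
  have hS₁ : S₁.Exact := by
    let φ : S₁ ⟶ ShortComplex.mk f₁ f₂ w₁₂ :=
      { τ₁ := 𝟙 _, τ₂ := 𝟙 _, τ₃ := kernel.ι f₃, comm₁₂ := by simp [S₁], comm₂₃ := by simp [S₁] }
    have : Epi φ.τ₁ := by dsimp [φ]; infer_instance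
    have : IsIso φ.τ₂ := by dsimp [φ]; infer_instance
    have : Mono φ.τ₃ := by dsimp [φ]; infer_instance
    exact (ShortComplex.exact_iff_of_epi_of_isIso_of_mono φ).2 h₂
  have hepi₁ : Epi S₁.g := h₃.epi_kernelLift
  have hK₃ : P (kernel f₃) := P.prop_of_isColimit_cokernelCofork hS₁.gIsCokernel p₁ p₂
  let S₂ : ShortComplex C :=
    ShortComplex.mk (kernel.ι f₃) (kernel.lift f₄ f₃ w₃₄) (by ext; simp)
  have hS₂ : S₂.ShortExact :=
    { exact := by
        let φ : S₂ ⟶ ShortComplex.mk (kernel.ι f₃) f₃ (kernel.condition f₃) :=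
          { τ₁ := 𝟙 _, τ₂ := 𝟙 _, τ₃ := kernel.ι f₄, comm₁₂ := by simp [S₂],
            comm₂₃ := by simp [S₂] }
        have : Epi φ.τ₁ := by dsimp [φ]; infer_instance
        have : IsIso φ.τ₂ := by dsimp [φ]; infer_instance
        have : Mono φ.τ₃ := by dsimp [φ]; infer_instance
        exact (ShortComplex.exact_iff_of_epi_of_isIso_of_mono φ).2
          (ShortComplex.exact_of_f_is_kernel _ (kernelIsKernel f₃))
      mono_f := by dsimp [S₂]; infer_instance
      epi_g := h₄.epi_kernelLift }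
  exact P.prop_X₂_of_shortExact hS₂ hK₃ hK₄

variable [HasDerivedCategory.{w} C]

/-- In a distinguished triangle of `D(C)`, if the first and third vertices have cohomology in a
weak Serre subcategory, so does the second. -/
lemma cohIn_obj₂ (T : Triangle (DerivedCategory C)) (hT : T ∈ distTriang _)
    (h₁ : WSerre.cohIn P T.obj₁) (h₃ : WSerre.cohIn P T.obj₃) : WSerre.cohIn P T.obj₂ := by
  intro i
  exact prop_of_exact₅ P _ _ _ _ _ _ _
    (HomologySequence.exact₁ T hT (i - 1) i (by omega)) (HomologySequence.exact₂ T hT i)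
    (HomologySequence.exact₃ T hT i (i + 1) rfl) (h₃ (i - 1)) (h₁ i) (h₃ i) (h₁ (i + 1))

end FiveTerm

section Adj

variable {𝒜 : Type u} [Category.{v} 𝒜] [Abelian 𝒜] [HasDerivedCategory.{w} 𝒜]
  {ℬ : Type u'} [Category.{v'} ℬ] [Abelian ℬ] [HasDerivedCategory.{w'} ℬ]
  {L : 𝒜 ⥤ ℬ} [L.Additive] [PreservesFiniteLimits L] [PreservesFiniteColimits L]
  {R : DerivedCategory ℬ ⥤ DerivedCategory 𝒜} (adj : L.mapDerivedCategory ⊣ R)

include adj in
/-- The right adjoint of the functor induced by an exact functor is left t-exact. -/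
lemma isGE_rightAdjoint (X : DerivedCategory ℬ) (a : ℤ) [X.IsGE a] : (R.obj X).IsGE a := by
  change TStructure.t.IsGE (R.obj X) a
  rw [TStructure.t.isGE_iff_orthogonal (a - 1) a (by omega)]
  intro Y f hY
  have : (L.mapDerivedCategory.obj Y).IsLE (a - 1) := isLE_mapDerivedCategory L Y (a - 1)
  have h0 : (adj.homEquiv Y X).symm f = 0 := TStructure.t.zero _ (a - 1) a (by omega)
  have := congrArg (adj.homEquiv Y X) h0
  simpa using this

end Adj

section CohIn

variable {C : Type u} [Category.{v} C] [Abelian C] [HasDerivedCategory.{w} C]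
  (P : ObjectProperty C) [WSerre.IsWeakSerre P]

lemma cohIn_of_iso {X Y : DerivedCategory C} (e : X ≅ Y) (h : WSerre.cohIn P X) :
    WSerre.cohIn P Y :=
  fun i => P.prop_of_iso ((homologyFunctor C i).mapIso e) (h i)

lemma cohIn_of_isZero {X : DerivedCategory C} (hX : IsZero X) : WSerre.cohIn P X :=
  fun i => P.prop_of_isZero ((homologyFunctor C i).map_isZero hX)

lemma cohIn_single (F : C) (hF : P F) (b : ℤ) :
    WSerre.cohIn P ((DerivedCategory.singleFunctor C b).obj F) := by
  intro i
  by_cases hi : i = b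
  · subst hi
    exact P.prop_of_iso ((singleFunctorCompHomologyFunctorIso C i).app F).symm hF
  · refine P.prop_of_isZero ?_
    rcases lt_or_gt_of_ne hi with h | h
    · exact isZero_of_isGE _ b i h
    · exact isZero_of_isLE _ b i h

end CohIn

section Main

variable {𝒜 : Type u} [Category.{v} 𝒜] [Abelian 𝒜] [HasDerivedCategory.{w} 𝒜]
  {ℬ : Type u'} [Category.{v'} ℬ] [Abelian ℬ] [HasDerivedCategory.{w'} ℬ]
  {L : 𝒜 ⥤ ℬ} [L.Additive] [PreservesFiniteLimits L] [PreservesFiniteColimits L]
  {R : DerivedCategory ℬ ⥤ DerivedCategory 𝒜} (adj : L.mapDerivedCategory ⊣ R)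
  [R.CommShift ℤ] [adj.CommShift ℤ] [R.IsTriangulated]
  (A : ObjectProperty ℬ) [WSerre.IsWeakSerre A] (A' : ObjectProperty 𝒜) [WSerre.IsWeakSerre A']
  (h2a : ∀ F' : 𝒜, A' F' → A (L.obj F'))
  (h2c : ∀ F : ℬ, A F → ∃ F' : 𝒜, A' F' ∧ Nonempty (L.obj F' ≅ F))
  (h3 : ∀ F' : 𝒜, A' F' → IsIso (adj.unit.app ((DerivedCategory.singleFunctor 𝒜 0).obj F')))

include h2a in
omit [R.CommShift ℤ] [adj.CommShift ℤ] [R.IsTriangulated] [WSerre.IsWeakSerre A'] adj in
lemma cohIn_mapDerivedCategory (Y : DerivedCategory 𝒜) (hY : WSerre.cohIn A' Y) :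
    WSerre.cohIn A (L.mapDerivedCategory.obj Y) :=
  fun i => A.prop_of_iso (mapDerivedCategoryHomologyIso L Y i).symm (h2a _ (hY i))

include h3 in
omit [WSerre.IsWeakSerre A] in
/-- The unit is an isomorphism on bounded below objects with cohomology in `A'`. -/
lemma isIso_unit (Y : DerivedCategory 𝒜) (a : ℤ) [Y.IsGE a] (hY : WSerre.cohIn A' Y) :
    IsIso (adj.unit.app Y) :=
  Groth.Agent.Lib.Helper22.wayOut_right A' adj.unit h3 (fun Z hZ => A'.prop_of_isZero hZ)
    (fun n => ⟨n, fun Y hY => hY⟩)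
    (fun n => ⟨n, fun Y hY => by
      have := hY
      have := isGE_mapDerivedCategory L Y n
      exact isGE_rightAdjoint adj _ n⟩) Y a hY

include h3 h2c in
omit [WSerre.IsWeakSerre A] in
/-- `R` of an object of `A` placed in a single degree has cohomology in `A'`, and the counit is
an isomorphism there. -/
lemma single_case (F : ℬ) (hF : A F) (b : ℤ) :
    WSerre.cohIn A' (R.obj ((DerivedCategory.singleFunctor ℬ b).obj F)) ∧
      IsIso (adj.counit.app ((DerivedCategory.singleFunctor ℬ b).obj F)) := by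
  obtain ⟨F', hF', ⟨e⟩⟩ := h2c F hF
  let X' := (DerivedCategory.singleFunctor 𝒜 b).obj F'
  let e₁ : L.mapDerivedCategory.obj X' ≅ (DerivedCategory.singleFunctor ℬ b).obj F :=
    (L.mapDerivedCategorySingleFunctor b).app F' ≪≫ (DerivedCategory.singleFunctor ℬ b).mapIso e
  have hu : IsIso (adj.unit.app X') :=
    Groth.Agent.Lib.Helper22.isIso_app_single A' adj.unit h3 F' hF' b
  constructor
  · exact cohIn_of_iso A' ((asIso (adj.unit.app X')) ≪≫ R.mapIso e₁) (cohIn_single A' F' hF' b)
  · have h1 : IsIso (L.mapDerivedCategory.map (adj.unit.app X')) := inferInstance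
    have h2 : adj.counit.app (L.mapDerivedCategory.obj X') =
        inv (L.mapDerivedCategory.map (adj.unit.app X')) :=
      IsIso.eq_inv_of_hom_inv_id (adj.left_triangle_components X')
    have h3' : IsIso (adj.counit.app (L.mapDerivedCategory.obj X')) := by
      rw [h2]; infer_instance
    exact Groth.Agent.Lib.Helper22.isIso_app_of_iso adj.counit e₁ h3'

include h3 h2c in
omit [WSerre.IsWeakSerre A] in
/-- Bounded objects with cohomology in `A` are sent by `R` to objects with cohomology in `A'`. -/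
lemma cohIn_rightAdjoint_bounded [A.IsClosedUnderIsomorphisms] [A.ContainsZero] (n : ℕ) :
    ∀ (a b : ℤ) (_ : b < a + n) (X : DerivedCategory ℬ) [X.IsGE a] [X.IsLE b]
      (_ : WSerre.cohIn A X), WSerre.cohIn A' (R.obj X) := by
  induction n with
  | zero =>
    intro a b hab X _ _ _
    exact cohIn_of_isZero A' (R.map_isZero (TStructure.t.isZero X b a (by lia)))
  | succ n ih =>
    intro a b hab X _ _ hX
    have hT := TStructure.t.triangleLTGE_distinguished b X
    have h1 : WSerre.cohIn A' (R.obj ((TStructure.t.truncLT b).obj X)) := by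
      have : ((TStructure.t.truncLT b).obj X).IsLE (b - 1) := inferInstance
      have : ((TStructure.t.truncLT b).obj X).IsGE a := inferInstance
      refine ih a (b - 1) (by lia) _ (fun i => ?_)
      by_cases hi : i < b
      · have := Groth.Agent.Lib.Helper22.isIso_homologyMap_truncLTι X b i hi
        exact A.prop_of_iso (asIso ((homologyFunctor ℬ i).map
          ((TStructure.t.truncLTι b).app X))).symm (hX i)
      · exact A.prop_of_isZero
          (isZero_of_isLE ((TStructure.t.truncLT b).obj X) (b - 1) i (by lia))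
    have h3' : WSerre.cohIn A' (R.obj ((TStructure.t.truncGE b).obj X)) := by
      have : ((TStructure.t.truncGE b).obj X).IsGE b := inferInstance
      have : ((TStructure.t.truncGE b).obj X).IsLE b := inferInstance
      obtain ⟨Y, ⟨e⟩⟩ := exists_iso_singleFunctor_obj_of_isGE_of_isLE
        ((TStructure.t.truncGE b).obj X) b
      have hY : A Y := by
        have := Groth.Agent.Lib.Helper22.isIso_homologyMap_truncGEπ X b b le_rfl
        have e1 : (homologyFunctor ℬ b).obj X ≅ Y :=
          asIso ((homologyFunctor ℬ b).map ((TStructure.t.truncGEπ b).app X)) ≪≫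
            (homologyFunctor ℬ b).mapIso e ≪≫ (singleFunctorCompHomologyFunctorIso ℬ b).app Y
        exact A.prop_of_iso e1 (hX b)
      exact cohIn_of_iso A' (R.mapIso e.symm) (single_case adj A A' h2c h3 Y hY b).1
    exact cohIn_obj₂ A' _ (R.map_distinguished _ hT) h1 h3'

include h3 h2c in
omit [WSerre.IsWeakSerre A] in
/-- Bounded below objects with cohomology in `A` are sent by `R` to objects with cohomology in
`A'`. -/
lemma cohIn_rightAdjoint [A.IsClosedUnderIsomorphisms] [A.ContainsZero]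
    (X : DerivedCategory ℬ) (a : ℤ) [X.IsGE a] (hX : WSerre.cohIn A X) :
    WSerre.cohIn A' (R.obj X) := by
  intro j
  let n := j + 2
  have hT := TStructure.t.triangleLTGE_distinguished n X
  have hRT := R.map_distinguished _ hT
  have hge : ((TStructure.t.truncGE n).obj X).IsGE n := inferInstance
  have hR3 : (R.obj ((TStructure.t.truncGE n).obj X)).IsGE n := isGE_rightAdjoint adj _ n
  have hι : IsIso ((homologyFunctor 𝒜 j).map (R.map ((TStructure.t.truncLTι n).app X))) := by
    have hmono : Mono ((homologyFunctor 𝒜 j).map (R.map ((TStructure.t.truncLTι n).app X))) := by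
      refine (HomologySequence.mono_homologyMap_mor₁_iff _ hRT (j - 1) j (by lia)).2 ?_
      exact (isZero_of_isGE (R.obj ((TStructure.t.truncGE n).obj X)) n (j - 1)
        (by lia)).eq_of_src _ _
    have hepi : Epi ((homologyFunctor 𝒜 j).map (R.map ((TStructure.t.truncLTι n).app X))) := by
      refine (HomologySequence.epi_homologyMap_mor₁_iff _ hRT j).2 ?_
      exact (isZero_of_isGE (R.obj ((TStructure.t.truncGE n).obj X)) n j
        (by lia)).eq_of_tgt _ _
    exact isIso_of_mono_of_epi _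
  have h1 : WSerre.cohIn A' (R.obj ((TStructure.t.truncLT n).obj X)) := by
    have : ((TStructure.t.truncLT n).obj X).IsLE (n - 1) := inferInstance
    have : ((TStructure.t.truncLT n).obj X).IsGE a := inferInstance
    obtain ⟨m, hm⟩ : ∃ m : ℕ, n - 1 < a + m := ⟨(n - 1 - a + 1).toNat, by lia⟩
    refine cohIn_rightAdjoint_bounded adj A A' h2c h3 m a (n - 1) hm _ (fun i => ?_)
    by_cases hi : i < n
    · have := Groth.Agent.Lib.Helper22.isIso_homologyMap_truncLTι X n i hi
      exact A.prop_of_iso (asIso ((homologyFunctor ℬ i).map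
        ((TStructure.t.truncLTι n).app X))).symm (hX i)
    · exact A.prop_of_isZero
        (isZero_of_isLE ((TStructure.t.truncLT n).obj X) (n - 1) i (by lia))
  exact A'.prop_of_iso (asIso ((homologyFunctor 𝒜 j).map
    (R.map ((TStructure.t.truncLTι n).app X)))) (h1 j)

include h3 h2c in
/-- The counit is an isomorphism on bounded below objects with cohomology in `A`. -/
lemma isIso_counit (X : DerivedCategory ℬ) (a : ℤ) [X.IsGE a] (hX : WSerre.cohIn A X) :
    IsIso (adj.counit.app X) :=
  Groth.Agent.Lib.Helper22.wayOut_right A adj.counit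
    (fun F hF => (single_case adj A A' h2c h3 F hF 0).2) (fun Z hZ => A.prop_of_isZero hZ)
    (fun n => ⟨n, fun Y hY => by
      have := hY
      have := isGE_rightAdjoint adj Y n
      exact isGE_mapDerivedCategory L _ n⟩)
    (fun n => ⟨n, fun Y hY => hY⟩) X a hX

end Main

section Final

variable {𝒜 : Type u} [Category.{v} 𝒜] [Abelian 𝒜] [HasDerivedCategory.{w} 𝒜]
  {ℬ : Type u'} [Category.{v'} ℬ] [Abelian ℬ] [HasDerivedCategory.{w'} ℬ]
  {L : 𝒜 ⥤ ℬ} [L.Additive] [PreservesFiniteLimits L] [PreservesFiniteColimits L]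
  {R : DerivedCategory ℬ ⥤ DerivedCategory 𝒜} (adj : L.mapDerivedCategory ⊣ R)
  (A : ObjectProperty ℬ) [WSerre.IsWeakSerre A] (A' : ObjectProperty 𝒜) [WSerre.IsWeakSerre A']

/-- Let `L` be an exact functor, `R` a right adjoint of the induced functor on derived
categories, `A'`, `A` weak Serre subcategories such that `L` sends `A'` essentially onto `A` and
the unit is an isomorphism on `A'`. Then `L` and `R` induce quasi-inverse equivalences between
`D⁺_{A'}` and `D⁺_A`. -/
theorem equivalence_plus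
    (h2a : ∀ F' : 𝒜, A' F' → A (L.obj F'))
    (h2c : ∀ F : ℬ, A F → ∃ F' : 𝒜, A' F' ∧ Nonempty (L.obj F' ≅ F))
    (h3 : ∀ F' : 𝒜, A' F' → IsIso (adj.unit.app ((DerivedCategory.singleFunctor 𝒜 0).obj F'))) :
    (∀ Y : DerivedCategory 𝒜, WSerre.cohInPlus A' Y →
      WSerre.cohInPlus A (L.mapDerivedCategory.obj Y) ∧ IsIso (adj.unit.app Y)) ∧
    (∀ X : DerivedCategory ℬ, WSerre.cohInPlus A X →
      WSerre.cohInPlus A' (R.obj X) ∧ IsIso (adj.counit.app X)) := by
  let _ : R.CommShift ℤ := adj.rightAdjointCommShift ℤ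
  have : adj.CommShift ℤ := adj.commShift_of_leftAdjoint ℤ
  have : R.IsTriangulated := adj.isTriangulated_rightAdjoint
  constructor
  · rintro Y ⟨hY, a, ha⟩
    have : Y.IsGE a := ha
    exact ⟨⟨cohIn_mapDerivedCategory A A' h2a Y hY, a, isGE_mapDerivedCategory L Y a⟩,
      isIso_unit adj A' h3 Y a hY⟩
  · rintro X ⟨hX, a, ha⟩
    have : X.IsGE a := ha
    exact ⟨⟨cohIn_rightAdjoint adj A A' h2c h3 X a hX, a, isGE_rightAdjoint adj X a⟩,
      isIso_counit adj A A' h2c h3 X a hX⟩

/-- If the unit is an isomorphism on the cohomology objects of a bounded below object, it is an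
isomorphism on that object. -/
theorem isIso_unit_of_homology (Y : DerivedCategory 𝒜) (n₀ : ℤ) [Y.IsGE n₀]
    (h3 : ∀ q : ℤ, IsIso (adj.unit.app
      ((DerivedCategory.singleFunctor 𝒜 0).obj ((homologyFunctor 𝒜 q).obj Y)))) :
    IsIso (adj.unit.app Y) := by
  let _ : R.CommShift ℤ := adj.rightAdjointCommShift ℤ
  have : adj.CommShift ℤ := adj.commShift_of_leftAdjoint ℤ
  have : R.IsTriangulated := adj.isTriangulated_rightAdjoint
  let P : ObjectProperty 𝒜 :=
    fun M => IsIso (adj.unit.app ((DerivedCategory.singleFunctor 𝒜 0).obj M))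
  have : P.IsClosedUnderIsomorphisms :=
    ⟨fun e h => Groth.Agent.Lib.Helper22.isIso_app_of_iso adj.unit
      ((DerivedCategory.singleFunctor 𝒜 0).mapIso e) h⟩
  exact Groth.Agent.Lib.Helper22.wayOut_right P adj.unit (fun _ h => h)
    (fun Z hZ => Groth.Agent.Lib.Helper22.isIso_app_of_isZero adj.unit _
      ((DerivedCategory.singleFunctor 𝒜 0).map_isZero hZ))
    (fun n => ⟨n, fun Y hY => hY⟩)
    (fun n => ⟨n, fun Y hY => by
      have := hY
      have := isGE_mapDerivedCategory L Y n
      exact isGE_rightAdjoint adj _ n⟩) Y n₀ h3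

/-- If the counit is an isomorphism on the cohomology objects of a bounded below object, it is an
isomorphism on that object. -/
theorem isIso_counit_of_homology (X : DerivedCategory ℬ) (n₀ : ℤ) [X.IsGE n₀]
    (h3 : ∀ q : ℤ, IsIso (adj.counit.app
      ((DerivedCategory.singleFunctor ℬ 0).obj ((homologyFunctor ℬ q).obj X)))) :
    IsIso (adj.counit.app X) := by
  let _ : R.CommShift ℤ := adj.rightAdjointCommShift ℤ
  have : adj.CommShift ℤ := adj.commShift_of_leftAdjoint ℤ
  have : R.IsTriangulated := adj.isTriangulated_rightAdjoint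
  let P : ObjectProperty ℬ :=
    fun M => IsIso (adj.counit.app ((DerivedCategory.singleFunctor ℬ 0).obj M))
  have : P.IsClosedUnderIsomorphisms :=
    ⟨fun e h => Groth.Agent.Lib.Helper22.isIso_app_of_iso adj.counit
      ((DerivedCategory.singleFunctor ℬ 0).mapIso e) h⟩
  exact Groth.Agent.Lib.Helper22.wayOut_right P adj.counit (fun _ h => h)
    (fun Z hZ => Groth.Agent.Lib.Helper22.isIso_app_of_isZero adj.counit _
      ((DerivedCategory.singleFunctor ℬ 0).map_isZero hZ))
    (fun n => ⟨n, fun Y hY => by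
      have := hY
      have := isGE_rightAdjoint adj Y n
      exact isGE_mapDerivedCategory L _ n⟩)
    (fun n => ⟨n, fun Y hY => hY⟩) X n₀ h3

end Final

end Groth.Agent.Lib.Helper62.WSE
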