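import Mathlib
import Groth.Prelude.Def_Hyper

/-! # The universal simplicial semi-representable object with components in a class `Bx`

An `n`-simplex is a functor from the (opposite of the) category of all maps `Fin (k+1) → Fin (n+1)`
to `D` with values in `Bx`, encoded with untyped arrows so that equality of simplices is plain
function extensionality. -/

set_option autoImplicit false
set_option backward.isDefEq.respectTransparency false
set_option backward.isDefEq.respectTransparency.types false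

open CategoryTheory CategoryTheory.Limits Opposite Simplicial SimplexCategory

universe u

namespace Groth.Agent.Lib.Helper62.BSimp

variable {D : Type u} [SmallCategory D]

/-- maps of finite sets -/
abbrev Fn (k n : ℕ) := Fin (k + 1) → Fin (n + 1)

lemma arrow_hom_congr {a b : Arrow D} (h : a = b) :
    a.hom = eqToHom (congrArg Comma.left h) ≫ b.hom ≫ eqToHom (congrArg Comma.right h).symm := by
  subst h
  simp

lemma arrow_mk_comp_eqToHom {A B B' : D} (f : A ⟶ B) (h : B = B') :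
    Arrow.mk (f ≫ eqToHom h) = Arrow.mk f := by
  subst h
  simp

lemma arrow_mk_eqToHom_comp {A A' B : D} (f : A ⟶ B) (h : A' = A) :
    Arrow.mk (eqToHom h ≫ f) = Arrow.mk f := by
  subst h
  simp

/-- composition of untyped arrows -/
def acomp (a b : Arrow D) (h : a.right = b.left) : Arrow D :=
  Arrow.mk (a.hom ≫ eqToHom h ≫ b.hom)

lemma acomp_congr {a a' b b' : Arrow D} (ha : a = a') (hb : b = b') (h : a.right = b.left)
    (h' : a'.right = b'.left) : acomp a b h = acomp a' b' h' := by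
  subst ha
  subst hb
  rfl

variable (Bx : Set D)

/-- simplices -/
@[ext]
structure Simp (n : ℕ) where
  μ : ∀ (k k' : ℕ), Fn k n → Fn k' k → Arrow D
  left_eq : ∀ (k k' : ℕ) (φ : Fn k n) (ψ : Fn k' k), (μ k k' φ ψ).left = (μ k k φ id).left
  right_eq : ∀ (k k' : ℕ) (φ : Fn k n) (ψ : Fn k' k),
    (μ k k' φ ψ).right = (μ k' k' (φ ∘ ψ) id).left
  id_eq : ∀ (k : ℕ) (φ : Fn k n), μ k k φ id = Arrow.mk (𝟙 (μ k k φ id).left)
  comp_eq : ∀ (k k' k'' : ℕ) (φ : Fn k n) (ψ : Fn k' k) (ψ' : Fn k'' k'),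
    μ k k'' φ (ψ ∘ ψ') = acomp (μ k k' φ ψ) (μ k' k'' (φ ∘ ψ) ψ')
      ((right_eq k k' φ ψ).trans (left_eq k' k'' (φ ∘ ψ) ψ').symm)
  mem : ∀ (k : ℕ) (φ : Fn k n), (μ k k φ id).left ∈ Bx

namespace Simp

variable {Bx} {n : ℕ} (σ : Simp Bx n)

/-- the object at a map -/
def obj {k : ℕ} (φ : Fn k n) : D := (σ.μ k k φ id).left

/-- the restriction maps -/
def res {k k' : ℕ} (φ : Fn k n) (ψ : Fn k' k) : σ.obj φ ⟶ σ.obj (φ ∘ ψ) :=
  eqToHom (σ.left_eq k k' φ ψ).symm ≫ (σ.μ k k' φ ψ).hom ≫ eqToHom (σ.right_eq k k' φ ψ)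

lemma mk_res {k k' : ℕ} (φ : Fn k n) (ψ : Fn k' k) : Arrow.mk (σ.res φ ψ) = σ.μ k k' φ ψ := by
  unfold res
  rw [← Category.assoc, arrow_mk_comp_eqToHom, arrow_mk_eqToHom_comp]
  rfl

lemma res_id {k : ℕ} (φ : Fn k n) : σ.res φ id = 𝟙 _ := by
  unfold res
  rw [arrow_hom_congr (σ.id_eq k φ)]
  simp

lemma res_comp {k k' k'' : ℕ} (φ : Fn k n) (ψ : Fn k' k) (ψ' : Fn k'' k') :
    σ.res φ (ψ ∘ ψ') = σ.res φ ψ ≫ σ.res (φ ∘ ψ) ψ' := by
  unfold res
  rw [arrow_hom_congr (σ.comp_eq k k' k'' φ ψ ψ')]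
  unfold acomp
  simp

end Simp

variable {Bx}

/-- pull back a simplex along a map -/
def pull {m n : ℕ} (θ : Fn m n) (σ : Simp Bx n) : Simp Bx m where
  μ k k' φ ψ := σ.μ k k' (θ ∘ φ) ψ
  left_eq k k' φ ψ := σ.left_eq k k' (θ ∘ φ) ψ
  right_eq k k' φ ψ := σ.right_eq k k' (θ ∘ φ) ψ
  id_eq k φ := σ.id_eq k (θ ∘ φ)
  comp_eq k k' k'' φ ψ ψ' := σ.comp_eq k k' k'' (θ ∘ φ) ψ ψ'
  mem k φ := σ.mem k (θ ∘ φ)

variable (Bx)

/-- the object of `n`-simplices -/
def Kobj (n : ℕ) : FormalCoproduct.{u} D := ⟨Simp Bx n, fun σ => σ.obj id⟩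

variable {Bx}

/-- the simplicial operators -/
def Kmap {m n : ℕ} (θ : Fn m n) : Kobj Bx n ⟶ Kobj Bx m :=
  ⟨pull θ, fun σ => σ.res id θ⟩

lemma Kmap_id (n : ℕ) : Kmap (Bx := Bx) (id : Fn n n) = 𝟙 _ := by
  refine FormalCoproduct.hom_ext rfl ?_
  intro σ
  change σ.res id id ≫ eqToHom _ = 𝟙 _
  rw [σ.res_id]
  simp

lemma Kmap_comp {m n p : ℕ} (θ : Fn m n) (θ' : Fn n p) :
    Kmap (Bx := Bx) (θ' ∘ θ) = Kmap θ' ≫ Kmap θ := by
  refine FormalCoproduct.hom_ext rfl ?_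
  intro σ
  change σ.res id (θ' ∘ θ) ≫ eqToHom _ = σ.res id θ' ≫ (pull θ' σ).res id θ
  rw [σ.res_comp id θ' θ]
  simp
  rfl

variable (Bx)

/-- the universal simplicial object -/
def K : SimplicialObject (FormalCoproduct.{u} D) where
  obj a := Kobj Bx a.unop.len
  map {a b} θ := Kmap (fun x => θ.unop.toOrderHom x)
  map_id a := Kmap_id _
  map_comp {a b c} θ θ' := Kmap_comp (Bx := Bx) (fun x => θ'.unop.toOrderHom x)
    (fun x => θ.unop.toOrderHom x)

/-- the constant simplex -/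
def const (V : D) (hV : V ∈ Bx) (n : ℕ) : Simp Bx n where
  μ _ _ _ _ := Arrow.mk (𝟙 V)
  left_eq _ _ _ _ := rfl
  right_eq _ _ _ _ := rfl
  id_eq _ _ := rfl
  comp_eq _ _ _ _ _ _ := by
    unfold acomp
    simp
  mem _ _ := hV

end Groth.Agent.Lib.Helper62.BSimp
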