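import Mathlib
import Groth.Prelude.Def_Hyper
import Groth.Agent.Lib.Helper62.BSimp

/-! # Gluing a simplex of the universal object from compatible boundary data -/

set_option autoImplicit false
set_option backward.isDefEq.respectTransparency false
set_option backward.isDefEq.respectTransparency.types false

open CategoryTheory CategoryTheory.Limits Opposite Simplicial SimplexCategory

universe u

namespace Groth.Agent.Lib.Helper62.BGlue

open BSimp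

variable {D : Type u} [SmallCategory D] {Bx : Set D}

section Points

variable {Z : D} {m : ℕ}

/-- the untyped arrows of the simplex underlying a point -/
def Mp (q : (FormalCoproduct.incl D).obj Z ⟶ Kobj Bx m) :
    ∀ (k k' : ℕ), Fn k m → Fn k' k → Arrow D :=
  (q.f PUnit.unit).μ

/-- the arrows from `Z` of a point -/
def Np (q : (FormalCoproduct.incl D).obj Z ⟶ Kobj Bx m) (k : ℕ) (π : Fn k m) : Arrow D :=
  Arrow.mk (q.φ PUnit.unit ≫ (q.f PUnit.unit).res id π)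

lemma Mp_comp_Kmap (q : (FormalCoproduct.incl D).obj Z ⟶ Kobj Bx m) {m' : ℕ} (ψ : Fn m' m)
    (k k' : ℕ) (π : Fn k m') (ψ' : Fn k' k) :
    Mp (q ≫ Kmap ψ) k k' π ψ' = Mp q k k' (ψ ∘ π) ψ' := rfl

lemma Np_comp_Kmap (q : (FormalCoproduct.incl D).obj Z ⟶ Kobj Bx m) {m' : ℕ} (ψ : Fn m' m)
    (k : ℕ) (π : Fn k m') : Np (q ≫ Kmap ψ) k π = Np q k (ψ ∘ π) := by
  unfold Np
  change Arrow.mk ((q.φ PUnit.unit ≫ (q.f PUnit.unit).res id ψ) ≫
    (pull ψ (q.f PUnit.unit)).res id π) = _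
  rw [Category.assoc]
  have h := (q.f PUnit.unit).res_comp id ψ π
  change Arrow.mk (q.φ PUnit.unit ≫ (q.f PUnit.unit).res id ψ ≫ (q.f PUnit.unit).res (id ∘ ψ) π) = _
  rw [← h]

lemma pt_ext (q q' : (FormalCoproduct.incl D).obj Z ⟶ Kobj Bx m) (h1 : Mp q = Mp q')
    (h2 : Np q m id = Np q' m id) : q = q' := by
  obtain ⟨f, φ⟩ := q
  obtain ⟨f', φ'⟩ := q'
  have hf : f = f' := by
    funext x
    cases x
    exact Simp.ext h1
  subst hf
  have hφ : φ = φ' := by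
    funext x
    cases x
    unfold Np at h2
    have h3 : Arrow.mk (φ PUnit.unit ≫ (f PUnit.unit).res id id) =
      Arrow.mk (φ' PUnit.unit ≫ (f PUnit.unit).res id id) := h2
    rw [(f PUnit.unit).res_id] at h3
    have h4 := Arrow.mk_injective _ _ h3
    exact (Category.comp_id _).symm.trans (h4.trans (Category.comp_id _))
  subst hφ
  rfl

end Points

/-- precomposition of an arrow out of `Z` -/
def preU {U Z : D} (u : U ⟶ Z) (a : Arrow D) (h : a.left = Z) : Arrow D :=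
  Arrow.mk (u ≫ eqToHom h.symm ≫ a.hom)

lemma preU_congr {U Z : D} (u : U ⟶ Z) {a a' : Arrow D} (e : a = a') (h : a.left = Z)
    (h' : a'.left = Z) : preU u a h = preU u a' h' := by
  subst e
  rfl

lemma preU_mk {U Z Y : D} (u : U ⟶ Z) (f : Z ⟶ Y) : preU u (Arrow.mk f) rfl = Arrow.mk (u ≫ f) := by
  unfold preU
  simp

lemma Np_incl_comp {U Z : D} {m : ℕ} (u : U ⟶ Z)
    (q : (FormalCoproduct.incl D).obj Z ⟶ Kobj Bx m) (k : ℕ) (π : Fn k m) :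
    Np ((FormalCoproduct.incl D).map u ≫ q) k π = preU u (Np q k π) rfl := by
  unfold Np
  rw [preU_mk]
  change Arrow.mk ((u ≫ q.φ PUnit.unit) ≫ _) = _
  rw [Category.assoc]
  rfl

lemma acomp_mk_μ {A : D} {m : ℕ} (σ : Simp Bx m) {k k' : ℕ} (π : Fn k m) (ψ' : Fn k' k)
    (f : A ⟶ σ.obj π) (h : (Arrow.mk f).right = (σ.μ k k' π ψ').left) :
    acomp (Arrow.mk f) (σ.μ k k' π ψ') h = Arrow.mk (f ≫ σ.res π ψ') := by
  unfold acomp Simp.res
  have e : f ≫ eqToHom (σ.left_eq k k' π ψ').symm ≫ (σ.μ k k' π ψ').hom ≫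
      eqToHom (σ.right_eq k k' π ψ') =
      (f ≫ eqToHom (σ.left_eq k k' π ψ').symm ≫ (σ.μ k k' π ψ').hom) ≫
        eqToHom (σ.right_eq k k' π ψ') := by
    simp only [Category.assoc]
  rw [e, arrow_mk_comp_eqToHom]
  rfl

variable (Bx) in
/-- compatible boundary data -/
structure Bdry (n : ℕ) (Z : D) where
  p : Fin (n + 2) → ((FormalCoproduct.incl D).obj Z ⟶ Kobj Bx n)
  compatM : ∀ (j j' : Fin (n + 2)) (k : ℕ) (π π' : Fn k n),
    j.succAbove ∘ π = j'.succAbove ∘ π' →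
      ∀ (k' : ℕ) (ψ : Fn k' k), Mp (p j) k k' π ψ = Mp (p j') k k' π' ψ
  compatN : ∀ (j j' : Fin (n + 2)) (k : ℕ) (π π' : Fn k n),
    j.succAbove ∘ π = j'.succAbove ∘ π' → Np (p j) k π = Np (p j') k π'

section Glue

variable {n : ℕ} {Z : D}

lemma exists_factor {k : ℕ} (χ : Fn k (n + 1)) (h : ¬ Function.Surjective χ) :
    ∃ (j : Fin (n + 2)) (π : Fn k n), χ = j.succAbove ∘ π := by
  rw [Function.Surjective] at h
  push_neg at h
  obtain ⟨j, hj⟩ := h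
  have h2 : ∀ x, ∃ y, j.succAbove y = χ x := fun x => Fin.exists_succAbove_eq (hj x)
  choose π hπ using h2
  exact ⟨j, π, funext fun x => (hπ x).symm⟩

/-- the chosen missed vertex -/
noncomputable def jj {k : ℕ} (χ : Fn k (n + 1)) (h : ¬ Function.Surjective χ) : Fin (n + 2) :=
  (exists_factor χ h).choose

/-- the chosen factorization -/
noncomputable def pp {k : ℕ} (χ : Fn k (n + 1)) (h : ¬ Function.Surjective χ) : Fn k n :=
  (exists_factor χ h).choose_spec.choose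

lemma jj_pp {k : ℕ} (χ : Fn k (n + 1)) (h : ¬ Function.Surjective χ) :
    χ = (jj χ h).succAbove ∘ pp χ h :=
  (exists_factor χ h).choose_spec.choose_spec

lemma not_surj_comp {k k' : ℕ} {φ : Fn k (n + 1)} (h : ¬ Function.Surjective φ) (ψ : Fn k' k) :
    ¬ Function.Surjective (φ ∘ ψ) := fun h' => h (Function.Surjective.of_comp h')

variable (B : Bdry Bx n Z) {U : D} (u : U ⟶ Z)

open Classical in
/-- the glued arrows -/
noncomputable def gμ (k k' : ℕ) (φ : Fn k (n + 1)) (ψ : Fn k' k) : Arrow D :=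
  if hφ : Function.Surjective φ then
    if hφψ : Function.Surjective (φ ∘ ψ) then Arrow.mk (𝟙 U)
    else preU u (Np (B.p (jj (φ ∘ ψ) hφψ)) k' (pp (φ ∘ ψ) hφψ)) rfl
  else Mp (B.p (jj φ hφ)) k k' (pp φ hφ) ψ

lemma gμ_ss {k k' : ℕ} (φ : Fn k (n + 1)) (ψ : Fn k' k) (hφ : Function.Surjective φ)
    (hφψ : Function.Surjective (φ ∘ ψ)) : gμ B u k k' φ ψ = Arrow.mk (𝟙 U) := by
  unfold gμ
  rw [dif_pos hφ, dif_pos hφψ]

lemma gμ_sn {k k' : ℕ} (φ : Fn k (n + 1)) (ψ : Fn k' k) (hφ : Function.Surjective φ)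
    (hφψ : ¬ Function.Surjective (φ ∘ ψ)) :
    gμ B u k k' φ ψ = preU u (Np (B.p (jj (φ ∘ ψ) hφψ)) k' (pp (φ ∘ ψ) hφψ)) rfl := by
  unfold gμ
  rw [dif_pos hφ, dif_neg hφψ]

lemma gμ_n {k k' : ℕ} (φ : Fn k (n + 1)) (ψ : Fn k' k) (hφ : ¬ Function.Surjective φ) :
    gμ B u k k' φ ψ = Mp (B.p (jj φ hφ)) k k' (pp φ hφ) ψ := by
  unfold gμ
  rw [dif_neg hφ]

/-- value at a non-surjective map in terms of any factorization -/
lemma gμ_factor {k k' : ℕ} (j : Fin (n + 2)) (π : Fn k n) (ψ : Fn k' k) :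
    gμ B u k k' (j.succAbove ∘ π) ψ = Mp (B.p j) k k' π ψ := by
  have hns : ¬ Function.Surjective (j.succAbove ∘ π) := by
    intro h
    obtain ⟨x, hx⟩ := h j
    exact Fin.succAbove_ne j (π x) hx
  rw [gμ_n B u _ ψ hns]
  exact B.compatM _ _ k _ _ (jj_pp _ hns).symm k' ψ

lemma gμ_left {k k' : ℕ} (φ : Fn k (n + 1)) (ψ : Fn k' k) :
    (gμ B u k k' φ ψ).left = (gμ B u k k φ id).left := by
  by_cases hφ : Function.Surjective φ
  · rw [gμ_ss B u φ id hφ hφ]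
    by_cases hφψ : Function.Surjective (φ ∘ ψ)
    · rw [gμ_ss B u φ ψ hφ hφψ]
    · rw [gμ_sn B u φ ψ hφ hφψ]
      rfl
  · rw [gμ_n B u φ ψ hφ, gμ_n B u φ id hφ]
    exact ((B.p (jj φ hφ)).f PUnit.unit).left_eq k k' _ ψ

lemma gμ_right {k k' : ℕ} (φ : Fn k (n + 1)) (ψ : Fn k' k) :
    (gμ B u k k' φ ψ).right = (gμ B u k' k' (φ ∘ ψ) id).left := by
  by_cases hφ : Function.Surjective φ
  · by_cases hφψ : Function.Surjective (φ ∘ ψ)
    · rw [gμ_ss B u φ ψ hφ hφψ, gμ_ss B u (φ ∘ ψ) id hφψ hφψ]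
      rfl
    · rw [gμ_sn B u φ ψ hφ hφψ, gμ_n B u (φ ∘ ψ) id hφψ]
      rfl
  · rw [gμ_n B u φ ψ hφ]
    have h1 : φ ∘ ψ = (jj φ hφ).succAbove ∘ (pp φ hφ ∘ ψ) := by
      conv_lhs => rw [jj_pp φ hφ]
      rfl
    rw [h1, gμ_factor]
    exact ((B.p (jj φ hφ)).f PUnit.unit).right_eq k k' _ ψ

lemma gμ_id {k : ℕ} (φ : Fn k (n + 1)) :
    gμ B u k k φ id = Arrow.mk (𝟙 (gμ B u k k φ id).left) := by
  by_cases hφ : Function.Surjective φ
  · rw [gμ_ss B u φ id hφ hφ]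
    rfl
  · rw [gμ_n B u φ id hφ]
    exact ((B.p (jj φ hφ)).f PUnit.unit).id_eq k _

lemma gμ_mem (hU : U ∈ Bx) {k : ℕ} (φ : Fn k (n + 1)) : (gμ B u k k φ id).left ∈ Bx := by
  by_cases hφ : Function.Surjective φ
  · rw [gμ_ss B u φ id hφ hφ]
    exact hU
  · rw [gμ_n B u φ id hφ]
    exact ((B.p (jj φ hφ)).f PUnit.unit).mem k _

lemma gμ_comp {k k' k'' : ℕ} (φ : Fn k (n + 1)) (ψ : Fn k' k) (ψ' : Fn k'' k') :
    gμ B u k k'' φ (ψ ∘ ψ') = acomp (gμ B u k k' φ ψ) (gμ B u k' k'' (φ ∘ ψ) ψ')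
      ((gμ_right B u φ ψ).trans (gμ_left B u (φ ∘ ψ) ψ').symm) := by
  by_cases hφ : Function.Surjective φ
  · by_cases hφψ : Function.Surjective (φ ∘ ψ)
    · by_cases hφψψ : Function.Surjective (φ ∘ ψ ∘ ψ')
      · rw [gμ_ss B u φ (ψ ∘ ψ') hφ hφψψ]
        rw [acomp_congr (gμ_ss B u φ ψ hφ hφψ) (gμ_ss B u (φ ∘ ψ) ψ' hφψ hφψψ) _ rfl]
        unfold acomp
        simp
      · rw [gμ_sn B u φ (ψ ∘ ψ') hφ hφψψ]
        rw [acomp_congr (gμ_ss B u φ ψ hφ hφψ) (gμ_sn B u (φ ∘ ψ) ψ' hφψ hφψψ) _ rfl]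
        unfold acomp preU
        simp
        rfl
    · have hφψψ : ¬ Function.Surjective (φ ∘ ψ ∘ ψ') := not_surj_comp (φ := φ ∘ ψ) hφψ ψ'
      rw [gμ_sn B u φ (ψ ∘ ψ') hφ hφψψ]
      have e1 : preU u (Np (B.p (jj (φ ∘ ψ) hφψ)) k' (pp (φ ∘ ψ) hφψ)) rfl =
          Arrow.mk (u ≫ (B.p (jj (φ ∘ ψ) hφψ)).φ PUnit.unit ≫
            ((B.p (jj (φ ∘ ψ) hφψ)).f PUnit.unit).res id (pp (φ ∘ ψ) hφψ)) := preU_mk u _
      rw [acomp_congr ((gμ_sn B u φ ψ hφ hφψ).trans e1) (gμ_n B u (φ ∘ ψ) ψ' hφψ) _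
        (((B.p (jj (φ ∘ ψ) hφψ)).f PUnit.unit).left_eq k' k'' _ ψ').symm]
      -- use compatibility of the arrows from `Z`
      have h1 : φ ∘ ψ ∘ ψ' = (jj (φ ∘ ψ) hφψ).succAbove ∘ (pp (φ ∘ ψ) hφψ ∘ ψ') := by
        have h2 := jj_pp (φ ∘ ψ) hφψ
        change (φ ∘ ψ) ∘ ψ' = _
        conv_lhs => rw [h2]
        rfl
      have h3 := B.compatN _ _ k'' _ _ ((jj_pp (φ ∘ ψ ∘ ψ') hφψψ).symm.trans h1)
      rw [preU_congr u h3 rfl rfl]
      unfold Mp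
      refine Eq.trans ?_ (acomp_mk_μ ((B.p (jj (φ ∘ ψ) hφψ)).f PUnit.unit) (pp (φ ∘ ψ) hφψ) ψ'
        (u ≫ (B.p (jj (φ ∘ ψ) hφψ)).φ PUnit.unit ≫
          ((B.p (jj (φ ∘ ψ) hφψ)).f PUnit.unit).res id (pp (φ ∘ ψ) hφψ)) _).symm
      have e2 : preU u (Np (B.p (jj (φ ∘ ψ) hφψ)) k'' (pp (φ ∘ ψ) hφψ ∘ ψ')) rfl =
          Arrow.mk (u ≫ (B.p (jj (φ ∘ ψ) hφψ)).φ PUnit.unit ≫
            ((B.p (jj (φ ∘ ψ) hφψ)).f PUnit.unit).res id (pp (φ ∘ ψ) hφψ ∘ ψ')) := preU_mk u _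
      rw [e2, ((B.p (jj (φ ∘ ψ) hφψ)).f PUnit.unit).res_comp id (pp (φ ∘ ψ) hφψ) ψ']
      simp only [Category.assoc]
      rfl
  · have hφψ : ¬ Function.Surjective (φ ∘ ψ) := not_surj_comp hφ ψ
    rw [gμ_n B u φ (ψ ∘ ψ') hφ]
    have h1 : φ ∘ ψ = (jj φ hφ).succAbove ∘ (pp φ hφ ∘ ψ) := by
      conv_lhs => rw [jj_pp φ hφ]
      rfl
    have h4 : gμ B u k' k'' (φ ∘ ψ) ψ' = Mp (B.p (jj φ hφ)) k' k'' (pp φ hφ ∘ ψ) ψ' := by
      rw [h1, gμ_factor]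
    rw [acomp_congr (gμ_n B u φ ψ hφ) h4 _
      ((((B.p (jj φ hφ)).f PUnit.unit).right_eq k k' _ ψ).trans
        (((B.p (jj φ hφ)).f PUnit.unit).left_eq k' k'' _ ψ').symm)]
    exact ((B.p (jj φ hφ)).f PUnit.unit).comp_eq k k' k'' _ ψ ψ'

/-- the glued simplex -/
noncomputable def glue (hU : U ∈ Bx) : Simp Bx (n + 1) where
  μ := gμ B u
  left_eq k k' φ ψ := gμ_left B u φ ψ
  right_eq k k' φ ψ := gμ_right B u φ ψ
  id_eq k φ := gμ_id B u φ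
  comp_eq k k' k'' φ ψ ψ' := gμ_comp B u φ ψ ψ'
  mem k φ := gμ_mem B u hU φ

lemma glue_top (hU : U ∈ Bx) : (glue B u hU).obj id = U := by
  change (gμ B u (n + 1) (n + 1) id id).left = U
  rw [gμ_ss B u id id Function.surjective_id Function.surjective_id]
  rfl

/-- the point given by the glued simplex -/
noncomputable def gpt (hU : U ∈ Bx) : (FormalCoproduct.incl D).obj U ⟶ Kobj Bx (n + 1) :=
  FormalCoproduct.Hom.fromIncl (Y := Kobj Bx (n + 1)) (glue B u hU) (eqToHom (glue_top B u hU).symm)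

lemma gpt_face (hU : U ∈ Bx) (j : Fin (n + 2)) :
    gpt B u hU ≫ Kmap j.succAbove = (FormalCoproduct.incl D).map u ≫ B.p j := by
  apply pt_ext
  · funext k k' π ψ
    rw [Mp_comp_Kmap]
    change gμ B u k k' (j.succAbove ∘ π) ψ = Mp (B.p j) k k' π ψ
    rw [gμ_factor]
  · rw [Np_comp_Kmap, Np_incl_comp]
    unfold Np gpt
    change Arrow.mk (eqToHom (glue_top B u hU).symm ≫ (glue B u hU).res id (j.succAbove ∘ id)) = _
    rw [arrow_mk_eqToHom_comp, Simp.mk_res]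
    change gμ B u (n + 1) n id (j.succAbove ∘ id) = _
    have hns : ¬ Function.Surjective ((id : Fn (n + 1) (n + 1)) ∘ (j.succAbove ∘ (id : Fn n n))) := by
      intro h
      obtain ⟨x, hx⟩ := h j
      exact Fin.succAbove_ne j x hx
    rw [gμ_sn B u id (j.succAbove ∘ id) Function.surjective_id hns]
    apply preU_congr
    exact B.compatN _ _ n _ _ (jj_pp _ hns).symm

end Glue

end Groth.Agent.Lib.Helper62.BGlue
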