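import Mathlib
import Groth.Agent.Lib.Helper86.TruncFin

/-! # The 0-coskeleton in degree 1

For a simplicial object `K` of a category with finite limits, `(cosk_0 sk_0 K)_1` together with the
two maps `p 0, p 1` to `K_0` has the universal property of the product `K_0 × K_0`, and the unit
`K_1 ⟶ (cosk_0 sk_0 K)_1` composed with `p i` is the face `K.δ i`. -/

set_option autoImplicit false
set_option backward.isDefEq.respectTransparency false
set_option backward.isDefEq.respectTransparency.types false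

open CategoryTheory CategoryTheory.Limits Opposite Simplicial SimplexCategory CategoryTheory.Functor

universe v u

namespace Groth.Agent.Lib.Helper62.CoskZero

abbrev L (n : ℕ) := (SimplexCategory.Truncated.inclusion n).op

variable {D : Type u} [Category.{v} D] [HasFiniteLimits D]

open Groth.Agent.Lib.Helper86.TruncFin in
instance hpw (n : ℕ) (F : (SimplexCategory.Truncated n)ᵒᵖ ⥤ D) :
    (L n).HasPointwiseRightKanExtension F := by
  intro Y
  dsimp [Functor.HasPointwiseRightKanExtensionAt]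
  infer_instance

variable (n : ℕ)
  [∀ (F : (SimplexCategory.Truncated n)ᵒᵖ ⥤ D), (SimplexCategory.Truncated.inclusion n).op.HasRightKanExtension F]
  (K : SimplicialObject D)

/-- the truncation -/
abbrev T : (SimplexCategory.Truncated n)ᵒᵖ ⥤ D := (SimplicialObject.truncation n).obj K

/-- the coskeleton -/
noncomputable abbrev R : SimplicialObject D := (SimplicialObject.cosk n).obj K

/-- the counit -/
noncomputable abbrev ε : L n ⋙ R n K ⟶ T n K := (L n).ranCounit.app (T n K)

/-- the unit -/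
noncomputable abbrev η : K ⟶ R n K := (SimplicialObject.coskAdj n).unit.app K

lemma η_ε (a : (SimplexCategory.Truncated n)ᵒᵖ) :
    (η n K).app ((L n).obj a) ≫ (ε n K).app a = 𝟙 _ :=
  (L n).ranCounit_app_app_ranAdjunction_unit_app_app K a

noncomputable def hB : (RightExtension.mk (R n K) (ε n K)).IsPointwiseRightKanExtension :=
  (L n).isPointwiseRightKanExtensionRanCounit (T n K)

lemma hom_ext_R {p : ℕ} {W : D} (f g : W ⟶ (R n K).obj (op ⦋p⦌))
    (h : ∀ j : StructuredArrow (op ⦋p⦌) (L n),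
      f ≫ (R n K).map j.hom ≫ (ε n K).app j.right = g ≫ (R n K).map j.hom ≫ (ε n K).app j.right) :
    f = g :=
  IsLimit.hom_ext (show IsLimit ((RightExtension.mk (R n K) (ε n K)).coneAt (op ⦋p⦌)) from hB n K (op ⦋p⦌)) h

section Zero

variable [∀ (F : (SimplexCategory.Truncated 0)ᵒᵖ ⥤ D),
    (SimplexCategory.Truncated.inclusion 0).op.HasRightKanExtension F]
  (K : SimplicialObject D)

/-- the object `[0]` of the truncated simplex category -/
abbrev z : (SimplexCategory.Truncated 0)ᵒᵖ := op ⟨⦋0⦌, le_refl _⟩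

/-- the projection of `(cosk_0 sk_0 K)_1` to `K_0` corresponding to the vertex `v` of `[1]` -/
noncomputable def q (v : Fin 2) : (R 0 K).obj (op ⦋1⦌) ⟶ K.obj (op ⦋0⦌) :=
  (R 0 K).map (SimplexCategory.const ⦋0⦌ ⦋1⦌ v).op ≫ (ε 0 K).app z

lemma η_q (v : Fin 2) :
    (η 0 K).app (op ⦋1⦌) ≫ q K v = K.map (SimplexCategory.const ⦋0⦌ ⦋1⦌ v).op := by
  unfold q
  rw [← Category.assoc, ← (η 0 K).naturality, Category.assoc]
  have h := η_ε 0 K z
  have h' : (η 0 K).app (op ⦋0⦌) ≫ (ε 0 K).app z = 𝟙 _ := h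
  rw [h', Category.comp_id]

/-- value of a structured arrow at the point -/
def val (j : StructuredArrow (op ⦋1⦌) (L 0)) : Fin 2 := j.hom.unop.toOrderHom 0

/-- the map to `[0]` -/
def termHom (j : StructuredArrow (op ⦋1⦌) (L 0)) : j.right.unop.obj ⟶ ⦋0⦌ := default

lemma eq_zero_of_trunc (a : SimplexCategory.Truncated 0) (x : Fin (a.obj.len + 1)) : x = 0 := by
  have h : a.obj.len ≤ 0 := a.property
  have h0 : a.obj.len = 0 := Nat.le_zero.mp h
  apply Fin.ext
  have := x.2
  simp only [h0] at this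
  simp only [Fin.val_zero]
  omega

lemma val_eq_of_hom {j j' : StructuredArrow (op ⦋1⦌) (L 0)} (φ : j ⟶ j') : val j' = val j := by
  have hw : j'.hom.unop = φ.right.unop.hom ≫ j.hom.unop := by
    have h2 := StructuredArrow.w φ
    rw [← h2]
    rfl
  unfold val
  rw [hw]
  change j.hom.unop.toOrderHom (φ.right.unop.hom.toOrderHom 0) = _
  rw [eq_zero_of_trunc j.right.unop (φ.right.unop.hom.toOrderHom 0)]

variable {K} in
/-- the cone over the diagram computing `(cosk_0 sk_0 K)_1` attached to two maps to `K_0` -/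
noncomputable def cone {A : D} (a : Fin 2 → (A ⟶ K.obj (op ⦋0⦌))) :
    Cone (StructuredArrow.proj (op ⦋1⦌) (L 0) ⋙ T 0 K) where
  pt := A
  π :=
    { app := fun j => a (val j) ≫ K.map (termHom j).op
      naturality := fun j j' φ => by
        change 𝟙 _ ≫ (a (val j') ≫ K.map (termHom j').op) =
          (a (val j) ≫ K.map (termHom j).op) ≫ K.map (φ.right.unop.hom).op
        rw [Category.id_comp, Category.assoc, ← K.map_comp, val_eq_of_hom φ, ← op_comp]
        congr 3 }

variable {K} in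
/-- the induced map to `(cosk_0 sk_0 K)_1` -/
noncomputable def lift {A : D} (a : Fin 2 → (A ⟶ K.obj (op ⦋0⦌))) : A ⟶ (R 0 K).obj (op ⦋1⦌) :=
  IsLimit.lift (show IsLimit ((RightExtension.mk (R 0 K) (ε 0 K)).coneAt (op ⦋1⦌)) from
    hB 0 K (op ⦋1⦌)) (cone a)

variable {K} in
lemma lift_q {A : D} (a : Fin 2 → (A ⟶ K.obj (op ⦋0⦌))) (v : Fin 2) : lift a ≫ q K v = a v := by
  let j : StructuredArrow (op ⦋1⦌) (L 0) :=
    StructuredArrow.mk (Y := z) (SimplexCategory.const ⦋0⦌ ⦋1⦌ v).op
  have h := IsLimit.fac (show IsLimit ((RightExtension.mk (R 0 K) (ε 0 K)).coneAt (op ⦋1⦌)) from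
    hB 0 K (op ⦋1⦌)) (cone a) j
  have h' : lift a ≫ q K v = a (val j) ≫ K.map (termHom j).op := h
  rw [h']
  have hv : val j = v := rfl
  have ht : termHom j = 𝟙 _ := Subsingleton.elim _ _
  rw [hv, ht]
  erw [K.map_id, Category.comp_id]

/-- the projection corresponding to the face `δ i` -/
noncomputable def p (i : Fin 2) : (R 0 K).obj (op ⦋1⦌) ⟶ K.obj (op ⦋0⦌) :=
  (R 0 K).map (SimplexCategory.δ i).op ≫ (ε 0 K).app z

lemma η_p (i : Fin 2) : (η 0 K).app (op ⦋1⦌) ≫ p K i = K.δ i := by
  unfold p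
  rw [← Category.assoc, ← (η 0 K).naturality, Category.assoc]
  have h' : (η 0 K).app (op ⦋0⦌) ≫ (ε 0 K).app z = 𝟙 _ := η_ε 0 K z
  rw [h', Category.comp_id]
  rfl

lemma p_zero : p K 0 = q K 1 := by
  unfold p q
  rw [SimplexCategory.δ_zero_eq_const]

lemma p_one : p K 1 = q K 0 := by
  unfold p q
  rw [SimplexCategory.δ_one_eq_const]

variable {K} in
/-- existence of a lift with prescribed `p 0`, `p 1` components -/
lemma exists_lift {A : D} (a0 a1 : A ⟶ K.obj (op ⦋0⦌)) :
    ∃ l : A ⟶ (R 0 K).obj (op ⦋1⦌), l ≫ p K 0 = a0 ∧ l ≫ p K 1 = a1 := by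
  refine ⟨lift (fun v => if v = 0 then a1 else a0), ?_, ?_⟩
  · rw [p_zero, lift_q]
    simp
  · rw [p_one, lift_q]
    simp

end Zero

end Groth.Agent.Lib.Helper62.CoskZero
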