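import Mathlib
import Groth.Prelude.Def_Hyper

/-! # Coverings of semi-representable objects: local lifting -/

set_option autoImplicit false
set_option backward.isDefEq.respectTransparency false
set_option backward.isDefEq.respectTransparency.types false

open CategoryTheory CategoryTheory.Limits Opposite

universe u

namespace Groth.Agent.Lib.Helper62.SRCover

variable {C' : Type u} [SmallCategory C'] (J' : GrothendieckTopology C')

/-- If `f : A' ⟶ B'` is a covering of semi-representable objects, then every map from a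
representable `Z` to `B'` lifts to `A'` locally on `Z`. -/
theorem sr_lift {A' B' : FormalCoproduct.{u} C'} (f : A' ⟶ B') (hf : Hyper.IsSRCovering J' f)
    {Z : C'} (l : (FormalCoproduct.incl C').obj Z ⟶ B') :
    ∃ S ∈ J' Z, ∀ ⦃Z' : C'⦄ (h : Z' ⟶ Z), S.arrows h →
      ∃ m : (FormalCoproduct.incl C').obj Z' ⟶ A',
        (FormalCoproduct.incl C').map h ≫ l = m ≫ f := by
  refine ⟨_, J'.pullback_stable (l.φ PUnit.unit) (hf (l.f PUnit.unit)), ?_⟩
  intro Z' h hh
  obtain ⟨W, k, e, he, hke⟩ := hh
  obtain ⟨i⟩ := he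
  refine ⟨FormalCoproduct.Hom.fromIncl i.1 k, ?_⟩
  refine FormalCoproduct.hom_ext ?_ ?_
  · funext x
    exact i.2.symm
  · intro x
    change (h ≫ l.φ PUnit.unit) ≫ eqToHom _ = k ≫ f.φ i.1
    rw [← hke]
    simp
end Groth.Agent.Lib.Helper62.SRCover
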