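import Mathlib
import Groth.Prelude.Def_Hyper
import Groth.Agent.Lib.Helper62.CoskZero
import Groth.Agent.Lib.Helper62.SRCover

/-! # `H^0` of the Cech complex of a hypercovering -/

set_option autoImplicit false
set_option backward.isDefEq.respectTransparency false
set_option backward.isDefEq.respectTransparency.types false

open CategoryTheory CategoryTheory.Limits Opposite Simplicial

universe u

namespace Groth.Agent.Lib.Helper62.HyperH0

open CoskZero SRCover

variable {C : Type u} [SmallCategory C] [HasPullbacks C] (J : GrothendieckTopology C) (X : C)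

instance : HasFiniteLimits (FormalCoproduct.{u} (Over X)) :=
  hasFiniteLimits_of_hasTerminal_and_pullbacks

variable (F : Sheaf J AddCommGrpCat.{u})

/-- the presheaf on `Over X` -/
abbrev P : (Over X)ᵒᵖ ⥤ AddCommGrpCat.{u} := (Over.forget X).op ⋙ F.obj

/-- its extension to formal coproducts -/
noncomputable abbrev E : (FormalCoproduct.{u} (Over X))ᵒᵖ ⥤ AddCommGrpCat.{u} :=
  (FormalCoproduct.evalOp.{u} (Over X) AddCommGrpCat.{u}).obj (P J X F)

lemma isSheaf_forget : Presieve.IsSheaf J (F.obj ⋙ forget AddCommGrpCat.{u}) :=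
  (isSheaf_iff_isSheaf_of_type _ _).1
    ((Presheaf.isSheaf_iff_isSheaf_forget J F.obj (forget AddCommGrpCat.{u})).1 F.property)

lemma sep {Z : Over X} (S : Sieve Z) (hS : S ∈ (J.over X) Z)
    (x y : (P J X F).obj (op Z))
    (h : ∀ ⦃Z' : Over X⦄ (g : Z' ⟶ Z), S.arrows g →
      ((P J X F).map g.op).hom x = ((P J X F).map g.op).hom y) : x = y := by
  have h1 := (isSheaf_forget J F) (Sieve.overEquiv Z S) ((J.mem_over_iff S).1 hS)
  refine h1.isSeparatedFor.ext ?_
  intro Y f hf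
  rw [Sieve.overEquiv_iff] at hf
  exact h _ hf

lemma E_map_π {A B : FormalCoproduct.{u} (Over X)} (f : A ⟶ B) (i : A.I) :
    (E J X F).map f.op ≫ Pi.π (fun i : A.I => (P J X F).obj (op (A.obj i))) i =
      Pi.π (fun j : B.I => (P J X F).obj (op (B.obj j))) (f.f i) ≫ (P J X F).map (f.φ i).op := by
  simp [E, FormalCoproduct.evalOp]

/-- the projection `E(incl Z) ⟶ P(Z)` -/
noncomputable abbrev πZ (Z : Over X) :
    (E J X F).obj (op ((FormalCoproduct.incl (Over X)).obj Z)) ⟶ (P J X F).obj (op Z) :=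
  Pi.π (fun _ : PUnit.{u + 1} => (P J X F).obj (op Z)) PUnit.unit

lemma πZ_injective (Z : Over X) : Function.Injective (πZ J X F Z).hom := by
  have : IsIso (πZ J X F Z) :=
    (inferInstance : IsIso
      (((FormalCoproduct.evalOpCompInlIsoId (Over X) AddCommGrpCat.{u}).app (P J X F)).app (op Z)).hom)
  intro x y hxy
  have h1 := congrArg (inv (πZ J X F Z)).hom hxy
  simpa using h1

variable (K : SimplicialObject (FormalCoproduct.{u} (Over X)))
  [∀ (n : ℕ) (G : (SimplexCategory.Truncated n)ᵒᵖ ⥤ FormalCoproduct.{u} (Over X)),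
      (SimplexCategory.Truncated.inclusion n).op.HasRightKanExtension G]

lemma equalize (hK : Hyper.IsHypercovering J X K)
    (s : (E J X F).obj (op (K.obj (op ⦋0⦌))))
    (hs : ((E J X F).map (K.δ 0).op).hom s = ((E J X F).map (K.δ 1).op).hom s)
    {Z : Over X} (a0 a1 : (FormalCoproduct.incl (Over X)).obj Z ⟶ K.obj (op ⦋0⦌)) :
    ((E J X F).map a0.op).hom s = ((E J X F).map a1.op).hom s := by
  obtain ⟨l, hl0, hl1⟩ := exists_lift (K := K) a0 a1
  obtain ⟨S, hS, hlift⟩ := sr_lift (J.over X) ((η 0 K).app (op ⦋1⦌)) (hK.2 0) l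
  apply πZ_injective J X F Z
  apply sep J X F S hS
  intro Z' g hg
  obtain ⟨m, hm⟩ := hlift g hg
  have key : ∀ (i : Fin 2) (a : (FormalCoproduct.incl (Over X)).obj Z ⟶ K.obj (op ⦋0⦌)),
      l ≫ p K i = a →
      ((P J X F).map g.op).hom ((πZ J X F Z).hom (((E J X F).map a.op).hom s)) =
        (πZ J X F Z').hom (((E J X F).map m.op).hom (((E J X F).map (K.δ i).op).hom s)) := by
    intro i a ha
    have e1 : (FormalCoproduct.incl (Over X)).map g ≫ a = m ≫ K.δ i := by
      rw [← ha, ← Category.assoc, hm, Category.assoc, η_p]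
    have e2 : (E J X F).map ((FormalCoproduct.incl (Over X)).map g).op ≫ πZ J X F Z' =
        πZ J X F Z ≫ (P J X F).map g.op :=
      E_map_π J X F ((FormalCoproduct.incl (Over X)).map g) PUnit.unit
    have e3 : ((P J X F).map g.op).hom ((πZ J X F Z).hom (((E J X F).map a.op).hom s)) =
        ((E J X F).map a.op ≫ (E J X F).map ((FormalCoproduct.incl (Over X)).map g).op ≫
          πZ J X F Z').hom s := by
      rw [e2]
      rfl
    rw [e3, ← Category.assoc, ← (E J X F).map_comp, ← op_comp, e1, op_comp, (E J X F).map_comp]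
    rfl
  rw [key 0 a0 hl0, key 1 a1 hl1, hs]

lemma d01 : (Hyper.cechCx X K F.obj).d 0 1 =
    (E J X F).map (K.δ 0).op - (E J X F).map (K.δ 1).op := by
  change AlgebraicTopology.AlternatingCofaceMapComplex.objD (K.rightOp ⋙ E J X F) 0 = _
  simp only [AlgebraicTopology.AlternatingCofaceMapComplex.objD]
  rw [Fin.sum_univ_two]
  have h0 : CosimplicialObject.δ (Functor.rightOp K ⋙ E J X F) (0 : Fin 2) =
      (E J X F).map (K.δ (0 : Fin 2)).op := rfl
  have h1 : CosimplicialObject.δ (Functor.rightOp K ⋙ E J X F) (1 : Fin 2) =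
      (E J X F).map (K.δ (1 : Fin 2)).op := rfl
  rw [h0, h1]
  generalize (E J X F).map (K.δ (0 : Fin 2)).op = α
  generalize (E J X F).map (K.δ (1 : Fin 2)).op = β
  simp only [Fin.val_zero, pow_zero, one_smul, Fin.val_one, pow_one, neg_smul]
  exact (sub_eq_add_neg α β).symm

/-- the restriction map `F(X) ⟶ E(K_0)` -/
noncomputable def ι : F.obj.obj (op X) ⟶ (E J X F).obj (op (K.obj (op ⦋0⦌))) :=
  Pi.lift (fun i => F.obj.map ((K.obj (op ⦋0⦌)).obj i).hom.op)

lemma ι_π (i : (K.obj (op ⦋0⦌)).I) :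
    ι J X F K ≫ Pi.π (fun i : (K.obj (op ⦋0⦌)).I => (P J X F).obj (op ((K.obj (op ⦋0⦌)).obj i))) i =
      F.obj.map ((K.obj (op ⦋0⦌)).obj i).hom.op := by
  simp [ι]

lemma ι_E_map {A : FormalCoproduct.{u} (Over X)} (f : A ⟶ K.obj (op ⦋0⦌)) :
    ι J X F K ≫ (E J X F).map f.op = Pi.lift (fun i => F.obj.map (A.obj i).hom.op) := by
  apply Pi.hom_ext
  intro i
  rw [Category.assoc, E_map_π, ← Category.assoc, ι_π]
  erw [Pi.lift_π]
  change F.obj.map ((K.obj (op ⦋0⦌)).obj (f.f i)).hom.op ≫ F.obj.map (f.φ i).left.op = _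
  rw [← F.obj.map_comp, ← op_comp]
  congr 2
  exact Over.w (f.φ i)

lemma ι_d : ι J X F K ≫ (Hyper.cechCx X K F.obj).d 0 1 = 0 := by
  rw [d01, Preadditive.comp_sub, ι_E_map, ι_E_map, sub_self]

lemma pi_ext {I : Type u} (G : I → AddCommGrpCat.{u}) (x y : (∏ᶜ G : AddCommGrpCat.{u}))
    (h : ∀ i, (Pi.π G i).hom x = (Pi.π G i).hom y) : x = y := by
  apply (Concrete.productEquiv G).injective
  funext i
  rw [Concrete.productEquiv_apply_apply, Concrete.productEquiv_apply_apply]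
  exact h i

lemma ι_apply_π (t : F.obj.obj (op X)) (i : (K.obj (op ⦋0⦌)).I) :
    (Pi.π (fun i : (K.obj (op ⦋0⦌)).I => (P J X F).obj (op ((K.obj (op ⦋0⦌)).obj i))) i).hom
      ((ι J X F K).hom t) = (F.obj.map ((K.obj (op ⦋0⦌)).obj i).hom.op).hom t := by
  have h := ι_π J X F K i
  have h2 := congrArg (fun φ => φ.hom t) h
  exact h2

lemma ι_injective
    (hK0 : Sieve.ofArrows (fun i => ((K.obj (op ⦋0⦌)).obj i).left)
      (fun i => ((K.obj (op ⦋0⦌)).obj i).hom) ∈ J X) :
    Function.Injective (ι J X F K).hom := by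
  intro t t' h
  have h1 := (isSheaf_forget J F) _ hK0
  refine h1.isSeparatedFor.ext ?_
  intro Y f hf
  obtain ⟨W, k, e, he, hke⟩ := hf
  obtain ⟨i⟩ := he
  have hi : (F.obj.map ((K.obj (op ⦋0⦌)).obj i).hom.op).hom t =
      (F.obj.map ((K.obj (op ⦋0⦌)).obj i).hom.op).hom t' := by
    rw [← ι_apply_π, ← ι_apply_π, h]
  subst hke
  change (F.obj.map (k ≫ ((K.obj (op ⦋0⦌)).obj i).hom).op).hom t =
    (F.obj.map (k ≫ ((K.obj (op ⦋0⦌)).obj i).hom).op).hom t'
  rw [op_comp, F.obj.map_comp]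
  change (F.obj.map k.op).hom ((F.obj.map ((K.obj (op ⦋0⦌)).obj i).hom.op).hom t) = 
    (F.obj.map k.op).hom ((F.obj.map ((K.obj (op ⦋0⦌)).obj i).hom.op).hom t')
  rw [hi]

lemma πZ_E_map (s : (E J X F).obj (op (K.obj (op ⦋0⦌)))) {Z : Over X}
    (i : (K.obj (op ⦋0⦌)).I) (g : Z ⟶ (K.obj (op ⦋0⦌)).obj i) :
    (πZ J X F Z).hom (((E J X F).map (FormalCoproduct.Hom.fromIncl i g).op).hom s) =
      (F.obj.map g.left.op).hom
        ((Pi.π (fun i : (K.obj (op ⦋0⦌)).I => (P J X F).obj (op ((K.obj (op ⦋0⦌)).obj i))) i).hom s) := by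
  have h := E_map_π J X F (FormalCoproduct.Hom.fromIncl i g) PUnit.unit
  have h2 := congrArg (fun φ => φ.hom s) h
  exact h2

lemma exists_preimage (hK : Hyper.IsHypercovering J X K)
    (s : (E J X F).obj (op (K.obj (op ⦋0⦌))))
    (hs : ((E J X F).map (K.δ 0).op).hom s = ((E J X F).map (K.δ 1).op).hom s) :
    ∃ t, (ι J X F K).hom t = s := by
  have h1 := (isSheaf_forget J F) _ hK.1
  have h2 : Presieve.IsSheafFor (F.obj ⋙ forget AddCommGrpCat.{u})
      (Presieve.ofArrows (fun i => ((K.obj (op ⦋0⦌)).obj i).left)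
        (fun i => ((K.obj (op ⦋0⦌)).obj i).hom)) :=
    (Presieve.isSheafFor_iff_generate _).2 h1
  rw [Presieve.isSheafFor_arrows_iff] at h2
  let x : ∀ i : (K.obj (op ⦋0⦌)).I,
      (F.obj ⋙ forget AddCommGrpCat.{u}).obj (op ((K.obj (op ⦋0⦌)).obj i).left) := fun i =>
    (Pi.π (fun i : (K.obj (op ⦋0⦌)).I => (P J X F).obj (op ((K.obj (op ⦋0⦌)).obj i))) i).hom s
  have hx : Presieve.Arrows.Compatible (F.obj ⋙ forget AddCommGrpCat.{u})
      (fun i => ((K.obj (op ⦋0⦌)).obj i).hom) x := by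
    intro i j W gi gj hij
    let Z : Over X := Over.mk (gi ≫ ((K.obj (op ⦋0⦌)).obj i).hom)
    let gi' : Z ⟶ (K.obj (op ⦋0⦌)).obj i := Over.homMk gi rfl
    let gj' : Z ⟶ (K.obj (op ⦋0⦌)).obj j := Over.homMk gj hij.symm
    have h3 := equalize J X F K hK s hs (FormalCoproduct.Hom.fromIncl i gi')
      (FormalCoproduct.Hom.fromIncl j gj')
    have h4 := congrArg (πZ J X F Z).hom h3
    rw [πZ_E_map, πZ_E_map] at h4
    exact h4
  obtain ⟨t, ht, _⟩ := h2 x hx
  refine ⟨t, ?_⟩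
  apply pi_ext
  intro i
  rw [ι_apply_π]
  exact ht i

theorem h0_iso (hK : Hyper.IsHypercovering J X K) :
    Nonempty (Hyper.cechH X K F.obj 0 ≅ F.obj.obj (op X)) := by
  let Kc := Hyper.cechCx X K F.obj
  let S : ShortComplex AddCommGrpCat.{u} :=
    ShortComplex.mk (ι J X F K) (Kc.d 0 1) (ι_d J X F K)
  have hmono : Mono S.f := (AddCommGrpCat.mono_iff_injective _).2 (ι_injective J X F K hK.1)
  have hex : S.Exact := by
    rw [ShortComplex.ab_exact_iff]
    intro s hs
    apply exists_preimage J X F K hK s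
    have h1 : ((E J X F).map (K.δ 0).op - (E J X F).map (K.δ 1).op).hom s = 0 := by
      rw [← d01]
      exact hs
    exact sub_eq_zero.1 h1
  have hk := hex.fIsKernel
  exact ⟨Kc.isoHomologyπ₀.symm ≪≫
    IsLimit.conePointUniqueUpToIso (Kc.cyclesIsKernel 0 1 (by simp)) hk⟩

end Groth.Agent.Lib.Helper62.HyperH0
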