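import Mathlib
import Groth.Prelude.Def_Hyper
import Groth.Agent.Lib.Helper62.SRCover

/-! # Local lifting property = covering of semi-representable objects -/

set_option autoImplicit false
set_option backward.isDefEq.respectTransparency false
set_option backward.isDefEq.respectTransparency.types false

open CategoryTheory CategoryTheory.Limits Opposite

universe u

namespace Groth.Agent.Lib.Helper62.LLP

open SRCover

variable {C' : Type u} [SmallCategory C'] (J' : GrothendieckTopology C')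

/-- local lifting property of a map of semi-representable objects -/
def HasLLP {A B : FormalCoproduct.{u} C'} (f : A ⟶ B) : Prop :=
  ∀ ⦃Z : C'⦄ (l : (FormalCoproduct.incl C').obj Z ⟶ B),
    ∃ S ∈ J' Z, ∀ ⦃Z' : C'⦄ (h : Z' ⟶ Z), S.arrows h →
      ∃ m : (FormalCoproduct.incl C').obj Z' ⟶ A,
        (FormalCoproduct.incl C').map h ≫ l = m ≫ f

theorem llp_of_sr {A B : FormalCoproduct.{u} C'} (f : A ⟶ B) (hf : Hyper.IsSRCovering J' f) :
    HasLLP J' f := fun _ l => sr_lift J' f hf l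

theorem sr_of_llp {A B : FormalCoproduct.{u} C'} (f : A ⟶ B) (hf : HasLLP J' f) :
    Hyper.IsSRCovering J' f := by
  intro j
  obtain ⟨S, hS, hl⟩ := hf (FormalCoproduct.Hom.fromIncl j (𝟙 (B.obj j)))
  refine J'.superset_covering ?_ hS
  intro Z' h hh
  obtain ⟨m, hm⟩ := hl h hh
  rw [FormalCoproduct.hom_ext_iff] at hm
  obtain ⟨h1, h2⟩ := hm
  have hj : f.f (m.f PUnit.unit) = j := (congrFun h1 PUnit.unit).symm
  have h3 := h2 PUnit.unit
  refine ⟨A.obj (m.f PUnit.unit), m.φ PUnit.unit, f.φ (m.f PUnit.unit) ≫ eqToHom (by rw [hj]),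
    Presieve.ofArrows.mk (⟨m.f PUnit.unit, hj⟩ : {i : A.I // f.f i = j}), ?_⟩
  have h4 : (h ≫ 𝟙 (B.obj j)) ≫ eqToHom (by rw [hj]) =
      m.φ PUnit.unit ≫ f.φ (m.f PUnit.unit) := h3
  rw [Category.comp_id] at h4
  rw [← Category.assoc, ← h4, Category.assoc, eqToHom_trans, eqToHom_refl, Category.comp_id]

theorem llp_comp {A B D : FormalCoproduct.{u} C'} (f : A ⟶ B) (g : B ⟶ D)
    (hf : HasLLP J' f) (hg : HasLLP J' g) : HasLLP J' (f ≫ g) := by
  intro Z l
  obtain ⟨S, hS, hl⟩ := hg l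
  choose m hm using hl
  refine ⟨Sieve.bind S.arrows (fun Z' h hh => (hf (m h hh)).choose), ?_, ?_⟩
  · exact J'.bind_covering hS (fun Z' h hh => (hf (m h hh)).choose_spec.1)
  · intro Z'' k hk
    obtain ⟨Z', h', h, hh, hh', rfl⟩ := hk
    obtain ⟨m', hm'⟩ := (hf (m h hh)).choose_spec.2 h' hh'
    refine ⟨m', ?_⟩
    rw [Functor.map_comp, Category.assoc, hm h hh, ← Category.assoc, hm', Category.assoc]

end Groth.Agent.Lib.Helper62.LLP
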