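import Mathlib
import Groth.Prelude.Def_Hyper
import Groth.Agent.Lib.Helper62.BHyper

/-! # Existence of hypercoverings with components in a generating class of objects -/

set_option autoImplicit false
set_option backward.isDefEq.respectTransparency false
set_option backward.isDefEq.respectTransparency.types false

open CategoryTheory CategoryTheory.Limits Opposite Simplicial SimplexCategory

universe u

namespace Groth.Agent.Lib.Helper62.BHyperOver

open BSimp BGlue CoskZero CoskGen LLP BHyper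

variable {C : Type u} [SmallCategory C] [HasPullbacks C] (J : GrothendieckTopology C)
  (B : Set C) (X : C)

/-- objects over `X` whose source is in `B` -/
def Bx : Set (Over X) := {Y | Y.left ∈ B}

lemma hcov (h1 : ∀ U : C, ∃ (ι : Type u) (V : ι → C) (f : ∀ i, V i ⟶ U),
      Sieve.ofArrows V f ∈ J U ∧ ∀ i, V i ∈ B) (Z : Over X) :
    ∃ S ∈ (J.over X) Z, ∀ ⦃Z' : Over X⦄ (h : Z' ⟶ Z), S.arrows h →
      ∃ (U : Over X) (_ : U ∈ Bx B X) (g : Z' ⟶ U) (u : U ⟶ Z), g ≫ u = h := by
  obtain ⟨ι, V, f, hc, hm⟩ := h1 Z.left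
  refine ⟨(Sieve.overEquiv Z).symm (Sieve.ofArrows V f), J.overEquiv_symm_mem_over _ _ hc, ?_⟩
  intro Z' h hh
  rw [Sieve.overEquiv_symm_iff] at hh
  obtain ⟨i, a, ha⟩ := (Sieve.mem_ofArrows_iff V f h.left).1 hh
  refine ⟨Over.mk (f i ≫ Z.hom), hm i, Over.homMk a ?_, Over.homMk (f i) rfl, ?_⟩
  · change a ≫ f i ≫ Z.hom = Z'.hom
    rw [← Category.assoc, ← ha]
    exact Over.w h
  · apply Over.OverMorphism.ext
    exact ha.symm

theorem exists_hypercovering
    (h1 : ∀ U : C, ∃ (ι : Type u) (V : ι → C) (f : ∀ i, V i ⟶ U),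
      Sieve.ofArrows V f ∈ J U ∧ ∀ i, V i ∈ B)
    [∀ (n : ℕ) (F : (SimplexCategory.Truncated n)ᵒᵖ ⥤ FormalCoproduct.{u} (Over X)),
      (SimplexCategory.Truncated.inclusion n).op.HasRightKanExtension F] :
    ∃ K : SimplicialObject (FormalCoproduct.{u} (Over X)), Hyper.IsHypercovering J X K ∧
      ∀ (n : ℕ) (i : (K.obj (op (SimplexCategory.mk n))).I),
        ((K.obj (op (SimplexCategory.mk n))).obj i).left ∈ B := by
  refine ⟨BSimp.K (Bx B X), ⟨?_, ?_⟩, ?_⟩
  · obtain ⟨ι, V, f, hc, hm⟩ := h1 X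
    refine J.superset_covering ?_ hc
    intro Y g hg
    obtain ⟨i, a, rfl⟩ := (Sieve.mem_ofArrows_iff V f g).1 hg
    apply Sieve.downward_closed
    exact Sieve.ofArrows_mk (fun i => (((BSimp.K (Bx B X)).obj (op ⦋0⦌)).obj i).left)
      (fun i => (((BSimp.K (Bx B X)).obj (op ⦋0⦌)).obj i).hom)
      (BSimp.const (Bx B X) (Over.mk (f i)) (hm i) 0)
  · intro n
    exact sr_of_llp (J.over X) _ (llp_η (Bx B X) n (J.over X) (hcov J B X h1))
  · intro n σ
    exact σ.mem n id

end Groth.Agent.Lib.Helper62.BHyperOver
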