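import Mathlib
import Groth.Prelude.Def_Hyper
import Groth.Agent.Lib.Helper62.BHyper

/-! # Existence of hypercoverings with components in a generating class of objects over `X` -/

set_option autoImplicit false
set_option backward.isDefEq.respectTransparency false
set_option backward.isDefEq.respectTransparency.types false

open CategoryTheory CategoryTheory.Limits Opposite Simplicial SimplexCategory

universe u

namespace Groth.Agent.Lib.Helper62.BHyperOver2

open BSimp BGlue CoskZero CoskGen LLP BHyper

variable {C : Type u} [SmallCategory C] [HasPullbacks C] (J : GrothendieckTopology C) (X : C)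

theorem exists_hypercovering' (Bx : Set (Over X))
    (hcov : ∀ Z : Over X, ∃ S ∈ (J.over X) Z, ∀ ⦃Z' : Over X⦄ (h : Z' ⟶ Z), S.arrows h →
      ∃ (U : Over X) (_ : U ∈ Bx) (g : Z' ⟶ U) (u : U ⟶ Z), g ≫ u = h)
    [∀ (n : ℕ) (F : (SimplexCategory.Truncated n)ᵒᵖ ⥤ FormalCoproduct.{u} (Over X)),
      (SimplexCategory.Truncated.inclusion n).op.HasRightKanExtension F] :
    ∃ K : SimplicialObject (FormalCoproduct.{u} (Over X)), Hyper.IsHypercovering J X K ∧
      ∀ (n : ℕ) (i : (K.obj (op (SimplexCategory.mk n))).I),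
        (K.obj (op (SimplexCategory.mk n))).obj i ∈ Bx := by
  refine ⟨BSimp.K Bx, ⟨?_, ?_⟩, ?_⟩
  · obtain ⟨S, hS, hfac⟩ := hcov (Over.mk (𝟙 X))
    rw [J.mem_over_iff] at hS
    refine J.superset_covering ?_ hS
    intro Y f hf
    rw [Sieve.overEquiv_iff] at hf
    obtain ⟨U, hU, g, u, hgu⟩ := hfac _ hf
    have h1 : f = g.left ≫ U.hom := by
      have h2 := congrArg (fun φ => φ.left) hgu
      have h3 : g.left ≫ u.left = f := h2
      have h4 : u.left ≫ 𝟙 X = U.hom := Over.w u
      have h5 : u.left = U.hom := (Category.comp_id _).symm.trans h4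
      exact h3.symm.trans (congrArg (fun z => g.left ≫ z) h5)
    rw [h1]
    apply Sieve.downward_closed
    exact Sieve.ofArrows_mk (fun i => (((BSimp.K Bx).obj (op ⦋0⦌)).obj i).left)
      (fun i => (((BSimp.K Bx).obj (op ⦋0⦌)).obj i).hom) (BSimp.const Bx U hU 0)
  · intro n
    exact sr_of_llp (J.over X) _ (llp_η Bx n (J.over X) hcov)
  · intro n σ
    exact σ.mem n id

end Groth.Agent.Lib.Helper62.BHyperOver2
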