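import Mathlib
import Groth.Prelude.Def_Hyper

/-! # Coskeleta under weak limit hypotheses

Copies of the general lemmas of `CoskZero` and `CoskGen`, assuming only that the limits computing
the pointwise right Kan extensions exist (instead of all finite limits). -/

set_option autoImplicit false
set_option backward.isDefEq.respectTransparency false
set_option backward.isDefEq.respectTransparency.types false

open CategoryTheory CategoryTheory.Limits Opposite Simplicial SimplexCategory CategoryTheory.Functor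

universe v u

namespace Groth.Agent.Lib.Helper62.CoskW

abbrev L (n : ℕ) := (SimplexCategory.Truncated.inclusion n).op

variable {D : Type u} [Category.{v} D]
  [∀ (n : ℕ) (Y : SimplexCategoryᵒᵖ), HasLimitsOfShape (StructuredArrow Y (L n)) D]

instance hpw (n : ℕ) (F : (SimplexCategory.Truncated n)ᵒᵖ ⥤ D) :
    (L n).HasPointwiseRightKanExtension F := by
  intro Y
  dsimp [Functor.HasPointwiseRightKanExtensionAt]
  infer_instance

variable (n : ℕ)
  [∀ (F : (SimplexCategory.Truncated n)ᵒᵖ ⥤ D), (SimplexCategory.Truncated.inclusion n).op.HasRightKanExtension F]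
  (K : SimplicialObject D)

/-- the truncation -/
abbrev T : (SimplexCategory.Truncated n)ᵒᵖ ⥤ D := (SimplicialObject.truncation n).obj K

/-- the coskeleton -/
noncomputable abbrev R : SimplicialObject D := (SimplicialObject.cosk n).obj K

/-- the counit -/
noncomputable abbrev ε : L n ⋙ R n K ⟶ T n K := (L n).ranCounit.app (T n K)

/-- the unit -/
noncomputable abbrev η : K ⟶ R n K := (SimplicialObject.coskAdj n).unit.app K

lemma η_ε (a : (SimplexCategory.Truncated n)ᵒᵖ) :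
    (η n K).app ((L n).obj a) ≫ (ε n K).app a = 𝟙 _ :=
  (L n).ranCounit_app_app_ranAdjunction_unit_app_app K a

noncomputable def hB : (RightExtension.mk (R n K) (ε n K)).IsPointwiseRightKanExtension :=
  (L n).isPointwiseRightKanExtensionRanCounit (T n K)

lemma hom_ext_R {p : ℕ} {W : D} (f g : W ⟶ (R n K).obj (op ⦋p⦌))
    (h : ∀ j : StructuredArrow (op ⦋p⦌) (L n),
      f ≫ (R n K).map j.hom ≫ (ε n K).app j.right = g ≫ (R n K).map j.hom ≫ (ε n K).app j.right) :
    f = g :=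
  IsLimit.hom_ext (show IsLimit ((RightExtension.mk (R n K) (ε n K)).coneAt (op ⦋p⦌)) from hB n K (op ⦋p⦌)) h



/-- the structured arrow attached to `θ : a ⟶ ⦋p⦌` with `a.len ≤ n` -/
def mkJ {p : ℕ} (a : SimplexCategory) (ha : a.len ≤ n) (θ : a ⟶ ⦋p⦌) :
    StructuredArrow (op ⦋p⦌) (L n) :=
  StructuredArrow.mk (Y := op ⟨a, ha⟩) (show op ⦋p⦌ ⟶ (L n).obj (op ⟨a, ha⟩) from θ.op)

variable (K : SimplicialObject D)

/-- the component of `(cosk_n K)_p` at a structured arrow -/
noncomputable def compo {p : ℕ} (j : StructuredArrow (op ⦋p⦌) (L n)) :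
    (R n K).obj (op ⦋p⦌) ⟶ K.obj (op j.right.unop.obj) :=
  (R n K).map j.hom ≫ (ε n K).app j.right

/-- the component at `θ : a ⟶ ⦋p⦌` -/
noncomputable def cmp {p : ℕ} (a : SimplexCategory) (ha : a.len ≤ n) (θ : a ⟶ ⦋p⦌) :
    (R n K).obj (op ⦋p⦌) ⟶ K.obj (op a) :=
  compo n K (mkJ n a ha θ)

lemma hom_ext_cmp {p : ℕ} {W : D} (f g : W ⟶ (R n K).obj (op ⦋p⦌))
    (h : ∀ (a : SimplexCategory) (ha : a.len ≤ n) (θ : a ⟶ ⦋p⦌),
      f ≫ cmp n K a ha θ = g ≫ cmp n K a ha θ) : f = g := by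
  apply hom_ext_R n K
  intro j
  obtain ⟨l, r, hom⟩ := j
  exact h r.unop.obj r.unop.property hom.unop

lemma η_cmp {p : ℕ} (a : SimplexCategory) (ha : a.len ≤ n) (θ : a ⟶ ⦋p⦌) :
    (η n K).app (op ⦋p⦌) ≫ cmp n K a ha θ = K.map θ.op := by
  unfold cmp compo
  rw [← Category.assoc, ← (η n K).naturality, Category.assoc]
  have h' : (η n K).app (op a) ≫ (ε n K).app (op ⟨a, ha⟩) = 𝟙 _ := η_ε n K (op ⟨a, ha⟩)
  erw [h', Category.comp_id]
  rfl

lemma cmp_nat {p : ℕ} (a a' : SimplexCategory) (ha : a.len ≤ n) (ha' : a'.len ≤ n)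
    (θ : a ⟶ ⦋p⦌) (ψ : a' ⟶ a) :
    cmp n K a ha θ ≫ K.map ψ.op = cmp n K a' ha' (ψ ≫ θ) := by
  let φ : mkJ n a ha θ ⟶ mkJ n a' ha' (ψ ≫ θ) :=
    StructuredArrow.homMk (Quiver.Hom.op (ObjectProperty.homMk ψ :
      (⟨a', ha'⟩ : SimplexCategory.Truncated n) ⟶ ⟨a, ha⟩)) (by rfl)
  have h := ((RightExtension.mk (R n K) (ε n K)).coneAt (op ⦋p⦌)).π.naturality φ
  have h2 : 𝟙 _ ≫ cmp n K a' ha' (ψ ≫ θ) = cmp n K a ha θ ≫ K.map ψ.op := h
  rw [Category.id_comp] at h2
  exact h2.symm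

variable {K} in
lemma cosk_map_cmp {K' : SimplicialObject D} (f : K ⟶ K') {p : ℕ} (a : SimplexCategory)
    (ha : a.len ≤ n) (θ : a ⟶ ⦋p⦌) :
    ((SimplicialObject.cosk n).map f).app (op ⦋p⦌) ≫ cmp n K' a ha θ =
      cmp n K a ha θ ≫ f.app (op a) := by
  unfold cmp compo
  have h1 := ((SimplicialObject.cosk n).map f).naturality (mkJ n a ha θ).hom
  have h2 := congrArg (fun φ => φ.app (op ⟨a, ha⟩))
    ((L n).ranCounit.naturality ((SimplicialObject.truncation n).map f))
  have h3 : ((SimplicialObject.cosk n).map f).app (op a) ≫ (ε n K').app (op ⟨a, ha⟩) =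
      (ε n K).app (op ⟨a, ha⟩) ≫ f.app (op a) := h2
  rw [← Category.assoc]
  erw [← h1]
  rw [Category.assoc]
  erw [h3]
  rw [Category.assoc]
  rfl

end Groth.Agent.Lib.Helper62.CoskW
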