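import Mathlib
import Groth.Prelude.Def_Hyper
import Groth.Agent.Lib.Helper62.BHyper
import Groth.Agent.Lib.Helper62.CoskW

/-! # The universal simplicial object with components in `Bx`: lifting against coskeleta, weak limit hypotheses -/

set_option autoImplicit false
set_option backward.isDefEq.respectTransparency false
set_option backward.isDefEq.respectTransparency.types false

open CategoryTheory CategoryTheory.Limits Opposite Simplicial SimplexCategory

universe u

namespace Groth.Agent.Lib.Helper62.BHyperW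

open BSimp BGlue CoskW LLP



variable {D : Type u} [SmallCategory D]
  [∀ (n : ℕ) (Y : SimplexCategoryᵒᵖ),
    HasLimitsOfShape (StructuredArrow Y (CoskW.L n)) (FormalCoproduct.{u} D)] (Bx : Set D)
  (n : ℕ)
  [∀ (F : (SimplexCategory.Truncated n)ᵒᵖ ⥤ FormalCoproduct.{u} D),
    (SimplexCategory.Truncated.inclusion n).op.HasRightKanExtension F]

section Boundary

variable {Z : D} (l : (FormalCoproduct.incl D).obj Z ⟶ (R n (BSimp.K Bx)).obj (op ⦋n + 1⦌))

/-- the components of a point of the coskeleton -/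
noncomputable def P (a : SimplexCategory) (ha : a.len ≤ n) (θ : a ⟶ ⦋n + 1⦌) :
    (FormalCoproduct.incl D).obj Z ⟶ Kobj Bx a.len :=
  l ≫ cmp n (BSimp.K Bx) a ha θ

lemma P_nat (a a' : SimplexCategory) (ha : a.len ≤ n) (ha' : a'.len ≤ n) (θ : a ⟶ ⦋n + 1⦌)
    (ψ : a' ⟶ a) :
    P Bx n l a ha θ ≫ Kmap (fun x => ψ.toOrderHom x) = P Bx n l a' ha' (ψ ≫ θ) := by
  unfold P
  rw [Category.assoc]
  congr 1
  exact cmp_nat n (BSimp.K Bx) a a' ha ha' θ ψ

lemma compat_aux (j j' : Fin (n + 2)) (k : ℕ) (π π' : Fn k n)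
    (h : j.succAbove ∘ π = j'.succAbove ∘ π') :
    (∀ (k' : ℕ) (ψ : Fn k' k), Mp (P Bx n l ⦋n⦌ le_rfl (δ j)) k k' π ψ =
      Mp (P Bx n l ⦋n⦌ le_rfl (δ j')) k k' π' ψ) ∧
    Np (P Bx n l ⦋n⦌ le_rfl (δ j)) k π = Np (P Bx n l ⦋n⦌ le_rfl (δ j')) k π' := by
  by_cases hjj : j = j'
  · subst hjj
    have hπ : π = π' := by
      funext x
      exact Fin.succAbove_right_injective (congrFun h x)
    subst hπ
    exact ⟨fun _ _ => rfl, rfl⟩
  · obtain ⟨i', hi'⟩ := Fin.exists_succAbove_eq (Ne.symm hjj)
    obtain ⟨i, hi⟩ := Fin.exists_succAbove_eq hjj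
    have hmiss : ∀ x, π x ≠ i' := by
      intro x hx
      have h1 := congrFun h x
      simp only [Function.comp_apply] at h1
      rw [hx, hi'] at h1
      exact Fin.succAbove_ne j' (π' x) h1.symm
    have hmiss' : ∀ x, π' x ≠ i := by
      intro x hx
      have h1 := congrFun h x
      simp only [Function.comp_apply] at h1
      rw [hx, hi] at h1
      exact Fin.succAbove_ne j (π x) h1
    cases n with
    | zero =>
      have h0 : π 0 = i' := by
        apply Fin.ext
        have := (π 0).isLt
        have := i'.isLt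
        omega
      exact absurd h0 (hmiss 0)
    | succ n' =>
      have h2 : ∀ x, ∃ y, i'.succAbove y = π x := fun x => Fin.exists_succAbove_eq (hmiss x)
      choose ρ hρ using h2
      have h3 : ∀ x, ∃ y, i.succAbove y = π' x := fun x => Fin.exists_succAbove_eq (hmiss' x)
      choose ρ' hρ' using h3
      have eπ : π = i'.succAbove ∘ ρ := funext fun x => (hρ x).symm
      have eπ' : π' = i.succAbove ∘ ρ' := funext fun x => (hρ' x).symm
      have hfun := BHyper.succAbove_comp_eq j j' i' i hi' hi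
      have hρρ : ρ = ρ' := by
        funext x
        have h1 := congrFun h x
        simp only [Function.comp_apply] at h1
        rw [← hρ x, ← hρ' x] at h1
        have h4 := congrFun hfun (ρ x)
        simp only [Function.comp_apply] at h4
        rw [h4] at h1
        exact Fin.succAbove_right_injective (Fin.succAbove_right_injective h1)
      subst hρρ
      have hδ := BHyper.δ_comp_eq j j' i' i hi' hi
      have e1 := P_nat Bx (n' + 1) l ⦋n' + 1⦌ ⦋n'⦌ le_rfl (Nat.le_succ n') (δ j) (δ i')
      have e2 := P_nat Bx (n' + 1) l ⦋n' + 1⦌ ⦋n'⦌ le_rfl (Nat.le_succ n') (δ j') (δ i)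
      rw [hδ] at e1
      have e3 := e1.trans e2.symm
      subst eπ
      subst eπ'
      constructor
      · intro k' ψ
        have h5 := congrArg (fun q => Mp q k k' ρ ψ) e3
        exact h5
      · have h5 := congrArg (fun q => Np q k ρ) e3
        simp only [Np_comp_Kmap] at h5
        exact h5

/-- the boundary data of a point of the coskeleton -/
noncomputable def bdry : Bdry Bx n Z where
  p j := P Bx n l ⦋n⦌ le_rfl (δ j)
  compatM j j' k π π' h := (compat_aux Bx n l j j' k π π' h).1
  compatN j j' k π π' h := (compat_aux Bx n l j j' k π π' h).2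

end Boundary

variable (J' : GrothendieckTopology D)

/-- the unit of the coskeleton adjunction has the local lifting property -/
theorem llp_η
    (hcov : ∀ Z : D, ∃ S ∈ J' Z, ∀ ⦃Z' : D⦄ (h : Z' ⟶ Z), S.arrows h →
      ∃ (U : D) (_ : U ∈ Bx) (g : Z' ⟶ U) (u : U ⟶ Z), g ≫ u = h) :
    HasLLP J' ((η n (BSimp.K Bx)).app (op ⦋n + 1⦌)) := by
  intro Z l
  obtain ⟨S, hS, hfac⟩ := hcov Z
  refine ⟨S, hS, ?_⟩
  intro Z' h hh
  obtain ⟨U, hU, g, u, rfl⟩ := hfac h hh
  refine ⟨(FormalCoproduct.incl D).map g ≫ gpt (bdry Bx n l) u hU, ?_⟩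
  rw [Functor.map_comp, Category.assoc, Category.assoc]
  congr 1
  apply hom_ext_cmp
  intro a ha θ
  rw [Category.assoc, Category.assoc, η_cmp]
  have hns : ¬ Function.Surjective θ.toOrderHom := by
    intro hsurj
    have h1 := Fintype.card_le_of_surjective _ hsurj
    simp only [Fintype.card_fin] at h1
    omega
  obtain ⟨j, ψ, rfl⟩ := SimplexCategory.eq_comp_δ_of_not_surjective θ hns
  rw [← cmp_nat n (BSimp.K Bx) ⦋n⦌ a le_rfl ha (δ j) ψ, op_comp, Functor.map_comp,
    ← Category.assoc, ← Category.assoc, ← Category.assoc]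
  congr 1
  rw [Category.assoc]
  exact (gpt_face (bdry Bx n l) u hU j).symm

end Groth.Agent.Lib.Helper62.BHyperW
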