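import Mathlib
import Groth.Prelude.Def_Hyper
import Groth.Agent.Lib.Helper86.TruncFin
import Groth.Agent.Lib.Helper62.CoskW

/-! # Finite nonempty limits in categories of formal coproducts -/

set_option autoImplicit false
set_option backward.isDefEq.respectTransparency false
set_option backward.isDefEq.respectTransparency.types false

open CategoryTheory CategoryTheory.Limits Opposite Simplicial SimplexCategory

universe w v' u' v u

namespace Groth.Agent.Lib.Helper62.FCLimits

section General

variable {E : Type u'} [Category.{v'} E] [HasBinaryProducts E]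

theorem hasProduct_fin_succ (n : ℕ) : ∀ (f : Fin (n + 1) → E), HasProduct f := by
  induction n with
  | zero =>
    intro f
    haveI : Subsingleton (Fin (0 + 1)) := (inferInstance : Subsingleton (Fin 1))
    haveI : Nonempty (Fin (0 + 1)) := ⟨0⟩
    infer_instance
  | succ n ih =>
    intro f
    haveI := ih
    exact HasLimit.mk ⟨_, extendFanIsLimit f (limit.isLimit _) (limit.isLimit _)⟩

theorem hasLimitsOfShape_discrete (α : Type w) [Finite α] [Nonempty α] :
    HasLimitsOfShape (Discrete α) E := by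
  obtain ⟨n, ⟨e⟩⟩ := Finite.exists_equiv_fin α
  cases n with
  | zero => exact (IsEmpty.false (e (Classical.arbitrary α))).elim
  | succ n =>
    haveI : HasLimitsOfShape (Discrete (Fin (n + 1))) E :=
      ⟨fun K => by
        let that : (Discrete.functor fun i => K.obj ⟨i⟩) ≅ K :=
          Discrete.natIso fun ⟨_⟩ => Iso.refl _
        rw [← hasLimit_iff_of_iso that]
        exact hasProduct_fin_succ (E := E) n _⟩
    exact hasLimitsOfShape_of_equivalence (Discrete.equivalence e.symm)

theorem hasLimitsOfShape_of_finite_nonempty [HasEqualizers E] (𝒥 : Type w) [SmallCategory 𝒥]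
    [FinCategory 𝒥] [Nonempty 𝒥] : HasLimitsOfShape 𝒥 E := by
  constructor
  intro F
  haveI : HasLimitsOfShape (Discrete 𝒥) E := hasLimitsOfShape_discrete 𝒥
  haveI : Finite (Σ p : 𝒥 × 𝒥, p.1 ⟶ p.2) := inferInstance
  haveI : Nonempty (Σ p : 𝒥 × 𝒥, p.1 ⟶ p.2) :=
    ⟨⟨(Classical.arbitrary 𝒥, Classical.arbitrary 𝒥), 𝟙 _⟩⟩
  haveI : HasLimitsOfShape (Discrete (Σ p : 𝒥 × 𝒥, p.1 ⟶ p.2)) E := hasLimitsOfShape_discrete _
  exact hasLimit_of_equalizer_and_product F

end General

section FC

variable {C : Type u} [Category.{v} C] [HasBinaryProducts C]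

/-- the product of two formal coproducts -/
noncomputable def prodObj (A B : FormalCoproduct.{w} C) : FormalCoproduct.{w} C :=
  ⟨A.I × B.I, fun p => A.obj p.1 ⨯ B.obj p.2⟩

/-- first projection -/
noncomputable def prodFst (A B : FormalCoproduct.{w} C) : prodObj A B ⟶ A :=
  ⟨Prod.fst, fun _ => prod.fst⟩

/-- second projection -/
noncomputable def prodSnd (A B : FormalCoproduct.{w} C) : prodObj A B ⟶ B :=
  ⟨Prod.snd, fun _ => prod.snd⟩

/-- the pairing -/
noncomputable def prodLift {A B W : FormalCoproduct.{w} C} (f : W ⟶ A) (g : W ⟶ B) :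
    W ⟶ prodObj A B :=
  ⟨fun i => (f.f i, g.f i), fun i => prod.lift (f.φ i) (g.φ i)⟩

lemma prodLift_fst {A B W : FormalCoproduct.{w} C} (f : W ⟶ A) (g : W ⟶ B) :
    prodLift f g ≫ prodFst A B = f := by
  refine FormalCoproduct.hom_ext rfl ?_
  intro i
  change (prod.lift (f.φ i) (g.φ i) ≫ prod.fst) ≫ eqToHom _ = _
  simp

lemma prodLift_snd {A B W : FormalCoproduct.{w} C} (f : W ⟶ A) (g : W ⟶ B) :
    prodLift f g ≫ prodSnd A B = g := by
  refine FormalCoproduct.hom_ext rfl ?_
  intro i
  change (prod.lift (f.φ i) (g.φ i) ≫ prod.snd) ≫ eqToHom _ = _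
  simp

lemma prodLift_uniq {A B W : FormalCoproduct.{w} C} (m : W ⟶ prodObj A B) :
    m = prodLift (m ≫ prodFst A B) (m ≫ prodSnd A B) := by
  refine FormalCoproduct.hom_ext rfl ?_
  intro i
  change m.φ i ≫ eqToHom _ = prod.lift (m.φ i ≫ prod.fst) (m.φ i ≫ prod.snd)
  rw [eqToHom_refl, Category.comp_id]
  apply Limits.prod.hom_ext
  · rw [prod.lift_fst]
  · rw [prod.lift_snd]

/-- the product cone is a limit -/
noncomputable def isLimitProd (A B : FormalCoproduct.{w} C) :
    IsLimit (BinaryFan.mk (prodFst A B) (prodSnd A B)) :=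
  BinaryFan.IsLimit.mk _ (fun f g => prodLift f g) (fun f g => prodLift_fst f g)
    (fun f g => prodLift_snd f g) (fun f g m h1 h2 => by
      rw [prodLift_uniq m]
      subst h1
      subst h2
      rfl)

instance : HasBinaryProducts (FormalCoproduct.{w} C) :=
  haveI : ∀ A B : FormalCoproduct.{w} C, HasLimit (pair A B) := fun A B =>
    ⟨⟨⟨_, isLimitProd A B⟩⟩⟩
  hasBinaryProducts_of_hasLimit_pair _

variable [HasPullbacks C]

instance : HasEqualizers (FormalCoproduct.{w} C) :=
  hasEqualizers_of_hasPullbacks_and_binary_products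

open Groth.Agent.Lib.Helper86.TruncFin in
instance limStructured (n : ℕ) (Y : SimplexCategoryᵒᵖ) :
    HasLimitsOfShape (StructuredArrow Y (CoskW.L n)) (FormalCoproduct.{w} C) := by
  haveI : Nonempty (StructuredArrow Y (CoskW.L n)) :=
    ⟨StructuredArrow.mk (Y := op (⟨⦋0⦌, Nat.zero_le n⟩ : SimplexCategory.Truncated n))
      (show Y ⟶ (CoskW.L n).obj (op ⟨⦋0⦌, Nat.zero_le n⟩) from
        (SimplexCategory.const ⦋0⦌ Y.unop 0).op)⟩
  exact hasLimitsOfShape_of_finite_nonempty _

end FC

end Groth.Agent.Lib.Helper62.FCLimits
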