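import Mathlib
import Groth.Prelude.Def_Hyper
import Groth.Agent.Lib.Helper62.CoskZero
import Groth.Agent.Lib.Helper62.SRCover

/-! # Sections of the presheaf of a semi-representable object; coverings are locally surjective -/

set_option autoImplicit false
set_option backward.isDefEq.respectTransparency false
set_option backward.isDefEq.respectTransparency.types false

open CategoryTheory CategoryTheory.Limits Opposite Simplicial

universe u

namespace Groth.Agent.Lib.Helper62.HyperSite

open SRCover

variable {C' : Type u} [SmallCategory C']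

/-- the section of `F(B')` over `Z` attached to a map `incl Z ⟶ B'` -/
noncomputable def sec {B' : FormalCoproduct.{u} C'} {Z : C'}
    (l : (FormalCoproduct.incl C').obj Z ⟶ B') :
    (FormalCoproduct.yoneda.obj B').obj (op Z) :=
  (Sigma.ι (fun i : B'.I => yoneda.obj (B'.obj i)) (l.f PUnit.unit)).app (op Z) (l.φ PUnit.unit)

lemma sec_surjective {B' : FormalCoproduct.{u} C'} {Z : C'}
    (x : (FormalCoproduct.yoneda.obj B').obj (op Z)) :
    ∃ l : (FormalCoproduct.incl C').obj Z ⟶ B', sec l = x := by
  have hc := isColimitOfPreserves ((evaluation C'ᵒᵖ (Type u)).obj (op Z))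
    (colimit.isColimit (Discrete.functor (fun i : B'.I => yoneda.obj (B'.obj i))))
  obtain ⟨⟨i⟩, g, hg⟩ := Types.jointly_surjective_of_isColimit hc x
  exact ⟨FormalCoproduct.Hom.fromIncl i g, hg⟩

lemma map_sec {A' B' : FormalCoproduct.{u} C'} (f : A' ⟶ B') {Z : C'}
    (m : (FormalCoproduct.incl C').obj Z ⟶ A') :
    (FormalCoproduct.yoneda.map f).app (op Z) (sec m) = sec (m ≫ f) := by
  have h : Sigma.ι (fun i : A'.I => yoneda.obj (A'.obj i)) (m.f PUnit.unit) ≫
      FormalCoproduct.yoneda.map f =
      yoneda.map (f.φ (m.f PUnit.unit)) ≫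
        Sigma.ι (fun i : B'.I => yoneda.obj (B'.obj i)) (f.f (m.f PUnit.unit)) := by
    simp [FormalCoproduct.eval]
    rfl
  have h2 := congrArg (fun φ => φ.app (op Z) (m.φ PUnit.unit)) h
  exact h2

lemma restrict_sec {B' : FormalCoproduct.{u} C'} {Z Z' : C'} (h : Z' ⟶ Z)
    (l : (FormalCoproduct.incl C').obj Z ⟶ B') :
    (FormalCoproduct.yoneda.obj B').map h.op (sec l) =
      sec ((FormalCoproduct.incl C').map h ≫ l) := by
  have h1 := (Sigma.ι (fun i : B'.I => yoneda.obj (B'.obj i)) (l.f PUnit.unit)).naturality h.op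
  have h2 := congrArg (fun φ => φ (l.φ PUnit.unit)) h1
  exact h2.symm

variable (J' : GrothendieckTopology C')

theorem locallySurjective_of_srCovering {A' B' : FormalCoproduct.{u} C'} (f : A' ⟶ B')
    (hf : Hyper.IsSRCovering J' f) :
    Presheaf.IsLocallySurjective J' (FormalCoproduct.yoneda.map f) := by
  constructor
  intro Z x
  obtain ⟨l, rfl⟩ := sec_surjective x
  obtain ⟨S, hS, hlift⟩ := sr_lift J' f hf l
  refine J'.superset_covering ?_ hS
  intro Z' h hh
  obtain ⟨m, hm⟩ := hlift h hh
  refine ⟨sec m, ?_⟩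
  rw [map_sec, restrict_sec, hm]

end Groth.Agent.Lib.Helper62.HyperSite
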