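import Mathlib
import Groth.Prelude.Def_Hyper
import Groth.Agent.Lib.Helper62.CoskZero
import Groth.Agent.Lib.Helper62.SRCover
import Groth.Agent.Lib.Helper62.HyperSite
import Groth.Agent.Lib.Helper62.HyperH0

/-! # A hypercovering of `X` is a hypercovering of the final object of the topos of `C/X` -/

set_option autoImplicit false
set_option backward.isDefEq.respectTransparency false
set_option backward.isDefEq.respectTransparency.types false

open CategoryTheory CategoryTheory.Limits Opposite Simplicial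

universe u

namespace Groth.Agent.Lib.Helper62.HyperToSite

open SRCover HyperSite CoskZero HyperH0

section general

variable {C' : Type u} [SmallCategory C']

lemma terminal_sub {Z : C'} (x y : (⊤_ (C'ᵒᵖ ⥤ Type u)).obj (op Z)) : x = y := by
  have h : yonedaEquiv.symm x = yonedaEquiv.symm y := Subsingleton.elim _ _
  exact yonedaEquiv.symm.injective h

lemma prod_ext {Y Y' : C'ᵒᵖ ⥤ Type u} {Z : C'} (x y : (Y ⨯ Y').obj (op Z))
    (h1 : (prod.fst : Y ⨯ Y' ⟶ Y).app (op Z) x = (prod.fst : Y ⨯ Y' ⟶ Y).app (op Z) y)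
    (h2 : (prod.snd : Y ⨯ Y' ⟶ Y').app (op Z) x = (prod.snd : Y ⨯ Y' ⟶ Y').app (op Z) y) :
    x = y := by
  have h : yonedaEquiv.symm x = yonedaEquiv.symm y := by
    apply Limits.prod.hom_ext
    · apply yonedaEquiv.injective
      rw [yonedaEquiv_comp, yonedaEquiv_comp]
      simpa using h1
    · apply yonedaEquiv.injective
      rw [yonedaEquiv_comp, yonedaEquiv_comp]
      simpa using h2
  exact yonedaEquiv.symm.injective h

end general

variable {C : Type u} [SmallCategory C] [HasPullbacks C] (J : GrothendieckTopology C) (X : C)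
  (K : SimplicialObject (FormalCoproduct.{u} (Over X)))
  [∀ (n : ℕ) (G : (SimplexCategory.Truncated n)ᵒᵖ ⥤ FormalCoproduct.{u} (Over X)),
      (SimplexCategory.Truncated.inclusion n).op.HasRightKanExtension G]

theorem hyper_site (hK : Hyper.IsHypercovering J X K) :
    Hyper.IsHypercoveringSite (J.over X) K := by
  refine ⟨?_, ?_, ?_⟩
  · constructor
    intro Z x
    have hS := J.overEquiv_symm_mem_over Z _ (J.pullback_stable Z.hom hK.1)
    refine (J.over X).superset_covering ?_ hS
    intro Z' h hh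
    rw [Sieve.overEquiv_symm_iff] at hh
    obtain ⟨W, k, e, he, hke⟩ := hh
    obtain ⟨i⟩ := he
    have hw : k ≫ ((K.obj (op ⦋0⦌)).obj i).hom = Z'.hom := by
      rw [hke, ← Over.w h]
    refine ⟨sec (FormalCoproduct.Hom.fromIncl i (Over.homMk k hw)), ?_⟩
    apply terminal_sub
  · constructor
    intro Z x
    obtain ⟨a1, ha1⟩ := sec_surjective ((prod.fst : FormalCoproduct.yoneda.obj (K.obj (op ⦋0⦌)) ⨯
      FormalCoproduct.yoneda.obj (K.obj (op ⦋0⦌)) ⟶ _).app (op Z) x)
    obtain ⟨a0, ha0⟩ := sec_surjective ((prod.snd : FormalCoproduct.yoneda.obj (K.obj (op ⦋0⦌)) ⨯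
      FormalCoproduct.yoneda.obj (K.obj (op ⦋0⦌)) ⟶ _).app (op Z) x)
    obtain ⟨l, hl0, hl1⟩ := exists_lift (K := K) a0 a1
    obtain ⟨S, hS, hlift⟩ := sr_lift (J.over X) ((η 0 K).app (op ⦋1⦌)) (hK.2 0) l
    refine (J.over X).superset_covering ?_ hS
    intro Z' h hh
    obtain ⟨m, hm⟩ := hlift h hh
    refine ⟨sec m, ?_⟩
    apply prod_ext
    · have e1 : (FormalCoproduct.incl (Over X)).map h ≫ a1 = m ≫ K.δ 1 := by
        rw [← hl1, ← Category.assoc, hm, Category.assoc, η_p]
      have n1 := congrArg (fun φ => φ.app (op Z') (sec m))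
        (prod.lift_fst (FormalCoproduct.yoneda.map (K.δ (1 : Fin 2)))
          (FormalCoproduct.yoneda.map (K.δ (0 : Fin 2))))
      have n2 := congrArg (fun φ => φ x) ((prod.fst : FormalCoproduct.yoneda.obj (K.obj (op ⦋0⦌)) ⨯
        FormalCoproduct.yoneda.obj (K.obj (op ⦋0⦌)) ⟶ _).naturality h.op)
      have n3 : (FormalCoproduct.yoneda.obj (K.obj (op ⦋0⦌))).map h.op
          ((prod.fst : FormalCoproduct.yoneda.obj (K.obj (op ⦋0⦌)) ⨯
            FormalCoproduct.yoneda.obj (K.obj (op ⦋0⦌)) ⟶ _).app (op Z) x) =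
          (FormalCoproduct.yoneda.obj (K.obj (op ⦋0⦌))).map h.op (sec a1) := by rw [ha1]
      refine n1.trans (Eq.trans ?_ (n2.trans n3).symm)
      rw [map_sec, restrict_sec, e1]
    · have e0 : (FormalCoproduct.incl (Over X)).map h ≫ a0 = m ≫ K.δ 0 := by
        rw [← hl0, ← Category.assoc, hm, Category.assoc, η_p]
      have n1 := congrArg (fun φ => φ.app (op Z') (sec m))
        (prod.lift_snd (FormalCoproduct.yoneda.map (K.δ (1 : Fin 2)))
          (FormalCoproduct.yoneda.map (K.δ (0 : Fin 2))))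
      have n2 := congrArg (fun φ => φ x) ((prod.snd : FormalCoproduct.yoneda.obj (K.obj (op ⦋0⦌)) ⨯
        FormalCoproduct.yoneda.obj (K.obj (op ⦋0⦌)) ⟶ _).naturality h.op)
      have n3 : (FormalCoproduct.yoneda.obj (K.obj (op ⦋0⦌))).map h.op
          ((prod.snd : FormalCoproduct.yoneda.obj (K.obj (op ⦋0⦌)) ⨯
            FormalCoproduct.yoneda.obj (K.obj (op ⦋0⦌)) ⟶ _).app (op Z) x) =
          (FormalCoproduct.yoneda.obj (K.obj (op ⦋0⦌))).map h.op (sec a0) := by rw [ha0]
      refine n1.trans (Eq.trans ?_ (n2.trans n3).symm)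
      rw [map_sec, restrict_sec, e0]
  · intro n _
    exact locallySurjective_of_srCovering (J.over X) _ (hK.2 n)

end Groth.Agent.Lib.Helper62.HyperToSite
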