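import Mathlib
import Groth.Prelude.Def_Hyper
import Groth.Agent.Lib.Helper62.BHyperW
import Groth.Agent.Lib.Helper62.FCLimits
import Groth.Agent.Lib.Helper62.HyperToSite

/-! # Existence of hypercoverings of the final object with components in a generating class -/

set_option autoImplicit false
set_option backward.isDefEq.respectTransparency false
set_option backward.isDefEq.respectTransparency.types false

open CategoryTheory CategoryTheory.Limits Opposite Simplicial SimplexCategory

universe u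

namespace Groth.Agent.Lib.Helper62.BHyperSite

open BSimp BGlue LLP HyperSite HyperToSite

section Zero

variable {D : Type u} [SmallCategory D] {Bx : Set D} {Z : D}

/-- any pair of vertices is a boundary of a `1`-simplex -/
noncomputable def bdry0 (p : Fin 2 → ((FormalCoproduct.incl D).obj Z ⟶ Kobj Bx 0)) :
    Bdry Bx 0 Z where
  p := p
  compatM j j' k π π' h := by
    by_cases hjj : j = j'
    · subst hjj
      have hπ : π = π' := by
        funext x
        exact Fin.succAbove_right_injective (congrFun h x)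
      subst hπ
      intro _ _
      rfl
    · exfalso
      obtain ⟨i', hi'⟩ := Fin.exists_succAbove_eq (Ne.symm hjj)
      have h0 : π 0 = i' := by
        apply Fin.ext
        have := (π 0).isLt
        have := i'.isLt
        omega
      have h1 := congrFun h 0
      simp only [Function.comp_apply] at h1
      rw [h0, hi'] at h1
      exact Fin.succAbove_ne j' (π' 0) h1.symm
  compatN j j' k π π' h := by
    by_cases hjj : j = j'
    · subst hjj
      have hπ : π = π' := by
        funext x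
        exact Fin.succAbove_right_injective (congrFun h x)
      subst hπ
      rfl
    · exfalso
      obtain ⟨i', hi'⟩ := Fin.exists_succAbove_eq (Ne.symm hjj)
      have h0 : π 0 = i' := by
        apply Fin.ext
        have := (π 0).isLt
        have := i'.isLt
        omega
      have h1 := congrFun h 0
      simp only [Function.comp_apply] at h1
      rw [h0, hi'] at h1
      exact Fin.succAbove_ne j' (π' 0) h1.symm

end Zero

variable {C : Type u} [SmallCategory C] [HasPullbacks C] [HasBinaryProducts C]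
  (J : GrothendieckTopology C) (B : Set C)

lemma hcov (hB : ∀ U : C, ∃ (ι : Type u) (Y : ι → C) (f : ∀ i, Y i ⟶ U),
      Sieve.ofArrows Y f ∈ J U ∧ ∀ i, Y i ∈ B) (Z : C) :
    ∃ S ∈ J Z, ∀ ⦃Z' : C⦄ (h : Z' ⟶ Z), S.arrows h →
      ∃ (U : C) (_ : U ∈ B) (g : Z' ⟶ U) (u : U ⟶ Z), g ≫ u = h := by
  obtain ⟨ι, Y, f, hc, hm⟩ := hB Z
  refine ⟨Sieve.ofArrows Y f, hc, ?_⟩
  intro Z' h hh
  obtain ⟨i, a, ha⟩ := (Sieve.mem_ofArrows_iff Y f h).1 hh
  exact ⟨Y i, hm i, a, f i, ha.symm⟩

theorem exists_hypercovering_site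
    (hB : ∀ U : C, ∃ (ι : Type u) (Y : ι → C) (f : ∀ i, Y i ⟶ U),
      Sieve.ofArrows Y f ∈ J U ∧ ∀ i, Y i ∈ B)
    [∀ (n : ℕ) (F : (SimplexCategory.Truncated n)ᵒᵖ ⥤ FormalCoproduct.{u} C),
      (SimplexCategory.Truncated.inclusion n).op.HasRightKanExtension F] :
    ∃ K : SimplicialObject (FormalCoproduct.{u} C), Hyper.IsHypercoveringSite J K ∧
      ∀ (n : ℕ) (i : (K.obj (op (SimplexCategory.mk n))).I),
        (K.obj (op (SimplexCategory.mk n))).obj i ∈ B := by
  refine ⟨BSimp.K B, ⟨?_, ?_, ?_⟩, ?_⟩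
  · constructor
    intro Z x
    obtain ⟨S, hS, hfac⟩ := hcov J B hB Z
    refine J.superset_covering ?_ hS
    intro Z' h hh
    obtain ⟨U, hU, g, u, rfl⟩ := hfac h hh
    refine ⟨sec ((FormalCoproduct.incl C).map g ≫
      FormalCoproduct.Hom.fromIncl (Y := Kobj B 0) (BSimp.const B U hU 0) (𝟙 U)), ?_⟩
    apply terminal_sub
  · constructor
    intro Z x
    obtain ⟨a1, ha1⟩ := sec_surjective ((prod.fst : FormalCoproduct.yoneda.obj ((BSimp.K B).obj (op ⦋0⦌)) ⨯
      FormalCoproduct.yoneda.obj ((BSimp.K B).obj (op ⦋0⦌)) ⟶ _).app (op Z) x)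
    obtain ⟨a0, ha0⟩ := sec_surjective ((prod.snd : FormalCoproduct.yoneda.obj ((BSimp.K B).obj (op ⦋0⦌)) ⨯
      FormalCoproduct.yoneda.obj ((BSimp.K B).obj (op ⦋0⦌)) ⟶ _).app (op Z) x)
    obtain ⟨S, hS, hfac⟩ := hcov J B hB Z
    refine J.superset_covering ?_ hS
    intro Z' h hh
    obtain ⟨U, hU, g, u, rfl⟩ := hfac h hh
    let p : Fin 2 → ((FormalCoproduct.incl C).obj Z ⟶ Kobj B 0) := ![a0, a1]
    let m : (FormalCoproduct.incl C).obj Z' ⟶ (BSimp.K B).obj (op ⦋1⦌) :=
      (FormalCoproduct.incl C).map g ≫ gpt (bdry0 p) u hU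
    have hm0 : (FormalCoproduct.incl C).map (g ≫ u) ≫ a0 = m ≫ (BSimp.K B).δ 0 := by
      have h1 := gpt_face (bdry0 p) u hU 0
      rw [Functor.map_comp, Category.assoc, Category.assoc]
      congr 1
      exact h1.symm
    have hm1 : (FormalCoproduct.incl C).map (g ≫ u) ≫ a1 = m ≫ (BSimp.K B).δ 1 := by
      have h1 := gpt_face (bdry0 p) u hU 1
      rw [Functor.map_comp, Category.assoc, Category.assoc]
      congr 1
      exact h1.symm
    refine ⟨sec m, ?_⟩
    apply prod_ext
    · have n1 := congrArg (fun φ => φ.app (op Z') (sec m))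
        (prod.lift_fst (FormalCoproduct.yoneda.map ((BSimp.K B).δ (1 : Fin 2)))
          (FormalCoproduct.yoneda.map ((BSimp.K B).δ (0 : Fin 2))))
      have n2 := congrArg (fun φ => φ x) ((prod.fst : FormalCoproduct.yoneda.obj ((BSimp.K B).obj (op ⦋0⦌)) ⨯
        FormalCoproduct.yoneda.obj ((BSimp.K B).obj (op ⦋0⦌)) ⟶ _).naturality (g ≫ u).op)
      have n3 : (FormalCoproduct.yoneda.obj ((BSimp.K B).obj (op ⦋0⦌))).map (g ≫ u).op
          ((prod.fst : FormalCoproduct.yoneda.obj ((BSimp.K B).obj (op ⦋0⦌)) ⨯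
            FormalCoproduct.yoneda.obj ((BSimp.K B).obj (op ⦋0⦌)) ⟶ _).app (op Z) x) =
          (FormalCoproduct.yoneda.obj ((BSimp.K B).obj (op ⦋0⦌))).map (g ≫ u).op (sec a1) := by rw [ha1]
      refine n1.trans (Eq.trans ?_ (n2.trans n3).symm)
      rw [map_sec, restrict_sec, hm1]
    · have n1 := congrArg (fun φ => φ.app (op Z') (sec m))
        (prod.lift_snd (FormalCoproduct.yoneda.map ((BSimp.K B).δ (1 : Fin 2)))
          (FormalCoproduct.yoneda.map ((BSimp.K B).δ (0 : Fin 2))))
      have n2 := congrArg (fun φ => φ x) ((prod.snd : FormalCoproduct.yoneda.obj ((BSimp.K B).obj (op ⦋0⦌)) ⨯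
        FormalCoproduct.yoneda.obj ((BSimp.K B).obj (op ⦋0⦌)) ⟶ _).naturality (g ≫ u).op)
      have n3 : (FormalCoproduct.yoneda.obj ((BSimp.K B).obj (op ⦋0⦌))).map (g ≫ u).op
          ((prod.snd : FormalCoproduct.yoneda.obj ((BSimp.K B).obj (op ⦋0⦌)) ⨯
            FormalCoproduct.yoneda.obj ((BSimp.K B).obj (op ⦋0⦌)) ⟶ _).app (op Z) x) =
          (FormalCoproduct.yoneda.obj ((BSimp.K B).obj (op ⦋0⦌))).map (g ≫ u).op (sec a0) := by rw [ha0]
      refine n1.trans (Eq.trans ?_ (n2.trans n3).symm)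
      rw [map_sec, restrict_sec, hm0]
  · intro n _
    exact locallySurjective_of_srCovering J _
      (sr_of_llp J _ (BHyperW.llp_η B n J (hcov J B hB)))
  · intro n σ
    exact σ.mem n id

end Groth.Agent.Lib.Helper62.BHyperSite
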