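import Groth.Agent.Lib.Helper62.StkCone

/-!
# Transport of a functor along isomorphisms of the base, for categories fibred in groupoids (helper62)
-/

set_option autoImplicit false
set_option backward.isDefEq.respectTransparency false
set_option backward.isDefEq.respectTransparency.types false
universe v₃ u₃ v₂ u₂ v u
open CategoryTheory CategoryTheory.Functor FibCat

namespace Groth.Agent.Lib.Helper62.StkTransport

open Groth.Agent.Lib.Helper17 Groth.Agent.Lib.Helper17.FG Groth.Agent.Lib.Helper62.StkFF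
open Groth.Agent.Lib.Helper62.StkGlue

variable {B : Type u} [Category.{v} B] {𝒜 : BasedCategory.{v₂, u₂} B} {𝒲 : BasedCategory.{v₃, u₃} B}

theorem isHomLift_congr' {R S : B} {f f' : R ⟶ S} (h : f = f') {a b : 𝒲.obj}
    {φ : a ⟶ b} (hf : 𝒲.p.IsHomLift f φ) : 𝒲.p.IsHomLift f' φ := by
  subst h; exact hf

/-- Given a plain functor `E` into a category fibred in groupoids and natural isomorphisms
`σ a : p a ≅ p (E a)` in the base, `E` is isomorphic, over `σ`, to a functor over the base. -/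
theorem exists_transport (h𝒲 : IsFibGrpd 𝒲.p) (E : 𝒜.obj ⥤ 𝒲.obj)
    (σ : ∀ a : 𝒜.obj, 𝒜.p.obj a ⟶ 𝒲.p.obj (E.obj a)) (hσi : ∀ a, IsIso (σ a))
    (hσ : ∀ {a b : 𝒜.obj} (k : a ⟶ b), σ a ≫ 𝒲.p.map (E.map k) = 𝒜.p.map k ≫ σ b) :
    ∃ (D' : 𝒜 ⥤ᵇ 𝒲) (t : ∀ a : 𝒜.obj, D'.obj a ⟶ E.obj a),
      (∀ a, 𝒲.p.IsHomLift (σ a) (t a)) ∧ (∀ a, IsIso (t a)) ∧
      (∀ {a b : 𝒜.obj} (k : a ⟶ b), D'.map k ≫ t b = t a ≫ E.map k) := by
  have hex : ∀ a : 𝒜.obj, ∃ (w : 𝒲.obj) (t : w ⟶ E.obj a), 𝒲.p.IsHomLift (σ a) t :=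
    fun a => h𝒲.exists_lift (x := E.obj a) (σ a)
  choose W t ht using hex
  have hti : ∀ a, IsIso (t a) := fun a => by
    have := hσi a
    exact isIso_of_lift_iso h𝒲 (σ a) (t a) (ht a)
  have htinv : ∀ a, 𝒲.p.IsHomLift (inv (σ a)) (inv (t a)) := fun a => by
    have := hσi a
    have := hti a
    have h1 : 𝒲.p.IsHomLift (asIso (σ a)).hom (asIso (t a)).hom := ht a
    exact IsHomLift.inv_lift_inv (p := 𝒲.p) (asIso (σ a)) (asIso (t a))
  let Dfun : 𝒜.obj ⥤ 𝒲.obj :=
    { obj := W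
      map := fun {a b} k => t a ≫ E.map k ≫ @inv _ _ _ _ (t b) (hti b)
      map_id := fun a => by
        have := hti a
        simp
      map_comp := fun {a b c} k l => by
        have := hti a
        have := hti b
        have := hti c
        simp }
  have hlift : ∀ {a b : 𝒜.obj} (k : a ⟶ b), 𝒲.p.IsHomLift (𝒜.p.map k) (Dfun.map k) := by
    intro a b k
    have := hσi a
    have := hσi b
    have := hti a
    have := hti b
    have l1 := ht a
    have l2 := htinv b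
    have l3 : 𝒲.p.IsHomLift (𝒲.p.map (E.map k)) (E.map k) := IsHomLift.map (E.map k)
    have l4 : 𝒲.p.IsHomLift (𝒲.p.map (E.map k) ≫ inv (σ b)) (E.map k ≫ inv (t b)) := inferInstance
    have l5 : 𝒲.p.IsHomLift (σ a ≫ 𝒲.p.map (E.map k) ≫ inv (σ b)) (t a ≫ E.map k ≫ inv (t b)) :=
      inferInstance
    refine isHomLift_congr' ?_ l5
    rw [← Category.assoc, hσ k, Category.assoc, IsIso.hom_inv_id, Category.comp_id]
  have hobj : ∀ a, 𝒲.p.obj (W a) = 𝒜.p.obj a := fun a => by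
    have := ht a
    exact IsHomLift.domain_eq 𝒲.p (σ a) (t a)
  let D' : 𝒜 ⥤ᵇ 𝒲 :=
    { toFunctor := Dfun
      w := CategoryTheory.Functor.ext hobj (fun a b k => by
        have := hlift k
        exact IsHomLift.fac' 𝒲.p (𝒜.p.map k) (Dfun.map k)) }
  refine ⟨D', t, ht, hti, ?_⟩
  intro a b k
  have := hti b
  change (t a ≫ E.map k ≫ inv (t b)) ≫ t b = t a ≫ E.map k
  simp

end Groth.Agent.Lib.Helper62.StkTransport
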