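import Groth.Prelude.Def_AlgSt
import Groth.Prelude.Def_FibCat2
import Groth.Agent.S12807
import Groth.Agent.Lib.Helper17.FibGrpd
import Groth.Agent.Lib.Helper62.StkTransport

/-!
# Base change of a category fibred in groupoids along a functor of base categories (helper62)

For `u : C ⥤ D` and `𝒮` over `D`, `bc u 𝒮` is the 2-fibre product `C ×_D 𝒮` over `C`.
* `isFibGrpd_bc`: it is fibred in groupoids if `𝒮` is.
* `theta u 𝒮 𝒜 : (push u 𝒜 ⥤ᵇ 𝒮) ⥤ (𝒜 ⥤ᵇ bc u 𝒮)`: the adjunction-like equivalence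
  (`push u 𝒜` is `𝒜` viewed over `D` via `u`), `theta_isEquivalence`.
* `theta_square`: compatibility with restriction along `ι : 𝒜' ⥤ᵇ 𝒜`.
-/

set_option autoImplicit false
set_option backward.isDefEq.respectTransparency false
set_option backward.isDefEq.respectTransparency.types false
universe v₅ u₅ v₄ u₄ v₃ u₃ v₂ u₂ v u
open CategoryTheory CategoryTheory.Functor CategoryTheory.Limits FibCat

namespace Groth.Agent.Lib.Helper62.BaseChange

open Groth.Agent.Lib.Helper17 Groth.Agent.Lib.Helper17.FG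

variable {C : Type u} [Category.{v} C] {D : Type u₂} [Category.{v₂} D] (u : C ⥤ D)
  (𝒮 : BasedCategory.{v₃, u₃} D)

/-- the 2-fibre product `C ×_D 𝒮` as a category over `C` -/
abbrev bc : BasedCategory C := BasedCategory.ofFunctor (CategoricalPullback.π₁ u 𝒮.p)

theorem isFibGrpd_bc (h𝒮 : IsFibGrpd 𝒮.p) : IsFibGrpd (CategoricalPullback.π₁ u 𝒮.p) := by
  refine ⟨?_, ?_⟩
  · intro X V f
    obtain ⟨y', φ, hφ⟩ := exists_lift_of_eq h𝒮 (x := X.snd) rfl (u.map f ≫ X.iso.hom)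
    have hy' : 𝒮.p.obj y' = u.obj V := hl_dom hφ.toIsHomLift
    have hfac := hl_fac' hφ.toIsHomLift
    refine ⟨⟨V, y', eqToIso hy'.symm⟩, ⟨f, φ, ?_⟩, hl_of_eq rfl⟩
    rw [hfac]
    simp
  · intro Y X ψ
    exact Groth.Agent.S12807.sc_lift u 𝒮.p X Y.fst ψ.fst Y.snd Y.iso ψ.snd ψ.w
      (h𝒮.isStronglyCartesian ψ.snd)

theorem hl_id_of_fac {𝒳 : Type u₄} [Category.{v₄} 𝒳] {B : Type u₅} [Category.{v₅} B] (p : 𝒳 ⥤ B)
    {a b : 𝒳} {X : B} (φ : a ⟶ b) (ha : p.obj a = X) (hb : p.obj b = X)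
    (h : p.map φ = eqToHom ha ≫ eqToHom hb.symm) : p.IsHomLift (𝟙 X) φ :=
  IsHomLift.of_fac' p (𝟙 X) φ ha hb (by simp [h])

variable (𝒜 : BasedCategory.{v₄, u₄} C)

/-- a category over `C` viewed over `D` via `u` -/
abbrev push : BasedCategory D := BasedCategory.ofFunctor (𝒜.p ⋙ u)

variable {𝒜}

/-- a functor over `C` viewed over `D` -/
def pushF {𝒜' : BasedCategory.{v₅, u₅} C} (ι : 𝒜' ⥤ᵇ 𝒜) : push u 𝒜' ⥤ᵇ push u 𝒜 where
  toFunctor := ι.toFunctor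
  w := by
    change ι.toFunctor ⋙ 𝒜.p ⋙ u = 𝒜'.p ⋙ u
    rw [← Functor.assoc, ι.w]

variable {u 𝒮}

theorem sec_obj_eq (σ : push u 𝒜 ⥤ᵇ 𝒮) (a : 𝒜.obj) :
    𝒮.p.obj (σ.obj a) = u.obj (𝒜.p.obj a) := σ.w_obj a

theorem sec_map_eq (σ : push u 𝒜 ⥤ᵇ 𝒮) {a b : 𝒜.obj} (f : a ⟶ b) :
    u.map (𝒜.p.map f) ≫ eqToHom (sec_obj_eq σ b).symm =
      eqToHom (sec_obj_eq σ a).symm ≫ 𝒮.p.map (σ.map f) := by
  have h := Functor.congr_hom σ.w f
  change 𝒮.p.map (σ.map f) = _ ≫ u.map (𝒜.p.map f) ≫ _ at h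
  rw [h]
  simp

/-- object part of `theta` -/
def thetaObj (σ : push u 𝒜 ⥤ᵇ 𝒮) : 𝒜 ⥤ᵇ bc u 𝒮 where
  toFunctor :=
    { obj := fun a => ⟨𝒜.p.obj a, σ.obj a, eqToIso (sec_obj_eq σ a).symm⟩
      map := fun {a b} f => ⟨𝒜.p.map f, σ.map f, by simpa using sec_map_eq σ f⟩
      map_id := fun a => by
        apply CategoricalPullback.hom_ext
        · exact 𝒜.p.map_id a
        · exact σ.toFunctor.map_id a
      map_comp := fun f g => by
        apply CategoricalPullback.hom_ext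
        · exact 𝒜.p.map_comp f g
        · exact σ.toFunctor.map_comp f g }
  w := rfl

theorem nat_app_eq {σ σ' : push u 𝒜 ⥤ᵇ 𝒮} (α : σ ⟶ σ') (a : 𝒜.obj) :
    𝒮.p.map (α.toNatTrans.app a) = eqToHom (sec_obj_eq σ a) ≫ eqToHom (sec_obj_eq σ' a).symm := by
  have h := hl_fac' (α.isHomLift' a)
  rw [h]
  simp

/-- morphism part of `theta` -/
def thetaMap {σ σ' : push u 𝒜 ⥤ᵇ 𝒮} (α : σ ⟶ σ') : thetaObj σ ⟶ thetaObj σ' where
  toNatTrans :=
    { app := fun a => ⟨𝟙 _, α.toNatTrans.app a, by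
        change u.map (𝟙 (𝒜.p.obj a)) ≫ eqToHom (sec_obj_eq σ' a).symm =
          eqToHom (sec_obj_eq σ a).symm ≫ 𝒮.p.map (α.toNatTrans.app a)
        rw [nat_app_eq α a]
        simp⟩
      naturality := fun a b f => by
        apply CategoricalPullback.hom_ext
        · change 𝒜.p.map f ≫ 𝟙 _ = 𝟙 _ ≫ 𝒜.p.map f
          rw [Category.comp_id, Category.id_comp]
        · exact α.toNatTrans.naturality f }
  isHomLift' := fun a => hl_of_eq rfl

variable (u 𝒮 𝒜)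

/-- functors `𝒜 ⟶ 𝒮` over `D` are the same as functors `𝒜 ⟶ C ×_D 𝒮` over `C` -/
def theta : (push u 𝒜 ⥤ᵇ 𝒮) ⥤ (𝒜 ⥤ᵇ bc u 𝒮) where
  obj := thetaObj
  map := thetaMap
  map_id σ := by
    apply BasedNatTrans.homCategory.ext
    apply NatTrans.ext
    funext a
    apply CategoricalPullback.hom_ext <;> rfl
  map_comp α β := by
    apply BasedNatTrans.homCategory.ext
    apply NatTrans.ext
    funext a
    apply CategoricalPullback.hom_ext
    · exact (Category.id_comp _).symm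
    · rfl

instance theta_faithful : (theta u 𝒮 𝒜).Faithful where
  map_injective {σ σ'} α β h := by
    apply BasedNatTrans.homCategory.ext
    apply NatTrans.ext
    funext a
    exact congrArg (fun γ => (γ.toNatTrans.app a).snd) h

instance theta_full : (theta u 𝒮 𝒜).Full where
  map_surjective {σ σ'} γ := by
    have hfst : ∀ a, (γ.toNatTrans.app a).fst = 𝟙 (𝒜.p.obj a) := fun a =>
      (hl_eq (p := CategoricalPullback.π₁ u 𝒮.p) (a := (thetaObj σ).obj a)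
        (b := (thetaObj σ').obj a) (γ.isHomLift' a)).symm
    have hlift : ∀ a : 𝒜.obj, 𝒮.p.IsHomLift (𝟙 (u.obj (𝒜.p.obj a))) (γ.toNatTrans.app a).snd := by
      intro a
      apply hl_id_of_fac 𝒮.p _ (sec_obj_eq σ a) (sec_obj_eq σ' a)
      have hw := (γ.toNatTrans.app a).w
      change u.map (γ.toNatTrans.app a).fst ≫ eqToHom (sec_obj_eq σ' a).symm =
        eqToHom (sec_obj_eq σ a).symm ≫ 𝒮.p.map (γ.toNatTrans.app a).snd at hw
      have e1 : u.map (γ.toNatTrans.app a).fst = 𝟙 (u.obj (𝒜.p.obj a)) :=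
        (congrArg u.map (hfst a)).trans (u.map_id _)
      have hw' : eqToHom (sec_obj_eq σ' a).symm =
          eqToHom (sec_obj_eq σ a).symm ≫ 𝒮.p.map (γ.toNatTrans.app a).snd :=
        (Category.id_comp _).symm.trans
          ((congrArg (fun z => z ≫ eqToHom (sec_obj_eq σ' a).symm) e1.symm).trans hw)
      calc 𝒮.p.map (γ.toNatTrans.app a).snd
          = eqToHom (sec_obj_eq σ a) ≫ eqToHom (sec_obj_eq σ a).symm ≫
              𝒮.p.map (γ.toNatTrans.app a).snd := by simp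
        _ = _ := by rw [← hw']
    refine ⟨{ toNatTrans := { app := fun a => (γ.toNatTrans.app a).snd
                              naturality := fun a b f =>
                                congrArg (fun x => x.snd) (γ.toNatTrans.naturality f) }
              isHomLift' := fun a => hlift a }, ?_⟩
    · apply BasedNatTrans.homCategory.ext
      apply NatTrans.ext
      funext a
      apply CategoricalPullback.hom_ext
      · exact (hfst a).symm
      · rfl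

variable {u 𝒮 𝒜}

theorem bc_obj_eq (τ : 𝒜 ⥤ᵇ bc u 𝒮) (a : 𝒜.obj) : (τ.obj a).fst = 𝒜.p.obj a := τ.w_obj a

theorem bc_map_eq (τ : 𝒜 ⥤ᵇ bc u 𝒮) {a b : 𝒜.obj} (k : a ⟶ b) :
    (τ.map k).fst = eqToHom (bc_obj_eq τ a) ≫ 𝒜.p.map k ≫ eqToHom (bc_obj_eq τ b).symm :=
  Functor.congr_hom τ.w k

theorem theta_essSurj_aux (h𝒮 : IsFibGrpd 𝒮.p) (τ : 𝒜 ⥤ᵇ bc u 𝒮) :
    ∃ σ : push u 𝒜 ⥤ᵇ 𝒮, Nonempty (thetaObj σ ≅ τ) := by
  let E : (push u 𝒜).obj ⥤ 𝒮.obj := τ.toFunctor ⋙ CategoricalPullback.π₂ u 𝒮.p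
  let s : ∀ a : (push u 𝒜).obj, (push u 𝒜).p.obj a ⟶ 𝒮.p.obj (E.obj a) := fun a =>
    eqToHom (congrArg u.obj (bc_obj_eq τ a).symm) ≫ (τ.obj a).iso.hom
  have hsi : ∀ a, IsIso (s a) := fun a => by
    change IsIso (eqToHom _ ≫ (τ.obj a).iso.hom)
    infer_instance
  have hs : ∀ {a b : (push u 𝒜).obj} (k : a ⟶ b),
      s a ≫ 𝒮.p.map (E.map k) = (push u 𝒜).p.map k ≫ s b := by
    intro a b k
    have hw := (τ.map k).w
    change (eqToHom (congrArg u.obj (bc_obj_eq τ a).symm) ≫ (τ.obj a).iso.hom) ≫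
        𝒮.p.map (τ.map k).snd =
      u.map (𝒜.p.map k) ≫ eqToHom (congrArg u.obj (bc_obj_eq τ b).symm) ≫ (τ.obj b).iso.hom
    rw [Category.assoc, ← hw, bc_map_eq τ k]
    simp [eqToHom_map]
  obtain ⟨D', t, ht, hti, hnat⟩ :=
    Groth.Agent.Lib.Helper62.StkTransport.exists_transport (𝒜 := push u 𝒜) h𝒮 E s hsi hs
  refine ⟨D', ⟨BasedNatIso.mkNatIso (NatIso.ofComponents (fun a =>
    CategoricalPullback.mkIso (eqToIso (bc_obj_eq τ a).symm) (@asIso _ _ _ _ (t a) (hti a)) ?_) ?_)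
    ?_⟩⟩
  · have h1 := hl_fac' (ht a)
    change u.map (eqToHom (bc_obj_eq τ a).symm) ≫ (τ.obj a).iso.hom =
      eqToHom (sec_obj_eq D' a).symm ≫ 𝒮.p.map (t a)
    rw [h1]
    simp [s, eqToHom_map]
  · intro a b k
    apply CategoricalPullback.hom_ext
    · change 𝒜.p.map k ≫ eqToHom (bc_obj_eq τ b).symm =
        eqToHom (bc_obj_eq τ a).symm ≫ (τ.map k).fst
      rw [bc_map_eq τ k]
      simp
    · exact hnat k
  · intro a
    refine hl_id_of_fac (CategoricalPullback.π₁ u 𝒮.p) (a := (thetaObj D').obj a) (b := τ.obj a)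
      (X := 𝒜.p.obj a) _ rfl (bc_obj_eq τ a) ?_
    change eqToHom (bc_obj_eq τ a).symm = _
    simp

variable (u 𝒮 𝒜)

theorem theta_essSurj (h𝒮 : IsFibGrpd 𝒮.p) : (theta u 𝒮 𝒜).EssSurj where
  mem_essImage τ := by
    obtain ⟨σ, ⟨e⟩⟩ := theta_essSurj_aux h𝒮 τ
    exact ⟨σ, ⟨e⟩⟩

theorem theta_isEquivalence (h𝒮 : IsFibGrpd 𝒮.p) : (theta u 𝒮 𝒜).IsEquivalence :=
  { faithful := theta_faithful u 𝒮 𝒜
    full := theta_full u 𝒮 𝒜
    essSurj := theta_essSurj u 𝒮 𝒜 h𝒮 }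

/-- `theta` is compatible with restriction along a functor over `C`. -/
theorem theta_square {𝒜' : BasedCategory.{v₅, u₅} C} (ι : 𝒜' ⥤ᵇ 𝒜) :
    Nonempty (theta u 𝒮 𝒜 ⋙ Stk.restr ι (bc u 𝒮) ≅ Stk.restr (pushF u ι) 𝒮 ⋙ theta u 𝒮 𝒜') := by
  obtain ⟨A', instA', p'⟩ := 𝒜'
  obtain ⟨j, w⟩ := ι
  change A' ⥤ 𝒜.obj at j
  change j ⋙ 𝒜.p = p' at w
  subst w
  exact ⟨Iso.refl _⟩

end Groth.Agent.Lib.Helper62.BaseChange
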