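import Groth.Agent.Lib.Helper62.FibSectRel
import Mathlib.CategoryTheory.Sites.CoverPreserving
import Mathlib.CategoryTheory.Limits.Shapes.Pullback.HasPullback
import Mathlib.CategoryTheory.Limits.Preserves.Shapes.Pullbacks

/-!
# Comma categories for the base change of a stack along a functor preserving pullbacks (helper62)

* `SC.of_weak_prod`, `SC.of_terminal`: criteria for simple connectedness.
* `overPost u U : push u (overCat U) ⥤ᵇ overCat (u U)`; its comma categories have terminal objects.
* `sievePost u R : push u (sieveCat R) ⥤ᵇ sieveCat (R.functorPushforward u)`; its comma categories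
  have weak products (when `C` has pullbacks preserved by `u`).
-/

set_option autoImplicit false
set_option backward.isDefEq.respectTransparency false
set_option backward.isDefEq.respectTransparency.types false
universe w v₁ u₁ v₃ u₃ v₂ u₂ v u
open CategoryTheory CategoryTheory.Functor CategoryTheory.Limits FibCat

namespace Groth.Agent.Lib.Helper62.BaseChangeComma

open Groth.Agent.Lib.Helper62.FibSect Groth.Agent.Lib.Helper62.BaseChange

section Crit

variable {A : Type u₁} [Category.{v₁} A]

theorem SC.of_weak_prod (x₀ : A) (T : A → A) (α : ∀ x, T x ⟶ x) (β : ∀ x, T x ⟶ x₀)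
    (hT : ∀ {x x' : A} (k : x ⟶ x'), ∃ m : T x ⟶ T x', m ≫ α x' = α x ≫ k ∧ m ≫ β x' = β x) :
    SC.{w} A := by
  refine ⟨⟨x₀⟩, fun G _ H => ⟨H.obj x₀, ⟨NatIso.ofComponents
    (fun x => (asIso (H.map (α x))).symm ≪≫ asIso (H.map (β x))) ?_⟩⟩⟩
  intro x x' k
  obtain ⟨m, h1, h2⟩ := hT k
  simp only [Functor.const_obj_obj, Functor.const_obj_map, Category.comp_id, Iso.trans_hom,
    Iso.symm_hom, asIso_inv, asIso_hom]
  rw [IsIso.eq_inv_comp, ← Category.assoc, ← H.map_comp, ← h1, H.map_comp, Category.assoc,
    IsIso.hom_inv_id_assoc, ← H.map_comp, h2]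

theorem SC.of_terminal (x₀ : A) (h : IsTerminal x₀) : SC.{w} A :=
  SC.of_weak_prod x₀ (fun x => x) (fun x => 𝟙 x) (fun x => h.from x)
    (fun k => ⟨k, by rw [Category.comp_id, Category.id_comp], h.hom_ext _ _⟩)

end Crit

variable {C : Type u} [Category.{v} C] {D : Type u₂} [Category.{v₂} D] (u : C ⥤ D)

section Over

variable (U : C)

/-- `C/U ⟶ D/uU` as a functor over `D`. -/
def overPost : push u (overCat U) ⥤ᵇ overCat (u.obj U) where
  toFunctor := Over.post u
  w := rfl

theorem sc_overPost (b : Over (u.obj U)) : SC.{w} (StructuredArrow b (Over.post (X := U) u)) := by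
  have hb : b.hom ≫ u.map (𝟙 U) = b.hom := by rw [u.map_id, Category.comp_id]
  let x₀ : StructuredArrow b (Over.post (X := U) u) :=
    StructuredArrow.mk (Y := Over.mk (𝟙 U)) (Over.homMk b.hom hb)
  refine SC.of_terminal x₀ (IsTerminal.ofUniqueHom (fun x => StructuredArrow.homMk
    (Over.homMk x.right.hom (Category.comp_id _)) ?_) ?_)
  · apply Over.OverMorphism.ext
    exact Over.w x.hom
  · intro x m
    apply StructuredArrow.hom_ext
    apply Over.OverMorphism.ext
    have h1 : m.right.left ≫ 𝟙 U = x.right.hom := Over.w m.right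
    exact (Category.comp_id _).symm.trans h1

end Over

section Sieve

variable {U : C} (R : Sieve U)

/-- `R ⟶ u R` as a functor over `D`, for a sieve `R` on `U` and the sieve `u R` generated by its image. -/
def sievePost : push u (Stk.sieveCat R) ⥤ᵇ Stk.sieveCat (R.functorPushforward u) where
  toFunctor := ObjectProperty.lift _ (ObjectProperty.ι _ ⋙ Over.post u)
    (fun a => Sieve.image_mem_functorPushforward u R a.property)
  w := rfl

variable {u R} {b : (Stk.sieveCat (R.functorPushforward u)).obj}

/-- the comma category `(b / sievePost)` -/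
abbrev SA (u : C ⥤ D) (R : Sieve U) (b : (Stk.sieveCat (R.functorPushforward u)).obj) :=
  StructuredArrow b (sievePost u R).toFunctor

/-- source of the arrow of `R` underlying an object of the comma category -/
abbrev dom (x : SA u R b) : C := x.right.obj.left

/-- the arrow of `R` underlying an object of the comma category -/
abbrev arr (x : SA u R b) : dom x ⟶ U := x.right.obj.hom

theorem arr_mem (x : SA u R b) : R (arr x) := x.right.property

/-- the structure map of an object of the comma category -/
abbrev str (x : SA u R b) : b.obj.left ⟶ u.obj (dom x) := x.hom.hom.left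

theorem str_w (x : SA u R b) : str x ≫ u.map (arr x) = b.obj.hom := Over.w x.hom.hom

/-- constructor for objects of the comma category -/
def mkSA {W : C} (a : W ⟶ U) (ha : R a) (m : b.obj.left ⟶ u.obj W)
    (hm : m ≫ u.map a = b.obj.hom) : SA u R b :=
  StructuredArrow.mk (Y := (⟨Over.mk a, ha⟩ : R.arrows.category))
    (ObjectProperty.homMk (Over.homMk m hm))

/-- constructor for morphisms of the comma category -/
def homSA {x x' : SA u R b} (κ : dom x ⟶ dom x') (h1 : κ ≫ arr x' = arr x)
    (h2 : str x ≫ u.map κ = str x') : x ⟶ x' :=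
  StructuredArrow.homMk (ObjectProperty.homMk (Over.homMk κ h1)) (by
    apply ObjectProperty.hom_ext
    apply Over.OverMorphism.ext
    exact h2)

theorem homSA_ext {x x' : SA u R b} (f g : x ⟶ x') (h : f.right.hom.left = g.right.hom.left) :
    f = g := by
  apply StructuredArrow.hom_ext
  apply ObjectProperty.hom_ext
  apply Over.OverMorphism.ext
  exact h

theorem hom_w1 {x x' : SA u R b} (k : x ⟶ x') : k.right.hom.left ≫ arr x' = arr x :=
  Over.w k.right.hom

theorem hom_w2 {x x' : SA u R b} (k : x ⟶ x') : str x ≫ u.map k.right.hom.left = str x' :=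
  congrArg (fun z => z.hom.left) (StructuredArrow.w k)

section WP

variable [HasPullbacks C] [PreservesLimitsOfShape WalkingCospan u]

omit [HasPullbacks C] in
theorem isPullback_map {W Z : C} (a : W ⟶ U) (g : Z ⟶ U) [HasPullback a g] :
    IsPullback (u.map (pullback.fst a g)) (u.map (pullback.snd a g)) (u.map a) (u.map g) :=
  (IsPullback.of_hasPullback a g).map u

variable (x₀ : SA u R b)

/-- the weak product with `x₀` -/
noncomputable def prodSA (x : SA u R b) : SA u R b :=
  mkSA (pullback.fst (arr x) (arr x₀) ≫ arr x) (R.downward_closed (arr_mem x) _)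
    ((isPullback_map (arr x) (arr x₀)).lift (str x) (str x₀) ((str_w x).trans (str_w x₀).symm))
    (by rw [u.map_comp, IsPullback.lift_fst_assoc, str_w])

noncomputable def prodFst (x : SA u R b) : prodSA x₀ x ⟶ x :=
  homSA (pullback.fst (arr x) (arr x₀)) rfl (IsPullback.lift_fst _ _ _ _)

noncomputable def prodSnd (x : SA u R b) : prodSA x₀ x ⟶ x₀ :=
  homSA (pullback.snd (arr x) (arr x₀)) pullback.condition.symm (IsPullback.lift_snd _ _ _ _)

theorem prodMap_aux {x x' : SA u R b} (k : x ⟶ x') :
    (pullback.fst (arr x) (arr x₀) ≫ k.right.hom.left) ≫ arr x' =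
      pullback.snd (arr x) (arr x₀) ≫ arr x₀ := by
  rw [Category.assoc, hom_w1 k, pullback.condition]

noncomputable def prodMap {x x' : SA u R b} (k : x ⟶ x') : prodSA x₀ x ⟶ prodSA x₀ x' :=
  homSA (pullback.lift (pullback.fst (arr x) (arr x₀) ≫ k.right.hom.left)
      (pullback.snd (arr x) (arr x₀)) (prodMap_aux x₀ k))
    (by
      change pullback.lift _ _ _ ≫ pullback.fst (arr x') (arr x₀) ≫ arr x' =
        pullback.fst (arr x) (arr x₀) ≫ arr x
      rw [pullback.lift_fst_assoc, Category.assoc, hom_w1 k])
    (by
      apply (isPullback_map (u := u) (arr x') (arr x₀)).hom_ext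
      · change ((isPullback_map (arr x) (arr x₀)).lift (str x) (str x₀) _ ≫ u.map _) ≫ u.map _ =
          (isPullback_map (arr x') (arr x₀)).lift (str x') (str x₀) _ ≫ u.map _
        rw [Category.assoc, ← u.map_comp, pullback.lift_fst, u.map_comp,
          IsPullback.lift_fst_assoc, IsPullback.lift_fst, hom_w2 k]
      · change ((isPullback_map (arr x) (arr x₀)).lift (str x) (str x₀) _ ≫ u.map _) ≫ u.map _ =
          (isPullback_map (arr x') (arr x₀)).lift (str x') (str x₀) _ ≫ u.map _
        rw [Category.assoc, ← u.map_comp, pullback.lift_snd, IsPullback.lift_snd,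
          IsPullback.lift_snd])

theorem sc_sievePost (b : (Stk.sieveCat (R.functorPushforward u)).obj) : SC.{w} (SA u R b) := by
  obtain ⟨Z, g, h, hg, hcomp⟩ := b.property
  let x₀ : SA u R b := mkSA g hg h hcomp.symm
  refine SC.of_weak_prod x₀ (prodSA x₀) (prodFst x₀) (prodSnd x₀) (fun {x x'} k =>
    ⟨prodMap x₀ k, ?_, ?_⟩)
  · apply homSA_ext
    exact pullback.lift_fst _ _ _
  · apply homSA_ext
    exact pullback.lift_snd _ _ _

end WP

end Sieve

end Groth.Agent.Lib.Helper62.BaseChangeComma
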