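import Groth.Agent.Lib.Helper62.FFDev
import Groth.Agent.Lib.Helper62.WSerreEquiv

/-!
An exact functor `L : 𝒜 ⥤ ℬ` inducing an equivalence between weak Serre subcategories `A`, `B`
and bijections on all `Ext` groups between objects of `A` induces an equivalence
`D^b_A(𝒜) ≌ D^b_B(ℬ)`.
-/

set_option autoImplicit false
universe w w' v v' u u'

open CategoryTheory CategoryTheory.Limits CategoryTheory.Pretriangulated DerivedCategory
open ZeroObject

namespace Groth.Agent.Lib.Helper62.BddE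

open Groth.Agent.Lib.Helper62.FFD Groth.Agent.Lib.Helper62.WSE

section Induction

variable {𝒜 : Type u} [Category.{v} 𝒜] [Abelian 𝒜] [HasDerivedCategory.{w} 𝒜]
  (A : ObjectProperty 𝒜) [WSerre.IsWeakSerre A]

lemma cohInBdd_mk (X : DerivedCategory 𝒜) (h : WSerre.cohIn A X) (a b : ℤ) (ha : X.IsGE a)
    (hb : X.IsLE b) : WSerre.cohInBdd A X := ⟨h, ⟨a, ha⟩, ⟨b, hb⟩⟩

/-- Induction principle for bounded objects with cohomology in `A`. -/
lemma bounded_induction_aux (Pr : DerivedCategory 𝒜 → Prop)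
    (h_iso : ∀ {X Y : DerivedCategory 𝒜}, (X ≅ Y) → Pr X → Pr Y)
    (h_zero : ∀ X : DerivedCategory 𝒜, IsZero X → Pr X)
    (h_single : ∀ (F : 𝒜) (b : ℤ), A F → Pr ((DerivedCategory.singleFunctor 𝒜 b).obj F))
    (h_tri : ∀ T : Triangle (DerivedCategory 𝒜), T ∈ distTriang _ → Pr T.obj₁ → Pr T.obj₃ →
      Pr T.obj₂) (n : ℕ) :
    ∀ (a b : ℤ) (_ : b < a + n) (X : DerivedCategory 𝒜) [X.IsGE a] [X.IsLE b]
      (_ : WSerre.cohIn A X), Pr X := by
  induction n with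
  | zero =>
    intro a b hab X _ _ _
    exact h_zero X (TStructure.t.isZero X b a (by lia))
  | succ n ih =>
    intro a b hab X _ _ hX
    have hT := TStructure.t.triangleLTGE_distinguished b X
    have h1 : Pr ((TStructure.t.truncLT b).obj X) := by
      have : ((TStructure.t.truncLT b).obj X).IsLE (b - 1) := inferInstance
      have : ((TStructure.t.truncLT b).obj X).IsGE a := inferInstance
      refine ih a (b - 1) (by lia) _ (fun i => ?_)
      by_cases hi : i < b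
      · have := Groth.Agent.Lib.Helper22.isIso_homologyMap_truncLTι X b i hi
        exact A.prop_of_iso (asIso ((homologyFunctor 𝒜 i).map
          ((TStructure.t.truncLTι b).app X))).symm (hX i)
      · exact A.prop_of_isZero
          (isZero_of_isLE ((TStructure.t.truncLT b).obj X) (b - 1) i (by lia))
    have h3 : Pr ((TStructure.t.truncGE b).obj X) := by
      have : ((TStructure.t.truncGE b).obj X).IsGE b := inferInstance
      have : ((TStructure.t.truncGE b).obj X).IsLE b := inferInstance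
      obtain ⟨Y, ⟨e⟩⟩ := exists_iso_singleFunctor_obj_of_isGE_of_isLE
        ((TStructure.t.truncGE b).obj X) b
      have hY : A Y := by
        have := Groth.Agent.Lib.Helper22.isIso_homologyMap_truncGEπ X b b le_rfl
        have e1 : (homologyFunctor 𝒜 b).obj X ≅ Y :=
          asIso ((homologyFunctor 𝒜 b).map ((TStructure.t.truncGEπ b).app X)) ≪≫
            (homologyFunctor 𝒜 b).mapIso e ≪≫ (singleFunctorCompHomologyFunctorIso 𝒜 b).app Y
        exact A.prop_of_iso e1 (hX b)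
      exact h_iso e.symm (h_single Y b hY)
    exact h_tri _ hT h1 h3

lemma bounded_induction (Pr : DerivedCategory 𝒜 → Prop)
    (h_iso : ∀ {X Y : DerivedCategory 𝒜}, (X ≅ Y) → Pr X → Pr Y)
    (h_zero : ∀ X : DerivedCategory 𝒜, IsZero X → Pr X)
    (h_single : ∀ (F : 𝒜) (b : ℤ), A F → Pr ((DerivedCategory.singleFunctor 𝒜 b).obj F))
    (h_tri : ∀ T : Triangle (DerivedCategory 𝒜), T ∈ distTriang _ → Pr T.obj₁ → Pr T.obj₃ →
      Pr T.obj₂) (X : DerivedCategory 𝒜) (hX : WSerre.cohInBdd A X) : Pr X := by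
  obtain ⟨h, ⟨a, ha⟩, ⟨b, hb⟩⟩ := hX
  have : X.IsGE a := ha
  have : X.IsLE b := hb
  exact bounded_induction_aux A Pr h_iso h_zero h_single h_tri (b - a + 1).toNat a b (by lia) X h

end Induction

section Main

variable {𝒜 : Type u} [Category.{v} 𝒜] [Abelian 𝒜] [HasDerivedCategory.{w} 𝒜]
  {ℬ : Type u'} [Category.{v'} ℬ] [Abelian ℬ] [HasDerivedCategory.{w'} ℬ]
  (L : 𝒜 ⥤ ℬ) [L.Additive] [PreservesFiniteLimits L] [PreservesFiniteColimits L]
  (A : ObjectProperty 𝒜) [WSerre.IsWeakSerre A] (B : ObjectProperty ℬ) [WSerre.IsWeakSerre B]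
  (h1 : ∀ F : 𝒜, A F → B (L.obj F))
  (h1s : ∀ G : ℬ, B G → ∃ F : 𝒜, A F ∧ Nonempty (L.obj F ≅ G))
  (h2 : ∀ (F F' : 𝒜), A F → A F' → ∀ n : ℤ,
    Function.Bijective (fun φ : ((DerivedCategory.singleFunctor 𝒜 0).obj F ⟶
      ((DerivedCategory.singleFunctor 𝒜 0).obj F')⟦n⟧) => L.mapDerivedCategory.map φ))

include h1 in
omit [WSerre.IsWeakSerre A] in
lemma cohInBdd_map (K : DerivedCategory 𝒜) (hK : WSerre.cohInBdd A K) :
    WSerre.cohInBdd B (L.mapDerivedCategory.obj K) := by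
  obtain ⟨h, ⟨a, ha⟩, ⟨b, hb⟩⟩ := hK
  have : K.IsGE a := ha
  have : K.IsLE b := hb
  exact cohInBdd_mk B _
    (fun i => B.prop_of_iso (mapDerivedCategoryHomologyIso L K i).symm (h1 _ (h i))) a b
    (isGE_mapDerivedCategory L K a) (isLE_mapDerivedCategory L K b)

include h2 in
lemma ffs_single_bdd (F : 𝒜) (hF : A F) (K : DerivedCategory 𝒜) (hK : WSerre.cohInBdd A K) :
    FFs L.mapDerivedCategory ((DerivedCategory.singleFunctor 𝒜 0).obj F) K := by
  refine bounded_induction A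
    (fun K => FFs L.mapDerivedCategory ((DerivedCategory.singleFunctor 𝒜 0).obj F) K)
    (fun e h => ffs_of_iso _ (Iso.refl _) e h) (fun X hX => ffs_of_isZero_right _ hX)
    (fun F' b hF' => ?_) (fun T hT h₁ h₃ => ffs_obj₂ _ _ T hT h₁ h₃) K hK
  have e : ((DerivedCategory.singleFunctor 𝒜 0).obj F')⟦(-b : ℤ)⟧ ≅
      (DerivedCategory.singleFunctor 𝒜 b).obj F' :=
    ((DerivedCategory.singleFunctors 𝒜).shiftIso (-b) b 0 (by lia)).app F'
  exact ffs_of_iso _ (Iso.refl _) e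
    (ffs_shift_right _ (-b) (ffs_of_ff_shift _ (h2 F F' hF hF')))

include h2 in
lemma ffs_bdd_bdd (K K' : DerivedCategory 𝒜) (hK : WSerre.cohInBdd A K)
    (hK' : WSerre.cohInBdd A K') : FFs L.mapDerivedCategory K K' := by
  refine bounded_induction A (fun K => FFs L.mapDerivedCategory K K')
    (fun e h => ffs_of_iso _ e (Iso.refl _) h) (fun X hX => ffs_of_isZero_left _ hX)
    (fun F b hF => ?_) (fun T hT h₁ h₃ => ffs_obj₂' _ _ T hT h₁ h₃) K hK
  have e : ((DerivedCategory.singleFunctor 𝒜 0).obj F)⟦(-b : ℤ)⟧ ≅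
      (DerivedCategory.singleFunctor 𝒜 b).obj F :=
    ((DerivedCategory.singleFunctors 𝒜).shiftIso (-b) b 0 (by lia)).app F
  exact ffs_of_iso _ e (Iso.refl _)
    (ffs_shift_left _ (-b) (ffs_single_bdd L A h2 F hF K' hK'))

include h2 in
/-- Full faithfulness on bounded objects with cohomology in `A`. -/
lemma ff_bdd_bdd (K K' : DerivedCategory 𝒜) (hK : WSerre.cohInBdd A K)
    (hK' : WSerre.cohInBdd A K') :
    Function.Bijective (fun φ : K ⟶ K' => L.mapDerivedCategory.map φ) :=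
  ff_of_iso _ ((shiftFunctorZero (DerivedCategory 𝒜) ℤ).app K)
    ((shiftFunctorZero (DerivedCategory 𝒜) ℤ).app K') (ffs_bdd_bdd L A h2 K K' hK hK' 0 0)

lemma cohInBdd_shift (K : DerivedCategory 𝒜) (hK : WSerre.cohInBdd A K) (n : ℤ) :
    WSerre.cohInBdd A (K⟦n⟧) := by
  obtain ⟨h, ⟨a, ha⟩, ⟨b, hb⟩⟩ := hK
  have : K.IsGE a := ha
  have : K.IsLE b := hb
  refine cohInBdd_mk A _ (fun i => ?_) (a - n) (b - n)
    (TStructure.t.isGE_shift K a n (a - n) (by lia)) (TStructure.t.isLE_shift K b n (b - n) (by lia))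
  exact A.prop_of_iso (((homologyFunctor 𝒜 0).shiftIso n i (n + i) rfl).app K).symm (h (n + i))

lemma cohInBdd_obj₂ (T : Triangle (DerivedCategory 𝒜)) (hT : T ∈ distTriang _)
    (h₁ : WSerre.cohInBdd A T.obj₁) (h₃ : WSerre.cohInBdd A T.obj₃) :
    WSerre.cohInBdd A T.obj₂ := by
  obtain ⟨c₁, ⟨a₁, ha₁⟩, ⟨b₁, hb₁⟩⟩ := h₁
  obtain ⟨c₃, ⟨a₃, ha₃⟩, ⟨b₃, hb₃⟩⟩ := h₃
  have i1 : T.obj₁.IsGE (min a₁ a₃) :=
    have : T.obj₁.IsGE a₁ := ha₁
    TStructure.t.isGE_of_ge T.obj₁ (min a₁ a₃) a₁ (min_le_left _ _)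
  have i3 : T.obj₃.IsGE (min a₁ a₃) :=
    have : T.obj₃.IsGE a₃ := ha₃
    TStructure.t.isGE_of_ge T.obj₃ (min a₁ a₃) a₃ (min_le_right _ _)
  have j1 : T.obj₁.IsLE (max b₁ b₃) :=
    have : T.obj₁.IsLE b₁ := hb₁
    TStructure.t.isLE_of_le T.obj₁ b₁ (max b₁ b₃) (le_max_left _ _)
  have j3 : T.obj₃.IsLE (max b₁ b₃) :=
    have : T.obj₃.IsLE b₃ := hb₃
    TStructure.t.isLE_of_le T.obj₃ b₃ (max b₁ b₃) (le_max_right _ _)
  exact cohInBdd_mk A _ (cohIn_obj₂ A T hT c₁ c₃) (min a₁ a₃) (max b₁ b₃)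
    (TStructure.t.isGE₂ T hT _ i1 i3) (TStructure.t.isLE₂ T hT _ j1 j3)

include h1s h2 in
/-- Essential surjectivity on bounded objects. -/
lemma essSurj_bdd (M : DerivedCategory ℬ) (hM : WSerre.cohInBdd B M) :
    ∃ K : DerivedCategory 𝒜, WSerre.cohInBdd A K ∧
      Nonempty (L.mapDerivedCategory.obj K ≅ M) := by
  refine bounded_induction B
    (fun M => ∃ K : DerivedCategory 𝒜, WSerre.cohInBdd A K ∧
      Nonempty (L.mapDerivedCategory.obj K ≅ M))
    (fun e ⟨K, hK, ⟨e'⟩⟩ => ⟨K, hK, ⟨e' ≪≫ e⟩⟩) (fun X hX => ?_) (fun G b hG => ?_)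
    (fun T hT ⟨K₁, hK₁, ⟨e₁⟩⟩ ⟨K₃, hK₃, ⟨e₃⟩⟩ => ?_) M hM
  · refine ⟨0, cohInBdd_mk A _ (cohIn_of_isZero A (isZero_zero _)) 0 0 inferInstance inferInstance,
      ⟨IsZero.iso (L.mapDerivedCategory.map_isZero (isZero_zero _)) hX⟩⟩
  · obtain ⟨F, hF, ⟨e⟩⟩ := h1s G hG
    exact ⟨(DerivedCategory.singleFunctor 𝒜 b).obj F,
      cohInBdd_mk A _ (cohIn_single A F hF b) b b inferInstance inferInstance,
      ⟨(L.mapDerivedCategorySingleFunctor b).app F ≪≫
        (DerivedCategory.singleFunctor ℬ b).mapIso e⟩⟩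
  · -- the connecting morphism
    let δ : L.mapDerivedCategory.obj K₃ ⟶ (L.mapDerivedCategory.obj K₁)⟦(1 : ℤ)⟧ :=
      e₃.hom ≫ T.mor₃ ≫ (e₁.inv)⟦(1 : ℤ)⟧'
    obtain ⟨d, hd⟩ := (ff_bdd_bdd L A h2 K₃ (K₁⟦(1 : ℤ)⟧) hK₃ (cohInBdd_shift A K₁ hK₁ 1)).2
      (δ ≫ (L.mapDerivedCategory.commShiftIso (1 : ℤ)).inv.app K₁)
    change L.mapDerivedCategory.map d = _ at hd
    obtain ⟨K₂, f, g, hT'⟩ := distinguished_cocone_triangle₂ d
    have hΦT' := L.mapDerivedCategory.map_distinguished _ hT'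
    have hcomm' : (L.mapDerivedCategory.map d ≫
        (L.mapDerivedCategory.commShiftIso (1 : ℤ)).hom.app K₁) ≫
          (shiftFunctor (DerivedCategory ℬ) (1 : ℤ)).map e₁.hom = e₃.hom ≫ T.mor₃ := by
      rw [hd]
      simp only [δ, Category.assoc, Iso.inv_hom_id_app_assoc]
      rw [← Functor.map_comp, e₁.inv_hom_id, CategoryTheory.Functor.map_id, Category.comp_id]
    have hcomm : (L.mapDerivedCategory.mapTriangle.obj (Triangle.mk f g d)).mor₃ ≫
        (e₁.hom)⟦(1 : ℤ)⟧' = e₃.hom ≫ T.mor₃ := hcomm'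
    obtain ⟨b, hb₁, hb₂⟩ := complete_distinguished_triangle_morphism₂ _ _ hΦT' hT e₁.hom e₃.hom
      hcomm
    let φ : L.mapDerivedCategory.mapTriangle.obj (Triangle.mk f g d) ⟶ T :=
      { hom₁ := e₁.hom, hom₂ := b, hom₃ := e₃.hom, comm₁ := hb₁, comm₂ := hb₂,
        comm₃ := hcomm }
    have hb : IsIso b := isIso₂_of_isIso₁₃ φ hΦT' hT
      (by dsimp [φ]; infer_instance) (by dsimp [φ]; infer_instance)
    exact ⟨K₂, cohInBdd_obj₂ A _ hT' hK₁ hK₃, ⟨@asIso _ _ _ _ b hb⟩⟩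

end Main

end Groth.Agent.Lib.Helper62.BddE
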