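import Mathlib

/-!
Objects of the derived category isomorphic to bounded complexes of injective objects are stable
under extensions.
-/

set_option autoImplicit false
universe w v u

open CategoryTheory CategoryTheory.Limits CategoryTheory.Pretriangulated DerivedCategory

namespace Groth.Agent.Lib.Helper62.BddInj

variable {A : Type u} [Category.{v} A] [Abelian A] [HasDerivedCategory.{w} A]

/-- `X` is isomorphic to a bounded complex of injective objects. -/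
def IsBddInj (X : DerivedCategory A) : Prop :=
  ∃ (I : CochainComplex A ℤ) (b c : ℤ), I.IsStrictlyGE b ∧ I.IsStrictlyLE c ∧
    (∀ n : ℤ, Injective (I.X n)) ∧ Nonempty (X ≅ DerivedCategory.Q.obj I)

lemma injective_shift_X (I : CochainComplex A ℤ) (h : ∀ n : ℤ, Injective (I.X n)) (a n : ℤ) :
    Injective ((I⟦a⟧).X n) :=
  Injective.of_iso (I.shiftFunctorObjXIso a n _ rfl).symm (h _)

lemma injective_mappingCone_X {K L : CochainComplex A ℤ} (φ : K ⟶ L)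
    (hK : ∀ n : ℤ, Injective (K.X n)) (hL : ∀ n : ℤ, Injective (L.X n)) (n : ℤ) :
    Injective ((CochainComplex.mappingCone φ).X n) := by
  have := hK (n + 1)
  have := hL n
  exact Injective.of_iso (HomologicalComplex.homotopyCofiber.XIsoBiprod φ n (n + 1) rfl).symm
    inferInstance

lemma isStrictlyLE_mappingCone {K L : CochainComplex A ℤ} (f : K ⟶ L)
    (n₁ n₂ n : ℤ) [K.IsStrictlyLE n₁] [L.IsStrictlyLE n₂] (hn₁ : n₁ ≤ n + 1) (hn₂ : n₂ ≤ n) :
    (CochainComplex.mappingCone f).IsStrictlyLE n := by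
  rw [CochainComplex.isStrictlyLE_iff]
  intro i hi
  simp only [CochainComplex.mappingCone.isZero_X_iff]
  exact ⟨K.isZero_of_isStrictlyLE n₁ _ (by lia), L.isZero_of_isStrictlyLE n₂ _ (by lia)⟩

theorem isBddInj_obj₂ (T : Triangle (DerivedCategory A)) (hT : T ∈ distTriang (DerivedCategory A))
    (h₁ : IsBddInj T.obj₁) (h₃ : IsBddInj T.obj₃) : IsBddInj T.obj₂ := by
  obtain ⟨I₁, b₁, c₁, hb₁, hc₁, hI₁, ⟨e₁⟩⟩ := h₁
  obtain ⟨I₃, b₃, c₃, hb₃, hc₃, hI₃, ⟨e₃⟩⟩ := h₃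
  -- `I₁⟦1⟧` is K-injective
  have hI₁' : ∀ n : ℤ, Injective ((I₁⟦(1 : ℤ)⟧).X n) := injective_shift_X I₁ hI₁ 1
  have hge : (I₁⟦(1 : ℤ)⟧).IsStrictlyGE (b₁ - 1) := I₁.isStrictlyGE_shift b₁ 1 (b₁ - 1) (by lia)
  have hle : (I₁⟦(1 : ℤ)⟧).IsStrictlyLE (c₁ - 1) := I₁.isStrictlyLE_shift c₁ 1 (c₁ - 1) (by lia)
  have hK : (I₁⟦(1 : ℤ)⟧).IsKInjective :=
    CochainComplex.isKInjective_of_injective _ (b₁ - 1)
  -- the connecting morphism
  let e₂' : (T.obj₁)⟦(1 : ℤ)⟧ ≅ Q.obj (I₁⟦(1 : ℤ)⟧) :=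
    (shiftFunctor (DerivedCategory A) (1 : ℤ)).mapIso e₁ ≪≫ ((Q.commShiftIso (1 : ℤ)).app I₁).symm
  let δ : Q.obj I₃ ⟶ Q.obj (I₁⟦(1 : ℤ)⟧) := e₃.inv ≫ T.mor₃ ≫ e₂'.hom
  obtain ⟨g, hg⟩ := (CochainComplex.IsKInjective.Qh_map_bijective
    ((HomotopyCategory.quotient A (ComplexShape.up ℤ)).obj I₃) (I₁⟦(1 : ℤ)⟧)).2
    ((quotientCompQhIso A).hom.app I₃ ≫ δ ≫ (quotientCompQhIso A).inv.app _)
  obtain ⟨φ, rfl⟩ := (HomotopyCategory.quotient A (ComplexShape.up ℤ)).map_surjective g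
  have hφ : Q.map φ = δ := by
    have := (quotientCompQhIso A).hom.naturality φ
    dsimp at this
    rw [hg] at this
    simp only [Category.assoc, Iso.inv_hom_id_app, Category.comp_id] at this
    exact ((cancel_epi _).1 this).symm
  -- compare the triangles
  have hT' := rot_of_distTriang _ (rot_of_distTriang _ hT)
  have hC := mappingCone_triangle_distinguished φ
  have comm : T.rotate.rotate.mor₁ ≫ e₂'.hom =
      e₃.hom ≫ (Q.mapTriangle.obj (CochainComplex.mappingCone.triangle φ)).mor₁ := by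
    change T.mor₃ ≫ e₂'.hom = e₃.hom ≫ Q.map φ
    rw [hφ]
    simp [δ]
  let E := isoTriangleOfIso₁₂ _ _ hT' hC e₃ e₂' comm
  let e : (T.obj₂)⟦(1 : ℤ)⟧ ≅ Q.obj (CochainComplex.mappingCone φ) := Triangle.π₃.mapIso E
  let J : CochainComplex A ℤ := (CochainComplex.mappingCone φ)⟦(-1 : ℤ)⟧
  have eJ : T.obj₂ ≅ Q.obj J :=
    ((shiftFunctorCompIsoId (DerivedCategory A) (1 : ℤ) (-1) (by lia)).app T.obj₂).symm ≪≫
      (shiftFunctor (DerivedCategory A) (-1 : ℤ)).mapIso e ≪≫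
      ((Q.commShiftIso (-1 : ℤ)).app (CochainComplex.mappingCone φ)).symm
  have hJ₁ : (CochainComplex.mappingCone φ).IsStrictlyGE (min (b₃ - 1) (b₁ - 1)) :=
    CochainComplex.isStrictlyGE_mappingCone φ b₃ (b₁ - 1) _
      (lt_of_le_of_lt (min_le_left _ _) (by lia)) (min_le_right _ _)
  have hJ₂ : (CochainComplex.mappingCone φ).IsStrictlyLE (max (c₃ - 1) (c₁ - 1)) :=
    isStrictlyLE_mappingCone φ c₃ (c₁ - 1) _
      (by have := le_max_left (c₃ - 1) (c₁ - 1); lia) (le_max_right _ _)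
  refine ⟨J, min (b₃ - 1) (b₁ - 1) + 1, max (c₃ - 1) (c₁ - 1) + 1,
    (CochainComplex.mappingCone φ).isStrictlyGE_shift (min (b₃ - 1) (b₁ - 1)) (-1)
      (min (b₃ - 1) (b₁ - 1) + 1) (by lia),
    (CochainComplex.mappingCone φ).isStrictlyLE_shift (max (c₃ - 1) (c₁ - 1)) (-1)
      (max (c₃ - 1) (c₁ - 1) + 1) (by lia),
    injective_shift_X _ (injective_mappingCone_X φ hI₃ hI₁') (-1), ⟨eJ⟩⟩

end Groth.Agent.Lib.Helper62.BddInj
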