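import Mathlib
import Groth.Agent.Lib.Helper13.ExtAcyc

/-! # Quasi-isomorphisms between bounded below complexes of `Hom(P,-)`-acyclic objects induce
quasi-isomorphisms on `Hom(P,-)` (elementwise formulation) -/

set_option autoImplicit false

open CategoryTheory CategoryTheory.Limits CochainComplex HomComplex

universe w v u

namespace Groth.Agent.Lib.Helper62.CTAcyc

open Abelian Groth.Agent.Lib.Helper13.ExtAcyc

variable {A : Type u} [Category.{v} A] [Abelian A]

theorem acyclic_mappingCone_iff {F F' : CochainComplex A ℤ} (φ : F ⟶ F') :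
    (CochainComplex.mappingCone φ).Acyclic ↔ QuasiIso φ := by
  rw [← HomotopyCategory.quotient_obj_mem_subcategoryAcyclic_iff_acyclic]
  have h1 := (HomotopyCategory.subcategoryAcyclic A).trW_iff_of_distinguished _
    (HomotopyCategory.mappingCone_triangleh_distinguished φ)
  rw [← HomotopyCategory.quasiIso_eq_trW_subcategoryAcyclic] at h1
  have h2 := HomotopyCategory.quotient_map_mem_quasiIso_iff φ
  rw [HomologicalComplex.mem_quasiIso_iff] at h2
  exact h1.symm.trans h2

variable [HasExt.{w} A]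

lemma extZero_X₂ (P : A) {S : ShortComplex A} (hS : S.ShortExact) (p : ℕ)
    (h1 : ExtZero P S.X₁ p) (h3 : ExtZero P S.X₃ p) : ExtZero P S.X₂ p := by
  intro x₂
  obtain ⟨x₁, hx₁⟩ := Ext.covariant_sequence_exact₂ P hS x₂ (h3 _)
  rw [← hx₁, h1 x₁, Ext.zero_comp]

lemma extZero_mappingCone_X {K L : CochainComplex A ℤ} (φ : K ⟶ L) (P : A) (n : ℤ) (p : ℕ)
    (hK : ExtZero P (K.X (n + 1)) p) (hL : ExtZero P (L.X n) p) :
    ExtZero P ((mappingCone φ).X n) p := by
  have hS := (mappingCone.triangleRotateShortComplexSplitting φ n).shortExact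
  exact extZero_X₂ P hS p hL hK

lemma isZero_mappingCone_X {K L : CochainComplex A ℤ} (φ : K ⟶ L) (n : ℤ)
    (hK : IsZero (K.X (n + 1))) (hL : IsZero (L.X n)) : IsZero ((mappingCone φ).X n) := by
  rw [IsZero.iff_id_eq_zero, ← mappingCone.id_X φ n (n + 1) rfl]
  rw [hK.eq_of_tgt ((mappingCone.fst φ).1.v n (n + 1) rfl) 0,
    hL.eq_of_tgt ((mappingCone.snd φ).v n n (add_zero n)) 0]
  simp

theorem bcore {K L : CochainComplex A ℤ} (φ : K ⟶ L) [QuasiIso φ] (a : ℤ)
    (hKa : ∀ n, n < a → IsZero (K.X n)) (hLa : ∀ n, n < a → IsZero (L.X n)) (P : A)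
    (hK : ∀ n p, 1 ≤ p → ExtZero P (K.X n) p) (hL : ∀ n p, 1 ≤ p → ExtZero P (L.X n) p) :
    (∀ (i j k : ℤ) (_ : i + 1 = j) (_ : j + 1 = k) (y : P ⟶ L.X j), y ≫ L.d j k = 0 →
      ∃ (x : P ⟶ K.X j) (t : P ⟶ L.X i), x ≫ K.d j k = 0 ∧ x ≫ φ.f j = y + t ≫ L.d i j) ∧
    (∀ (i j k : ℤ) (_ : i + 1 = j) (_ : j + 1 = k) (x : P ⟶ K.X j) (t : P ⟶ L.X i),
      x ≫ K.d j k = 0 → x ≫ φ.f j = t ≫ L.d i j → ∃ s : P ⟶ K.X i, s ≫ K.d i j = x) := by
  have hC : (mappingCone φ).Acyclic := (acyclic_mappingCone_iff φ).2 inferInstance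
  have hT : ∀ n p, 1 ≤ p → ExtZero P ((mappingCone φ).X n) p := fun n p hp =>
    extZero_mappingCone_X φ P n p (hK _ _ hp) (hL _ _ hp)
  have hB : ∀ n, n < a - 1 → IsZero ((mappingCone φ).X n) := fun n hn =>
    isZero_mappingCone_X φ n (hKa _ (by omega)) (hLa _ (by omega))
  have hZ := extZero_Zc_of_bounded_below (mappingCone φ) P hC hT (a - 1) hB
  have lift : ∀ (n m k : ℤ) (_ : n + 1 = m) (_ : m + 1 = k) (f : P ⟶ (mappingCone φ).X m),
      f ≫ (mappingCone φ).d m k = 0 → ∃ g : P ⟶ (mappingCone φ).X n,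
        g ≫ (mappingCone φ).d n m = f := fun n m k hnm hmk f hf =>
    exists_lift_cycle'' (mappingCone φ) P n m k hnm hmk (hC m) (hZ n 1 le_rfl) f hf
  constructor
  · intro i j k hij hjk y hy
    obtain ⟨β, hβ⟩ := lift i j k hij hjk (y ≫ (mappingCone.inr φ).f j) (by
      rw [Category.assoc, mappingCone.inr_f_d, ← Category.assoc, hy, zero_comp])
    refine ⟨β ≫ (mappingCone.fst φ).1.v i j hij, -(β ≫ (mappingCone.snd φ).v i i (add_zero i)),
      ?_, ?_⟩
    · have h1 := mappingCone.d_fst_v φ i j k hij hjk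
      have h2 : β ≫ (mappingCone φ).d i j ≫ (mappingCone.fst φ).1.v j k hjk = 0 := by
        rw [← Category.assoc, hβ, Category.assoc, mappingCone.inr_f_fst_v, comp_zero]
      rw [h1] at h2
      rw [Category.assoc]
      simpa using h2
    · have h1 := mappingCone.d_snd_v φ i j hij
      have h2 : β ≫ (mappingCone φ).d i j ≫ (mappingCone.snd φ).v j j (add_zero j) = y := by
        rw [← Category.assoc, hβ, Category.assoc, mappingCone.inr_f_snd_v, Category.comp_id]
      rw [h1, Preadditive.comp_add] at h2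
      rw [Category.assoc, Preadditive.neg_comp, ← h2]
      simp only [Category.assoc]
      abel
  · intro i j k hij hjk x t hx hxt
    have hji : j + (-1) = i := by omega
    have hkj : k + (-1) = j := by omega
    let α : P ⟶ (mappingCone φ).X i :=
      x ≫ (mappingCone.inl φ).v j i hji - t ≫ (mappingCone.inr φ).f i
    have hα : α ≫ (mappingCone φ).d i j = 0 := by
      dsimp only [α]
      rw [Preadditive.sub_comp, Category.assoc, Category.assoc,
        mappingCone.inl_v_d φ j i k hji hkj, mappingCone.inr_f_d, Preadditive.comp_sub,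
        ← Category.assoc x, ← Category.assoc x, hx, zero_comp, sub_zero,
        ← Category.assoc, hxt, sub_self]
    obtain ⟨β, hβ⟩ := lift (i - 1) i j (by omega) hij α hα
    refine ⟨-(β ≫ (mappingCone.fst φ).1.v (i - 1) i (by omega)), ?_⟩
    have h1 := mappingCone.d_fst_v φ (i - 1) i j (by omega) hij
    have h2 : β ≫ (mappingCone φ).d (i - 1) i ≫ (mappingCone.fst φ).1.v i j hij = x := by
      rw [← Category.assoc, hβ]
      dsimp only [α]
      rw [Preadditive.sub_comp, Category.assoc, Category.assoc, mappingCone.inr_f_fst_v,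
        comp_zero, sub_zero]
      have := mappingCone.inl_v_fst_v φ j i hij
      rw [this, Category.comp_id]
    rw [h1] at h2
    rw [Preadditive.neg_comp, Category.assoc, ← h2]
    simp

end Groth.Agent.Lib.Helper62.CTAcyc
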