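import Mathlib
import Groth.Prelude.Def_Hyper

/-! # Generic lemmas on the Cech complex of a simplicial semi-representable object -/

set_option autoImplicit false
set_option backward.isDefEq.respectTransparency false
set_option backward.isDefEq.respectTransparency.types false

open CategoryTheory CategoryTheory.Limits Opposite Simplicial

universe u

namespace Groth.Agent.Lib.Helper62.CechE

variable {C' : Type u} [SmallCategory C'] (P : C'ᵒᵖ ⥤ AddCommGrpCat.{u})

/-- extension of a presheaf to formal coproducts -/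
noncomputable abbrev E : (FormalCoproduct.{u} C')ᵒᵖ ⥤ AddCommGrpCat.{u} :=
  (FormalCoproduct.evalOp.{u} C' AddCommGrpCat.{u}).obj P

lemma E_map_π {A B : FormalCoproduct.{u} C'} (f : A ⟶ B) (i : A.I) :
    (E P).map f.op ≫ Pi.π (fun i : A.I => P.obj (op (A.obj i))) i =
      Pi.π (fun j : B.I => P.obj (op (B.obj j))) (f.f i) ≫ P.map (f.φ i).op := by
  simp [E, FormalCoproduct.evalOp]

/-- the projection `E(incl Z) ⟶ P(Z)` -/
noncomputable abbrev πZ (Z : C') :
    (E P).obj (op ((FormalCoproduct.incl C').obj Z)) ⟶ P.obj (op Z) :=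
  Pi.π (fun _ : PUnit.{u + 1} => P.obj (op Z)) PUnit.unit

lemma πZ_injective (Z : C') : Function.Injective (πZ P Z).hom := by
  have : IsIso (πZ P Z) :=
    (inferInstance : IsIso
      (((FormalCoproduct.evalOpCompInlIsoId C' AddCommGrpCat.{u}).app P).app (op Z)).hom)
  intro x y hxy
  have h1 := congrArg (inv (πZ P Z)).hom hxy
  simpa using h1

lemma πZ_E_map {B : FormalCoproduct.{u} C'} (s : (E P).obj (op B)) {Z : C'}
    (i : B.I) (g : Z ⟶ B.obj i) :
    (πZ P Z).hom (((E P).map (FormalCoproduct.Hom.fromIncl i g).op).hom s) =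
      (P.map g.op).hom ((Pi.π (fun i : B.I => P.obj (op (B.obj i))) i).hom s) := by
  have h := E_map_π P (FormalCoproduct.Hom.fromIncl i g) PUnit.unit
  have h2 := congrArg (fun φ => φ.hom s) h
  exact h2

lemma πZ_E_incl_map {Z Z' : C'} (g : Z' ⟶ Z) (x : (E P).obj (op ((FormalCoproduct.incl C').obj Z))) :
    (πZ P Z').hom (((E P).map ((FormalCoproduct.incl C').map g).op).hom x) =
      (P.map g.op).hom ((πZ P Z).hom x) := by
  have h := E_map_π P ((FormalCoproduct.incl C').map g) PUnit.unit
  have h2 := congrArg (fun φ => φ.hom x) h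
  exact h2

lemma pi_ext {I : Type u} (G : I → AddCommGrpCat.{u}) (x y : (∏ᶜ G : AddCommGrpCat.{u}))
    (h : ∀ i, (Pi.π G i).hom x = (Pi.π G i).hom y) : x = y := by
  apply (Concrete.productEquiv G).injective
  funext i
  rw [Concrete.productEquiv_apply_apply, Concrete.productEquiv_apply_apply]
  exact h i

variable (K : SimplicialObject (FormalCoproduct.{u} C'))

lemma d01 : ((FormalCoproduct.cochainComplexFunctor K).obj P).d 0 1 =
    (E P).map (K.δ 0).op - (E P).map (K.δ 1).op := by
  change AlgebraicTopology.AlternatingCofaceMapComplex.objD (K.rightOp ⋙ E P) 0 = _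
  simp only [AlgebraicTopology.AlternatingCofaceMapComplex.objD]
  rw [Fin.sum_univ_two]
  have h0 : CosimplicialObject.δ (Functor.rightOp K ⋙ E P) (0 : Fin 2) =
      (E P).map (K.δ (0 : Fin 2)).op := rfl
  have h1 : CosimplicialObject.δ (Functor.rightOp K ⋙ E P) (1 : Fin 2) =
      (E P).map (K.δ (1 : Fin 2)).op := rfl
  rw [h0, h1]
  generalize (E P).map (K.δ (0 : Fin 2)).op = α
  generalize (E P).map (K.δ (1 : Fin 2)).op = β
  simp only [Fin.val_zero, pow_zero, one_smul, Fin.val_one, pow_one, neg_smul]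
  exact (sub_eq_add_neg α β).symm

/-- `H^0` of the Cech complex from a kernel description. -/
theorem h0_iso_of_kernel {Y : AddCommGrpCat.{u}}
    (ι : Y ⟶ (E P).obj (op (K.obj (op ⦋0⦌))))
    (hι : Function.Injective ι.hom)
    (w : ∀ y, ((E P).map (K.δ 0).op).hom (ι.hom y) = ((E P).map (K.δ 1).op).hom (ι.hom y))
    (hex : ∀ s : (E P).obj (op (K.obj (op ⦋0⦌))),
      ((E P).map (K.δ 0).op).hom s = ((E P).map (K.δ 1).op).hom s → ∃ y, ι.hom y = s) :
    Nonempty (((FormalCoproduct.cochainComplexFunctor K).obj P).homology 0 ≅ Y) := by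
  let Kc := (FormalCoproduct.cochainComplexFunctor K).obj P
  have w' : ι ≫ Kc.d 0 1 = 0 := by
    rw [d01, Preadditive.comp_sub]
    ext y
    have := w y
    simp only [AddCommGrpCat.hom_sub, AddCommGrpCat.hom_comp, AddMonoidHom.sub_apply,
      AddMonoidHom.comp_apply]
    exact (sub_eq_zero.2 this)
  let S : ShortComplex AddCommGrpCat.{u} := ShortComplex.mk ι (Kc.d 0 1) w'
  have hmono : Mono S.f := (AddCommGrpCat.mono_iff_injective _).2 hι
  have hex' : S.Exact := by
    rw [ShortComplex.ab_exact_iff]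
    intro s hs
    apply hex s
    have h1 : ((E P).map (K.δ 0).op - (E P).map (K.δ 1).op).hom s = 0 := by
      rw [← d01]
      exact hs
    exact sub_eq_zero.1 h1
  have hk := hex'.fIsKernel
  exact ⟨Kc.isoHomologyπ₀.symm ≪≫
    IsLimit.conePointUniqueUpToIso (Kc.cyclesIsKernel 0 1 (by simp)) hk⟩

end Groth.Agent.Lib.Helper62.CechE
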