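import Mathlib
import Groth.Prelude.Def_Hyper
import Groth.Agent.Lib.Helper62.CoskZero
import Groth.Agent.Lib.Helper62.SRCover
import Groth.Agent.Lib.Helper62.LLP
import Groth.Agent.Lib.Helper62.HyperH0

/-! # Fibre products of hypercoverings -/

set_option autoImplicit false
set_option backward.isDefEq.respectTransparency false
set_option backward.isDefEq.respectTransparency.types false

open CategoryTheory CategoryTheory.Limits Opposite Simplicial

universe u

namespace Groth.Agent.Lib.Helper62.HyperFP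

open SRCover LLP CoskZero HyperH0

variable {C : Type u} [SmallCategory C] [HasPullbacks C] (J : GrothendieckTopology C) (X : C)
  [∀ (n : ℕ) (G : (SimplexCategory.Truncated n)ᵒᵖ ⥤ FormalCoproduct.{u} (Over X)),
      (SimplexCategory.Truncated.inclusion n).op.HasRightKanExtension G]

/-- a pullback square of simplicial objects is a pullback square in each degree -/
lemma isPullback_app {K L M P : SimplicialObject (FormalCoproduct.{u} (Over X))} {a : K ⟶ L}
    {b : M ⟶ L} {p1 : P ⟶ K} {p2 : P ⟶ M} (hP : IsPullback p1 p2 a b) (m : SimplexCategoryᵒᵖ) :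
    IsPullback (p1.app m) (p2.app m) (a.app m) (b.app m) :=
  hP.map ((evaluation _ _).obj m)

/-- the coskeleton functor preserves pullback squares -/
lemma isPullback_cosk (n : ℕ) {K L M P : SimplicialObject (FormalCoproduct.{u} (Over X))}
    {a : K ⟶ L} {b : M ⟶ L} {p1 : P ⟶ K} {p2 : P ⟶ M} (hP : IsPullback p1 p2 a b) :
    IsPullback ((SimplicialObject.cosk n).map p1) ((SimplicialObject.cosk n).map p2)
      ((SimplicialObject.cosk n).map a) ((SimplicialObject.cosk n).map b) := by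
  haveI : PreservesLimitsOfSize.{0, 0} (SimplicialObject.Truncated.cosk n :
      SimplicialObject.Truncated (FormalCoproduct.{u} (Over X)) n ⥤ _) :=
    (SimplicialObject.coskAdj n).rightAdjoint_preservesLimits
  haveI : PreservesLimitsOfShape WalkingCospan (SimplicialObject.truncation n :
      SimplicialObject (FormalCoproduct.{u} (Over X)) ⥤ _) := by
    unfold SimplicialObject.truncation
    infer_instance
  haveI : PreservesLimit (cospan a b) (SimplicialObject.cosk n) := by
    unfold SimplicialObject.cosk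
    infer_instance
  exact hP.map (SimplicialObject.cosk n)

lemma unit_nat (n : ℕ) {K L : SimplicialObject (FormalCoproduct.{u} (Over X))} (f : K ⟶ L)
    (m : SimplexCategoryᵒᵖ) :
    f.app m ≫ ((SimplicialObject.coskAdj n).unit.app L).app m =
      ((SimplicialObject.coskAdj n).unit.app K).app m ≫ ((SimplicialObject.cosk n).map f).app m := by
  have h := (SimplicialObject.coskAdj n).unit.naturality f
  exact congrArg (fun φ => φ.app m) h

theorem llp_unit_fp {K L M P : SimplicialObject (FormalCoproduct.{u} (Over X))}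
    (a : K ⟶ L) (b : M ⟶ L) (p1 : P ⟶ K) (p2 : P ⟶ M) (hP : IsPullback p1 p2 a b) (n : ℕ)
    (hK : HasLLP (J.over X)
      (((SimplicialObject.coskAdj n).unit.app K).app (op ⦋n + 1⦌)))
    (hγ : ∀ (Q : FormalCoproduct.{u} (Over X))
      (q1 : Q ⟶ L.obj (op ⦋n + 1⦌))
      (q2 : Q ⟶ ((SimplicialObject.cosk n).obj M).obj (op ⦋n + 1⦌))
      (γ : M.obj (op ⦋n + 1⦌) ⟶ Q),
      IsPullback q1 q2 (((SimplicialObject.coskAdj n).unit.app L).app (op ⦋n + 1⦌))
        (((SimplicialObject.cosk n).map b).app (op ⦋n + 1⦌)) →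
      γ ≫ q1 = b.app (op ⦋n + 1⦌) →
      γ ≫ q2 = ((SimplicialObject.coskAdj n).unit.app M).app (op ⦋n + 1⦌) →
      HasLLP (J.over X) γ) :
    HasLLP (J.over X) (((SimplicialObject.coskAdj n).unit.app P).app (op ⦋n + 1⦌)) := by
  intro Z l
  -- the pullback squares
  have sqP := isPullback_app X hP (op ⦋n + 1⦌)
  have sqC := isPullback_app X (isPullback_cosk X n hP) (op ⦋n + 1⦌)
  -- the object Q
  have hw : b.app (op ⦋n + 1⦌) ≫ ((SimplicialObject.coskAdj n).unit.app L).app (op ⦋n + 1⦌) =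
      ((SimplicialObject.coskAdj n).unit.app M).app (op ⦋n + 1⦌) ≫
        ((SimplicialObject.cosk n).map b).app (op ⦋n + 1⦌) := unit_nat X n b _
  have sqQ := IsPullback.of_hasPullback
    (((SimplicialObject.coskAdj n).unit.app L).app (op ⦋n + 1⦌))
    (((SimplicialObject.cosk n).map b).app (op ⦋n + 1⦌))
  have hγ' := hγ _ _ _ (pullback.lift _ _ hw) sqQ (pullback.lift_fst _ _ hw)
    (pullback.lift_snd _ _ hw)
  -- first lifting
  obtain ⟨S, hS, hl⟩ := hK (l ≫ ((SimplicialObject.cosk n).map p1).app (op ⦋n + 1⦌))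
  choose k hk using hl
  -- second lifting
  have hcomp : ∀ ⦃Z' : Over X⦄ (h : Z' ⟶ Z) (hh : S.arrows h),
      (k h hh ≫ a.app (op ⦋n + 1⦌)) ≫
        ((SimplicialObject.coskAdj n).unit.app L).app (op ⦋n + 1⦌) =
      ((FormalCoproduct.incl (Over X)).map h ≫ l ≫
        ((SimplicialObject.cosk n).map p2).app (op ⦋n + 1⦌)) ≫
        ((SimplicialObject.cosk n).map b).app (op ⦋n + 1⦌) := by
    intro Z' h hh
    rw [Category.assoc, unit_nat X n a, ← Category.assoc, ← hk h hh]
    simp only [Category.assoc]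
    congr 2
    exact sqC.w
  have hl2 : ∀ ⦃Z' : Over X⦄ (h : Z' ⟶ Z) (hh : S.arrows h), _ :=
    fun Z' h hh => hγ' (sqQ.lift _ _ (hcomp h hh))
  refine ⟨Sieve.bind S.arrows (fun Z' h hh => (hl2 h hh).choose), ?_, ?_⟩
  · exact (J.over X).bind_covering hS (fun Z' h hh => (hl2 h hh).choose_spec.1)
  · intro Z'' g hg
    obtain ⟨Z', h', h, hh, hh', rfl⟩ := hg
    obtain ⟨m, hm⟩ := (hl2 h hh).choose_spec.2 h' hh'
    have hm1 : m ≫ b.app (op ⦋n + 1⦌) =
        (FormalCoproduct.incl (Over X)).map h' ≫ k h hh ≫ a.app (op ⦋n + 1⦌) := by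
      have := congrArg (fun φ => φ ≫ pullback.fst _ _) hm
      simp only [Category.assoc, pullback.lift_fst, IsPullback.lift_fst] at this
      exact this.symm
    have hm2 : m ≫ ((SimplicialObject.coskAdj n).unit.app M).app (op ⦋n + 1⦌) =
        (FormalCoproduct.incl (Over X)).map h' ≫ (FormalCoproduct.incl (Over X)).map h ≫ l ≫
        ((SimplicialObject.cosk n).map p2).app (op ⦋n + 1⦌) := by
      have := congrArg (fun φ => φ ≫ pullback.snd _ _) hm
      simp only [Category.assoc, pullback.lift_snd, IsPullback.lift_snd] at this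
      exact this.symm
    have hpw : ((FormalCoproduct.incl (Over X)).map h' ≫ k h hh) ≫ a.app (op ⦋n + 1⦌) =
        m ≫ b.app (op ⦋n + 1⦌) := by
      rw [hm1, Category.assoc]
    refine ⟨sqP.lift _ _ hpw, ?_⟩
    apply sqC.hom_ext
    · rw [Category.assoc, Category.assoc, ← unit_nat X n p1, ← Category.assoc (sqP.lift _ _ hpw),
        sqP.lift_fst, Category.assoc, ← hk h hh, Functor.map_comp]
      simp only [Category.assoc]
    · rw [Category.assoc, Category.assoc, ← unit_nat X n p2, ← Category.assoc (sqP.lift _ _ hpw),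
        sqP.lift_snd, hm2, Functor.map_comp]
      simp only [Category.assoc]

/-- a map from a representable to a semi-representable object puts its source in the sieve
generated by the family -/
lemma mem_ofArrows_of_hom {A : FormalCoproduct.{u} (Over X)} {Z : Over X}
    (p : (FormalCoproduct.incl (Over X)).obj Z ⟶ A) :
    (Sieve.ofArrows (fun i => (A.obj i).left) (fun i => (A.obj i).hom)).arrows Z.hom := by
  refine ⟨_, (p.φ PUnit.unit).left, (A.obj (p.f PUnit.unit)).hom, Presieve.ofArrows.mk _, ?_⟩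
  exact Over.w (p.φ PUnit.unit)

theorem cover0_fp {K L M P : SimplicialObject (FormalCoproduct.{u} (Over X))}
    (a : K ⟶ L) (b : M ⟶ L) (p1 : P ⟶ K) (p2 : P ⟶ M) (hP : IsPullback p1 p2 a b)
    (hK0 : Sieve.ofArrows (fun i => ((K.obj (op ⦋0⦌)).obj i).left)
      (fun i => ((K.obj (op ⦋0⦌)).obj i).hom) ∈ J X)
    (h0 : HasLLP (J.over X) (b.app (op ⦋0⦌))) :
    Sieve.ofArrows (fun i => ((P.obj (op ⦋0⦌)).obj i).left)
      (fun i => ((P.obj (op ⦋0⦌)).obj i).hom) ∈ J X := by
  have sqP := isPullback_app X hP (op ⦋0⦌)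
  refine J.transitive hK0 _ ?_
  intro Y f hf
  obtain ⟨W, g, e, he, hge⟩ := hf
  obtain ⟨i⟩ := he
  let Z : Over X := Over.mk f
  let l : (FormalCoproduct.incl (Over X)).obj Z ⟶ K.obj (op ⦋0⦌) :=
    FormalCoproduct.Hom.fromIncl i (Over.homMk g hge)
  obtain ⟨S, hS, hl⟩ := h0 (l ≫ a.app (op ⦋0⦌))
  have hS' := (J.mem_over_iff S).1 hS
  refine J.superset_covering ?_ hS'
  intro W' k hk
  rw [Sieve.overEquiv_iff] at hk
  obtain ⟨m, hm⟩ := hl _ hk
  have hpw : ((FormalCoproduct.incl (Over X)).map (Over.homMk k : Over.mk (k ≫ Z.hom) ⟶ Z) ≫ l) ≫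
      a.app (op ⦋0⦌) = m ≫ b.app (op ⦋0⦌) := by
    rw [Category.assoc]
    exact hm
  exact mem_ofArrows_of_hom X (sqP.lift _ _ hpw)

theorem fp_hyper {K L M P : SimplicialObject (FormalCoproduct.{u} (Over X))}
    (a : K ⟶ L) (b : M ⟶ L) (p1 : P ⟶ K) (p2 : P ⟶ M) (hP : IsPullback p1 p2 a b)
    (hK : Hyper.IsHypercovering J X K)
    (h0 : Hyper.IsSRCovering (J.over X) (b.app (op ⦋0⦌)))
    (hγ : ∀ (n : ℕ) (Q : FormalCoproduct.{u} (Over X))
      (q1 : Q ⟶ L.obj (op ⦋n + 1⦌))
      (q2 : Q ⟶ ((SimplicialObject.cosk n).obj M).obj (op ⦋n + 1⦌))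
      (γ : M.obj (op ⦋n + 1⦌) ⟶ Q),
      IsPullback q1 q2 (((SimplicialObject.coskAdj n).unit.app L).app (op ⦋n + 1⦌))
        (((SimplicialObject.cosk n).map b).app (op ⦋n + 1⦌)) →
      γ ≫ q1 = b.app (op ⦋n + 1⦌) →
      γ ≫ q2 = ((SimplicialObject.coskAdj n).unit.app M).app (op ⦋n + 1⦌) →
      Hyper.IsSRCovering (J.over X) γ) :
    Hyper.IsHypercovering J X P := by
  refine ⟨cover0_fp J X a b p1 p2 hP hK.1 (llp_of_sr _ _ h0), ?_⟩
  intro n
  apply sr_of_llp
  apply llp_unit_fp J X a b p1 p2 hP n (llp_of_sr _ _ (hK.2 n))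
  intro Q q1 q2 γ h1 h2 h3
  exact llp_of_sr _ _ (hγ n Q q1 q2 γ h1 h2 h3)

end Groth.Agent.Lib.Helper62.HyperFP
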