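import Mathlib
import Groth.Prelude.Def_Hyper
import Groth.Agent.Lib.Helper62.LLP

/-! # Finite products of maps with the local lifting property -/

set_option autoImplicit false
set_option backward.isDefEq.respectTransparency false
set_option backward.isDefEq.respectTransparency.types false

open CategoryTheory CategoryTheory.Limits Opposite

universe u

namespace Groth.Agent.Lib.Helper62.LLPFin

open LLP

variable {C' : Type u} [SmallCategory C'] (J' : GrothendieckTopology C')

/-- the intersection of a family of sieves over a finset -/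
def interOn {ι : Type*} {T : C'} (S : ι → Sieve T) (s : Finset ι) : Sieve T where
  arrows Z' h := ∀ i ∈ s, (S i).arrows h
  downward_closed := fun hh g i hi => (S i).downward_closed (hh i hi) g

lemma interOn_mem {ι : Type*} {T : C'} (S : ι → Sieve T) (hS : ∀ i, S i ∈ J' T)
    (s : Finset ι) : interOn S s ∈ J' T := by
  classical
  induction s using Finset.induction_on with
  | empty =>
    refine J'.superset_covering ?_ (J'.top_mem T)
    intro Z' h _ i hi
    simp at hi
  | insert a s ha ih =>
    refine J'.superset_covering ?_ (J'.intersection_covering (hS a) ih)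
    intro Z' h hh i hi
    rw [Finset.mem_insert] at hi
    rcases hi with rfl | hi
    · exact hh.1
    · exact hh.2 i hi

/-- simultaneous local lifting for finitely many lifting problems -/
theorem llp_finite {ι : Type*} [Finite ι] {A B : ι → FormalCoproduct.{u} C'}
    (f : ∀ i, A i ⟶ B i) (hf : ∀ i, HasLLP J' (f i)) {T : C'}
    (l : ∀ i, (FormalCoproduct.incl C').obj T ⟶ B i) :
    ∃ S ∈ J' T, ∀ ⦃Z' : C'⦄ (h : Z' ⟶ T), S.arrows h →
      ∀ i, ∃ m : (FormalCoproduct.incl C').obj Z' ⟶ A i,
        (FormalCoproduct.incl C').map h ≫ l i = m ≫ f i := by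
  cases nonempty_fintype ι
  choose S hS hl using fun i => hf i (l i)
  refine ⟨interOn S Finset.univ, interOn_mem J' S hS _, ?_⟩
  intro Z' h hh i
  exact hl i h (hh i (Finset.mem_univ i))

/-- a finite product of maps with the local lifting property has it -/
theorem llp_pimap [HasFiniteProducts (FormalCoproduct.{u} C')] {ι : Type} [Finite ι]
    {A B : ι → FormalCoproduct.{u} C'}
    (f : ∀ i, A i ⟶ B i) (hf : ∀ i, HasLLP J' (f i)) : HasLLP J' (Limits.Pi.map f) := by
  intro T l
  obtain ⟨S, hS, hl⟩ := llp_finite J' f hf (fun i => l ≫ Pi.π B i)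
  refine ⟨S, hS, ?_⟩
  intro Z' h hh
  choose m hm using hl h hh
  refine ⟨Pi.lift m, ?_⟩
  apply Limits.Pi.hom_ext
  intro i
  rw [Category.assoc, Category.assoc, Limits.Pi.map_π, ← Category.assoc (Pi.lift m),
    Limits.Pi.lift_π, ← hm i]

end Groth.Agent.Lib.Helper62.LLPFin
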