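import Mathlib
import Groth.Agent.Lib.Helper62.CoskGen

/-! # Lifting compatible boundaries to the coskeleton (matching objects) -/

set_option autoImplicit false
set_option backward.isDefEq.respectTransparency false
set_option backward.isDefEq.respectTransparency.types false

open CategoryTheory CategoryTheory.Limits Opposite Simplicial SimplexCategory CategoryTheory.Functor

universe v u

namespace Groth.Agent.Lib.Helper62.MatchLift

open CoskZero CoskGen

lemma exists_factor {k : ℕ} {a : SimplexCategory} (ha : a.len ≤ k) (θ : a ⟶ ⦋k + 1⦌) :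
    ∃ (i : Fin (k + 2)) (θ' : a ⟶ ⦋k⦌), θ = θ' ≫ SimplexCategory.δ i := by
  apply eq_comp_δ_of_not_surjective
  intro hs
  haveI : Epi θ := (SimplexCategory.epi_iff_surjective).2 hs
  have := len_le_of_epi θ
  simp only [SimplexCategory.len_mk] at this
  omega

variable {D : Type u} [Category.{v} D] [HasFiniteLimits D] (k : ℕ)
  [∀ (F : (SimplexCategory.Truncated k)ᵒᵖ ⥤ D),
    (SimplexCategory.Truncated.inclusion k).op.HasRightKanExtension F]
  (K : SimplicialObject D)

/-- universal compatibility of a boundary -/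
def Compat {W : D} (b : Fin (k + 2) → (W ⟶ K.obj (op ⦋k⦌))) : Prop :=
  ∀ (i j : Fin (k + 2)) (a : SimplexCategory) (ρ₁ ρ₂ : a ⟶ ⦋k⦌),
    ρ₁ ≫ SimplexCategory.δ i = ρ₂ ≫ SimplexCategory.δ j → b i ≫ K.map ρ₁.op = b j ≫ K.map ρ₂.op

/-- chosen index -/
noncomputable def idx (j : StructuredArrow (op ⦋k + 1⦌) (L k)) : Fin (k + 2) :=
  (exists_factor j.right.unop.property j.hom.unop).choose

/-- chosen factorization -/
noncomputable def fac (j : StructuredArrow (op ⦋k + 1⦌) (L k)) : j.right.unop.obj ⟶ ⦋k⦌ :=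
  (exists_factor j.right.unop.property j.hom.unop).choose_spec.choose

lemma fac_spec (j : StructuredArrow (op ⦋k + 1⦌) (L k)) :
    j.hom.unop = fac k j ≫ SimplexCategory.δ (idx k j) :=
  (exists_factor j.right.unop.property j.hom.unop).choose_spec.choose_spec

variable {K} in
/-- the cone attached to a compatible boundary -/
noncomputable def cone {W : D} (b : Fin (k + 2) → (W ⟶ K.obj (op ⦋k⦌))) (hb : Compat k K b) :
    Cone (StructuredArrow.proj (op ⦋k + 1⦌) (L k) ⋙ T k K) where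
  pt := W
  π :=
    { app := fun j => b (idx k j) ≫ K.map (fac k j).op
      naturality := fun j j' φ => by
        change 𝟙 _ ≫ (b (idx k j') ≫ K.map (fac k j').op) =
          (b (idx k j) ≫ K.map (fac k j).op) ≫ K.map (φ.right.unop.hom).op
        rw [Category.id_comp, Category.assoc, ← K.map_comp, ← op_comp]
        apply hb
        rw [← fac_spec, Category.assoc, ← fac_spec]
        have h2 := StructuredArrow.w φ
        rw [← h2]
        rfl }

variable {K} in
/-- the lift of a compatible boundary to the coskeleton -/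
noncomputable def matchLift {W : D} (b : Fin (k + 2) → (W ⟶ K.obj (op ⦋k⦌)))
    (hb : Compat k K b) : W ⟶ (R k K).obj (op ⦋k + 1⦌) :=
  IsLimit.lift (show IsLimit ((RightExtension.mk (R k K) (ε k K)).coneAt (op ⦋k + 1⦌)) from
    hB k K (op ⦋k + 1⦌)) (cone k b hb)

variable {K} in
lemma matchLift_cmp {W : D} (b : Fin (k + 2) → (W ⟶ K.obj (op ⦋k⦌)))
    (hb : Compat k K b) (i : Fin (k + 2)) :
    matchLift k b hb ≫ cmp k K ⦋k⦌ le_rfl (SimplexCategory.δ i) = b i := by
  have h := IsLimit.fac (show IsLimit ((RightExtension.mk (R k K) (ε k K)).coneAt (op ⦋k + 1⦌))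
    from hB k K (op ⦋k + 1⦌)) (cone k b hb) (mkJ k ⦋k⦌ le_rfl (SimplexCategory.δ i))
  have h' : matchLift k b hb ≫ cmp k K ⦋k⦌ le_rfl (SimplexCategory.δ i) =
      b (idx k (mkJ k ⦋k⦌ le_rfl (SimplexCategory.δ i))) ≫
        K.map (fac k (mkJ k ⦋k⦌ le_rfl (SimplexCategory.δ i))).op := h
  rw [h']
  have h2 := hb (idx k (mkJ k ⦋k⦌ le_rfl (SimplexCategory.δ i))) i ⦋k⦌
    (fac k (mkJ k ⦋k⦌ le_rfl (SimplexCategory.δ i))) (𝟙 _)
    (by
      rw [← fac_spec, Category.id_comp]
      rfl)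
  rw [h2]
  erw [K.map_id, Category.comp_id]

omit [HasFiniteLimits D] in
/-- for `k = 0` every boundary is compatible -/
lemma compat_zero {W : D} (b : Fin 2 → (W ⟶ K.obj (op ⦋0⦌))) : Compat 0 K b := by
  intro i j a ρ₁ ρ₂ h
  have hij : i = j := by
    have h0 := congrArg (fun f => f.toOrderHom 0) h
    have h1 : i.succAbove (ρ₁.toOrderHom 0) = j.succAbove (ρ₂.toOrderHom 0) := h0
    have e1 : ρ₁.toOrderHom 0 = 0 := Fin.fin_one_eq_zero _
    have e2 : ρ₂.toOrderHom 0 = 0 := Fin.fin_one_eq_zero _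
    rw [e1, e2] at h1
    fin_cases i <;> fin_cases j <;> simp_all [Fin.succAbove]
  subst hij
  have : ρ₁ = ρ₂ := Subsingleton.elim _ _
  rw [this]

omit [HasFiniteLimits D] in
lemma compat_key {k' : ℕ} {W : D} (b : Fin (k' + 3) → (W ⟶ K.obj (op ⦋k' + 1⦌)))
    (hb : ∀ (i j : Fin (k' + 2)), i ≤ j → b j.succ ≫ K.δ i = b i.castSucc ≫ K.δ j)
    (i j : Fin (k' + 2)) (hij : i ≤ j) (a : SimplexCategory) (ρ₁ ρ₂ : a ⟶ ⦋k' + 1⦌)
    (h : ρ₁ ≫ SimplexCategory.δ i.castSucc = ρ₂ ≫ SimplexCategory.δ j.succ) :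
    b i.castSucc ≫ K.map ρ₁.op = b j.succ ≫ K.map ρ₂.op := by
  have hmiss : ∀ x, ρ₂.toOrderHom x ≠ i := by
    intro x hx
    have h0 := congrArg (fun f => f.toOrderHom x) h
    have h1 : i.castSucc.succAbove (ρ₁.toOrderHom x) = j.succ.succAbove (ρ₂.toOrderHom x) := h0
    rw [hx, Fin.succAbove_of_castSucc_lt _ _ (Fin.castSucc_lt_succ_iff.2 hij)] at h1
    exact Fin.succAbove_ne _ _ h1
  obtain ⟨ρ, hρ⟩ := eq_comp_δ_of_not_surjective' ρ₂ i hmiss
  have h2 : ρ₁ = ρ ≫ SimplexCategory.δ j := by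
    rw [← cancel_mono (SimplexCategory.δ i.castSucc), h, hρ, Category.assoc, Category.assoc,
      SimplexCategory.δ_comp_δ hij]
  rw [h2, hρ, op_comp, op_comp, K.map_comp, K.map_comp, ← Category.assoc, ← Category.assoc]
  congr 1
  exact (hb i j hij).symm

omit [HasFiniteLimits D] in
/-- the simplicial identities imply compatibility -/
lemma compat_succ {k' : ℕ} {W : D} (b : Fin (k' + 3) → (W ⟶ K.obj (op ⦋k' + 1⦌)))
    (hb : ∀ (i j : Fin (k' + 2)), i ≤ j → b j.succ ≫ K.δ i = b i.castSucc ≫ K.δ j) :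
    Compat (k' + 1) K b := by
  intro i' j' a ρ₁ ρ₂ h
  rcases lt_trichotomy i' j' with hlt | heq | hgt
  · have hj0 : j' ≠ 0 := by
      intro h0
      rw [h0] at hlt
      exact absurd hlt (Fin.not_lt_zero _)
    have hil : i' ≠ Fin.last _ := by
      intro h0
      rw [h0] at hlt
      exact absurd hlt (not_lt.2 (Fin.le_last _))
    obtain ⟨j, rfl⟩ := Fin.exists_succ_eq_of_ne_zero hj0
    obtain ⟨i, rfl⟩ := Fin.exists_castSucc_eq.2 hil
    exact compat_key K b hb i j (Fin.castSucc_lt_succ_iff.1 hlt) a ρ₁ ρ₂ h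
  · subst heq
    have : ρ₁ = ρ₂ := by
      rw [← cancel_mono (SimplexCategory.δ i')]
      exact h
    rw [this]
  · have hj0 : i' ≠ 0 := by
      intro h0
      rw [h0] at hgt
      exact absurd hgt (Fin.not_lt_zero _)
    have hil : j' ≠ Fin.last _ := by
      intro h0
      rw [h0] at hgt
      exact absurd hgt (not_lt.2 (Fin.le_last _))
    obtain ⟨j, rfl⟩ := Fin.exists_succ_eq_of_ne_zero hj0
    obtain ⟨i, rfl⟩ := Fin.exists_castSucc_eq.2 hil
    exact (compat_key K b hb i j (Fin.castSucc_lt_succ_iff.1 hgt) a ρ₂ ρ₁ h.symm).symm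

end Groth.Agent.Lib.Helper62.MatchLift
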