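import Mathlib
import Groth.Prelude.Def_Hyper
import Groth.Agent.Lib.Helper62.MatchLift
import Groth.Agent.Lib.Helper62.LLPFin
import Groth.Agent.Lib.Helper62.HyperFP

/-! # Local cone extension over a hypercovering -/

set_option autoImplicit false
set_option backward.isDefEq.respectTransparency false
set_option backward.isDefEq.respectTransparency.types false

open CategoryTheory CategoryTheory.Limits Opposite Simplicial SimplexCategory

universe u

namespace Groth.Agent.Lib.Helper62.ConeExt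

open CoskZero CoskGen MatchLift LLP LLPFin HyperH0

section finlocal

variable {C' : Type u} [SmallCategory C'] (J' : GrothendieckTopology C')

/-- finitely many local properties hold simultaneously locally -/
lemma finite_local {ι : Type*} {T : C'} (s : Set ι) (hs : s.Finite)
    (P : ι → ∀ ⦃T' : C'⦄, (T' ⟶ T) → Prop)
    (hP : ∀ i ∈ s, ∃ S ∈ J' T, ∀ ⦃T' : C'⦄ (g : T' ⟶ T), S.arrows g → P i g) :
    ∃ S ∈ J' T, ∀ ⦃T' : C'⦄ (g : T' ⟶ T), S.arrows g → ∀ i ∈ s, P i g := by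
  classical
  let S' : ι → Sieve T := fun i => if h : i ∈ s then (hP i h).choose else ⊤
  have hS' : ∀ i, S' i ∈ J' T := by
    intro i
    by_cases h : i ∈ s
    · simp only [S', dif_pos h]
      exact (hP i h).choose_spec.1
    · simp only [S', dif_neg h]
      exact J'.top_mem T
  refine ⟨interOn S' hs.toFinset, interOn_mem J' S' hS' _, ?_⟩
  intro T' g hg i hi
  have h1 := hg i (hs.mem_toFinset.2 hi)
  simp only [S', dif_pos hi] at h1
  exact (hP i hi).choose_spec.2 g h1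

end finlocal

variable {C : Type u} [SmallCategory C] [HasPullbacks C] (J : GrothendieckTopology C) (X : C)
  [∀ (n : ℕ) (G : (SimplexCategory.Truncated n)ᵒᵖ ⥤ FormalCoproduct.{u} (Over X)),
      (SimplexCategory.Truncated.inclusion n).op.HasRightKanExtension G]
  (K : SimplicialObject (FormalCoproduct.{u} (Over X)))

/-- `T`-points of `K_j` -/
abbrev Y (T : Over X) (j : ℕ) := (FormalCoproduct.incl (Over X)).obj T ⟶ K.obj (op ⦋j⦌)

variable {K} in
/-- restriction of points -/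
def res {T T' : Over X} (g : T' ⟶ T) {j : ℕ} (y : Y X K T j) : Y X K T' j :=
  (FormalCoproduct.incl (Over X)).map g ≫ y

variable {K} in
lemma res_comp {T T' : Over X} (g : T' ⟶ T) {j : ℕ} (y : Y X K T j) {B : FormalCoproduct.{u} (Over X)}
    (f : K.obj (op ⦋j⦌) ⟶ B) : res X g y ≫ f = (FormalCoproduct.incl (Over X)).map g ≫ y ≫ f := by
  unfold res
  rw [Category.assoc]

variable {K} in
lemma res_res {T T' T'' : Over X} (g : T' ⟶ T) (g' : T'' ⟶ T') {j : ℕ} (y : Y X K T j) :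
    res X g' (res X g y) = res X (g' ≫ g) y := by
  unfold res
  rw [Functor.map_comp, Category.assoc]

/-- local lifting of a compatible boundary -/
theorem lift_boundary (hK : Hyper.IsHypercovering J X K) (k : ℕ) {T : Over X}
    (b : Fin (k + 2) → Y X K T k) (hb : Compat k K b) :
    ∃ S ∈ (J.over X) T, ∀ ⦃T' : Over X⦄ (g : T' ⟶ T), S.arrows g →
      ∃ m : Y X K T' (k + 1), ∀ i, m ≫ K.δ i = res X g (b i) := by
  obtain ⟨S, hS, hl⟩ := llp_of_sr _ _ (hK.2 k) (matchLift k b hb)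
  refine ⟨S, hS, ?_⟩
  intro T' g hg
  obtain ⟨m, hm⟩ := hl g hg
  refine ⟨m, fun i => ?_⟩
  have h1 : K.δ i = (η k K).app (op ⦋k + 1⦌) ≫ cmp k K ⦋k⦌ le_rfl (SimplexCategory.δ i) :=
    (η_cmp k K ⦋k⦌ le_rfl (SimplexCategory.δ i)).symm
  rw [h1, ← Category.assoc]
  erw [← hm]
  rw [Category.assoc, matchLift_cmp]
  rfl

/-- the cone relations, up to level `k`, on the sets `B j` -/
structure IsCone {T₀ T : Over X} (g : T ⟶ T₀) (v : Y X K T₀ 0) (B : ∀ j, Set (Y X K T₀ j))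
    (k : ℕ) (c : ∀ j, Y X K T₀ j → Y X K T (j + 1)) : Prop where
  h0 : ∀ j, j ≤ k → ∀ y ∈ B j, c j y ≫ K.δ 0 = res X g y
  hv : ∀ y ∈ B 0, c 0 y ≫ K.δ 1 = res X g v
  hs : ∀ j, j < k → ∀ y ∈ B (j + 1), ∀ i : Fin (j + 2),
    c (j + 1) y ≫ K.δ i.succ = c j (y ≫ K.δ i)

/-- the default value -/
def dflt {T₀ T : Over X} (g : T ⟶ T₀) (j : ℕ) (y : Y X K T₀ j) : Y X K T (j + 1) :=
  res X g y ≫ K.σ 0

theorem cone_ext_zero (hK : Hyper.IsHypercovering J X K) {T₀ : Over X} (v : Y X K T₀ 0)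
    (B : ∀ j, Set (Y X K T₀ j)) (hfin : ∀ j, (B j).Finite) :
    ∃ S ∈ (J.over X) T₀, ∀ ⦃T : Over X⦄ (g : T ⟶ T₀), S.arrows g →
      ∃ c, IsCone X K g v B 0 c := by
  classical
  have h1 : ∀ y ∈ B 0, ∃ S ∈ (J.over X) T₀, ∀ ⦃T : Over X⦄ (g : T ⟶ T₀), S.arrows g →
      ∃ m : Y X K T 1, m ≫ K.δ 0 = res X g y ∧ m ≫ K.δ 1 = res X g v := by
    intro y _
    obtain ⟨S, hS, hl⟩ := lift_boundary J X K hK 0 (Fin.cons y (fun _ => v) : Fin 2 → Y X K T₀ 0)
      (compat_zero K _)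
    refine ⟨S, hS, fun T g hg => ?_⟩
    obtain ⟨m, hm⟩ := hl g hg
    exact ⟨m, hm 0, hm 1⟩
  obtain ⟨S, hS, hl⟩ := finite_local (J.over X) (B 0) (hfin 0)
    (fun y T g => ∃ m : Y X K T 1, m ≫ K.δ 0 = res X g y ∧ m ≫ K.δ 1 = res X g v) h1
  refine ⟨S, hS, fun T g hg => ?_⟩
  choose m hm0 hm1 using hl g hg
  let c : ∀ j, Y X K T₀ j → Y X K T (j + 1) := fun j => match j with
    | 0 => fun y => if h : y ∈ B 0 then m y h else dflt X K g 0 y
    | (j + 1) => fun y => dflt X K g (j + 1) y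
  refine ⟨c, ⟨?_, ?_, ?_⟩⟩
  · intro j hj y hy
    obtain rfl : j = 0 := Nat.le_zero.1 hj
    change (if h : y ∈ B 0 then m y h else dflt X K g 0 y) ≫ K.δ 0 = _
    rw [dif_pos hy]
    exact hm0 y hy
  · intro y hy
    change (if h : y ∈ B 0 then m y h else dflt X K g 0 y) ≫ K.δ 1 = _
    rw [dif_pos hy]
    exact hm1 y hy
  · intro j hj
    exact absurd hj (Nat.not_lt_zero _)

lemma boundary_compat {T₀ T₁ : Over X} (g₁ : T₁ ⟶ T₀) (v : Y X K T₀ 0)
    (B : ∀ j, Set (Y X K T₀ j))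
    (hcl : ∀ j, ∀ y ∈ B (j + 1), ∀ i : Fin (j + 2), y ≫ K.δ i ∈ B j)
    (k : ℕ) (c : ∀ j, Y X K T₀ j → Y X K T₁ (j + 1)) (hc : IsCone X K g₁ v B k c)
    (y : Y X K T₀ (k + 1)) (hy : y ∈ B (k + 1)) :
    Compat (k + 1) K
      (Fin.cons (res X g₁ y) (fun i : Fin (k + 2) => c k (y ≫ K.δ i)) :
        Fin (k + 3) → Y X K T₁ (k + 1)) := by
  apply compat_succ
  intro i j hij
  rw [Fin.cons_succ]
  induction i using Fin.cases with
  | zero =>
    rw [Fin.castSucc_zero, Fin.cons_zero, hc.h0 k le_rfl _ (hcl k y hy j)]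
    unfold res
    rw [Category.assoc]
  | succ i' =>
    have hj0 : j ≠ 0 := by
      intro h0
      rw [h0] at hij
      exact absurd hij (not_le.2 (Fin.succ_pos i'))
    obtain ⟨j', rfl⟩ := Fin.exists_succ_eq_of_ne_zero hj0
    have hij' : i' ≤ j' := Fin.succ_le_succ_iff.1 hij
    rw [← Fin.succ_castSucc, Fin.cons_succ]
    cases k with
    | zero =>
      have e1 : i' = 0 := Fin.fin_one_eq_zero _
      have e2 : j' = 0 := Fin.fin_one_eq_zero _
      subst e1 e2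
      have h1 := hc.hv _ (hcl 0 y hy (Fin.succ 0))
      have h2 := hc.hv _ (hcl 0 y hy (Fin.castSucc 0))
      exact h1.trans h2.symm
    | succ k₀ =>
      rw [hc.hs k₀ (Nat.lt_succ_self _) _ (hcl _ y hy _) i',
        hc.hs k₀ (Nat.lt_succ_self _) _ (hcl _ y hy _) j', Category.assoc, Category.assoc,
        K.δ_comp_δ hij']

variable {K} in
lemma res_comp' {T T' : Over X} (g : T' ⟶ T) {j : ℕ} (y : Y X K T j) {j' : ℕ}
    (f : K.obj (op ⦋j⦌) ⟶ K.obj (op ⦋j'⦌)) : res X g y ≫ f = res X g (y ≫ f) := by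
  unfold res
  rw [Category.assoc]

theorem cone_ext (hK : Hyper.IsHypercovering J X K) {T₀ : Over X} (v : Y X K T₀ 0)
    (B : ∀ j, Set (Y X K T₀ j)) (hfin : ∀ j, (B j).Finite)
    (hcl : ∀ j, ∀ y ∈ B (j + 1), ∀ i : Fin (j + 2), y ≫ K.δ i ∈ B j) (k : ℕ) :
    ∃ S ∈ (J.over X) T₀, ∀ ⦃T : Over X⦄ (g : T ⟶ T₀), S.arrows g →
      ∃ c, IsCone X K g v B k c := by
  classical
  induction k with
  | zero => exact cone_ext_zero J X K hK v B hfin
  | succ k ih =>
    obtain ⟨S₁, hS₁, h1⟩ := ih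
    choose c hc using h1
    have h2 : ∀ ⦃T₁ : Over X⦄ (g₁ : T₁ ⟶ T₀) (hg₁ : S₁.arrows g₁),
        ∃ S₂ ∈ (J.over X) T₁, ∀ ⦃T₂ : Over X⦄ (g₂ : T₂ ⟶ T₁), S₂.arrows g₂ →
          ∀ y ∈ B (k + 1), ∃ m : Y X K T₂ (k + 2), ∀ i, m ≫ K.δ i =
            res X g₂ ((Fin.cons (res X g₁ y) (fun i : Fin (k + 2) => c g₁ hg₁ k (y ≫ K.δ i)) :
              Fin (k + 3) → Y X K T₁ (k + 1)) i) := by
      intro T₁ g₁ hg₁
      apply finite_local (J.over X) (B (k + 1)) (hfin (k + 1))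
        (fun y T₂ g₂ => ∃ m : Y X K T₂ (k + 2), ∀ i, m ≫ K.δ i =
            res X g₂ ((Fin.cons (res X g₁ y) (fun i : Fin (k + 2) => c g₁ hg₁ k (y ≫ K.δ i)) :
              Fin (k + 3) → Y X K T₁ (k + 1)) i))
      intro y hy
      exact lift_boundary J X K hK (k + 1) _
        (boundary_compat X K g₁ v B hcl k (c g₁ hg₁) (hc g₁ hg₁) y hy)
    choose S₂ hS₂ hl₂ using h2
    refine ⟨Sieve.bind S₁.arrows (fun T₁ g₁ hg₁ => S₂ g₁ hg₁),
      (J.over X).bind_covering hS₁ (fun T₁ g₁ hg₁ => hS₂ g₁ hg₁), ?_⟩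
    intro T h hh
    obtain ⟨T₁, g₂, g₁, hg₁, hg₂, rfl⟩ := hh
    choose m hm using hl₂ g₁ hg₁ g₂ hg₂
    have hc₁ := hc g₁ hg₁
    generalize c g₁ hg₁ = c₁ at hm hc₁
    let c' : ∀ j, Y X K T₀ j → Y X K T (j + 1) :=
      Function.update (fun j y => res X g₂ (c₁ j y)) (k + 1)
        (fun y => if h : y ∈ B (k + 1) then m y h else dflt X K (g₂ ≫ g₁) (k + 1) y)
    have e1 : ∀ j, j ≠ k + 1 → ∀ y, c' j y = res X g₂ (c₁ j y) := by
      intro j hj y
      simp only [c', Function.update_of_ne hj]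
    have e2 : ∀ y (hy : y ∈ B (k + 1)), c' (k + 1) y = m y hy := by
      intro y hy
      simp only [c', Function.update_self, dif_pos hy]
    refine ⟨c', ⟨?_, ?_, ?_⟩⟩
    · intro j hj y hy
      by_cases hjk : j = k + 1
      · subst hjk
        rw [e2 y hy, hm y hy 0, Fin.cons_zero, res_res]
      · rw [e1 j hjk, res_comp', hc₁.h0 j (by omega) y hy, res_res]
    · intro y hy
      rw [e1 0 (by omega), res_comp', hc₁.hv y hy, res_res]
    · intro j hj y hy i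
      by_cases hjk : j = k
      · subst hjk
        rw [e2 y hy, hm y hy i.succ, Fin.cons_succ, e1 j (by omega)]
      · rw [e1 (j + 1) (by omega), e1 j (by omega), res_comp', hc₁.hs j (by omega) y hy i]

end Groth.Agent.Lib.Helper62.ConeExt
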