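import Mathlib

/-! # Free abelian groups: cone contraction on chains -/

set_option autoImplicit false

namespace Groth.Agent.Lib.Helper62.FreeChain

variable {A E : Type*}

lemma map_congr_on (f f' : A → E) (B : Set A) (h : ∀ y ∈ B, f y = f' y)
    (z : FreeAbelianGroup A) (hz : z ∈ AddSubgroup.closure (FreeAbelianGroup.of '' B)) :
    FreeAbelianGroup.map f z = FreeAbelianGroup.map f' z := by
  induction hz using AddSubgroup.closure_induction with
  | mem x hx =>
    obtain ⟨y, hy, rfl⟩ := hx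
    rw [FreeAbelianGroup.map_of_apply, FreeAbelianGroup.map_of_apply, h y hy]
  | zero => simp
  | add x y _ _ hx hy => rw [map_add, map_add, hx, hy]
  | neg x _ hx => rw [map_neg, map_neg, hx]

lemma exists_finite_support (z : FreeAbelianGroup A) :
    ∃ B : Set A, B.Finite ∧ z ∈ AddSubgroup.closure (FreeAbelianGroup.of '' B) := by
  induction z using FreeAbelianGroup.induction_on with
  | zero => exact ⟨∅, Set.finite_empty, AddSubgroup.zero_mem _⟩
  | of x =>
    exact ⟨{x}, Set.finite_singleton x, AddSubgroup.subset_closure ⟨x, rfl, rfl⟩⟩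
  | neg x ih =>
    obtain ⟨B, hB, hz⟩ := ih
    exact ⟨B, hB, AddSubgroup.neg_mem _ hz⟩
  | add x y hx hy =>
    obtain ⟨B, hB, hz⟩ := hx
    obtain ⟨B', hB', hz'⟩ := hy
    refine ⟨B ∪ B', hB.union hB', AddSubgroup.add_mem _ ?_ ?_⟩
    · exact AddSubgroup.closure_mono (Set.image_mono Set.subset_union_left) hz
    · exact AddSubgroup.closure_mono (Set.image_mono Set.subset_union_right) hz'

lemma map_map_apply {A B C : Type*} (f : A → B) (g : B → C) (z : FreeAbelianGroup A) :
    FreeAbelianGroup.map g (FreeAbelianGroup.map f z) = FreeAbelianGroup.map (g ∘ f) z := by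
  rw [← AddMonoidHom.comp_apply, FreeAbelianGroup.map_comp]

/-- the cone contraction on chains, positive degree -/
theorem cone_chain {A A' E E' : Type*} (n : ℕ) (d : Fin (n + 1) → A → A')
    (D : Fin (n + 2) → E → E') (r : A → E') (c : A → E) (c' : A' → E')
    (B : Set A) (h0 : ∀ y ∈ B, D 0 (c y) = r y)
    (hs : ∀ y ∈ B, ∀ i : Fin (n + 1), D i.succ (c y) = c' (d i y))
    (z : FreeAbelianGroup A) (hz : z ∈ AddSubgroup.closure (FreeAbelianGroup.of '' B))
    (hd : ∑ i : Fin (n + 1), ((-1 : ℤ) ^ (i : ℕ)) • FreeAbelianGroup.map (d i) z = 0) :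
    ∑ i : Fin (n + 2), ((-1 : ℤ) ^ (i : ℕ)) •
      FreeAbelianGroup.map (D i) (FreeAbelianGroup.map c z) = FreeAbelianGroup.map r z := by
  rw [Fin.sum_univ_succ]
  have e0 : FreeAbelianGroup.map (D 0) (FreeAbelianGroup.map c z) = FreeAbelianGroup.map r z := by
    rw [map_map_apply]
    exact map_congr_on _ _ B h0 z hz
  have es : ∀ i : Fin (n + 1), FreeAbelianGroup.map (D i.succ) (FreeAbelianGroup.map c z) =
      FreeAbelianGroup.map c' (FreeAbelianGroup.map (d i) z) := by
    intro i
    rw [map_map_apply, map_map_apply]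
    exact map_congr_on _ _ B (fun y hy => hs y hy i) z hz
  have e1 : ∑ i : Fin (n + 1), ((-1 : ℤ) ^ ((i.succ : Fin (n + 2)) : ℕ)) •
      FreeAbelianGroup.map (D i.succ) (FreeAbelianGroup.map c z) =
      - FreeAbelianGroup.map c' (∑ i : Fin (n + 1), ((-1 : ℤ) ^ (i : ℕ)) •
        FreeAbelianGroup.map (d i) z) := by
    rw [map_sum, ← Finset.sum_neg_distrib]
    apply Finset.sum_congr rfl
    intro i _
    rw [es i, map_zsmul, Fin.val_succ, pow_succ]
    simp
  rw [e1, hd, map_zero, neg_zero, add_zero, e0]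
  simp

/-- the cone contraction on chains, degree zero -/
theorem cone_chain_zero {A E E' Q : Type*} (q : Q) (D : Fin 2 → E → E') (r : A → E') (c : A → E)
    (v' : E') (B : Set A) (h0 : ∀ y ∈ B, D 0 (c y) = r y) (h1 : ∀ y ∈ B, D 1 (c y) = v')
    (z : FreeAbelianGroup A) (hz : z ∈ AddSubgroup.closure (FreeAbelianGroup.of '' B))
    (hd : FreeAbelianGroup.map (fun _ : A => q) z = 0) :
    ∑ i : Fin 2, ((-1 : ℤ) ^ (i : ℕ)) •
      FreeAbelianGroup.map (D i) (FreeAbelianGroup.map c z) = FreeAbelianGroup.map r z := by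
  rw [Fin.sum_univ_two]
  have e0 : FreeAbelianGroup.map (D 0) (FreeAbelianGroup.map c z) = FreeAbelianGroup.map r z := by
    rw [map_map_apply]
    exact map_congr_on _ _ B h0 z hz
  have e1 : FreeAbelianGroup.map (D 1) (FreeAbelianGroup.map c z) = 0 := by
    rw [map_map_apply]
    have h2 : FreeAbelianGroup.map (D 1 ∘ c) z =
        FreeAbelianGroup.map ((fun _ : Q => v') ∘ (fun _ : A => q)) z :=
      map_congr_on _ _ B (fun y hy => h1 y hy) z hz
    rw [h2, ← map_map_apply, hd, map_zero]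
  rw [e0, e1]
  simp

end Groth.Agent.Lib.Helper62.FreeChain
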