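import Mathlib
import Groth.Prelude.Def_Hyper
import Groth.Agent.Lib.Helper62.HyperSite
import Groth.Agent.Lib.Helper62.HyperToSite
import Groth.Agent.Lib.Helper62.CechE

/-! # `H^0` of the Cech complex of a hypercovering of the final object (Verdier's sense) -/

set_option autoImplicit false
set_option backward.isDefEq.respectTransparency false
set_option backward.isDefEq.respectTransparency.types false

open CategoryTheory CategoryTheory.Limits Opposite Simplicial

universe u

namespace Groth.Agent.Lib.Helper62.HyperSiteH0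

open HyperSite HyperToSite

section secinj

variable {C' : Type u} [SmallCategory C']

/-- the presheaf `Z ↦ (incl Z ⟶ B')` -/
abbrev homPsh (B' : FormalCoproduct.{u} C') : C'ᵒᵖ ⥤ Type u :=
  (FormalCoproduct.incl C').op ⋙ yoneda.obj B'

/-- the map from the coproduct of representables to `homPsh` -/
noncomputable def toHomPsh (B' : FormalCoproduct.{u} C') :
    FormalCoproduct.yoneda.obj B' ⟶ homPsh B' :=
  Sigma.desc (fun i : B'.I =>
    { app := fun Z => TypeCat.ofHom (fun g => FormalCoproduct.Hom.fromIncl i g)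
      naturality := fun Z Z' h => by
        ext g
        rfl })

lemma toHomPsh_sec {B' : FormalCoproduct.{u} C'} {Z : C'}
    (l : (FormalCoproduct.incl C').obj Z ⟶ B') :
    (toHomPsh B').app (op Z) (sec l) = l := by
  have h : Sigma.ι (fun i : B'.I => yoneda.obj (B'.obj i)) (l.f PUnit.unit) ≫ toHomPsh B' = _ :=
    Sigma.ι_desc _ _
  have h2 := congrArg (fun φ => φ.app (op Z) (l.φ PUnit.unit)) h
  refine h2.trans ?_
  exact FormalCoproduct.Hom.fromIncl_asSigma l

lemma sec_injective {B' : FormalCoproduct.{u} C'} {Z : C'}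
    {l l' : (FormalCoproduct.incl C').obj Z ⟶ B'} (h : sec l = sec l') : l = l' := by
  rw [← toHomPsh_sec l, ← toHomPsh_sec l', h]

end secinj

section main

open CechE

variable {C : Type u} [SmallCategory C] (J : GrothendieckTopology C)
  (F : Sheaf J AddCommGrpCat.{u})

lemma isSheaf_forget' : Presieve.IsSheaf J (F.obj ⋙ forget AddCommGrpCat.{u}) :=
  (isSheaf_iff_isSheaf_of_type _ _).1
    ((Presheaf.isSheaf_iff_isSheaf_forget J F.obj (forget AddCommGrpCat.{u})).1 F.property)

lemma sep' {U : C} (S : Sieve U) (hS : S ∈ J U) (x y : F.obj.obj (op U))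
    (h : ∀ ⦃V : C⦄ (g : V ⟶ U), S.arrows g → (F.obj.map g.op).hom x = (F.obj.map g.op).hom y) :
    x = y := by
  have h1 := (isSheaf_forget' J F) S hS
  refine h1.isSeparatedFor.ext ?_
  intro Y f hf
  exact h _ hf

lemma exists_pair {Y Y' : Cᵒᵖ ⥤ Type u} {Z : C} (y : Y.obj (op Z)) (y' : Y'.obj (op Z)) :
    ∃ x : (Y ⨯ Y').obj (op Z), (prod.fst : Y ⨯ Y' ⟶ Y).app (op Z) x = y ∧
      (prod.snd : Y ⨯ Y' ⟶ Y').app (op Z) x = y' := by
  refine ⟨yonedaEquiv (prod.lift (yonedaEquiv.symm y) (yonedaEquiv.symm y')), ?_, ?_⟩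
  · rw [← yonedaEquiv_comp, prod.lift_fst, Equiv.apply_symm_apply]
  · rw [← yonedaEquiv_comp, prod.lift_snd, Equiv.apply_symm_apply]

variable (K : SimplicialObject (FormalCoproduct.{u} C))

lemma equalize'
    (hK1 : Presheaf.IsLocallySurjective J
      (prod.lift (FormalCoproduct.yoneda.map (K.δ (1 : Fin 2)))
        (FormalCoproduct.yoneda.map (K.δ (0 : Fin 2)))))
    (s : (E F.obj).obj (op (K.obj (op ⦋0⦌))))
    (hs : ((E F.obj).map (K.δ 0).op).hom s = ((E F.obj).map (K.δ 1).op).hom s)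
    {Z : C} (a0 a1 : (FormalCoproduct.incl C).obj Z ⟶ K.obj (op ⦋0⦌)) :
    ((E F.obj).map a0.op).hom s = ((E F.obj).map a1.op).hom s := by
  obtain ⟨x, hx1, hx0⟩ := exists_pair (sec a1) (sec a0)
  have hS := hK1.imageSieve_mem x
  apply πZ_injective F.obj Z
  apply sep' J F _ hS
  intro V g hg
  obtain ⟨t, ht⟩ := hg
  obtain ⟨m, rfl⟩ := sec_surjective t
  have e1 : m ≫ K.δ 1 = (FormalCoproduct.incl C).map g ≫ a1 := by
    apply sec_injective
    rw [← map_sec, ← restrict_sec, ← hx1]
    have n1 := congrArg (fun φ => φ.app (op V) (sec m))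
      (prod.lift_fst (FormalCoproduct.yoneda.map (K.δ (1 : Fin 2)))
        (FormalCoproduct.yoneda.map (K.δ (0 : Fin 2))))
    have n2 := congrArg (fun φ => φ x) ((prod.fst : FormalCoproduct.yoneda.obj (K.obj (op ⦋0⦌)) ⨯
      FormalCoproduct.yoneda.obj (K.obj (op ⦋0⦌)) ⟶ _).naturality g.op)
    have n3 := congrArg ((prod.fst : FormalCoproduct.yoneda.obj (K.obj (op ⦋0⦌)) ⨯
      FormalCoproduct.yoneda.obj (K.obj (op ⦋0⦌)) ⟶ _).app (op V)) ht
    exact n1.symm.trans (n3.trans n2)
  have e0 : m ≫ K.δ 0 = (FormalCoproduct.incl C).map g ≫ a0 := by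
    apply sec_injective
    rw [← map_sec, ← restrict_sec, ← hx0]
    have n1 := congrArg (fun φ => φ.app (op V) (sec m))
      (prod.lift_snd (FormalCoproduct.yoneda.map (K.δ (1 : Fin 2)))
        (FormalCoproduct.yoneda.map (K.δ (0 : Fin 2))))
    have n2 := congrArg (fun φ => φ x) ((prod.snd : FormalCoproduct.yoneda.obj (K.obj (op ⦋0⦌)) ⨯
      FormalCoproduct.yoneda.obj (K.obj (op ⦋0⦌)) ⟶ _).naturality g.op)
    have n3 := congrArg ((prod.snd : FormalCoproduct.yoneda.obj (K.obj (op ⦋0⦌)) ⨯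
      FormalCoproduct.yoneda.obj (K.obj (op ⦋0⦌)) ⟶ _).app (op V)) ht
    exact n1.symm.trans (n3.trans n2)
  have key : ∀ (i : Fin 2) (a : (FormalCoproduct.incl C).obj Z ⟶ K.obj (op ⦋0⦌)),
      m ≫ K.δ i = (FormalCoproduct.incl C).map g ≫ a →
      (F.obj.map g.op).hom ((πZ F.obj Z).hom (((E F.obj).map a.op).hom s)) =
        (πZ F.obj V).hom (((E F.obj).map m.op).hom (((E F.obj).map (K.δ i).op).hom s)) := by
    intro i a ha
    rw [← πZ_E_incl_map]
    have e3 : ((E F.obj).map ((FormalCoproduct.incl C).map g).op).hom (((E F.obj).map a.op).hom s) =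
        ((E F.obj).map ((FormalCoproduct.incl C).map g ≫ a).op).hom s := by
      rw [op_comp, (E F.obj).map_comp]
      rfl
    rw [e3, ← ha, op_comp, (E F.obj).map_comp]
    rfl
  rw [key 0 a0 e0, key 1 a1 e1, hs]

/-- the restriction map from global sections -/
noncomputable def ι' : limit F.obj ⟶ (E F.obj).obj (op (K.obj (op ⦋0⦌))) :=
  Pi.lift (fun i => limit.π F.obj (op ((K.obj (op ⦋0⦌)).obj i)))

lemma ι'_E_map {A : FormalCoproduct.{u} C} (f : A ⟶ K.obj (op ⦋0⦌)) :
    ι' J F K ≫ (E F.obj).map f.op = Pi.lift (fun i => limit.π F.obj (op (A.obj i))) := by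
  apply Pi.hom_ext
  intro i
  rw [Category.assoc, E_map_π, ← Category.assoc]
  erw [Pi.lift_π, Pi.lift_π]
  exact limit.w F.obj (f.φ i).op

/-- the value at `V` determined by a map `incl V ⟶ K_0` -/
noncomputable def val (s : (E F.obj).obj (op (K.obj (op ⦋0⦌)))) {V : C}
    (l : (FormalCoproduct.incl C).obj V ⟶ K.obj (op ⦋0⦌)) : F.obj.obj (op V) :=
  (πZ F.obj V).hom (((E F.obj).map l.op).hom s)

lemma val_restrict (s : (E F.obj).obj (op (K.obj (op ⦋0⦌)))) {V V' : C} (g : V' ⟶ V)
    (l : (FormalCoproduct.incl C).obj V ⟶ K.obj (op ⦋0⦌)) :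
    (F.obj.map g.op).hom (val J F K s l) = val J F K s ((FormalCoproduct.incl C).map g ≫ l) := by
  unfold val
  rw [← πZ_E_incl_map, op_comp, (E F.obj).map_comp]
  rfl

lemma val_ι' (t : (limit F.obj : AddCommGrpCat.{u})) {V : C}
    (l : (FormalCoproduct.incl C).obj V ⟶ K.obj (op ⦋0⦌)) :
    val J F K ((ι' J F K).hom t) l = (limit.π F.obj (op V)).hom t := by
  unfold val
  have h := ι'_E_map J F K l
  have h2 := congrArg (fun φ => (πZ F.obj V).hom (φ.hom t)) h
  refine h2.trans ?_
  have h3 : Pi.lift (fun i : ((FormalCoproduct.incl C).obj V).I =>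
      limit.π F.obj (op (((FormalCoproduct.incl C).obj V).obj i))) ≫ πZ F.obj V =
      limit.π F.obj (op V) := by
    erw [Pi.lift_π]
    rfl
  exact congrArg (fun φ => φ.hom t) h3

/-- the sieve of maps whose source maps to `K_0` -/
def covS (U : C) : Sieve U where
  arrows V _ := Nonempty ((FormalCoproduct.incl C).obj V ⟶ K.obj (op ⦋0⦌))
  downward_closed := by
    rintro V W f ⟨l⟩ g
    exact ⟨(FormalCoproduct.incl C).map g ≫ l⟩

lemma covS_mem
    (hK0 : Presheaf.IsLocallySurjective J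
      (terminal.from (FormalCoproduct.yoneda.obj (K.obj (op ⦋0⦌))))) (U : C) :
    covS K U ∈ J U := by
  have hS := hK0.imageSieve_mem (U := U) (yonedaEquiv (terminal.from (yoneda.obj U)))
  refine J.superset_covering ?_ hS
  intro V g hg
  obtain ⟨t, _⟩ := hg
  obtain ⟨l, _⟩ := sec_surjective t
  exact ⟨l⟩

theorem h0_iso_site
    (hK0 : Presheaf.IsLocallySurjective J
      (terminal.from (FormalCoproduct.yoneda.obj (K.obj (op ⦋0⦌)))))
    (hK1 : Presheaf.IsLocallySurjective J
      (prod.lift (FormalCoproduct.yoneda.map (K.δ (1 : Fin 2)))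
        (FormalCoproduct.yoneda.map (K.δ (0 : Fin 2))))) :
    Nonempty ((Hyper.cechCxSite K F.obj).homology 0 ≅ limit F.obj) := by
  refine h0_iso_of_kernel F.obj K (ι' J F K) ?_ ?_ ?_
  · intro t t' h
    apply Concrete.limit_ext
    intro U
    apply sep' J F (covS K U.unop) (covS_mem J K hK0 U.unop)
    intro V g hg
    obtain ⟨l⟩ := hg
    have e : ∀ t : (limit F.obj : AddCommGrpCat.{u}),
        (F.obj.map g.op).hom ((limit.π F.obj U).hom t) = (limit.π F.obj (op V)).hom t := by
      intro t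
      have := limit.w F.obj g.op
      exact congrArg (fun φ => φ.hom t) this
    have e2 := e t
    have e3 := e t'
    refine e2.trans (Eq.trans ?_ e3.symm)
    rw [← val_ι' J F K t l, ← val_ι' J F K t' l, h]
  · intro y
    have h0 := ι'_E_map J F K (K.δ 0)
    have h1 := ι'_E_map J F K (K.δ 1)
    exact (congrArg (fun φ => φ.hom y) h0).trans (congrArg (fun φ => φ.hom y) h1).symm
  · intro s hs
    have hsh := isSheaf_forget' J F
    have heq : ∀ {Z : C} (a0 a1 : (FormalCoproduct.incl C).obj Z ⟶ K.obj (op ⦋0⦌)),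
        ((E F.obj).map a0.op).hom s = ((E F.obj).map a1.op).hom s :=
      fun a0 a1 => equalize' J F K hK1 s hs a0 a1
    have hval : ∀ {V : C} (l l' : (FormalCoproduct.incl C).obj V ⟶ K.obj (op ⦋0⦌)),
        val J F K s l = val J F K s l' := by
      intro V l l'
      unfold val
      rw [heq l l']
    let x : ∀ U : C, Presieve.FamilyOfElements (F.obj ⋙ forget AddCommGrpCat.{u})
        (covS K U).arrows := fun U V g hg => val J F K s hg.some
    have hx : ∀ U, (x U).Compatible := by
      intro U Y₁ Y₂ Z g₁ g₂ f₁ f₂ h₁ h₂ _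
      change (F.obj.map g₁.op).hom (val J F K s h₁.some) =
        (F.obj.map g₂.op).hom (val J F K s h₂.some)
      rw [val_restrict, val_restrict]
      exact hval _ _
    let tU : ∀ U : C, F.obj.obj (op U) := fun U =>
      (hsh _ (covS_mem J K hK0 U)).amalgamate (x U) (hx U)
    have htU : ∀ (U V : C) (g : V ⟶ U) (l : (FormalCoproduct.incl C).obj V ⟶ K.obj (op ⦋0⦌)),
        (F.obj.map g.op).hom (tU U) = val J F K s l := by
      intro U V g l
      have h1 := (hsh _ (covS_mem J K hK0 U)).valid_glue (hx U) g ⟨l⟩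
      refine Eq.trans h1 ?_
      exact hval _ _
    have hnat : ∀ {U U' : C} (w : U' ⟶ U), (F.obj.map w.op).hom (tU U) = tU U' := by
      intro U U' w
      apply sep' J F (covS K U') (covS_mem J K hK0 U')
      intro V g hg
      obtain ⟨l⟩ := hg
      rw [htU U' V g l]
      have h1 : (F.obj.map g.op).hom ((F.obj.map w.op).hom (tU U)) =
          (F.obj.map (g ≫ w).op).hom (tU U) := by
        rw [op_comp, F.obj.map_comp]
        rfl
      rw [h1, htU U V (g ≫ w) l]
    let sect : (F.obj ⋙ forget AddCommGrpCat.{u}).sections :=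
      ⟨fun U => tU U.unop, fun {U U'} w => hnat w.unop⟩
    let hl := isLimitOfPreserves (forget AddCommGrpCat.{u}) (limit.isLimit F.obj)
    let t : (limit F.obj : AddCommGrpCat.{u}) := (Types.isLimitEquivSections hl).symm sect
    have ht : ∀ U : C, (limit.π F.obj (op U)).hom t = tU U := fun U =>
      Types.isLimitEquivSections_symm_apply hl sect (op U)
    refine ⟨t, ?_⟩
    apply pi_ext
    intro i
    have e1 : (Pi.π (fun i : (K.obj (op ⦋0⦌)).I => F.obj.obj (op ((K.obj (op ⦋0⦌)).obj i))) i).hom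
        ((ι' J F K).hom t) = (limit.π F.obj (op ((K.obj (op ⦋0⦌)).obj i))).hom t := by
      have h5 : ι' J F K ≫
          Pi.π (fun i : (K.obj (op ⦋0⦌)).I => F.obj.obj (op ((K.obj (op ⦋0⦌)).obj i))) i =
          limit.π F.obj (op ((K.obj (op ⦋0⦌)).obj i)) := by
        unfold ι'
        erw [Pi.lift_π]
      exact congrArg (fun φ : (limit F.obj : AddCommGrpCat.{u}) ⟶ _ => φ.hom t) h5
    rw [e1, ht]
    apply sep' J F (covS K _) (covS_mem J K hK0 _)
    intro V g hg
    obtain ⟨l⟩ := hg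
    rw [htU _ V g l, hval l (FormalCoproduct.Hom.fromIncl i g)]
    exact πZ_E_map F.obj s i g

end main

end Groth.Agent.Lib.Helper62.HyperSiteH0
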