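import Mathlib

/-! # Exactness of complexes of abelian sheaves on a site from local exactness -/

set_option autoImplicit false
set_option backward.isDefEq.respectTransparency false
set_option backward.isDefEq.respectTransparency.types false

open CategoryTheory CategoryTheory.Limits Opposite

universe u

namespace Groth.Agent.Lib.Helper62.SheafExactLocal

variable {C' : Type u} [SmallCategory C'] (J' : GrothendieckTopology C')

/-- a monomorphism of abelian sheaves is injective on sections -/
lemma injective_app_of_mono {A B : Sheaf J' AddCommGrpCat.{u}} (φ : A ⟶ B) [Mono φ] (U : C') :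
    Function.Injective (φ.hom.app (op U)) := by
  have h1 : Mono ((sheafToPresheaf _ _).map φ) := inferInstance
  have h2 : Mono (φ.hom.app (op U)) := (NatTrans.mono_iff_mono_app _).1 h1 (op U)
  exact (AddCommGrpCat.mono_iff_injective _).1 h2

/-- a complex of abelian sheaves which is locally exact on sections is exact -/
theorem exact_of_local (S : ShortComplex (Sheaf J' AddCommGrpCat.{u}))
    (h : ∀ (U : C') (s : S.X₂.obj.obj (op U)), S.g.hom.app (op U) s = 0 →
      ∃ R ∈ J' U, ∀ ⦃V : C'⦄ (g : V ⟶ U), R.arrows g →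
        ∃ t : S.X₁.obj.obj (op V), S.f.hom.app (op V) t = S.X₂.obj.map g.op s) : S.Exact := by
  rw [ShortComplex.exact_iff_epi_kernel_lift]
  rw [← CategoryTheory.Sheaf.isLocallySurjective_iff_epi']
  constructor
  intro U k
  have hk : S.g.hom.app (op U) ((kernel.ι S.g).hom.app (op U) k) = 0 := by
    have h0 : kernel.ι S.g ≫ S.g = 0 := kernel.condition _
    have := congrArg (fun φ : kernel S.g ⟶ S.X₃ => φ.hom.app (op U) k) h0
    exact this
  obtain ⟨R, hR, hl⟩ := h U _ hk
  refine J'.superset_covering ?_ hR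
  intro V g hg
  obtain ⟨t, ht⟩ := hl g hg
  refine ⟨t, ?_⟩
  apply injective_app_of_mono J' (kernel.ι S.g) V
  have h1 : kernel.lift S.g S.f S.zero ≫ kernel.ι S.g = S.f := kernel.lift_ι _ _ _
  have h2 := congrArg (fun φ : S.X₁ ⟶ S.X₂ => φ.hom.app (op V) t) h1
  have h3 := congrArg (fun φ => φ k) ((kernel.ι S.g).hom.naturality g.op)
  exact h2.trans (ht.trans h3.symm)

/-- sheafification of a locally exact complex of presheaves is exact -/
theorem exact_sheafify {P₁ P₂ P₃ : C'ᵒᵖ ⥤ AddCommGrpCat.{u}} (f : P₁ ⟶ P₂) (g : P₂ ⟶ P₃)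
    (w : f ≫ g = 0)
    (h : ∀ (U : C') (s : P₂.obj (op U)), g.app (op U) s = 0 →
      ∃ R ∈ J' U, ∀ ⦃V : C'⦄ (q : V ⟶ U), R.arrows q →
        ∃ t : P₁.obj (op V), f.app (op V) t = P₂.map q.op s) :
    (ShortComplex.mk ((presheafToSheaf J' AddCommGrpCat.{u}).map f)
      ((presheafToSheaf J' AddCommGrpCat.{u}).map g)
      (by rw [← Functor.map_comp, w, Functor.map_zero])).Exact := by
  apply exact_of_local
  intro U s hs
  refine ⟨Presheaf.imageSieve (sheafifyMap J' f) s, ?_, fun V q hq => hq⟩
  change (sheafifyMap J' g).app (op U) s = 0 at hs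
  refine J'.transitive (Presheaf.imageSieve_mem J' (toSheafify J' P₂) s) _ ?_
  intro V q hq
  obtain ⟨s₀, hs₀⟩ := hq
  have n1 := congrArg (fun φ => φ.app (op V) s₀) (toSheafify_naturality J' g)
  have n2 : (toSheafify J' P₃).app (op V) (g.app (op V) s₀) =
      (sheafifyMap J' g).app (op V) ((toSheafify J' P₂).app (op V) s₀) := n1
  have n3 := congrArg (fun φ => φ s) ((sheafifyMap J' g).naturality q.op)
  have n4 : (sheafifyMap J' g).app (op V) ((sheafify J' P₂).map q.op s) =
      (sheafify J' P₃).map q.op ((sheafifyMap J' g).app (op U) s) := n3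
  have h2 : (toSheafify J' P₃).app (op V) (g.app (op V) s₀) =
      (toSheafify J' P₃).app (op V) 0 := by
    rw [n2, hs₀, n4, hs, map_zero, map_zero]
  refine J'.transitive (Presheaf.equalizerSieve_mem J' (toSheafify J' P₃) _ _ h2) _ ?_
  intro V' q' hq'
  have hq'' : P₃.map q'.op (g.app (op V) s₀) = P₃.map q'.op 0 := hq'
  have n5 := congrArg (fun φ => φ s₀) (g.naturality q'.op)
  have h3 : g.app (op V') (P₂.map q'.op s₀) = 0 := by
    refine (n5 : g.app (op V') (P₂.map q'.op s₀) = P₃.map q'.op (g.app (op V) s₀)).trans ?_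
    exact hq''.trans (map_zero _)
  obtain ⟨R', hR', hl⟩ := h V' _ h3
  refine J'.superset_covering ?_ hR'
  intro V'' q'' hq3
  obtain ⟨t₀, ht₀⟩ := hl q'' hq3
  refine ⟨(toSheafify J' P₁).app (op V'') t₀, ?_⟩
  have m1 := congrArg (fun φ => φ.app (op V'') t₀) (toSheafify_naturality J' f)
  have m2 : (toSheafify J' P₂).app (op V'') (f.app (op V'') t₀) =
      (sheafifyMap J' f).app (op V'') ((toSheafify J' P₁).app (op V'') t₀) := m1
  rw [← m2, ht₀]
  have m3 := congrArg (fun φ => φ (P₂.map q'.op s₀)) ((toSheafify J' P₂).naturality q''.op)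
  have m4 := congrArg (fun φ => φ s₀) ((toSheafify J' P₂).naturality q'.op)
  have m5 : (toSheafify J' P₂).app (op V'') (P₂.map q''.op (P₂.map q'.op s₀)) =
      (sheafify J' P₂).map q''.op ((toSheafify J' P₂).app (op V') (P₂.map q'.op s₀)) := m3
  have m6 : (toSheafify J' P₂).app (op V') (P₂.map q'.op s₀) =
      (sheafify J' P₂).map q'.op ((toSheafify J' P₂).app (op V) s₀) := m4
  rw [m5, m6, hs₀]
  simp only [op_comp, Functor.map_comp]
  rfl

end Groth.Agent.Lib.Helper62.SheafExactLocal
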