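import Mathlib
import Groth.Prelude.Def_Hyper
import Groth.Agent.Lib.Helper62.ConeExt
import Groth.Agent.Lib.Helper62.FreeChain
import Groth.Agent.Lib.Helper62.SheafExactLocal
import Groth.Agent.Lib.Helper62.HyperSite
import Groth.Agent.Lib.Helper62.HyperSiteH0

/-! # Local acyclicity of the free abelian complex of a hypercovering -/

set_option autoImplicit false
set_option backward.isDefEq.respectTransparency false
set_option backward.isDefEq.respectTransparency.types false

open CategoryTheory CategoryTheory.Limits Opposite Simplicial SimplexCategory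

universe u

namespace Groth.Agent.Lib.Helper62.FreeAcyclic

open ConeExt FreeChain SheafExactLocal HyperSite HyperSiteH0 LLP

section presheaf

variable {C' : Type u} [SmallCategory C'] (K : SimplicialObject (FormalCoproduct.{u} C'))

/-- the simplicial presheaf of free abelian groups on `F(K)` -/
noncomputable abbrev PS : SimplicialObject (C'ᵒᵖ ⥤ AddCommGrpCat.{u}) :=
  (K ⋙ FormalCoproduct.yoneda) ⋙ (Functor.whiskeringRight _ _ _).obj AddCommGrpCat.free.{u}

/-- the differential of the presheaf chain complex -/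
noncomputable def dP (n : ℕ) : (PS K).obj (op ⦋n + 1⦌) ⟶ (PS K).obj (op ⦋n⦌) :=
  ∑ i : Fin (n + 2), (-1 : ℤ) ^ (i : ℕ) • (PS K).δ i

lemma PS_δ_app_apply (n : ℕ) (i : Fin (n + 2)) (T : C')
    (t : FreeAbelianGroup ((FormalCoproduct.yoneda.obj (K.obj (op ⦋n + 1⦌))).obj (op T))) :
    (((PS K).δ i).app (op T)).hom t =
      FreeAbelianGroup.map ((FormalCoproduct.yoneda.map (K.δ i)).app (op T)) t := rfl

lemma dP_app_apply (n : ℕ) (T : C')
    (t : FreeAbelianGroup ((FormalCoproduct.yoneda.obj (K.obj (op ⦋n + 1⦌))).obj (op T))) :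
    ((dP K n).app (op T)).hom t = ∑ i : Fin (n + 2), (-1 : ℤ) ^ (i : ℕ) •
      FreeAbelianGroup.map ((FormalCoproduct.yoneda.map (K.δ i)).app (op T)) t := by
  unfold dP
  rw [NatTrans.app_sum]
  have h : ∀ (s : Finset (Fin (n + 2))),
      (∑ i ∈ s, ((-1 : ℤ) ^ (i : ℕ) • (PS K).δ i).app (op T)).hom t =
        ∑ i ∈ s, (-1 : ℤ) ^ (i : ℕ) •
          FreeAbelianGroup.map ((FormalCoproduct.yoneda.map (K.δ i)).app (op T)) t := by
    intro s
    induction s using Finset.induction_on with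
    | empty =>
      simp only [Finset.sum_empty]
      rfl
    | insert a s ha ih =>
      rw [Finset.sum_insert ha, Finset.sum_insert ha, AddCommGrpCat.hom_add,
        AddMonoidHom.add_apply, ih, NatTrans.app_zsmul, AddCommGrpCat.hom_zsmul,
        AddMonoidHom.smul_apply, PS_δ_app_apply]
  exact h Finset.univ

lemma PS_map_apply (n : ℕ) {T T' : C'} (g : T' ⟶ T)
    (t : FreeAbelianGroup ((FormalCoproduct.yoneda.obj (K.obj (op ⦋n⦌))).obj (op T))) :
    (((PS K).obj (op ⦋n⦌)).map g.op).hom t =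
      FreeAbelianGroup.map ((FormalCoproduct.yoneda.obj (K.obj (op ⦋n⦌))).map g.op) t := rfl

end presheaf

section loc

variable {C : Type u} [SmallCategory C] [HasPullbacks C] (J : GrothendieckTopology C) (X : C)
  [∀ (n : ℕ) (G : (SimplexCategory.Truncated n)ᵒᵖ ⥤ FormalCoproduct.{u} (Over X)),
      (SimplexCategory.Truncated.inclusion n).op.HasRightKanExtension G]
  (K : SimplicialObject (FormalCoproduct.{u} (Over X)))

/-- sections of `F(K_m)` over `T` -/
abbrev Sec (T : Over X) (m : ℕ) : Type u :=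
  (FormalCoproduct.yoneda.obj (K.obj (op ⦋m⦌))).obj (op T)

/-- points are sections -/
noncomputable def secE (T : Over X) (m : ℕ) : Y X K T m ≃ Sec X K T m :=
  Equiv.ofBijective sec ⟨fun _ _ h => sec_injective h, sec_surjective⟩

lemma secE_apply (T : Over X) (m : ℕ) (y : Y X K T m) : secE X K T m y = sec y := rfl

lemma face_sec (T : Over X) (m : ℕ) (i : Fin (m + 2)) (y : Y X K T (m + 1)) :
    (FormalCoproduct.yoneda.map (K.δ i)).app (op T) (sec y) = sec (y ≫ K.δ i) :=
  map_sec (K.δ i) y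

lemma restr_sec {T T' : Over X} (g : T' ⟶ T) (m : ℕ) (y : Y X K T m) :
    (FormalCoproduct.yoneda.obj (K.obj (op ⦋m⦌))).map g.op (sec y) = sec (res X g y) :=
  restrict_sec g y

theorem local_exact_vertex (hK : Hyper.IsHypercovering J X K) (n : ℕ) (T₀ : Over X)
    (v : Y X K T₀ 0) (s : FreeAbelianGroup (Sec X K T₀ (n + 1)))
    (hs : ((dP K n).app (op T₀)).hom s = 0) :
    ∃ R ∈ (J.over X) T₀, ∀ ⦃T : Over X⦄ (g : T ⟶ T₀), R.arrows g →
      ∃ t : FreeAbelianGroup (Sec X K T (n + 2)),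
        ((dP K (n + 1)).app (op T)).hom t = (((PS K).obj (op ⦋n + 1⦌)).map g.op).hom s := by
  obtain ⟨BA, hBA, hsB⟩ := exists_finite_support s
  let B : ∀ j, Set (Y X K T₀ j) := fun j =>
    Set.image2 (fun x (θ : ⦋j⦌ ⟶ ⦋n + 1⦌) => (secE X K T₀ (n + 1)).symm x ≫ K.map θ.op)
      BA Set.univ
  have hfin : ∀ j, (B j).Finite := fun j => hBA.image2 _ Set.finite_univ
  have hcl : ∀ j, ∀ y ∈ B (j + 1), ∀ i : Fin (j + 2), y ≫ K.δ i ∈ B j := by
    rintro j y ⟨x, hx, θ, _, rfl⟩ i
    refine ⟨x, hx, SimplexCategory.δ i ≫ θ, trivial, ?_⟩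
    simp only [SimplicialObject.δ, op_comp, K.map_comp, Category.assoc]
  have hmem : ∀ x ∈ BA, (secE X K T₀ (n + 1)).symm x ∈ B (n + 1) := by
    intro x hx
    refine ⟨x, hx, 𝟙 _, trivial, ?_⟩
    simp only [op_id, K.map_id, Category.comp_id]
  obtain ⟨S, hS, hl⟩ := cone_ext J X K hK v B hfin hcl (n + 1)
  refine ⟨S, hS, fun T g hg => ?_⟩
  obtain ⟨c, hc⟩ := hl g hg
  let cS : Sec X K T₀ (n + 1) → Sec X K T (n + 2) :=
    fun x => sec (c (n + 1) ((secE X K T₀ (n + 1)).symm x))
  let cS' : Sec X K T₀ n → Sec X K T (n + 1) :=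
    fun x => sec (c n ((secE X K T₀ n).symm x))
  refine ⟨FreeAbelianGroup.map cS s, ?_⟩
  rw [dP_app_apply, PS_map_apply]
  rw [dP_app_apply] at hs
  have hx_eq : ∀ x : Sec X K T₀ (n + 1), sec ((secE X K T₀ (n + 1)).symm x) = x :=
    fun x => (secE X K T₀ (n + 1)).apply_symm_apply x
  refine cone_chain (n + 1)
    (fun i x => (FormalCoproduct.yoneda.map (K.δ i)).app (op T₀) x)
    (fun i x => (FormalCoproduct.yoneda.map (K.δ i)).app (op T) x)
    (fun x => (FormalCoproduct.yoneda.obj (K.obj (op ⦋n + 1⦌))).map g.op x)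
    cS cS' BA ?_ ?_ s hsB hs
  · intro x hx
    change (FormalCoproduct.yoneda.map (K.δ 0)).app (op T)
      (sec (c (n + 1) ((secE X K T₀ (n + 1)).symm x))) = _
    rw [face_sec, hc.h0 (n + 1) le_rfl _ (hmem x hx), ← restr_sec, hx_eq]
  · intro x hx i
    change (FormalCoproduct.yoneda.map (K.δ i.succ)).app (op T)
      (sec (c (n + 1) ((secE X K T₀ (n + 1)).symm x))) =
      sec (c n ((secE X K T₀ n).symm ((FormalCoproduct.yoneda.map (K.δ i)).app (op T₀) x)))
    rw [face_sec, hc.hs n (Nat.lt_succ_self _) _ (hmem x hx) i]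
    congr 2
    rw [Equiv.eq_symm_apply, secE_apply, ← face_sec, hx_eq]

/-- the sieve of maps whose source has a point of `K_0` -/
def vertexSieve (T₀ : Over X) : Sieve T₀ where
  arrows T _ := Nonempty (Y X K T 0)
  downward_closed := fun ⟨v⟩ h => ⟨res X h v⟩

lemma vertexSieve_mem (hK : Hyper.IsHypercovering J X K) (T₀ : Over X) :
    vertexSieve X K T₀ ∈ (J.over X) T₀ := by
  rw [J.mem_over_iff]
  refine J.superset_covering ?_ (J.pullback_stable T₀.hom hK.1)
  intro W q hq
  rw [Sieve.overEquiv_iff]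
  obtain ⟨W', k, e, he, hke⟩ := hq
  obtain ⟨i⟩ := he
  exact ⟨FormalCoproduct.Hom.fromIncl i (Over.homMk k hke)⟩

lemma dP_natural (n : ℕ) {T T' : Over X} (g : T' ⟶ T)
    (s : FreeAbelianGroup (Sec X K T (n + 1))) :
    ((dP K n).app (op T')).hom ((((PS K).obj (op ⦋n + 1⦌)).map g.op).hom s) =
      (((PS K).obj (op ⦋n⦌)).map g.op).hom (((dP K n).app (op T)).hom s) := by
  have h := congrArg (fun φ => φ.hom s) ((dP K n).naturality g.op)
  exact h

theorem local_exact (hK : Hyper.IsHypercovering J X K) (n : ℕ) (T₀ : Over X)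
    (s : FreeAbelianGroup (Sec X K T₀ (n + 1)))
    (hs : ((dP K n).app (op T₀)).hom s = 0) :
    ∃ R ∈ (J.over X) T₀, ∀ ⦃T : Over X⦄ (g : T ⟶ T₀), R.arrows g →
      ∃ t : FreeAbelianGroup (Sec X K T (n + 2)),
        ((dP K (n + 1)).app (op T)).hom t = (((PS K).obj (op ⦋n + 1⦌)).map g.op).hom s := by
  refine ⟨Presheaf.imageSieve (dP K (n + 1)) s, ?_, fun T g hg => hg⟩
  refine (J.over X).transitive (vertexSieve_mem J X K hK T₀) _ ?_
  intro T₁ g₁ hg₁
  obtain ⟨v⟩ := hg₁
  have hs₁ : ((dP K n).app (op T₁)).hom ((((PS K).obj (op ⦋n + 1⦌)).map g₁.op).hom s) = 0 := by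
    rw [dP_natural, hs, map_zero]
  obtain ⟨R₁, hR₁, hl⟩ := local_exact_vertex J X K hK n T₁ v _ hs₁
  refine (J.over X).superset_covering ?_ hR₁
  intro T₂ g₂ hg₂
  obtain ⟨t, ht⟩ := hl g₂ hg₂
  refine ⟨t, ?_⟩
  refine ht.trans ?_
  change _ = (((PS K).obj (op ⦋n + 1⦌)).map (g₂ ≫ g₁).op).hom s
  rw [op_comp, Functor.map_comp]
  rfl

omit [HasPullbacks C]
  [∀ (n : ℕ) (G : (SimplexCategory.Truncated n)ᵒᵖ ⥤ FormalCoproduct.{u} (Over X)),
      (SimplexCategory.Truncated.inclusion n).op.HasRightKanExtension G] in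
lemma dP_comp (n : ℕ) : dP K (n + 1) ≫ dP K n = 0 := by
  have h := (AlgebraicTopology.AlternatingFaceMapComplex.obj (PS K)).d_comp_d (n + 2) (n + 1) n
  rw [AlgebraicTopology.AlternatingFaceMapComplex.obj_d_eq,
    AlgebraicTopology.AlternatingFaceMapComplex.obj_d_eq] at h
  exact h

omit [HasPullbacks C]
  [∀ (n : ℕ) (G : (SimplexCategory.Truncated n)ᵒᵖ ⥤ FormalCoproduct.{u} (Over X)),
      (SimplexCategory.Truncated.inclusion n).op.HasRightKanExtension G] in
lemma freeChainCx_d (n : ℕ) : (Hyper.freeChainCx (J.over X) K).d (n + 1) n =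
    (presheafToSheaf (J.over X) AddCommGrpCat.{u}).map (dP K n) := by
  have h := AlgebraicTopology.AlternatingFaceMapComplex.obj_d_eq
    (Hyper.freeSimplicialSheaf (J.over X) K) n
  refine h.trans ?_
  unfold dP
  rw [Functor.map_sum]
  apply Finset.sum_congr rfl
  intro i _
  rw [Functor.map_zsmul]
  rfl

theorem homology_pos (hK : Hyper.IsHypercovering J X K) (i : ℕ) :
    IsZero ((Hyper.freeChainCx (J.over X) K).homology (i + 1)) := by
  rw [← HomologicalComplex.exactAt_iff_isZero_homology]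
  rw [HomologicalComplex.exactAt_iff' _ (i + 2) (i + 1) i (by simp) (by simp)]
  have hex := exact_sheafify (J.over X) (dP K (i + 1)) (dP K i) (dP_comp X K i)
    (fun U s hs => local_exact J X K hK i U s hs)
  refine ShortComplex.exact_of_iso (S₁ := ShortComplex.mk
      ((presheafToSheaf (J.over X) AddCommGrpCat.{u}).map (dP K (i + 1)))
      ((presheafToSheaf (J.over X) AddCommGrpCat.{u}).map (dP K i))
      (by rw [← Functor.map_comp, dP_comp, Functor.map_zero]))
    (ShortComplex.isoMk (Iso.refl _) (Iso.refl _) (Iso.refl _) ?_ ?_) hex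
  · simp only [Iso.refl_hom, Category.id_comp, Category.comp_id]
    exact (freeChainCx_d J X K (i + 1))
  · simp only [Iso.refl_hom, Category.id_comp, Category.comp_id]
    exact (freeChainCx_d J X K i)

end loc

end Groth.Agent.Lib.Helper62.FreeAcyclic
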