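import Mathlib
import Groth.Prelude.Def_Hyper
import Groth.Agent.Lib.Helper62.FreeAcyclic
import Groth.Agent.Lib.Helper62.CechE

/-! # Maps from the free sheaf complex of `K` to a sheaf versus Cech cochains -/

set_option autoImplicit false
set_option backward.isDefEq.respectTransparency false
set_option backward.isDefEq.respectTransparency.types false

open CategoryTheory CategoryTheory.Limits Opposite Simplicial SimplexCategory

universe u

namespace Groth.Agent.Lib.Helper62.HomCech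

open FreeAcyclic HyperSite HyperSiteH0 CechE

variable {C' : Type u} [SmallCategory C'] (J' : GrothendieckTopology C')
  (K : SimplicialObject (FormalCoproduct.{u} C'))

/-- sections of `F(B)` over `T` -/
abbrev SecB (B : FormalCoproduct.{u} C') (T : C') : Type u :=
  (FormalCoproduct.yoneda.obj B).obj (op T)

/-- points are sections -/
noncomputable def secEq (B : FormalCoproduct.{u} C') (T : C') :
    ((FormalCoproduct.incl C').obj T ⟶ B) ≃ SecB B T :=
  Equiv.ofBijective sec ⟨fun _ _ h => sec_injective h, sec_surjective⟩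

lemma secEq_symm_sec (B : FormalCoproduct.{u} C') (T : C')
    (l : (FormalCoproduct.incl C').obj T ⟶ B) : (secEq B T).symm (sec l) = l :=
  (secEq B T).symm_apply_apply l

lemma sec_secEq_symm (B : FormalCoproduct.{u} C') (T : C') (x : SecB B T) :
    sec ((secEq B T).symm x) = x :=
  (secEq B T).apply_symm_apply x

/-- the tautological section -/
noncomputable def τ (B : FormalCoproduct.{u} C') (i : B.I) : SecB B (B.obj i) :=
  sec (FormalCoproduct.Hom.fromIncl i (𝟙 (B.obj i)))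

lemma fromIncl_eq {B : FormalCoproduct.{u} C'} {T : C'}
    (l : (FormalCoproduct.incl C').obj T ⟶ B) :
    l = (FormalCoproduct.incl C').map (l.φ PUnit.unit) ≫
      FormalCoproduct.Hom.fromIncl (l.f PUnit.unit) (𝟙 _) := by
  refine FormalCoproduct.hom_ext ?_ ?_
  · funext x
    rfl
  · intro x
    change l.φ x ≫ eqToHom _ = l.φ PUnit.unit ≫ 𝟙 _
    simp
    rfl

/-- every section is a restriction of a tautological one -/
lemma sec_eq_restrict {B : FormalCoproduct.{u} C'} {T : C'}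
    (l : (FormalCoproduct.incl C').obj T ⟶ B) :
    sec l = (FormalCoproduct.yoneda.obj B).map (l.φ PUnit.unit).op (τ B (l.f PUnit.unit)) := by
  unfold τ
  rw [restrict_sec, ← fromIncl_eq]

variable (P : C'ᵒᵖ ⥤ AddCommGrpCat.{u})

variable {K P} in
/-- evaluation of a presheaf map on the tautological sections -/
noncomputable def evτ {n : ℕ} (ψ : (PS K).obj (op ⦋n⦌) ⟶ P) (i : (K.obj (op ⦋n⦌)).I) :
    P.obj (op ((K.obj (op ⦋n⦌)).obj i)) :=
  (ψ.app (op ((K.obj (op ⦋n⦌)).obj i))).hom (FreeAbelianGroup.of (τ (K.obj (op ⦋n⦌)) i))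

variable {K P} in
lemma ψ_natural {n : ℕ} (ψ : (PS K).obj (op ⦋n⦌) ⟶ P) {T T' : C'} (h : T' ⟶ T)
    (x : FreeAbelianGroup (SecB (K.obj (op ⦋n⦌)) T)) :
    (ψ.app (op T')).hom ((((PS K).obj (op ⦋n⦌)).map h.op).hom x) =
      (P.map h.op).hom ((ψ.app (op T)).hom x) := by
  have h1 := congrArg (fun φ => φ.hom x) (ψ.naturality h.op)
  exact h1

variable {K P} in
lemma ψ_of_sec {n : ℕ} (ψ : (PS K).obj (op ⦋n⦌) ⟶ P) {T : C'}
    (l : (FormalCoproduct.incl C').obj T ⟶ K.obj (op ⦋n⦌)) :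
    (ψ.app (op T)).hom (FreeAbelianGroup.of (sec l)) =
      (P.map (l.φ PUnit.unit).op).hom (evτ ψ (l.f PUnit.unit)) := by
  unfold evτ
  rw [← ψ_natural, PS_map_apply, FreeAbelianGroup.map_of_apply, ← sec_eq_restrict]
  rfl

variable {K P} in
/-- a presheaf map out of the free presheaf is determined by its values on tautological sections -/
lemma ψ_ext {n : ℕ} (ψ ψ' : (PS K).obj (op ⦋n⦌) ⟶ P) (h : ∀ i, evτ ψ i = evτ ψ' i) : ψ = ψ' := by
  ext T : 2
  apply AddCommGrpCat.hom_ext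
  apply FreeAbelianGroup.lift_ext
  intro x
  obtain ⟨l, rfl⟩ := sec_surjective x
  have h1 := ψ_of_sec ψ l
  have h2 := ψ_of_sec ψ' l
  rw [h] at h1
  exact h1.trans h2.symm

variable {K P} in
/-- the presheaf map with given values on the tautological sections -/
noncomputable def mkψ {n : ℕ} (c : ∀ i : (K.obj (op ⦋n⦌)).I, P.obj (op ((K.obj (op ⦋n⦌)).obj i))) :
    (PS K).obj (op ⦋n⦌) ⟶ P where
  app T := AddCommGrpCat.ofHom (FreeAbelianGroup.lift (fun x : SecB (K.obj (op ⦋n⦌)) T.unop =>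
    (P.map (((secEq (K.obj (op ⦋n⦌)) T.unop).symm x).φ PUnit.unit).op).hom
      (c (((secEq (K.obj (op ⦋n⦌)) T.unop).symm x).f PUnit.unit))))
  naturality T T' h := by
    apply AddCommGrpCat.hom_ext
    apply FreeAbelianGroup.lift_ext
    intro x
    obtain ⟨l, rfl⟩ := sec_surjective x
    change (FreeAbelianGroup.lift _) (FreeAbelianGroup.map
      ((FormalCoproduct.yoneda.obj (K.obj (op ⦋n⦌))).map h) (FreeAbelianGroup.of (sec l))) =
      (P.map h).hom ((FreeAbelianGroup.lift _) (FreeAbelianGroup.of (sec l)))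
    rw [FreeAbelianGroup.map_of_apply, FreeAbelianGroup.lift_apply_of,
      FreeAbelianGroup.lift_apply_of]
    have e1 : (FormalCoproduct.yoneda.obj (K.obj (op ⦋n⦌))).map h (sec l) =
        sec ((FormalCoproduct.incl C').map h.unop ≫ l) := restrict_sec h.unop l
    rw [e1, secEq_symm_sec, secEq_symm_sec]
    change (P.map (h.unop ≫ l.φ PUnit.unit).op).hom (c (l.f PUnit.unit)) = _
    rw [op_comp, P.map_comp]
    rfl

variable {K P} in
lemma evτ_mkψ {n : ℕ} (c : ∀ i : (K.obj (op ⦋n⦌)).I, P.obj (op ((K.obj (op ⦋n⦌)).obj i)))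
    (i : (K.obj (op ⦋n⦌)).I) : evτ (mkψ c) i = c i := by
  unfold evτ τ
  change (FreeAbelianGroup.lift _) (FreeAbelianGroup.of _) = _
  rw [FreeAbelianGroup.lift_apply_of, secEq_symm_sec]
  change (P.map (𝟙 _).op).hom (c i) = c i
  rw [op_id, P.map_id]
  rfl

variable {K P} in
lemma ψ_face {n : ℕ} (ψ : (PS K).obj (op ⦋n⦌) ⟶ P) (j : Fin (n + 2))
    (i : (K.obj (op ⦋n + 1⦌)).I) :
    (ψ.app (op ((K.obj (op ⦋n + 1⦌)).obj i))).hom (FreeAbelianGroup.of
      ((FormalCoproduct.yoneda.map (K.δ j)).app (op ((K.obj (op ⦋n + 1⦌)).obj i))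
        (τ (K.obj (op ⦋n + 1⦌)) i))) =
      (P.map ((K.δ j).φ i).op).hom (evτ ψ ((K.δ j).f i)) := by
  unfold τ
  rw [map_sec, ψ_of_sec]
  change (P.map (𝟙 _ ≫ (K.δ j).φ i).op).hom _ = _
  rw [Category.id_comp]
  rfl

variable {K P} in
lemma evτ_dP {n : ℕ} (ψ : (PS K).obj (op ⦋n⦌) ⟶ P) (i : (K.obj (op ⦋n + 1⦌)).I) :
    evτ (dP K n ≫ ψ) i = ∑ j : Fin (n + 2), (-1 : ℤ) ^ (j : ℕ) •
      (P.map ((K.δ j).φ i).op).hom (evτ ψ ((K.δ j).f i)) := by
  unfold evτ
  change (ψ.app _).hom (((dP K n).app _).hom _) = _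
  rw [dP_app_apply, map_sum]
  apply Finset.sum_congr rfl
  intro j _
  rw [map_zsmul, FreeAbelianGroup.map_of_apply]
  congr 1
  exact ψ_face ψ j i

/-- the component of a Cech cochain -/
noncomputable def comp {n : ℕ} (c : (E P).obj (op (K.obj (op ⦋n⦌)))) (i : (K.obj (op ⦋n⦌)).I) :
    P.obj (op ((K.obj (op ⦋n⦌)).obj i)) :=
  (Pi.π (fun i : (K.obj (op ⦋n⦌)).I => P.obj (op ((K.obj (op ⦋n⦌)).obj i))) i).hom c

lemma cech_d_eq (n : ℕ) : ((FormalCoproduct.cochainComplexFunctor K).obj P).d n (n + 1) =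
    ∑ j : Fin (n + 2), (-1 : ℤ) ^ (j : ℕ) • (E P).map (K.δ j).op := by
  have h : ((FormalCoproduct.cochainComplexFunctor K).obj P).d n (n + 1) =
      AlgebraicTopology.AlternatingCofaceMapComplex.objD (K.rightOp ⋙ E P) n := by
    change CochainComplex.of.d (fun n => (K.rightOp ⋙ E P).obj ⦋n⦌)
      (AlgebraicTopology.AlternatingCofaceMapComplex.objD (K.rightOp ⋙ E P)) n (n + 1) = _
    exact CochainComplex.of_d _ _ n
  rw [h]
  simp only [AlgebraicTopology.AlternatingCofaceMapComplex.objD]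
  rfl

lemma hom_sum_apply {A B : AddCommGrpCat.{u}} {ι : Type*} (s : Finset ι) (f : ι → (A ⟶ B))
    (x : A) : (∑ i ∈ s, f i).hom x = ∑ i ∈ s, (f i).hom x := by
  classical
  induction s using Finset.induction_on with
  | empty =>
    simp only [Finset.sum_empty]
    rfl
  | insert a s ha ih =>
    rw [Finset.sum_insert ha, Finset.sum_insert ha, AddCommGrpCat.hom_add,
      AddMonoidHom.add_apply, ih]

lemma comp_cech_d (n : ℕ) (c : (E P).obj (op (K.obj (op ⦋n⦌)))) (i : (K.obj (op ⦋n + 1⦌)).I) :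
    comp K P ((((FormalCoproduct.cochainComplexFunctor K).obj P).d n (n + 1)).hom c) i =
      ∑ j : Fin (n + 2), (-1 : ℤ) ^ (j : ℕ) •
        (P.map ((K.δ j).φ i).op).hom (comp K P c ((K.δ j).f i)) := by
  unfold comp
  rw [cech_d_eq, hom_sum_apply, map_sum]
  apply Finset.sum_congr rfl
  intro j _
  rw [AddCommGrpCat.hom_zsmul, AddMonoidHom.smul_apply, map_zsmul]
  congr 1
  have h := E_map_π P (K.δ j) i
  have h2 := congrArg (fun φ => φ.hom c) h
  exact h2

lemma freeChainCx_d' (n : ℕ) : (Hyper.freeChainCx J' K).d (n + 1) n =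
    (presheafToSheaf J' AddCommGrpCat.{u}).map (dP K n) := by
  have h := AlgebraicTopology.AlternatingFaceMapComplex.obj_d_eq
    (Hyper.freeSimplicialSheaf J' K) n
  refine h.trans ?_
  unfold dP
  rw [Functor.map_sum]
  apply Finset.sum_congr rfl
  intro i _
  rw [Functor.map_zsmul]
  rfl

variable {K P} in
lemma evτ_zero {n : ℕ} (i : (K.obj (op ⦋n⦌)).I) :
    evτ (0 : (PS K).obj (op ⦋n⦌) ⟶ P) i = 0 := rfl

lemma comp_zero' {n : ℕ} (i : (K.obj (op ⦋n⦌)).I) :
    comp K P (0 : (E P).obj (op (K.obj (op ⦋n⦌)))) i = 0 := by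
  unfold comp
  rw [map_zero]

/-- Cech cohomology of an injective sheaf vanishes where the free sheaf complex is exact -/
theorem cech_vanish (G : Sheaf J' AddCommGrpCat.{u}) [Injective G] (p : ℕ)
    (hQ : IsZero ((Hyper.freeChainCx J' K).homology (p + 1))) :
    IsZero (((FormalCoproduct.cochainComplexFunctor K).obj G.obj).homology (p + 1)) := by
  rw [← HomologicalComplex.exactAt_iff_isZero_homology,
    HomologicalComplex.exactAt_iff' _ p (p + 1) (p + 2) (by simp) (by simp),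
    ShortComplex.ab_exact_iff]
  intro s hs
  have hs' : (((FormalCoproduct.cochainComplexFunctor K).obj G.obj).d (p + 1) (p + 2)).hom s = 0 :=
    hs
  have hex : ((Hyper.freeChainCx J' K).sc' (p + 2) (p + 1) p).Exact := by
    rw [← HomologicalComplex.exactAt_iff' _ (p + 2) (p + 1) p (by simp) (by simp),
      HomologicalComplex.exactAt_iff_isZero_homology]
    exact hQ
  let ψs : (PS K).obj (op ⦋p + 1⦌) ⟶ G.obj := mkψ (comp K G.obj s)
  let φs : (Hyper.freeChainCx J' K).X (p + 1) ⟶ G :=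
    ObjectProperty.homMk (sheafifyLift J' ψs G.property)
  have h0 : (Hyper.freeChainCx J' K).d (p + 2) (p + 1) ≫ φs = 0 := by
    apply Sheaf.hom_ext
    apply sheafify_hom_ext J' _ _ G.property
    rw [freeChainCx_d']
    change toSheafify J' _ ≫ sheafifyMap J' (dP K (p + 1)) ≫ sheafifyLift J' ψs G.property =
      toSheafify J' _ ≫ 0
    rw [← toSheafify_naturality_assoc, toSheafify_sheafifyLift, Limits.comp_zero]
    apply ψ_ext
    intro i
    rw [evτ_dP, evτ_zero]
    simp only [ψs, evτ_mkψ]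
    rw [← comp_cech_d, hs', comp_zero']
  let t' := hex.descToInjective φs h0
  have ht' : (Hyper.freeChainCx J' K).d (p + 1) p ≫ t' = φs := hex.comp_descToInjective φs h0
  let ψt : (PS K).obj (op ⦋p⦌) ⟶ G.obj := toSheafify J' _ ≫ t'.hom
  have hψ : dP K p ≫ ψt = ψs := by
    have h1 := congrArg (fun φ => toSheafify J' _ ≫ φ.hom) ht'
    rw [freeChainCx_d'] at h1
    have h2 : toSheafify J' _ ≫ sheafifyMap J' (dP K p) ≫ t'.hom =
        toSheafify J' _ ≫ sheafifyLift J' ψs G.property := h1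
    rw [← toSheafify_naturality_assoc, toSheafify_sheafifyLift] at h2
    exact h2
  let t : (E G.obj).obj (op (K.obj (op ⦋p⦌))) :=
    (Concrete.productEquiv (fun i : (K.obj (op ⦋p⦌)).I =>
      G.obj.obj (op ((K.obj (op ⦋p⦌)).obj i)))).symm (fun i => evτ ψt i)
  have hcomp : ∀ i, comp K G.obj t i = evτ ψt i := by
    intro i
    unfold comp
    rw [← Concrete.productEquiv_apply_apply]
    simp only [t, Equiv.apply_symm_apply]
  refine ⟨t, ?_⟩
  apply pi_ext
  intro i
  change comp K G.obj ((((FormalCoproduct.cochainComplexFunctor K).obj G.obj).d p (p + 1)).hom t) i =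
    comp K G.obj s i
  rw [comp_cech_d]
  simp only [hcomp]
  rw [← evτ_dP, hψ]
  simp only [ψs, evτ_mkψ]

end Groth.Agent.Lib.Helper62.HomCech
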