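import Mathlib
import Groth.Prelude.Def_Hyper
import Groth.Agent.Lib.Helper62.HomCech

/-! # Diagram chase on Cech complexes of a sectionwise short exact sequence of presheaves -/

set_option autoImplicit false
set_option backward.isDefEq.respectTransparency false
set_option backward.isDefEq.respectTransparency.types false

open CategoryTheory CategoryTheory.Limits Opposite Simplicial SimplexCategory

universe u

namespace Groth.Agent.Lib.Helper62.CechChase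

open CechE HomCech

variable {C' : Type u} [SmallCategory C']
  (K : SimplicialObject (FormalCoproduct.{u} C'))

/-- the Cech complex -/
noncomputable abbrev Cx (P : C'ᵒᵖ ⥤ AddCommGrpCat.{u}) : CochainComplex AddCommGrpCat.{u} ℕ :=
  (FormalCoproduct.cochainComplexFunctor K).obj P

/-- the induced map of Cech complexes -/
noncomputable abbrev Mp {P P' : C'ᵒᵖ ⥤ AddCommGrpCat.{u}} (φ : P ⟶ P') : Cx K P ⟶ Cx K P' :=
  (FormalCoproduct.cochainComplexFunctor K).map φ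

/-- elementwise exactness of the Cech complex in degree `n + 1` -/
def ExactAt (P : C'ᵒᵖ ⥤ AddCommGrpCat.{u}) (n : ℕ) : Prop :=
  ∀ s : (Cx K P).X (n + 1), ((Cx K P).d (n + 1) (n + 2)).hom s = 0 →
    ∃ t : (Cx K P).X n, ((Cx K P).d n (n + 1)).hom t = s

lemma exactAt_iff (P : C'ᵒᵖ ⥤ AddCommGrpCat.{u}) (n : ℕ) :
    IsZero ((Cx K P).homology (n + 1)) ↔ ExactAt K P n := by
  rw [← HomologicalComplex.exactAt_iff_isZero_homology,
    HomologicalComplex.exactAt_iff' _ n (n + 1) (n + 2) (by simp) (by simp),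
    ShortComplex.ab_exact_iff]
  rfl

variable {K}

/-- a cochain from its components -/
noncomputable def mkc {P : C'ᵒᵖ ⥤ AddCommGrpCat.{u}} {n : ℕ}
    (c : ∀ i : (K.obj (op ⦋n⦌)).I, P.obj (op ((K.obj (op ⦋n⦌)).obj i))) : (Cx K P).X n :=
  (Concrete.productEquiv (fun i : (K.obj (op ⦋n⦌)).I =>
    P.obj (op ((K.obj (op ⦋n⦌)).obj i)))).symm c

lemma comp_mkc {P : C'ᵒᵖ ⥤ AddCommGrpCat.{u}} {n : ℕ}
    (c : ∀ i : (K.obj (op ⦋n⦌)).I, P.obj (op ((K.obj (op ⦋n⦌)).obj i))) (i : (K.obj (op ⦋n⦌)).I) :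
    comp K P (mkc c) i = c i := by
  unfold comp mkc
  rw [← Concrete.productEquiv_apply_apply]
  simp only [Equiv.apply_symm_apply]

lemma cx_ext {P : C'ᵒᵖ ⥤ AddCommGrpCat.{u}} {n : ℕ} (x y : (Cx K P).X n)
    (h : ∀ i, comp K P x i = comp K P y i) : x = y :=
  pi_ext _ x y h

lemma comp_Mp {P P' : C'ᵒᵖ ⥤ AddCommGrpCat.{u}} (φ : P ⟶ P') (n : ℕ) (c : (Cx K P).X n)
    (i : (K.obj (op ⦋n⦌)).I) :
    comp K P' (((Mp K φ).f n).hom c) i = (φ.app (op ((K.obj (op ⦋n⦌)).obj i))).hom (comp K P c i) := by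
  unfold comp
  have h : (Mp K φ).f n ≫ Pi.π (fun i : (K.obj (op ⦋n⦌)).I => P'.obj (op ((K.obj (op ⦋n⦌)).obj i))) i =
      Pi.π (fun i : (K.obj (op ⦋n⦌)).I => P.obj (op ((K.obj (op ⦋n⦌)).obj i))) i ≫
        φ.app (op ((K.obj (op ⦋n⦌)).obj i)) := by
    change Limits.Pi.map (fun i : (K.obj (op ⦋n⦌)).I => φ.app (op ((K.obj (op ⦋n⦌)).obj i))) ≫ _ = _
    rw [Limits.Pi.map_π]
  exact congrArg (fun ψ => ψ.hom c) h

lemma Mp_d {P P' : C'ᵒᵖ ⥤ AddCommGrpCat.{u}} (φ : P ⟶ P') (n : ℕ) (c : (Cx K P).X n) :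
    ((Mp K φ).f (n + 1)).hom (((Cx K P).d n (n + 1)).hom c) =
      ((Cx K P').d n (n + 1)).hom (((Mp K φ).f n).hom c) := by
  have h := (Mp K φ).comm n (n + 1)
  exact (congrArg (fun ψ => ψ.hom c) h).symm

section Chase

variable {P₁ P₂ P₃ : C'ᵒᵖ ⥤ AddCommGrpCat.{u}} (f : P₁ ⟶ P₂) (g : P₂ ⟶ P₃)

lemma Mp_injective (hf : ∀ T : C', Function.Injective (f.app (op T)).hom) (n : ℕ) :
    Function.Injective ((Mp K f).f n).hom := by
  intro x y hxy
  apply cx_ext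
  intro i
  apply hf
  rw [← comp_Mp, ← comp_Mp, hxy]

lemma Mp_surjective (hg : ∀ T : C', Function.Surjective (g.app (op T)).hom) (n : ℕ) :
    Function.Surjective ((Mp K g).f n).hom := by
  intro b
  choose a ha using fun i => hg _ (comp K P₃ b i)
  refine ⟨mkc a, ?_⟩
  apply cx_ext
  intro i
  rw [comp_Mp, comp_mkc, ha]

lemma Mp_exact (hfg : ∀ (T : C') (x : P₂.obj (op T)), (g.app (op T)).hom x = 0 →
    ∃ y, (f.app (op T)).hom y = x) (n : ℕ) (x : (Cx K P₂).X n)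
    (hx : ((Mp K g).f n).hom x = 0) : ∃ y, ((Mp K f).f n).hom y = x := by
  have h : ∀ i, ∃ y, (f.app (op ((K.obj (op ⦋n⦌)).obj i))).hom y = comp K P₂ x i := by
    intro i
    apply hfg
    rw [← comp_Mp, hx, comp_zero']
  choose y hy using h
  refine ⟨mkc y, ?_⟩
  apply cx_ext
  intro i
  rw [comp_Mp, comp_mkc, hy]

lemma Mp_zero (w : ∀ (T : C') (y : P₁.obj (op T)), (g.app (op T)).hom ((f.app (op T)).hom y) = 0)
    (n : ℕ) (y : (Cx K P₁).X n) : ((Mp K g).f n).hom (((Mp K f).f n).hom y) = 0 := by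
  apply cx_ext
  intro i
  rw [comp_Mp, comp_Mp, w, comp_zero']

variable (hf : ∀ T : C', Function.Injective (f.app (op T)).hom)
  (hg : ∀ T : C', Function.Surjective (g.app (op T)).hom)
  (hfg : ∀ (T : C') (x : P₂.obj (op T)), (g.app (op T)).hom x = 0 →
    ∃ y, (f.app (op T)).hom y = x)
  (w : ∀ (T : C') (y : P₁.obj (op T)), (g.app (op T)).hom ((f.app (op T)).hom y) = 0)

include hf hg hfg w

/-- the chase in degree `≥ 2` -/
theorem chase_succ (p : ℕ) (h2 : ExactAt K P₂ (p + 1)) (h3 : ExactAt K P₃ p) :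
    ExactAt K P₁ (p + 1) := by
  intro s hs
  obtain ⟨a, ha⟩ := h2 (((Mp K f).f (p + 2)).hom s) (by
    rw [← Mp_d, hs, map_zero])
  obtain ⟨b', hb'⟩ := h3 (((Mp K g).f (p + 1)).hom a) (by
    rw [← Mp_d, ha, Mp_zero f g w])
  obtain ⟨a', ha'⟩ := Mp_surjective g hg p b'
  obtain ⟨t, ht⟩ := Mp_exact f g hfg (p + 1) (a - ((Cx K P₂).d p (p + 1)).hom a') (by
    rw [map_sub, Mp_d, ha', hb', sub_self])
  refine ⟨t, ?_⟩
  apply Mp_injective f hf
  rw [Mp_d, ht, map_sub, ha]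
  have hdd : ((Cx K P₂).d (p + 1) (p + 2)).hom (((Cx K P₂).d p (p + 1)).hom a') = 0 := by
    have h := (Cx K P₂).d_comp_d p (p + 1) (p + 2)
    exact congrArg (fun ψ => ψ.hom a') h
  rw [hdd, sub_zero]

/-- the chase in degree `1` -/
theorem chase_zero (h2 : ExactAt K P₂ 0)
    (h0 : ∀ b : (Cx K P₃).X 0, ((Cx K P₃).d 0 1).hom b = 0 →
      ∃ a' : (Cx K P₂).X 0, ((Cx K P₂).d 0 1).hom a' = 0 ∧ ((Mp K g).f 0).hom a' = b) :
    ExactAt K P₁ 0 := by
  intro s hs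
  obtain ⟨a, ha⟩ := h2 (((Mp K f).f 1).hom s) (by
    rw [← Mp_d, hs, map_zero])
  obtain ⟨a', ha'0, ha'⟩ := h0 (((Mp K g).f 0).hom a) (by
    rw [← Mp_d, ha, Mp_zero f g w])
  obtain ⟨t, ht⟩ := Mp_exact f g hfg 0 (a - a') (by
    rw [map_sub, ha', sub_self])
  refine ⟨t, ?_⟩
  apply Mp_injective f hf
  rw [Mp_d, ht, map_sub, ha, ha'0, sub_zero]

end Chase

end Groth.Agent.Lib.Helper62.CechChase
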