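import Mathlib
import Groth.Prelude.Def_Hyper
import Groth.Agent.Lib.Helper62.ConeExt

/-! # Local cone extension over a simplicial semi-representable object with the local lifting
property for compatible boundaries (generic site) -/

set_option autoImplicit false
set_option backward.isDefEq.respectTransparency false
set_option backward.isDefEq.respectTransparency.types false

open CategoryTheory CategoryTheory.Limits Opposite Simplicial SimplexCategory

universe u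

namespace Groth.Agent.Lib.Helper62.ConeExtG

open MatchLift LLP LLPFin
open ConeExt (finite_local)

variable {C' : Type u} [SmallCategory C'] (J' : GrothendieckTopology C')
  (K : SimplicialObject (FormalCoproduct.{u} C'))

/-- `T`-points of `K_j` -/
abbrev Y (T   : C') (j : ℕ) := (FormalCoproduct.incl C').obj T ⟶ K.obj (op ⦋j⦌)

variable {K} in
/-- restriction of points -/
def res {T T'   : C'} (g : T' ⟶ T) {j : ℕ} (y : Y K T j) : Y K T' j :=
  (FormalCoproduct.incl C').map g ≫ y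

variable {K} in
lemma res_comp {T T'   : C'} (g : T' ⟶ T) {j : ℕ} (y : Y K T j) {B : FormalCoproduct.{u} C'}
    (f : K.obj (op ⦋j⦌) ⟶ B) : res g y ≫ f = (FormalCoproduct.incl C').map g ≫ y ≫ f := by
  unfold res
  rw [Category.assoc]

variable {K} in
lemma res_res {T T' T''   : C'} (g : T' ⟶ T) (g' : T'' ⟶ T') {j : ℕ} (y : Y K T j) :
    res g' (res g y) = res (g' ≫ g) y := by
  unfold res
  rw [Functor.map_comp, Category.assoc]

/-- the local lifting property of compatible boundaries -/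
def HL : Prop :=
  ∀ (k : ℕ) ⦃T : C'⦄ (b : Fin (k + 2) → Y K T k), Compat k K b →
    ∃ S ∈ J' T, ∀ ⦃T' : C'⦄ (g : T' ⟶ T), S.arrows g →
      ∃ m : Y K T' (k + 1), ∀ i, m ≫ K.δ i = res g (b i)

/-- the cone relations, up to level `k`, on the sets `B j` -/
structure IsCone {T₀ T   : C'} (g : T ⟶ T₀) (v : Y K T₀ 0) (B : ∀ j, Set (Y K T₀ j))
    (k : ℕ) (c : ∀ j, Y K T₀ j → Y K T (j + 1)) : Prop where
  h0 : ∀ j, j ≤ k → ∀ y ∈ B j, c j y ≫ K.δ 0 = res g y
  hv : ∀ y ∈ B 0, c 0 y ≫ K.δ 1 = res g v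
  hs : ∀ j, j < k → ∀ y ∈ B (j + 1), ∀ i : Fin (j + 2),
    c (j + 1) y ≫ K.δ i.succ = c j (y ≫ K.δ i)

/-- the default value -/
def dflt {T₀ T   : C'} (g : T ⟶ T₀) (j : ℕ) (y : Y K T₀ j) : Y K T (j + 1) :=
  res g y ≫ K.σ 0

theorem cone_ext_zero (hL : HL J' K) {T₀   : C'} (v : Y K T₀ 0)
    (B : ∀ j, Set (Y K T₀ j)) (hfin : ∀ j, (B j).Finite) :
    ∃ S ∈ J' T₀, ∀ ⦃T   : C'⦄ (g : T ⟶ T₀), S.arrows g →
      ∃ c, IsCone K g v B 0 c := by
  classical
  have h1 : ∀ y ∈ B 0, ∃ S ∈ J' T₀, ∀ ⦃T   : C'⦄ (g : T ⟶ T₀), S.arrows g →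
      ∃ m : Y K T 1, m ≫ K.δ 0 = res g y ∧ m ≫ K.δ 1 = res g v := by
    intro y _
    obtain ⟨S, hS, hl⟩ := hL 0 (Fin.cons y (fun _ => v) : Fin 2 → Y K T₀ 0)
      (compat_zero K _)
    refine ⟨S, hS, fun T g hg => ?_⟩
    obtain ⟨m, hm⟩ := hl g hg
    exact ⟨m, hm 0, hm 1⟩
  obtain ⟨S, hS, hl⟩ := finite_local J' (B 0) (hfin 0)
    (fun y T g => ∃ m : Y K T 1, m ≫ K.δ 0 = res g y ∧ m ≫ K.δ 1 = res g v) h1
  refine ⟨S, hS, fun T g hg => ?_⟩
  choose m hm0 hm1 using hl g hg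
  let c : ∀ j, Y K T₀ j → Y K T (j + 1) := fun j => match j with
    | 0 => fun y => if h : y ∈ B 0 then m y h else dflt K g 0 y
    | (j + 1) => fun y => dflt K g (j + 1) y
  refine ⟨c, ⟨?_, ?_, ?_⟩⟩
  · intro j hj y hy
    obtain rfl : j = 0 := Nat.le_zero.1 hj
    change (if h : y ∈ B 0 then m y h else dflt K g 0 y) ≫ K.δ 0 = _
    rw [dif_pos hy]
    exact hm0 y hy
  · intro y hy
    change (if h : y ∈ B 0 then m y h else dflt K g 0 y) ≫ K.δ 1 = _
    rw [dif_pos hy]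
    exact hm1 y hy
  · intro j hj
    exact absurd hj (Nat.not_lt_zero _)

lemma boundary_compat {T₀ T₁   : C'} (g₁ : T₁ ⟶ T₀) (v : Y K T₀ 0)
    (B : ∀ j, Set (Y K T₀ j))
    (hcl : ∀ j, ∀ y ∈ B (j + 1), ∀ i : Fin (j + 2), y ≫ K.δ i ∈ B j)
    (k : ℕ) (c : ∀ j, Y K T₀ j → Y K T₁ (j + 1)) (hc : IsCone K g₁ v B k c)
    (y : Y K T₀ (k + 1)) (hy : y ∈ B (k + 1)) :
    Compat (k + 1) K
      (Fin.cons (res g₁ y) (fun i : Fin (k + 2) => c k (y ≫ K.δ i)) :
        Fin (k + 3) → Y K T₁ (k + 1)) := by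
  apply compat_succ
  intro i j hij
  rw [Fin.cons_succ]
  induction i using Fin.cases with
  | zero =>
    rw [Fin.castSucc_zero, Fin.cons_zero, hc.h0 k le_rfl _ (hcl k y hy j)]
    unfold res
    rw [Category.assoc]
  | succ i' =>
    have hj0 : j ≠ 0 := by
      intro h0
      rw [h0] at hij
      exact absurd hij (not_le.2 (Fin.succ_pos i'))
    obtain ⟨j', rfl⟩ := Fin.exists_succ_eq_of_ne_zero hj0
    have hij' : i' ≤ j' := Fin.succ_le_succ_iff.1 hij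
    rw [← Fin.succ_castSucc, Fin.cons_succ]
    cases k with
    | zero =>
      have e1 : i' = 0 := Fin.fin_one_eq_zero _
      have e2 : j' = 0 := Fin.fin_one_eq_zero _
      subst e1 e2
      have h1 := hc.hv _ (hcl 0 y hy (Fin.succ 0))
      have h2 := hc.hv _ (hcl 0 y hy (Fin.castSucc 0))
      exact h1.trans h2.symm
    | succ k₀ =>
      rw [hc.hs k₀ (Nat.lt_succ_self _) _ (hcl _ y hy _) i',
        hc.hs k₀ (Nat.lt_succ_self _) _ (hcl _ y hy _) j', Category.assoc, Category.assoc,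
        K.δ_comp_δ hij']

variable {K} in
lemma res_comp' {T T'   : C'} (g : T' ⟶ T) {j : ℕ} (y : Y K T j) {j' : ℕ}
    (f : K.obj (op ⦋j⦌) ⟶ K.obj (op ⦋j'⦌)) : res g y ≫ f = res g (y ≫ f) := by
  unfold res
  rw [Category.assoc]

theorem cone_ext (hL : HL J' K) {T₀   : C'} (v : Y K T₀ 0)
    (B : ∀ j, Set (Y K T₀ j)) (hfin : ∀ j, (B j).Finite)
    (hcl : ∀ j, ∀ y ∈ B (j + 1), ∀ i : Fin (j + 2), y ≫ K.δ i ∈ B j) (k : ℕ) :
    ∃ S ∈ J' T₀, ∀ ⦃T   : C'⦄ (g : T ⟶ T₀), S.arrows g →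
      ∃ c, IsCone K g v B k c := by
  classical
  induction k with
  | zero => exact cone_ext_zero J' K hL v B hfin
  | succ k ih =>
    obtain ⟨S₁, hS₁, h1⟩ := ih
    choose c hc using h1
    have h2 : ∀ ⦃T₁   : C'⦄ (g₁ : T₁ ⟶ T₀) (hg₁ : S₁.arrows g₁),
        ∃ S₂ ∈ J' T₁, ∀ ⦃T₂   : C'⦄ (g₂ : T₂ ⟶ T₁), S₂.arrows g₂ →
          ∀ y ∈ B (k + 1), ∃ m : Y K T₂ (k + 2), ∀ i, m ≫ K.δ i =
            res g₂ ((Fin.cons (res g₁ y) (fun i : Fin (k + 2) => c g₁ hg₁ k (y ≫ K.δ i)) :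
              Fin (k + 3) → Y K T₁ (k + 1)) i) := by
      intro T₁ g₁ hg₁
      apply finite_local J' (B (k + 1)) (hfin (k + 1))
        (fun y T₂ g₂ => ∃ m : Y K T₂ (k + 2), ∀ i, m ≫ K.δ i =
            res g₂ ((Fin.cons (res g₁ y) (fun i : Fin (k + 2) => c g₁ hg₁ k (y ≫ K.δ i)) :
              Fin (k + 3) → Y K T₁ (k + 1)) i))
      intro y hy
      exact hL (k + 1) _
        (boundary_compat K g₁ v B hcl k (c g₁ hg₁) (hc g₁ hg₁) y hy)
    choose S₂ hS₂ hl₂ using h2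
    refine ⟨Sieve.bind S₁.arrows (fun T₁ g₁ hg₁ => S₂ g₁ hg₁),
      J'.bind_covering hS₁ (fun T₁ g₁ hg₁ => hS₂ g₁ hg₁), ?_⟩
    intro T h hh
    obtain ⟨T₁, g₂, g₁, hg₁, hg₂, rfl⟩ := hh
    choose m hm using hl₂ g₁ hg₁ g₂ hg₂
    have hc₁ := hc g₁ hg₁
    generalize c g₁ hg₁ = c₁ at hm hc₁
    let c' : ∀ j, Y K T₀ j → Y K T (j + 1) :=
      Function.update (fun j y => res g₂ (c₁ j y)) (k + 1)
        (fun y => if h : y ∈ B (k + 1) then m y h else dflt K (g₂ ≫ g₁) (k + 1) y)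
    have e1 : ∀ j, j ≠ k + 1 → ∀ y, c' j y = res g₂ (c₁ j y) := by
      intro j hj y
      simp only [c', Function.update_of_ne hj]
    have e2 : ∀ y (hy : y ∈ B (k + 1)), c' (k + 1) y = m y hy := by
      intro y hy
      simp only [c', Function.update_self, dif_pos hy]
    refine ⟨c', ⟨?_, ?_, ?_⟩⟩
    · intro j hj y hy
      by_cases hjk : j = k + 1
      · subst hjk
        rw [e2 y hy, hm y hy 0, Fin.cons_zero, res_res]
      · rw [e1 j hjk, res_comp', hc₁.h0 j (by omega) y hy, res_res]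
    · intro y hy
      rw [e1 0 (by omega), res_comp', hc₁.hv y hy, res_res]
    · intro j hj y hy i
      by_cases hjk : j = k
      · subst hjk
        rw [e2 y hy, hm y hy i.succ, Fin.cons_succ, e1 j (by omega)]
      · rw [e1 (j + 1) (by omega), e1 j (by omega), res_comp', hc₁.hs j (by omega) y hy i]

end Groth.Agent.Lib.Helper62.ConeExtG
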