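import Mathlib
import Groth.Prelude.Def_Hyper
import Groth.Agent.Lib.Helper62.ConeExtG
import Groth.Agent.Lib.Helper62.FreeAcyclic
import Groth.Agent.Lib.Helper62.HomCech

/-! # Local acyclicity of the free abelian complex of a simplicial semi-representable object with
the local lifting property (generic site) -/

set_option autoImplicit false
set_option backward.isDefEq.respectTransparency false
set_option backward.isDefEq.respectTransparency.types false

open CategoryTheory CategoryTheory.Limits Opposite Simplicial SimplexCategory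

universe u

namespace Groth.Agent.Lib.Helper62.FreeAcyclicG

open ConeExtG FreeChain SheafExactLocal HyperSite HyperSiteH0 LLP
open FreeAcyclic (PS dP PS_δ_app_apply dP_app_apply PS_map_apply)

variable {C' : Type u} [SmallCategory C'] (J' : GrothendieckTopology C')
  (K : SimplicialObject (FormalCoproduct.{u} C'))

/-- the sieve of maps whose source has a point of `K_0` -/
def vertexSieve (T₀  : C') : Sieve T₀ where
  arrows T _ := Nonempty (Y K T 0)
  downward_closed := fun ⟨v⟩ h => ⟨res h v⟩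

/-- sections of `F(K_m)` over `T` -/
abbrev Sec (T  : C') (m : ℕ) : Type u :=
  (FormalCoproduct.yoneda.obj (K.obj (op ⦋m⦌))).obj (op T)

/-- points are sections -/
noncomputable def secE (T  : C') (m : ℕ) : Y K T m ≃ Sec K T m :=
  Equiv.ofBijective sec ⟨fun _ _ h => sec_injective h, sec_surjective⟩

lemma secE_apply (T  : C') (m : ℕ) (y : Y K T m) : secE K T m y = sec y := rfl

lemma face_sec (T  : C') (m : ℕ) (i : Fin (m + 2)) (y : Y K T (m + 1)) :
    (FormalCoproduct.yoneda.map (K.δ i)).app (op T) (sec y) = sec (y ≫ K.δ i) :=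
  map_sec (K.δ i) y

lemma restr_sec {T T'  : C'} (g : T' ⟶ T) (m : ℕ) (y : Y K T m) :
    (FormalCoproduct.yoneda.obj (K.obj (op ⦋m⦌))).map g.op (sec y) = sec (res g y) :=
  restrict_sec g y

theorem local_exact_vertex (hL : HL J' K) (hV : ∀ T₀ : C', vertexSieve K T₀ ∈ J' T₀) (n : ℕ) (T₀  : C')
    (v : Y K T₀ 0) (s : FreeAbelianGroup (Sec K T₀ (n + 1)))
    (hs : ((dP K n).app (op T₀)).hom s = 0) :
    ∃ R ∈ J' T₀, ∀ ⦃T  : C'⦄ (g : T ⟶ T₀), R.arrows g →
      ∃ t : FreeAbelianGroup (Sec K T (n + 2)),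
        ((dP K (n + 1)).app (op T)).hom t = (((PS K).obj (op ⦋n + 1⦌)).map g.op).hom s := by
  obtain ⟨BA, hBA, hsB⟩ := exists_finite_support s
  let B : ∀ j, Set (Y K T₀ j) := fun j =>
    Set.image2 (fun x (θ : ⦋j⦌ ⟶ ⦋n + 1⦌) => (secE K T₀ (n + 1)).symm x ≫ K.map θ.op)
      BA Set.univ
  have hfin : ∀ j, (B j).Finite := fun j => hBA.image2 _ Set.finite_univ
  have hcl : ∀ j, ∀ y ∈ B (j + 1), ∀ i : Fin (j + 2), y ≫ K.δ i ∈ B j := by
    rintro j y ⟨x, hx, θ, _, rfl⟩ i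
    refine ⟨x, hx, SimplexCategory.δ i ≫ θ, trivial, ?_⟩
    simp only [SimplicialObject.δ, op_comp, K.map_comp, Category.assoc]
  have hmem : ∀ x ∈ BA, (secE K T₀ (n + 1)).symm x ∈ B (n + 1) := by
    intro x hx
    refine ⟨x, hx, 𝟙 _, trivial, ?_⟩
    simp only [op_id, K.map_id, Category.comp_id]
  obtain ⟨S, hS, hl⟩ := cone_ext J' K hL v B hfin hcl (n + 1)
  refine ⟨S, hS, fun T g hg => ?_⟩
  obtain ⟨c, hc⟩ := hl g hg
  let cS : Sec K T₀ (n + 1) → Sec K T (n + 2) :=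
    fun x => sec (c (n + 1) ((secE K T₀ (n + 1)).symm x))
  let cS' : Sec K T₀ n → Sec K T (n + 1) :=
    fun x => sec (c n ((secE K T₀ n).symm x))
  refine ⟨FreeAbelianGroup.map cS s, ?_⟩
  rw [dP_app_apply, PS_map_apply]
  rw [dP_app_apply] at hs
  have hx_eq : ∀ x : Sec K T₀ (n + 1), sec ((secE K T₀ (n + 1)).symm x) = x :=
    fun x => (secE K T₀ (n + 1)).apply_symm_apply x
  refine cone_chain (n + 1)
    (fun i x => (FormalCoproduct.yoneda.map (K.δ i)).app (op T₀) x)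
    (fun i x => (FormalCoproduct.yoneda.map (K.δ i)).app (op T) x)
    (fun x => (FormalCoproduct.yoneda.obj (K.obj (op ⦋n + 1⦌))).map g.op x)
    cS cS' BA ?_ ?_ s hsB hs
  · intro x hx
    change (FormalCoproduct.yoneda.map (K.δ 0)).app (op T)
      (sec (c (n + 1) ((secE K T₀ (n + 1)).symm x))) = _
    rw [face_sec, hc.h0 (n + 1) le_rfl _ (hmem x hx), ← restr_sec, hx_eq]
  · intro x hx i
    change (FormalCoproduct.yoneda.map (K.δ i.succ)).app (op T)
      (sec (c (n + 1) ((secE K T₀ (n + 1)).symm x))) =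
      sec (c n ((secE K T₀ n).symm ((FormalCoproduct.yoneda.map (K.δ i)).app (op T₀) x)))
    rw [face_sec, hc.hs n (Nat.lt_succ_self _) _ (hmem x hx) i]
    congr 2
    rw [Equiv.eq_symm_apply, secE_apply, ← face_sec, hx_eq]

lemma dP_natural (n : ℕ) {T T'  : C'} (g : T' ⟶ T)
    (s : FreeAbelianGroup (Sec K T (n + 1))) :
    ((dP K n).app (op T')).hom ((((PS K).obj (op ⦋n + 1⦌)).map g.op).hom s) =
      (((PS K).obj (op ⦋n⦌)).map g.op).hom (((dP K n).app (op T)).hom s) := by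
  have h := congrArg (fun φ => φ.hom s) ((dP K n).naturality g.op)
  exact h

theorem local_exact (hL : HL J' K) (hV : ∀ T₀ : C', vertexSieve K T₀ ∈ J' T₀) (n : ℕ) (T₀  : C')
    (s : FreeAbelianGroup (Sec K T₀ (n + 1)))
    (hs : ((dP K n).app (op T₀)).hom s = 0) :
    ∃ R ∈ J' T₀, ∀ ⦃T  : C'⦄ (g : T ⟶ T₀), R.arrows g →
      ∃ t : FreeAbelianGroup (Sec K T (n + 2)),
        ((dP K (n + 1)).app (op T)).hom t = (((PS K).obj (op ⦋n + 1⦌)).map g.op).hom s := by
  refine ⟨Presheaf.imageSieve (dP K (n + 1)) s, ?_, fun T g hg => hg⟩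
  refine J'.transitive (hV T₀) _ ?_
  intro T₁ g₁ hg₁
  obtain ⟨v⟩ := hg₁
  have hs₁ : ((dP K n).app (op T₁)).hom ((((PS K).obj (op ⦋n + 1⦌)).map g₁.op).hom s) = 0 := by
    rw [dP_natural, hs, map_zero]
  obtain ⟨R₁, hR₁, hl⟩ := local_exact_vertex J' K hL hV n T₁ v _ hs₁
  refine J'.superset_covering ?_ hR₁
  intro T₂ g₂ hg₂
  obtain ⟨t, ht⟩ := hl g₂ hg₂
  refine ⟨t, ?_⟩
  refine ht.trans ?_
  change _ = (((PS K).obj (op ⦋n + 1⦌)).map (g₂ ≫ g₁).op).hom s
  rw [op_comp, Functor.map_comp]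
  rfl

lemma dP_comp (n : ℕ) : dP K (n + 1) ≫ dP K n = 0 := by
  have h := (AlgebraicTopology.AlternatingFaceMapComplex.obj (PS K)).d_comp_d (n + 2) (n + 1) n
  rw [AlgebraicTopology.AlternatingFaceMapComplex.obj_d_eq,
    AlgebraicTopology.AlternatingFaceMapComplex.obj_d_eq] at h
  exact h

theorem homology_pos (hL : HL J' K) (hV : ∀ T₀ : C', vertexSieve K T₀ ∈ J' T₀) (i : ℕ) :
    IsZero ((Hyper.freeChainCx J' K).homology (i + 1)) := by
  rw [← HomologicalComplex.exactAt_iff_isZero_homology]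
  rw [HomologicalComplex.exactAt_iff' _ (i + 2) (i + 1) i (by simp) (by simp)]
  have hex := exact_sheafify J' (dP K (i + 1)) (dP K i) (dP_comp K i)
    (fun U s hs => local_exact J' K hL hV i U s hs)
  refine ShortComplex.exact_of_iso (S₁ := ShortComplex.mk
      ((presheafToSheaf J' AddCommGrpCat.{u}).map (dP K (i + 1)))
      ((presheafToSheaf J' AddCommGrpCat.{u}).map (dP K i))
      (by rw [← Functor.map_comp, dP_comp, Functor.map_zero]))
    (ShortComplex.isoMk (Iso.refl _) (Iso.refl _) (Iso.refl _) ?_ ?_) hex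
  · simp only [Iso.refl_hom, Category.id_comp, Category.comp_id]
    exact (HomCech.freeChainCx_d' J' K (i + 1))
  · simp only [Iso.refl_hom, Category.id_comp, Category.comp_id]
    exact (HomCech.freeChainCx_d' J' K i)


/-- the constant presheaf `ℤ` -/
noncomputable abbrev constZ : C'ᵒᵖ ⥤ AddCommGrpCat.{u} :=
  (Functor.const C'ᵒᵖ).obj (AddCommGrpCat.free.{u}.obj PUnit.{u + 1})

/-- the augmentation from level `m` -/
noncomputable def aug (m : ℕ) : (PS K).obj (op ⦋m⦌) ⟶ constZ (C' := C') where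
  app T := AddCommGrpCat.free.map (TypeCat.ofHom (fun _ => PUnit.unit))
  naturality T T' g := by
    change AddCommGrpCat.free.map _ ≫ AddCommGrpCat.free.map _ = AddCommGrpCat.free.map _ ≫ 𝟙 _
    rw [Category.comp_id, ← Functor.map_comp]
    rfl

lemma aug_apply (m : ℕ) (T  : C') (z : FreeAbelianGroup (Sec K T m)) :
    ((aug K m).app (op T)).hom z = FreeAbelianGroup.map (fun _ => PUnit.unit) z := rfl

lemma δ_aug (m : ℕ) (i : Fin (m + 2)) : (PS K).δ i ≫ aug K m = aug K (m + 1) := by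
  ext T : 2
  change AddCommGrpCat.free.map _ ≫ AddCommGrpCat.free.map _ = AddCommGrpCat.free.map _
  rw [← Functor.map_comp]
  rfl

lemma dP_aug : dP K 0 ≫ aug K 0 = 0 := by
  unfold dP
  rw [Preadditive.sum_comp, Fin.sum_univ_two]
  simp only [Preadditive.zsmul_comp, δ_aug]
  simp

theorem local_exact_zero_vertex (hL : HL J' K) (hV : ∀ T₀ : C', vertexSieve K T₀ ∈ J' T₀) (T₀  : C')
    (v : Y K T₀ 0) (s : FreeAbelianGroup (Sec K T₀ 0))
    (hs : ((aug K 0).app (op T₀)).hom s = 0) :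
    ∃ R ∈ J' T₀, ∀ ⦃T  : C'⦄ (g : T ⟶ T₀), R.arrows g →
      ∃ t : FreeAbelianGroup (Sec K T 1),
        ((dP K 0).app (op T)).hom t = (((PS K).obj (op ⦋0⦌)).map g.op).hom s := by
  obtain ⟨BA, hBA, hsB⟩ := exists_finite_support s
  let B : ∀ j, Set (Y K T₀ j) := fun j =>
    Set.image2 (fun x (θ : ⦋j⦌ ⟶ ⦋0⦌) => (secE K T₀ 0).symm x ≫ K.map θ.op)
      BA Set.univ
  have hfin : ∀ j, (B j).Finite := fun j => hBA.image2 _ Set.finite_univ
  have hmem : ∀ x ∈ BA, (secE K T₀ 0).symm x ∈ B 0 := by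
    intro x hx
    refine ⟨x, hx, 𝟙 _, trivial, ?_⟩
    simp only [op_id, K.map_id, Category.comp_id]
  obtain ⟨S, hS, hl⟩ := cone_ext_zero J' K hL v B hfin
  refine ⟨S, hS, fun T g hg => ?_⟩
  obtain ⟨c, hc⟩ := hl g hg
  let cS : Sec K T₀ 0 → Sec K T 1 :=
    fun x => sec (c 0 ((secE K T₀ 0).symm x))
  refine ⟨FreeAbelianGroup.map cS s, ?_⟩
  rw [dP_app_apply, PS_map_apply]
  rw [aug_apply] at hs
  have hx_eq : ∀ x : Sec K T₀ 0, sec ((secE K T₀ 0).symm x) = x :=
    fun x => (secE K T₀ 0).apply_symm_apply x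
  refine cone_chain_zero PUnit.unit
    (fun i x => (FormalCoproduct.yoneda.map (K.δ i)).app (op T) x)
    (fun x => (FormalCoproduct.yoneda.obj (K.obj (op ⦋0⦌))).map g.op x)
    cS (sec (res g v)) BA ?_ ?_ s hsB hs
  · intro x hx
    change (FormalCoproduct.yoneda.map (K.δ 0)).app (op T)
      (sec (c 0 ((secE K T₀ 0).symm x))) = _
    rw [face_sec, hc.h0 0 le_rfl _ (hmem x hx), ← restr_sec, hx_eq]
  · intro x hx
    change (FormalCoproduct.yoneda.map (K.δ 1)).app (op T)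
      (sec (c 0 ((secE K T₀ 0).symm x))) = _
    rw [face_sec, hc.hv _ (hmem x hx)]

lemma aug_natural {T T'  : C'} (g : T' ⟶ T) (s : FreeAbelianGroup (Sec K T 0)) :
    ((aug K 0).app (op T')).hom ((((PS K).obj (op ⦋0⦌)).map g.op).hom s) =
      ((aug K 0).app (op T)).hom s := by
  have h := congrArg (fun φ => φ.hom s) ((aug K 0).naturality g.op)
  exact h

theorem local_exact_zero (hL : HL J' K) (hV : ∀ T₀ : C', vertexSieve K T₀ ∈ J' T₀) (T₀  : C')
    (s : FreeAbelianGroup (Sec K T₀ 0))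
    (hs : ((aug K 0).app (op T₀)).hom s = 0) :
    ∃ R ∈ J' T₀, ∀ ⦃T  : C'⦄ (g : T ⟶ T₀), R.arrows g →
      ∃ t : FreeAbelianGroup (Sec K T 1),
        ((dP K 0).app (op T)).hom t = (((PS K).obj (op ⦋0⦌)).map g.op).hom s := by
  refine ⟨Presheaf.imageSieve (dP K 0) s, ?_, fun T g hg => hg⟩
  refine J'.transitive (hV T₀) _ ?_
  intro T₁ g₁ hg₁
  obtain ⟨v⟩ := hg₁
  have hs₁ : ((aug K 0).app (op T₁)).hom ((((PS K).obj (op ⦋0⦌)).map g₁.op).hom s) = 0 := by
    rw [aug_natural, hs]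
  obtain ⟨R₁, hR₁, hl⟩ := local_exact_zero_vertex J' K hL hV T₁ v _ hs₁
  refine J'.superset_covering ?_ hR₁
  intro T₂ g₂ hg₂
  obtain ⟨t, ht⟩ := hl g₂ hg₂
  refine ⟨t, ?_⟩
  refine ht.trans ?_
  change _ = (((PS K).obj (op ⦋0⦌)).map (g₂ ≫ g₁).op).hom s
  rw [op_comp, Functor.map_comp]
  rfl

theorem aug_locally_surjective (hL : HL J' K) (hV : ∀ T₀ : C', vertexSieve K T₀ ∈ J' T₀) (T₀  : C')
    (s : FreeAbelianGroup PUnit.{u + 1}) :
    ∃ R ∈ J' T₀, ∀ ⦃T  : C'⦄ (g : T ⟶ T₀), R.arrows g →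
      ∃ t : FreeAbelianGroup (Sec K T 0),
        ((aug K 0).app (op T)).hom t = ((constZ (C' := C')).map g.op).hom s := by
  refine ⟨vertexSieve K T₀, hV T₀, ?_⟩
  intro T g hg
  obtain ⟨v⟩ := hg
  refine ⟨FreeAbelianGroup.map (fun _ => sec v) s, ?_⟩
  rw [aug_apply, map_map_apply]
  change _ = s
  have : ((fun _ : Sec K T 0 => PUnit.unit.{u + 1}) ∘ fun _ : PUnit.{u + 1} => sec v) = id := by
    funext x
    rfl
  rw [this, FreeAbelianGroup.map_id]
  rfl

theorem homology_zero (hL : HL J' K) (hV : ∀ T₀ : C', vertexSieve K T₀ ∈ J' T₀) :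
    Nonempty ((Hyper.freeChainCx J' K).homology 0 ≅
      (presheafToSheaf J' AddCommGrpCat.{u}).obj (constZ (C' := C'))) := by
  have hex := exact_sheafify J' (dP K 0) (aug K 0) (dP_aug K)
    (fun U s hs => local_exact_zero J' K hL hV U s hs)
  have hex2 := exact_sheafify J' (aug K 0) (0 : constZ (C' := C') ⟶ constZ (C' := C')) (by simp)
    (fun U s _ => aug_locally_surjective J' K hL hV U s)
  have hepi : Epi ((presheafToSheaf J' AddCommGrpCat.{u}).map (aug K 0)) := by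
    rw [ShortComplex.exact_iff_epi _ (by simp)] at hex2
    exact hex2
  let S' : ShortComplex (Sheaf J' AddCommGrpCat.{u}) :=
    ShortComplex.mk ((Hyper.freeChainCx J' K).d 1 0)
      ((presheafToSheaf J' AddCommGrpCat.{u}).map (aug K 0))
      (by rw [HomCech.freeChainCx_d', ← Functor.map_comp, dP_aug, Functor.map_zero])
  have hS' : S'.Exact := by
    refine ShortComplex.exact_of_iso (S₁ := ShortComplex.mk
        ((presheafToSheaf J' AddCommGrpCat.{u}).map (dP K 0))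
        ((presheafToSheaf J' AddCommGrpCat.{u}).map (aug K 0))
        (by rw [← Functor.map_comp, dP_aug, Functor.map_zero]))
      (ShortComplex.isoMk (Iso.refl _) (Iso.refl _) (Iso.refl _) ?_ ?_) hex
    · simp only [Iso.refl_hom, Category.id_comp, Category.comp_id]
      exact (HomCech.freeChainCx_d' J' K 0)
    · simp only [Iso.refl_hom, Category.id_comp, Category.comp_id]
      rfl
  haveI : Epi S'.g := hepi
  have hcok := hS'.gIsCokernel
  exact ⟨(Hyper.freeChainCx J' K).isoHomologyι₀ ≪≫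
    IsColimit.coconePointUniqueUpToIso
      ((Hyper.freeChainCx J' K).opcyclesIsCokernel 1 0 (by simp)) hcok⟩


end Groth.Agent.Lib.Helper62.FreeAcyclicG
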