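import Mathlib
import Groth.Agent.Lib.Helper62.FreeAcyclicG
import Groth.Agent.Lib.Helper62.CechChase

/-! # The Cech nerve of a family of opens of a space: local lifting property and Cech-acyclicity of
injective sheaves -/

set_option autoImplicit false
set_option backward.isDefEq.respectTransparency false
set_option backward.isDefEq.respectTransparency.types false

open CategoryTheory CategoryTheory.Limits Opposite Simplicial SimplexCategory TopologicalSpace

universe u

namespace Groth.Agent.Lib.Helper62.CTCech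

open ConeExtG MatchLift CechChase HomCech

variable {X : TopCat.{u}} {ι : Type u} (U : ι → Opens X)

/-- the Cech nerve of the family -/
noncomputable abbrev Kc : SimplicialObject (FormalCoproduct.{u} (Opens X)) :=
  (FormalCoproduct.mk ι U).cech

lemma pt_ext {T : Opens X} {k : ℕ} (y y' : Y (Kc U) T k)
    (h : y.f PUnit.unit = y'.f PUnit.unit) : y = y' :=
  FormalCoproduct.hom_ext (funext fun _ => h) (fun _ => Subsingleton.elim _ _)

lemma le_of_pt {T : Opens X} {k : ℕ} (y : Y (Kc U) T k) (w : Fin (k + 1)) :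
    T ≤ U (y.f PUnit.unit w) :=
  ((y.φ PUnit.unit) ≫ Pi.π (U ∘ y.f PUnit.unit) w).le

/-- a point from a tuple -/
noncomputable def mkPt {T : Opens X} {k : ℕ} (τ : Fin (k + 1) → ι) (h : ∀ w, T ≤ U (τ w)) :
    Y (Kc U) T k :=
  FormalCoproduct.Hom.fromIncl (Y := (Kc U).obj (op ⦋k⦌)) τ (Pi.lift (fun w => homOfLE (h w)))

lemma compat_apply {T : Opens X} {k : ℕ} (b : Fin (k + 2) → Y (Kc U) T k)
    (hb : Compat k (Kc U) b) (i j : Fin (k + 2)) (w w' : Fin (k + 1))
    (h : i.succAbove w = j.succAbove w') :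
    (b i).f PUnit.unit w = (b j).f PUnit.unit w' := by
  have h1 := hb i j ⦋0⦌ (SimplexCategory.const ⦋0⦌ ⦋k⦌ w) (SimplexCategory.const ⦋0⦌ ⦋k⦌ w') (by
    rw [SimplexCategory.const_comp, SimplexCategory.const_comp]
    congr 1)
  have h2 := congrArg (fun m => m.f PUnit.unit (0 : Fin 1)) h1
  exact h2

theorem hL : HL (Opens.grothendieckTopology X) (Kc U) := by
  intro k T b hb
  refine ⟨⊤, (Opens.grothendieckTopology X).top_mem T, fun T' g _ => ?_⟩
  let τ : Fin (k + 2) → ι :=
    Fin.cons ((b (Fin.last (k + 1))).f PUnit.unit 0) ((b 0).f PUnit.unit)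
  have hτ : ∀ (i : Fin (k + 2)) (w : Fin (k + 1)), τ (i.succAbove w) = (b i).f PUnit.unit w := by
    intro i w
    refine Fin.cases (motive := fun v => i.succAbove w = v → τ v = (b i).f PUnit.unit w)
      ?_ ?_ (i.succAbove w) rfl
    · intro hv
      change (b (Fin.last (k + 1))).f PUnit.unit 0 = _
      refine (compat_apply U b hb i (Fin.last (k + 1)) w 0 ?_).symm
      rw [hv, Fin.succAbove_last]
      rfl
    · intro w' hv
      change (b 0).f PUnit.unit w' = _
      refine (compat_apply U b hb i 0 w w' ?_).symm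
      rw [hv, Fin.succAbove_zero]
  have hle : ∀ v, T' ≤ U (τ v) := by
    intro v
    refine Fin.cases ?_ ?_ v
    · exact g.le.trans (le_of_pt U (b (Fin.last (k + 1))) 0)
    · intro w'
      exact g.le.trans (le_of_pt U (b 0) w')
  refine ⟨mkPt U τ hle, fun i => ?_⟩
  apply pt_ext
  funext w
  exact hτ i w

theorem hV (hcov : iSup U = ⊤) (T₀ : Opens X) :
    FreeAcyclicG.vertexSieve (Kc U) T₀ ∈ Opens.grothendieckTopology X T₀ := by
  intro x hx
  have hx' : x ∈ iSup U := by rw [hcov]; trivial
  obtain ⟨i, hi⟩ := Opens.mem_iSup.1 hx'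
  refine ⟨T₀ ⊓ U i, homOfLE inf_le_left, ?_, ⟨hx, hi⟩⟩
  exact ⟨mkPt U (fun _ => i) (fun _ => inf_le_right)⟩

theorem exactAt_injective (hcov : iSup U = ⊤)
    (G : Sheaf (Opens.grothendieckTopology X) AddCommGrpCat.{u}) [Injective G] (p : ℕ) :
    CechChase.ExactAt (Kc U) G.obj p := by
  rw [← exactAt_iff]
  exact cech_vanish (Opens.grothendieckTopology X) (Kc U) G p
    (FreeAcyclicG.homology_pos (Opens.grothendieckTopology X) (Kc U) (hL U) (hV U hcov) p)

end Groth.Agent.Lib.Helper62.CTCech
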