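import Mathlib
import Groth.Agent.Lib.Helper62.CTCech

/-! # The augmentation of the Cech complex of a family of opens covering the space -/

set_option autoImplicit false
set_option backward.isDefEq.respectTransparency false
set_option backward.isDefEq.respectTransparency.types false

open CategoryTheory CategoryTheory.Limits Opposite Simplicial SimplexCategory TopologicalSpace

universe u

namespace Groth.Agent.Lib.Helper62.CTAug

open CechChase HomCech CTCech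

variable {X : TopCat.{u}} {ι : Type u} (U : ι → Opens X)

/-- the augmentation -/
noncomputable def aug (P : (Opens X)ᵒᵖ ⥤ AddCommGrpCat.{u}) :
    P.obj (op ⊤) ⟶ (Cx (Kc U) P).X 0 :=
  Pi.lift (fun σ : ((Kc U).obj (op ⦋0⦌)).I =>
    P.map (homOfLE (le_top : ((Kc U).obj (op ⦋0⦌)).obj σ ≤ ⊤)).op)

lemma comp_aug (P : (Opens X)ᵒᵖ ⥤ AddCommGrpCat.{u}) (s : P.obj (op ⊤))
    (σ : ((Kc U).obj (op ⦋0⦌)).I) :
    comp (Kc U) P ((aug U P).hom s) σ =
      (P.map (homOfLE (le_top : ((Kc U).obj (op ⦋0⦌)).obj σ ≤ ⊤)).op).hom s := by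
  unfold comp aug
  have h := Pi.lift_π (fun σ : ((Kc U).obj (op ⦋0⦌)).I =>
    P.map (homOfLE (le_top : ((Kc U).obj (op ⦋0⦌)).obj σ ≤ ⊤)).op) σ
  exact congrArg (fun ψ => ψ.hom s) h

lemma map_map_thin (P : (Opens X)ᵒᵖ ⥤ AddCommGrpCat.{u}) {T T' T'' : Opens X}
    (g : T'' ⟶ T') (h : T' ⟶ T) (k : T'' ⟶ T) (s : P.obj (op T)) :
    (P.map g.op).hom ((P.map h.op).hom s) = (P.map k.op).hom s := by
  have e : k = g ≫ h := Subsingleton.elim _ _
  rw [e, op_comp, P.map_comp]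
  rfl

lemma aug_d (P : (Opens X)ᵒᵖ ⥤ AddCommGrpCat.{u}) : aug U P ≫ (Cx (Kc U) P).d 0 1 = 0 := by
  apply AddCommGrpCat.hom_ext
  ext s
  change ((Cx (Kc U) P).d 0 1).hom ((aug U P).hom s) = 0
  apply cx_ext
  intro τ
  rw [comp_cech_d, comp_zero', Fin.sum_univ_two, comp_aug, comp_aug,
    map_map_thin P _ _ (homOfLE le_top) s, map_map_thin P _ _ (homOfLE le_top) s]
  simp

lemma aug_natural {P P' : (Opens X)ᵒᵖ ⥤ AddCommGrpCat.{u}} (f : P ⟶ P') :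
    f.app (op ⊤) ≫ aug U P' = aug U P ≫ (Mp (Kc U) f).f 0 := by
  apply AddCommGrpCat.hom_ext
  ext s
  change (aug U P').hom ((f.app (op ⊤)).hom s) = ((Mp (Kc U) f).f 0).hom ((aug U P).hom s)
  apply cx_ext
  intro σ
  rw [comp_aug, comp_Mp, comp_aug]
  have h := f.naturality (homOfLE (le_top : ((Kc U).obj (op ⦋0⦌)).obj σ ≤ ⊤)).op
  exact (congrArg (fun ψ => ψ.hom s) h).symm

lemma two_term {G : Type*} [AddCommGroup G] (A B : G)
    (h : (-1 : ℤ) ^ ((0 : Fin 2) : ℕ) • A + (-1 : ℤ) ^ ((1 : Fin 2) : ℕ) • B = 0) : A = B := by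
  simp only [Fin.val_zero, pow_zero, one_smul, Fin.val_one, pow_one, neg_smul] at h
  exact add_neg_eq_zero.1 h

section sheaf

variable (F : Sheaf (Opens.grothendieckTopology X) AddCommGrpCat.{u})

lemma cover_zero (hcov : iSup U = ⊤) :
    (⊤ : Opens X) ≤ iSup (fun σ : ((Kc U).obj (op ⦋0⦌)).I => ((Kc U).obj (op ⦋0⦌)).obj σ) := by
  intro x _
  have hx' : x ∈ iSup U := by rw [hcov]; trivial
  obtain ⟨i, hi⟩ := Opens.mem_iSup.1 hx'
  refine Opens.mem_iSup.2 ⟨(fun _ => i), ?_⟩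
  have h : U i ⟶ ∏ᶜ (U ∘ (fun _ : Fin 1 => i)) := Pi.lift (fun _ => 𝟙 _)
  exact h.le hi

lemma aug_injective (hcov : iSup U = ⊤) : Function.Injective (aug U F.obj).hom := by
  intro s t hst
  refine TopCat.Sheaf.eq_of_locally_eq' F
    (fun σ : ((Kc U).obj (op ⦋0⦌)).I => ((Kc U).obj (op ⦋0⦌)).obj σ) ⊤
    (fun σ => homOfLE le_top) (cover_zero U hcov) s t ?_
  intro σ
  have h := congrArg (fun c => comp (Kc U) F.obj c σ) hst
  simp only [comp_aug] at h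
  exact h

lemma thin (c : (Cx (Kc U) F.obj).X 0) (σ₁ σ₂ : ((Kc U).obj (op ⦋0⦌)).I) (h : σ₁ = σ₂)
    {T : Opens X} (f₁ : T ⟶ ((Kc U).obj (op ⦋0⦌)).obj σ₁)
    (f₂ : T ⟶ ((Kc U).obj (op ⦋0⦌)).obj σ₂) :
    (F.obj.map f₁.op).hom (comp (Kc U) F.obj c σ₁) =
      (F.obj.map f₂.op).hom (comp (Kc U) F.obj c σ₂) := by
  subst h
  rw [Subsingleton.elim f₁ f₂]

lemma aug_exact (hcov : iSup U = ⊤) (c : (Cx (Kc U) F.obj).X 0)
    (hc : ((Cx (Kc U) F.obj).d 0 1).hom c = 0) : ∃ s, (aug U F.obj).hom s = c := by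
  have hcompat : TopCat.Presheaf.IsCompatible F.1
      (fun σ : ((Kc U).obj (op ⦋0⦌)).I => ((Kc U).obj (op ⦋0⦌)).obj σ)
      (fun σ => comp (Kc U) F.obj c σ) := by
    intro σ σ'
    let τ : ((Kc U).obj (op ⦋1⦌)).I := (Fin.cons (σ 0) (fun _ => σ' 0) : Fin 2 → ι)
    have hτ : comp (Kc U) F.obj (((Cx (Kc U) F.obj).d 0 1).hom c) τ =
        comp (Kc U) F.obj 0 τ := congrArg (fun d => comp (Kc U) F.obj d τ) hc
    rw [comp_cech_d, comp_zero', Fin.sum_univ_two] at hτ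
    have h1 : ((Kc U).δ (1 : Fin 2)).f τ = σ := by
      funext (w : Fin 1)
      obtain rfl : w = 0 := Fin.fin_one_eq_zero w
      rfl
    have h0 : ((Kc U).δ (0 : Fin 2)).f τ = σ' := by
      funext (w : Fin 1)
      obtain rfl : w = 0 := Fin.fin_one_eq_zero w
      rfl
    have hle : ∀ v : Fin 2, ((Kc U).obj (op ⦋0⦌)).obj σ ⊓ ((Kc U).obj (op ⦋0⦌)).obj σ' ≤
        U ((Fin.cons (σ 0) (fun _ => σ' 0) : Fin 2 → ι) v) := by
      intro v
      refine Fin.cases ?_ ?_ v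
      · exact inf_le_left.trans (Pi.π (U ∘ σ) 0).le
      · intro _
        exact inf_le_right.trans (Pi.π (U ∘ σ') 0).le
    let hT : ((Kc U).obj (op ⦋0⦌)).obj σ ⊓ ((Kc U).obj (op ⦋0⦌)).obj σ' ⟶
        ((Kc U).obj (op ⦋1⦌)).obj τ := Pi.lift (fun v => homOfLE (hle v))
    have e1 : (F.obj.map (((Kc U).δ (0 : Fin 2)).φ τ).op).hom
        (comp (Kc U) F.obj c (((Kc U).δ (0 : Fin 2)).f τ)) =
        (F.obj.map (((Kc U).δ (1 : Fin 2)).φ τ).op).hom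
          (comp (Kc U) F.obj c (((Kc U).δ (1 : Fin 2)).f τ)) := by
      exact two_term _ _ hτ
    have e2 : (F.obj.map hT.op).hom ((F.obj.map (((Kc U).δ (0 : Fin 2)).φ τ).op).hom
        (comp (Kc U) F.obj c (((Kc U).δ (0 : Fin 2)).f τ))) =
        (F.obj.map hT.op).hom ((F.obj.map (((Kc U).δ (1 : Fin 2)).φ τ).op).hom
          (comp (Kc U) F.obj c (((Kc U).δ (1 : Fin 2)).f τ))) :=
      congrArg (fun z => (F.obj.map hT.op).hom z) e1
    have e3 : (F.obj.map hT.op).hom ((F.obj.map (((Kc U).δ (1 : Fin 2)).φ τ).op).hom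
        (comp (Kc U) F.obj c (((Kc U).δ (1 : Fin 2)).f τ))) =
        (F.obj.map (hT ≫ ((Kc U).δ (1 : Fin 2)).φ τ).op).hom
          (comp (Kc U) F.obj c (((Kc U).δ (1 : Fin 2)).f τ)) := by
      rw [op_comp, F.obj.map_comp]
      rfl
    have e4 : (F.obj.map hT.op).hom ((F.obj.map (((Kc U).δ (0 : Fin 2)).φ τ).op).hom
        (comp (Kc U) F.obj c (((Kc U).δ (0 : Fin 2)).f τ))) =
        (F.obj.map (hT ≫ ((Kc U).δ (0 : Fin 2)).φ τ).op).hom
          (comp (Kc U) F.obj c (((Kc U).δ (0 : Fin 2)).f τ)) := by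
      rw [op_comp, F.obj.map_comp]
      rfl
    rw [e3, e4] at e2
    have e2' := e2
    have e5 := thin U F c _ _ h1 (hT ≫ ((Kc U).δ (1 : Fin 2)).φ τ)
      (Opens.infLELeft (((Kc U).obj (op ⦋0⦌)).obj σ) (((Kc U).obj (op ⦋0⦌)).obj σ'))
    have e6 := thin U F c _ _ h0 (hT ≫ ((Kc U).δ (0 : Fin 2)).φ τ)
      (Opens.infLERight (((Kc U).obj (op ⦋0⦌)).obj σ) (((Kc U).obj (op ⦋0⦌)).obj σ'))
    exact e5.symm.trans (e2.symm.trans e6)
  obtain ⟨s, hs, -⟩ := TopCat.Sheaf.existsUnique_gluing' F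
    (fun σ : ((Kc U).obj (op ⦋0⦌)).I => ((Kc U).obj (op ⦋0⦌)).obj σ) ⊤
    (fun σ => homOfLE le_top) (cover_zero U hcov) (fun σ => comp (Kc U) F.obj c σ) hcompat
  refine ⟨s, ?_⟩
  apply cx_ext
  intro σ
  rw [comp_aug]
  exact hs σ

end sheaf

end Groth.Agent.Lib.Helper62.CTAug
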