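import Mathlib
import Groth.Agent.Lib.Helper62.CTAug

/-! # The augmented Cech complex of an injective sheaf is a resolution -/

set_option autoImplicit false
set_option backward.isDefEq.respectTransparency false
set_option backward.isDefEq.respectTransparency.types false

open CategoryTheory CategoryTheory.Limits Opposite Simplicial SimplexCategory TopologicalSpace

universe u

namespace Groth.Agent.Lib.Helper62.CTAugQ

open CechChase HomCech CTCech CTAug

variable {X : TopCat.{u}} {ι : Type u} (U : ι → Opens X)

/-- the augmentation as a map of complexes -/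
noncomputable def augHom (P : (Opens X)ᵒᵖ ⥤ AddCommGrpCat.{u}) :
    (CochainComplex.single₀ AddCommGrpCat.{u}).obj (P.obj (op ⊤)) ⟶ Cx (Kc U) P :=
  (CochainComplex.fromSingle₀Equiv _ _).symm ⟨aug U P, aug_d U P⟩

lemma augHom_f_zero (P : (Opens X)ᵒᵖ ⥤ AddCommGrpCat.{u}) : (augHom U P).f 0 = aug U P :=
  CochainComplex.fromSingle₀Equiv_symm_apply_f_zero _ _

lemma augHom_natural {P P' : (Opens X)ᵒᵖ ⥤ AddCommGrpCat.{u}} (f : P ⟶ P') :
    (CochainComplex.single₀ AddCommGrpCat.{u}).map (f.app (op ⊤)) ≫ augHom U P' =
      augHom U P ≫ Mp (Kc U) f := by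
  apply HomologicalComplex.from_single_hom_ext
  rw [HomologicalComplex.comp_f, HomologicalComplex.comp_f, augHom_f_zero, augHom_f_zero,
    CochainComplex.single₀_map_f_zero]
  exact aug_natural U f

theorem quasiIso_augHom (hcov : iSup U = ⊤)
    (G : Sheaf (Opens.grothendieckTopology X) AddCommGrpCat.{u}) [Injective G] :
    QuasiIso (augHom U G.obj) := by
  refine ⟨fun n => ?_⟩
  cases n with
  | zero =>
    rw [CochainComplex.quasiIsoAt₀_iff, ShortComplex.quasiIso_iff_of_zeros]
    · constructor
      · rw [ShortComplex.ab_exact_iff]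
        intro c hc
        obtain ⟨s, hs⟩ := aug_exact U G hcov c hc
        refine ⟨s, ?_⟩
        refine Eq.trans ?_ hs
        exact congrArg (fun ψ => ψ.hom s) (augHom_f_zero U G.obj)
      · have h : Mono (aug U G.obj) :=
          (AddCommGrpCat.mono_iff_injective _).2 (aug_injective U G hcov)
        have e : ((HomologicalComplex.shortComplexFunctor' AddCommGrpCat.{u} (ComplexShape.up ℕ)
            0 0 1).map (augHom U G.obj)).τ₂ = aug U G.obj := augHom_f_zero U G.obj
        rw [e]
        exact h
    · rfl
    · rfl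
    · change (Cx (Kc U) G.obj).d 0 0 = 0
      exact (Cx (Kc U) G.obj).shape 0 0 (by simp)
  | succ n =>
    rw [quasiIsoAt_iff_exactAt]
    · rw [HomologicalComplex.exactAt_iff_isZero_homology]
      exact (exactAt_iff (Kc U) G.obj n).2 (exactAt_injective U hcov G n)
    · exact CochainComplex.exactAt_succ_single_obj _ _

end Groth.Agent.Lib.Helper62.CTAugQ
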