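import Mathlib

/-! # Elementwise criterion for quasi-isomorphisms of cochain complexes of abelian groups -/

set_option autoImplicit false

open CategoryTheory CategoryTheory.Limits

universe u

namespace Groth.Agent.Lib.Helper62.CTElem

variable (M : CochainComplex AddCommGrpCat.{u} ℤ)

lemma exists_cycle (j k : ℤ) (hjk : j + 1 = k) (s : M.X j) (hs : (M.d j k).hom s = 0) :
    ∃ y : M.cycles j, (M.iCycles j).hom y = s := by
  have hex : (ShortComplex.mk (M.iCycles j) (M.d j k) (M.iCycles_d j k)).Exact :=
    ShortComplex.exact_of_f_is_kernel _ (M.cyclesIsKernel j k (by simp [hjk]))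
  rw [ShortComplex.ab_exact_iff] at hex
  exact hex s hs

lemma iCycles_cocycle (j k : ℤ) (y : M.cycles j) :
    (M.d j k).hom ((M.iCycles j).hom y) = 0 := by
  have h := congrArg (fun φ => φ.hom y) (M.iCycles_d j k)
  exact h

lemma iCycles_injective (j : ℤ) : Function.Injective (M.iCycles j).hom :=
  (AddCommGrpCat.mono_iff_injective _).1 inferInstance

lemma homologyπ_surjective (j : ℤ) : Function.Surjective (M.homologyπ j).hom :=
  (AddCommGrpCat.epi_iff_surjective _).1 inferInstance

lemma homologyπ_eq_zero_iff (i j : ℤ) (hij : i + 1 = j) (y : M.cycles j) :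
    (M.homologyπ j).hom y = 0 ↔ ∃ t : M.X i, (M.d i j).hom t = (M.iCycles j).hom y := by
  constructor
  · intro h
    have hex : (ShortComplex.mk (M.toCycles i j) (M.homologyπ j)
        (M.toCycles_comp_homologyπ i j)).Exact :=
      ShortComplex.exact_of_g_is_cokernel _ (M.homologyIsCokernel i j (by simp; omega))
    rw [ShortComplex.ab_exact_iff] at hex
    obtain ⟨t, ht⟩ := hex y h
    refine ⟨t, ?_⟩
    have h1 := congrArg (fun φ => φ.hom t) (M.toCycles_i i j)
    have ht' : (M.toCycles i j).hom t = y := ht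
    rw [← ht']
    exact h1.symm
  · rintro ⟨t, ht⟩
    have h1 := congrArg (fun φ => φ.hom t) (M.toCycles_i i j)
    have h2 : (M.toCycles i j).hom t = y := by
      apply iCycles_injective
      exact h1.trans ht
    rw [← h2]
    have h3 := congrArg (fun φ => φ.hom t) (M.toCycles_comp_homologyπ i j)
    exact h3

variable {M} {N : CochainComplex AddCommGrpCat.{u} ℤ} (f : M ⟶ N)

lemma iCycles_cyclesMap (j : ℤ) (z : M.cycles j) :
    (N.iCycles j).hom ((HomologicalComplex.cyclesMap f j).hom z) =
      (f.f j).hom ((M.iCycles j).hom z) := by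
  have h := congrArg (fun φ => φ.hom z) (HomologicalComplex.cyclesMap_i f j)
  exact h

lemma homologyMap_π (j : ℤ) (z : M.cycles j) :
    (HomologicalComplex.homologyMap f j).hom ((M.homologyπ j).hom z) =
      (N.homologyπ j).hom ((HomologicalComplex.cyclesMap f j).hom z) := by
  have h := congrArg (fun φ => φ.hom z) (HomologicalComplex.homologyπ_naturality f j)
  exact h

theorem quasiIso_of_elementwise
    (hs : ∀ (i j k : ℤ) (_ : i + 1 = j) (_ : j + 1 = k) (y : N.X j), (N.d j k).hom y = 0 →
      ∃ (x : M.X j) (t : N.X i), (M.d j k).hom x = 0 ∧ (f.f j).hom x = y + (N.d i j).hom t)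
    (hi : ∀ (i j k : ℤ) (_ : i + 1 = j) (_ : j + 1 = k) (x : M.X j) (t : N.X i),
      (M.d j k).hom x = 0 → (f.f j).hom x = (N.d i j).hom t → ∃ s : M.X i, (M.d i j).hom s = x) :
    QuasiIso f := by
  rw [quasiIso_iff]
  intro j
  rw [quasiIsoAt_iff_isIso_homologyMap]
  apply (ConcreteCategory.isIso_iff_bijective _).2
  constructor
  · change Function.Injective (HomologicalComplex.homologyMap f j).hom
    rw [injective_iff_map_eq_zero]
    intro a ha
    obtain ⟨z, rfl⟩ := homologyπ_surjective M j a
    rw [homologyMap_π] at ha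
    obtain ⟨t, ht⟩ := (homologyπ_eq_zero_iff N (j - 1) j (by omega) _).1 ha
    rw [iCycles_cyclesMap] at ht
    obtain ⟨s, hs'⟩ := hi (j - 1) j (j + 1) (by omega) rfl ((M.iCycles j).hom z) t
      (iCycles_cocycle M j (j + 1) z) ht.symm
    exact (homologyπ_eq_zero_iff M (j - 1) j (by omega) z).2 ⟨s, hs'⟩
  · change Function.Surjective (HomologicalComplex.homologyMap f j).hom
    intro b
    obtain ⟨w, rfl⟩ := homologyπ_surjective N j b
    obtain ⟨x, t, hx, hxt⟩ := hs (j - 1) j (j + 1) (by omega) rfl ((N.iCycles j).hom w)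
      (iCycles_cocycle N j (j + 1) w)
    obtain ⟨z, hz⟩ := exists_cycle M j (j + 1) rfl x hx
    refine ⟨(M.homologyπ j).hom z, ?_⟩
    rw [homologyMap_π]
    have h0 : (N.homologyπ j).hom ((HomologicalComplex.cyclesMap f j).hom z - w) = 0 := by
      apply (homologyπ_eq_zero_iff N (j - 1) j (by omega) _).2
      refine ⟨t, ?_⟩
      rw [map_sub, iCycles_cyclesMap, hz, hxt]
      abel
    rw [map_sub, sub_eq_zero] at h0
    exact h0

end Groth.Agent.Lib.Helper62.CTElem
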