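import Mathlib
import Groth.Prelude.Def_Hyper
import Groth.Agent.Lib.Helper62.CechChase
import Groth.Agent.Lib.Helper53.SitePush

/-! # The Cech complex functor of a simplicial formal coproduct is exact, and its derived functors
on sheaves -/

set_option autoImplicit false
set_option backward.isDefEq.respectTransparency false
set_option backward.isDefEq.respectTransparency.types false

open CategoryTheory CategoryTheory.Limits Opposite Simplicial SimplexCategory

universe u

namespace Groth.Agent.Lib.Helper62.CechFunctorExact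

open CechE HomCech CechChase

variable {C : Type u} [SmallCategory C] (K : SimplicialObject (FormalCoproduct.{u} C))

/-- the Cech complex functor -/
noncomputable abbrev Ψ : (Cᵒᵖ ⥤ AddCommGrpCat.{u}) ⥤ CochainComplex AddCommGrpCat.{u} ℕ :=
  FormalCoproduct.cochainComplexFunctor K

lemma comp_add {P : Cᵒᵖ ⥤ AddCommGrpCat.{u}} {n : ℕ} (x y : (Cx K P).X n)
    (i : (K.obj (op ⦋n⦌)).I) : comp K P (x + y) i = comp K P x i + comp K P y i := by
  unfold comp
  rw [map_add]

instance : (Ψ K).Additive where
  map_add {P P'} f g := by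
    apply HomologicalComplex.hom_ext
    intro n
    apply AddCommGrpCat.hom_ext
    ext c
    apply cx_ext
    intro i
    have h1 := comp_Mp (K := K) (f + g) n c i
    refine h1.trans ?_
    change _ = comp K P' (((Mp K f).f n).hom c + ((Mp K g).f n).hom c) i
    rw [comp_add, comp_Mp, comp_Mp]
    rfl

lemma sectionwise {S : ShortComplex (Cᵒᵖ ⥤ AddCommGrpCat.{u})} (hS : S.ShortExact) (T : C) :
    Function.Injective (S.f.app (op T)).hom ∧ Function.Surjective (S.g.app (op T)).hom ∧
      ∀ x : S.X₂.obj (op T), (S.g.app (op T)).hom x = 0 →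
        ∃ y, (S.f.app (op T)).hom y = x := by
  have h := hS.map_of_exact ((evaluation Cᵒᵖ AddCommGrpCat.{u}).obj (op T))
  refine ⟨?_, ?_, ?_⟩
  · have := h.mono_f
    exact (AddCommGrpCat.mono_iff_injective (S.f.app (op T))).1 this
  · have := h.epi_g
    exact (AddCommGrpCat.epi_iff_surjective (S.g.app (op T))).1 this
  · have := h.exact
    rw [ShortComplex.ab_exact_iff] at this
    exact this

lemma map_shortExact {S : ShortComplex (Cᵒᵖ ⥤ AddCommGrpCat.{u})} (hS : S.ShortExact) :
    (S.map (Ψ K)).ShortExact := by
  apply HomologicalComplex.shortExact_of_degreewise_shortExact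
  intro n
  have hs := sectionwise hS
  exact
    { exact := by
        rw [ShortComplex.ab_exact_iff]
        intro x hx
        exact Mp_exact S.f S.g (fun T => (hs T).2.2) n x hx
      mono_f := by
        refine (AddCommGrpCat.mono_iff_injective _).2 ?_
        exact Mp_injective S.f (fun T => (hs T).1) n
      epi_g := by
        refine (AddCommGrpCat.epi_iff_surjective _).2 ?_
        exact Mp_surjective S.g (fun T => (hs T).2.1) n }

instance : PreservesFiniteLimits (Ψ K) := by
  rw [Functor.preservesFiniteLimits_iff_forall_exact_map_and_mono]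
  intro S hS
  exact ⟨(map_shortExact K hS).exact, (map_shortExact K hS).mono_f⟩

instance : PreservesFiniteColimits (Ψ K) := by
  rw [Functor.preservesFiniteColimits_iff_forall_exact_map_and_epi]
  intro S hS
  exact ⟨(map_shortExact K hS).exact, (map_shortExact K hS).epi_g⟩

variable (J : GrothendieckTopology C)

/-- the Cech complex functor on abelian sheaves -/
noncomputable abbrev T : Sheaf J AddCommGrpCat.{u} ⥤ CochainComplex AddCommGrpCat.{u} ℕ :=
  sheafToPresheaf J AddCommGrpCat.{u} ⋙ Ψ K

open Groth.Agent.Lib.Helper53.SiteCoh in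
/-- `R^q T (M)` is the Cech complex of the presheaf `U ↦ H^q(U, M)` -/
theorem nonempty_rightDerived_T_iso (M : Sheaf J AddCommGrpCat.{u}) (q : ℕ) :
    Nonempty (((T K J).rightDerived q).obj M ≅ (Ψ K).obj (Sheaf.cohomologyPresheaf.{u} M q)) := by
  let I := injectiveResolution M
  let ι := sheafToPresheaf J AddCommGrpCat.{u}
  let e1 : ((T K J).rightDerived q).obj M ≅
      (((T K J).mapHomologicalComplex _).obj I.cocomplex).homology q := I.isoRightDerivedObj (T K J) q
  let e2' : ((T K J).mapHomologicalComplex _).obj I.cocomplex ≅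
      ((Ψ K).mapHomologicalComplex _).obj ((ι.mapHomologicalComplex _).obj I.cocomplex) :=
    HomologicalComplex.Hom.isoOfComponents (fun n => Iso.refl _) (fun i j _ => by
      simp only [Iso.refl_hom, Category.comp_id, Category.id_comp]
      rfl)
  let e3 := mapHomologyIsoOfExact (Ψ K) ((ι.mapHomologicalComplex _).obj I.cocomplex) q
  let e4 : ((ι.mapHomologicalComplex _).obj I.cocomplex).homology q ≅ (ι.rightDerived q).obj M :=
    (I.isoRightDerivedObj ι q).symm
  obtain ⟨e5⟩ := nonempty_rightDerived_sheafToPresheaf_iso J M q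
  exact ⟨e1 ≪≫ (HomologicalComplex.homologyFunctor _ _ q).mapIso e2' ≪≫ e3 ≪≫
    (Ψ K).mapIso (e4 ≪≫ e5)⟩

end Groth.Agent.Lib.Helper62.CechFunctorExact
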