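import Mathlib
import Groth.Agent.Lib.Helper62.CechFunctorExact
import Groth.Agent.Lib.Helper62.CTElem

/-! # Rows of the Cech double complex: a map of complexes of sheaves which is a quasi-isomorphism
on sections over every member of `K_p` induces a quasi-isomorphism on Cech `p`-cochains -/

set_option autoImplicit false
set_option backward.isDefEq.respectTransparency false
set_option backward.isDefEq.respectTransparency.types false

open CategoryTheory CategoryTheory.Limits Opposite Simplicial SimplexCategory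

universe u

namespace Groth.Agent.Lib.Helper62.CTRow

open CechE HomCech CechChase CechFunctorExact

variable {C : Type u} [SmallCategory C] (J : GrothendieckTopology C)
  (Kc : SimplicialObject (FormalCoproduct.{u} C))

/-- `p`-cochains of the Cech complex, as a functor on sheaves -/
noncomputable abbrev Fp (p : ℕ) : Sheaf J AddCommGrpCat.{u} ⥤ AddCommGrpCat.{u} :=
  sheafToPresheaf J AddCommGrpCat.{u} ⋙ Ψ Kc ⋙ HomologicalComplex.eval _ _ p

instance (p : ℕ) : (Fp J Kc p).Additive := by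
  dsimp only [Fp]
  infer_instance

/-- the complex of Cech `p`-cochains of a complex of sheaves -/
noncomputable abbrev R (p : ℕ) :
    CochainComplex (Sheaf J AddCommGrpCat.{u}) ℤ ⥤ CochainComplex AddCommGrpCat.{u} ℤ :=
  (Fp J Kc p).mapHomologicalComplex (ComplexShape.up ℤ)

variable {J Kc}

theorem quasiIso_R {K L : CochainComplex (Sheaf J AddCommGrpCat.{u}) ℤ} (φ : K ⟶ L) (p : ℕ)
    (H : ∀ σ : (Kc.obj (op ⦋p⦌)).I,
      (∀ (i j k : ℤ) (_ : i + 1 = j) (_ : j + 1 = k)
        (y : (L.X j).obj.obj (op ((Kc.obj (op ⦋p⦌)).obj σ))),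
        ((L.d j k).hom.app (op ((Kc.obj (op ⦋p⦌)).obj σ))).hom y = 0 →
        ∃ (x : (K.X j).obj.obj (op ((Kc.obj (op ⦋p⦌)).obj σ)))
          (t : (L.X i).obj.obj (op ((Kc.obj (op ⦋p⦌)).obj σ))),
          ((K.d j k).hom.app (op ((Kc.obj (op ⦋p⦌)).obj σ))).hom x = 0 ∧
          ((φ.f j).hom.app (op ((Kc.obj (op ⦋p⦌)).obj σ))).hom x =
            y + ((L.d i j).hom.app (op ((Kc.obj (op ⦋p⦌)).obj σ))).hom t) ∧
      (∀ (i j k : ℤ) (_ : i + 1 = j) (_ : j + 1 = k)
        (x : (K.X j).obj.obj (op ((Kc.obj (op ⦋p⦌)).obj σ)))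
        (t : (L.X i).obj.obj (op ((Kc.obj (op ⦋p⦌)).obj σ))),
        ((K.d j k).hom.app (op ((Kc.obj (op ⦋p⦌)).obj σ))).hom x = 0 →
        ((φ.f j).hom.app (op ((Kc.obj (op ⦋p⦌)).obj σ))).hom x =
          ((L.d i j).hom.app (op ((Kc.obj (op ⦋p⦌)).obj σ))).hom t →
        ∃ s : (K.X i).obj.obj (op ((Kc.obj (op ⦋p⦌)).obj σ)),
          ((K.d i j).hom.app (op ((Kc.obj (op ⦋p⦌)).obj σ))).hom s = x)) :
    QuasiIso ((R J Kc p).map φ) := by
  apply CTElem.quasiIso_of_elementwise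
  · intro i j k hij hjk y hy
    change (Cx Kc (L.X j).obj).X p at y
    have hy' : ((Mp Kc (L.d j k).hom).f p).hom y = 0 := hy
    have hyσ : ∀ σ, ((L.d j k).hom.app (op ((Kc.obj (op ⦋p⦌)).obj σ))).hom
        (comp Kc (L.X j).obj y σ) = 0 := by
      intro σ
      rw [← comp_Mp, hy', comp_zero']
    choose x t hx hxt using fun σ => (H σ).1 i j k hij hjk (comp Kc (L.X j).obj y σ) (hyσ σ)
    refine ⟨(mkc x : (Cx Kc (K.X j).obj).X p), (mkc t : (Cx Kc (L.X i).obj).X p), ?_, ?_⟩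
    · change ((Mp Kc (K.d j k).hom).f p).hom (mkc x) = 0
      apply cx_ext
      intro σ
      rw [comp_Mp, comp_mkc, hx, comp_zero']
    · change ((Mp Kc (φ.f j).hom).f p).hom (mkc x) = y + ((Mp Kc (L.d i j).hom).f p).hom (mkc t)
      apply cx_ext
      intro σ
      rw [comp_Mp, comp_mkc, hxt, comp_add, comp_Mp, comp_mkc]
  · intro i j k hij hjk x t hx hxt
    change (Cx Kc (K.X j).obj).X p at x
    change (Cx Kc (L.X i).obj).X p at t
    have hx' : ((Mp Kc (K.d j k).hom).f p).hom x = 0 := hx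
    have hxt' : ((Mp Kc (φ.f j).hom).f p).hom x = ((Mp Kc (L.d i j).hom).f p).hom t := hxt
    have h1 : ∀ σ, ((K.d j k).hom.app (op ((Kc.obj (op ⦋p⦌)).obj σ))).hom
        (comp Kc (K.X j).obj x σ) = 0 := by
      intro σ
      rw [← comp_Mp, hx', comp_zero']
    have h2 : ∀ σ, ((φ.f j).hom.app (op ((Kc.obj (op ⦋p⦌)).obj σ))).hom
        (comp Kc (K.X j).obj x σ) = ((L.d i j).hom.app (op ((Kc.obj (op ⦋p⦌)).obj σ))).hom
          (comp Kc (L.X i).obj t σ) := by
      intro σ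
      rw [← comp_Mp, ← comp_Mp, hxt']
    choose s hs using fun σ => (H σ).2 i j k hij hjk (comp Kc (K.X j).obj x σ)
      (comp Kc (L.X i).obj t σ) (h1 σ) (h2 σ)
    refine ⟨(mkc s : (Cx Kc (K.X i).obj).X p), ?_⟩
    change ((Mp Kc (K.d i j).hom).f p).hom (mkc s) = x
    apply cx_ext
    intro σ
    rw [comp_Mp, comp_mkc, hs]

end Groth.Agent.Lib.Helper62.CTRow
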