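import Mathlib
import Groth.Prelude.Def_CechTot
import Groth.Agent.Lib.Helper62.CTAugQ
import Groth.Agent.Lib.Helper62.CTRow
import Groth.Agent.Lib.Helper84.TotG

/-! # The Cech double complex of a complex of sheaves on a space: rows -/

set_option autoImplicit false
set_option backward.isDefEq.respectTransparency false
set_option backward.isDefEq.respectTransparency.types false

open CategoryTheory CategoryTheory.Limits Opposite Simplicial SimplexCategory TopologicalSpace

universe u

namespace Groth.Agent.Lib.Helper62.CTDouble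

open CechChase HomCech CTCech CTAug CTAugQ CTRow CechTot Groth.Agent.Lib.Helper84.Tot

variable {X : TopCat.{u}} {ι : Type u} (U : ι → Opens X)

/-- the Cech double complex -/
noncomputable abbrev D (L : CochainComplex (CohTop.Ab X) ℤ) :
    HomologicalComplex₂ AddCommGrpCat.{u} (ComplexShape.up ℤ) (ComplexShape.up ℤ) :=
  cech₂ U ((presheafCx X).obj L)

/-- functoriality of the Cech double complex -/
noncomputable abbrev Dmap {K L : CochainComplex (CohTop.Ab X) ℤ} (φ : K ⟶ L) : D U K ⟶ D U L :=
  ((cechComplexFunctor (A := AddCommGrpCat.{u}) U ⋙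
      ComplexShape.embeddingUpNat.extendFunctor AddCommGrpCat.{u}).mapHomologicalComplex
        (ComplexShape.up ℤ)).map ((presheafCx X).map φ)

/-- the row of Cech degree `p` -/
noncomputable def rowIso (L : CochainComplex (CohTop.Ab X) ℤ) (p : ℕ) (q : ℤ)
    (hq : ComplexShape.embeddingUpNat.f p = q) :
    row (D U L) q ≅ (R (Opens.grothendieckTopology X) (Kc U) p).obj L :=
  HomologicalComplex.Hom.isoOfComponents
    (fun i => HomologicalComplex.extendXIso (Cx (Kc U) (L.X i).obj) ComplexShape.embeddingUpNat hq)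
    (by
      intro i j _
      change (HomologicalComplex.extendXIso (Cx (Kc U) (L.X i).obj) ComplexShape.embeddingUpNat
        hq).hom ≫ (Mp (Kc U) (L.d i j).hom).f p =
        (HomologicalComplex.extendMap (Mp (Kc U) (L.d i j).hom) ComplexShape.embeddingUpNat).f q ≫
        (HomologicalComplex.extendXIso (Cx (Kc U) (L.X j).obj) ComplexShape.embeddingUpNat
        hq).hom
      rw [HomologicalComplex.extendMap_f _ _ hq]
      simp)

lemma rowIso_natural {K L : CochainComplex (CohTop.Ab X) ℤ} (φ : K ⟶ L) (p : ℕ) (q : ℤ)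
    (hq : ComplexShape.embeddingUpNat.f p = q) :
    rowMap (D U K) (D U L) (Dmap U φ) q ≫ (rowIso U L p q hq).hom =
      (rowIso U K p q hq).hom ≫ (R (Opens.grothendieckTopology X) (Kc U) p).map φ := by
  apply HomologicalComplex.hom_ext
  intro i
  change (HomologicalComplex.extendMap (Mp (Kc U) (φ.f i).hom) ComplexShape.embeddingUpNat).f q ≫
      (HomologicalComplex.extendXIso (Cx (Kc U) (L.X i).obj) ComplexShape.embeddingUpNat
        hq).hom =
    (HomologicalComplex.extendXIso (Cx (Kc U) (K.X i).obj) ComplexShape.embeddingUpNat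
        hq).hom ≫ (Mp (Kc U) (φ.f i).hom).f p
  rw [HomologicalComplex.extendMap_f _ _ hq]
  simp

lemma isZero_D_neg (L : CochainComplex (CohTop.Ab X) ℤ) (i q : ℤ) (hq : q < 0) :
    IsZero (((D U L).X i).X q) := by
  apply HomologicalComplex.isZero_extend_X
  intro p hp
  have : (p : ℤ) = q := hp
  omega

lemma isZero_D_of_isZero (L : CochainComplex (CohTop.Ab X) ℤ) (i q : ℤ) (hi : IsZero (L.X i)) :
    IsZero (((D U L).X i).X q) := by
  have h1 : IsZero (((presheafCx X).obj L).X i) :=
    (sheafToPresheaf (Opens.grothendieckTopology X) AddCommGrpCat.{u}).map_isZero hi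
  have h2 := (cechComplexFunctor (A := AddCommGrpCat.{u}) U ⋙
      ComplexShape.embeddingUpNat.extendFunctor AddCommGrpCat.{u}).map_isZero h1
  exact (HomologicalComplex.eval _ _ q).map_isZero h2

lemma bdd_D (L : CochainComplex (CohTop.Ab X) ℤ) (a : ℤ) (ha : ∀ i, i < a → IsZero (L.X i)) :
    Bdd (D U L) a 0 := by
  rintro p q (h | h)
  · exact isZero_D_of_isZero U L p q (ha p h)
  · exact isZero_D_neg U L p q h

theorem rowQis_Dmap {K L : CochainComplex (CohTop.Ab X) ℤ} (φ : K ⟶ L)
    (H : ∀ p : ℕ, QuasiIso ((R (Opens.grothendieckTopology X) (Kc U) p).map φ)) :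
    RowQis (D U K) (D U L) (Dmap U φ) := by
  intro q
  by_cases hq : 0 ≤ q
  · obtain ⟨p, rfl⟩ := Int.eq_ofNat_of_zero_le hq
    have e : rowMap (D U K) (D U L) (Dmap U φ) (p : ℤ) =
        (rowIso U K p p rfl).hom ≫ (R (Opens.grothendieckTopology X) (Kc U) p).map φ ≫
          (rowIso U L p p rfl).inv := by
      rw [← Category.assoc, ← rowIso_natural, Category.assoc, Iso.hom_inv_id, Category.comp_id]
    rw [e]
    haveI := H p
    infer_instance
  · apply quasiIso_of_isZero
    · intro n
      exact isZero_D_neg U K n q (by omega)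
    · intro n
      exact isZero_D_neg U L n q (by omega)

theorem quasiIso_total_of_rowQis
    (K L : HomologicalComplex₂ AddCommGrpCat.{u} (ComplexShape.up ℤ) (ComplexShape.up ℤ))
    (φ : K ⟶ L) (a b : ℤ) (hK : Bdd K a b) (hL : Bdd L a b) (h : RowQis K L φ) :
    QuasiIso (HomologicalComplex₂.total.map φ (ComplexShape.up ℤ)) := by
  rw [quasiIso_iff]
  intro n
  rw [quasiIsoAt_iff_isIso_homologyMap]
  have hm : n + 1 < a + b + ((n + 2 - a - b).toNat : ℤ) := by
    have := Int.self_le_toNat (n + 2 - a - b)
    omega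
  exact (main a (n + 2 - a - b).toNat b K L φ hK hL h).2 n hm

end Groth.Agent.Lib.Helper62.CTDouble
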