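import Mathlib
import Groth.Agent.Lib.Helper62.CTDouble

/-! # The Cech double complex of a complex of sheaves on a space: the augmentation -/

set_option autoImplicit false
set_option backward.isDefEq.respectTransparency false
set_option backward.isDefEq.respectTransparency.types false

open CategoryTheory CategoryTheory.Limits Opposite Simplicial SimplexCategory TopologicalSpace

universe u

namespace Groth.Agent.Lib.Helper62.CTDouble

open CechChase HomCech CTCech CTAug CTAugQ CTRow CechTot Groth.Agent.Lib.Helper84.Tot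

variable {X : TopCat.{u}} {ι : Type u} (U : ι → Opens X)

/-- global sections, in Cech degree zero -/
noncomputable abbrev G' :
    ((Opens X)ᵒᵖ ⥤ AddCommGrpCat.{u}) ⥤ CochainComplex AddCommGrpCat.{u} ℤ :=
  (evaluation (Opens X)ᵒᵖ AddCommGrpCat.{u}).obj (op ⊤) ⋙
    CochainComplex.single₀ AddCommGrpCat.{u} ⋙
      ComplexShape.embeddingUpNat.extendFunctor AddCommGrpCat.{u}

/-- the double complex of global sections in Cech degree zero -/
noncomputable abbrev D' (L : CochainComplex (CohTop.Ab X) ℤ) :
    HomologicalComplex₂ AddCommGrpCat.{u} (ComplexShape.up ℤ) (ComplexShape.up ℤ) :=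
  ((G' (X := X)).mapHomologicalComplex (ComplexShape.up ℤ)).obj ((presheafCx X).obj L)

/-- the augmentation of double complexes -/
noncomputable def Dε (L : CochainComplex (CohTop.Ab X) ℤ) : D' L ⟶ D U L where
  f i := (ComplexShape.embeddingUpNat.extendFunctor AddCommGrpCat.{u}).map
    (augHom U (L.X i).obj)
  comm' i j _ := by
    change (ComplexShape.embeddingUpNat.extendFunctor AddCommGrpCat.{u}).map (augHom U (L.X i).obj) ≫
      (ComplexShape.embeddingUpNat.extendFunctor AddCommGrpCat.{u}).map
        (Mp (Kc U) (L.d i j).hom) =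
      (ComplexShape.embeddingUpNat.extendFunctor AddCommGrpCat.{u}).map
        ((CochainComplex.single₀ AddCommGrpCat.{u}).map ((L.d i j).hom.app (op ⊤))) ≫
      (ComplexShape.embeddingUpNat.extendFunctor AddCommGrpCat.{u}).map (augHom U (L.X j).obj)
    rw [← Functor.map_comp, ← Functor.map_comp, augHom_natural]

lemma isZero_D'_ne (L : CochainComplex (CohTop.Ab X) ℤ) (i q : ℤ) (hq : q ≠ 0) :
    IsZero (((D' L).X i).X q) := by
  by_cases h : 0 ≤ q
  · obtain ⟨p, rfl⟩ := Int.eq_ofNat_of_zero_le h
    have hp : p ≠ 0 := by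
      rintro rfl
      exact hq rfl
    refine IsZero.of_iso ?_ (HomologicalComplex.extendXIso _ ComplexShape.embeddingUpNat
      (rfl : ComplexShape.embeddingUpNat.f p = (p : ℤ)))
    exact HomologicalComplex.isZero_single_obj_X _ _ _ _ hp
  · apply HomologicalComplex.isZero_extend_X
    intro p hp
    have : (p : ℤ) = q := hp
    omega

lemma isZero_D'_of_isZero (L : CochainComplex (CohTop.Ab X) ℤ) (i q : ℤ) (hi : IsZero (L.X i)) :
    IsZero (((D' L).X i).X q) := by
  have h1 : IsZero (((presheafCx X).obj L).X i) :=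
    (sheafToPresheaf (Opens.grothendieckTopology X) AddCommGrpCat.{u}).map_isZero hi
  have h2 := (G' (X := X)).map_isZero h1
  exact (HomologicalComplex.eval _ _ q).map_isZero h2

theorem quasiIso_Dε_f (hcov : iSup U = ⊤) (L : CochainComplex (CohTop.Ab X) ℤ)
    (hL : ∀ i, Injective (L.X i)) (i : ℤ) : QuasiIso ((Dε U L).f i) := by
  haveI := hL i
  haveI := quasiIso_augHom U hcov (L.X i)
  change QuasiIso (HomologicalComplex.extendMap (augHom U (L.X i).obj)
    ComplexShape.embeddingUpNat)
  infer_instance

/-- the flipped augmentation -/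
noncomputable abbrev Dεflip (L : CochainComplex (CohTop.Ab X) ℤ) : (D' L).flip ⟶ (D U L).flip :=
  (HomologicalComplex₂.flipFunctor _ _ _).map (Dε U L)

theorem rowQis_Dεflip (hcov : iSup U = ⊤) (L : CochainComplex (CohTop.Ab X) ℤ)
    (hL : ∀ i, Injective (L.X i)) : RowQis (D' L).flip (D U L).flip (Dεflip U L) := by
  intro i
  exact quasiIso_Dε_f U hcov L hL i

theorem quasiIso_total_Dεflip (hcov : iSup U = ⊤) (L : CochainComplex (CohTop.Ab X) ℤ)
    (hL : ∀ i, Injective (L.X i)) (a : ℤ) (ha : ∀ i, i < a → IsZero (L.X i)) :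
    QuasiIso (HomologicalComplex₂.total.map (Dεflip U L) (ComplexShape.up ℤ)) := by
  refine quasiIso_total_of_rowQis _ _ _ 0 a ?_ ?_ (rowQis_Dεflip U hcov L hL)
  · rintro p q (h | h)
    · exact isZero_D'_ne L q p (by omega)
    · exact isZero_D'_of_isZero L q p (ha q h)
  · rintro p q (h | h)
    · exact isZero_D_neg U L q p h
    · exact isZero_D_of_isZero U L q p (ha q h)

end Groth.Agent.Lib.Helper62.CTDouble
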