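import Mathlib
import Groth.Agent.Lib.Helper62.CTDouble2

/-! # The Cech double complex of a complex of sheaves on a space: total complexes -/

set_option autoImplicit false
set_option backward.isDefEq.respectTransparency false
set_option backward.isDefEq.respectTransparency.types false

open CategoryTheory CategoryTheory.Limits Opposite Simplicial SimplexCategory TopologicalSpace

universe u

namespace Groth.Agent.Lib.Helper62.CTDouble

open CechChase HomCech CTCech CTAug CTAugQ CTRow CechTot Groth.Agent.Lib.Helper84.Tot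

variable {X : TopCat.{u}} {ι : Type u} (U : ι → Opens X)

lemma rowBdd_D' (L : CochainComplex (CohTop.Ab X) ℤ) : RowBdd 0 (D' L) :=
  fun p q h => isZero_D'_ne L p q (by omega)

lemma isZero_gtK_total (L : CochainComplex (CohTop.Ab X) ℤ) (n : ℤ) :
    IsZero (((gtK 0 (D' L)).total up).X n) := by
  apply isZero_total_X
  intro p q _
  change IsZero (gtX 0 ((D' L).X p) q)
  by_cases hq : 0 < q
  · exact isZero_gtX' 0 _ q (isZero_D'_ne L p q (by omega))
  · exact isZero_gtX 0 _ q hq

lemma isIso_πf (L : CochainComplex (CohTop.Ab X) ℤ) (n : ℤ) : IsIso (πf 0 (D' L) n) := by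
  refine ⟨⟨(D' L).ιTotal up (n - 0) 0 n (by change n - 0 + 0 = n; omega), ?_,
    s_πf 0 (D' L) n⟩⟩
  have h := rf_ιf_add 0 (D' L) (rowBdd_D' L) n
  have hz : rf 0 (D' L) n = 0 := (isZero_gtK_total L n).eq_of_tgt _ _
  rw [hz, zero_comp, zero_add] at h
  exact h

instance isIso_πHom (L : CochainComplex (CohTop.Ab X) ℤ) :
    IsIso (πHom 0 (D' L) (rowBdd_D' L)) := by
  haveI : ∀ n, IsIso ((πHom 0 (D' L) (rowBdd_D' L)).f n) := fun n => isIso_πf L n
  exact HomologicalComplex.Hom.isIso_of_components _

/-- reindexing by zero -/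
noncomputable def reindexZeroIso (R : CochainComplex AddCommGrpCat.{u} ℤ) : reindex R 0 ≅ R :=
  HomologicalComplex.Hom.isoOfComponents (fun n => R.XIsoOfEq (sub_zero n)) (by
    intro i j _
    change (R.XIsoOfEq (sub_zero i)).hom ≫ R.d i j =
      R.d (i - 0) (j - 0) ≫ (R.XIsoOfEq (sub_zero j)).hom
    simp)

/-- the row of Cech degree zero of `D'` is the complex of global sections -/
noncomputable def rowZeroIso' (L : CochainComplex (CohTop.Ab X) ℤ) (q : ℤ)
    (hq : ComplexShape.embeddingUpNat.f 0 = q) :
    row (D' L) q ≅ (CohCx.sectCx (Opens.grothendieckTopology X) ⊤).obj L :=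
  HomologicalComplex.Hom.isoOfComponents
    (fun i => HomologicalComplex.extendXIso
      ((CochainComplex.single₀ AddCommGrpCat.{u}).obj ((L.X i).obj.obj (op ⊤)))
      ComplexShape.embeddingUpNat hq ≪≫
      HomologicalComplex.singleObjXSelf (ComplexShape.up ℕ) 0 ((L.X i).obj.obj (op ⊤)))
    (by
      intro i j _
      change ((HomologicalComplex.extendXIso
          ((CochainComplex.single₀ AddCommGrpCat.{u}).obj ((L.X i).obj.obj (op ⊤)))
          ComplexShape.embeddingUpNat hq) ≪≫
          HomologicalComplex.singleObjXSelf (ComplexShape.up ℕ) 0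
            ((L.X i).obj.obj (op ⊤))).hom ≫ (L.d i j).hom.app (op ⊤) =
        (HomologicalComplex.extendMap ((CochainComplex.single₀ AddCommGrpCat.{u}).map
          ((L.d i j).hom.app (op ⊤))) ComplexShape.embeddingUpNat).f q ≫
        ((HomologicalComplex.extendXIso
          ((CochainComplex.single₀ AddCommGrpCat.{u}).obj ((L.X j).obj.obj (op ⊤)))
          ComplexShape.embeddingUpNat hq) ≪≫
          HomologicalComplex.singleObjXSelf (ComplexShape.up ℕ) 0
            ((L.X j).obj.obj (op ⊤))).hom
      rw [HomologicalComplex.extendMap_f _ _ hq, HomologicalComplex.single_map_f_self]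
      simp)

/-- the row of Cech degree zero of `D'` is the complex of global sections -/
noncomputable def rowZeroIso (L : CochainComplex (CohTop.Ab X) ℤ) :
    row (D' L) 0 ≅ (CohCx.sectCx (Opens.grothendieckTopology X) ⊤).obj L :=
  rowZeroIso' L 0 rfl

/-- the total complex of `D'` is the complex of global sections -/
noncomputable def totalD'Iso (L : CochainComplex (CohTop.Ab X) ℤ) :
    (D' L).total up ≅ (CohCx.sectCx (Opens.grothendieckTopology X) ⊤).obj L :=
  asIso (πHom 0 (D' L) (rowBdd_D' L)) ≪≫ reindexZeroIso (row (D' L) 0) ≪≫ rowZeroIso L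

end Groth.Agent.Lib.Helper62.CTDouble
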