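import Mathlib
import Groth.Prelude.Def_CohCx
import Groth.Prelude.Def_FreeSh
import Groth.Agent.Lib.Helper62.CTAcyc

/-! # Sections of a quasi-isomorphism between bounded below complexes of sheaves acyclic on `V` -/

set_option autoImplicit false

open CategoryTheory CategoryTheory.Limits Opposite

universe u

namespace Groth.Agent.Lib.Helper62.CTSec

open Abelian Groth.Agent.Lib.Helper13.ExtAcyc CTAcyc

variable {C : Type u} [SmallCategory C] {J : GrothendieckTopology C}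
  [HasExt.{u} (Sheaf J AddCommGrpCat.{u})]

lemma extZero_of_subsingleton (F : Sheaf J AddCommGrpCat.{u}) (V : C)
    (h : ∀ q : ℕ, Subsingleton (Sheaf.H' F (q + 1) V)) :
    ∀ p, 1 ≤ p → ExtZero (CohCx.freeSheaf J V) F p := by
  intro p hp e
  obtain ⟨q, rfl⟩ : ∃ q, p = q + 1 := ⟨p - 1, by omega⟩
  haveI : Subsingleton (Ext (CohCx.freeSheaf J V) F (q + 1)) := h q
  exact Subsingleton.elim _ _

lemma extZero_of_injective (F : Sheaf J AddCommGrpCat.{u}) [Injective F]
    (P : Sheaf J AddCommGrpCat.{u}) : ∀ p, 1 ≤ p → ExtZero P F p := by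
  intro p hp e
  obtain ⟨q, rfl⟩ : ∃ q, p = q + 1 := ⟨p - 1, by omega⟩
  exact Ext.eq_zero_of_injective e

lemma evalGen_comp {F G : Sheaf J AddCommGrpCat.{u}} {U : C} (ψ : CohCx.freeSheaf J U ⟶ F)
    (φ : F ⟶ G) : CohFree.evalGen J U G (ψ ≫ φ) =
      (φ.hom.app (op U)).hom (CohFree.evalGen J U F ψ) := rfl

lemma ofSect_comp_eq_zero {F G : Sheaf J AddCommGrpCat.{u}} {U : C} (s : F.obj.obj (op U))
    (φ : F ⟶ G) (h : (φ.hom.app (op U)).hom s = 0) : CohFree.ofSect J U F s ≫ φ = 0 := by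
  apply (CohFree.homEquivSect J U G).injective
  rw [CohFree.homEquivSect_apply, evalGen_comp, CohFree.evalGen_ofSect, h, map_zero]

theorem sections_qis {K L : CochainComplex (Sheaf J AddCommGrpCat.{u}) ℤ} (φ : K ⟶ L)
    [QuasiIso φ] (a : ℤ)
    (hKa : ∀ n, n < a → IsZero (K.X n)) (hLa : ∀ n, n < a → IsZero (L.X n)) (V : C)
    (hK : ∀ n p, 1 ≤ p → ExtZero (CohCx.freeSheaf J V) (K.X n) p)
    (hL : ∀ n p, 1 ≤ p → ExtZero (CohCx.freeSheaf J V) (L.X n) p) :
    (∀ (i j k : ℤ) (_ : i + 1 = j) (_ : j + 1 = k) (y : (L.X j).obj.obj (op V)),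
      ((L.d j k).hom.app (op V)).hom y = 0 →
      ∃ (x : (K.X j).obj.obj (op V)) (t : (L.X i).obj.obj (op V)),
        ((K.d j k).hom.app (op V)).hom x = 0 ∧
        ((φ.f j).hom.app (op V)).hom x = y + ((L.d i j).hom.app (op V)).hom t) ∧
    (∀ (i j k : ℤ) (_ : i + 1 = j) (_ : j + 1 = k) (x : (K.X j).obj.obj (op V))
      (t : (L.X i).obj.obj (op V)), ((K.d j k).hom.app (op V)).hom x = 0 →
      ((φ.f j).hom.app (op V)).hom x = ((L.d i j).hom.app (op V)).hom t →
      ∃ s : (K.X i).obj.obj (op V), ((K.d i j).hom.app (op V)).hom s = x) := by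
  obtain ⟨h1, h2⟩ := bcore φ a hKa hLa (CohCx.freeSheaf J V) hK hL
  constructor
  · intro i j k hij hjk y hy
    obtain ⟨x, t, hx, hxt⟩ := h1 i j k hij hjk (CohFree.ofSect J V _ y)
      (ofSect_comp_eq_zero y _ hy)
    refine ⟨CohFree.evalGen J V _ x, CohFree.evalGen J V _ t, ?_, ?_⟩
    · rw [← evalGen_comp, hx, map_zero]
    · rw [← evalGen_comp, ← evalGen_comp, hxt, map_add, CohFree.evalGen_ofSect]
  · intro i j k hij hjk x t hx hxt
    obtain ⟨s, hs⟩ := h2 i j k hij hjk (CohFree.ofSect J V _ x) (CohFree.ofSect J V _ t)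
      (ofSect_comp_eq_zero x _ hx) (by
        apply (CohFree.homEquivSect J V _).injective
        rw [CohFree.homEquivSect_apply, CohFree.homEquivSect_apply, evalGen_comp, evalGen_comp,
          CohFree.evalGen_ofSect, CohFree.evalGen_ofSect, hxt])
    refine ⟨CohFree.evalGen J V _ s, ?_⟩
    rw [← evalGen_comp, hs, CohFree.evalGen_ofSect]

end Groth.Agent.Lib.Helper62.CTSec
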