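import Mathlib
import Groth.Agent.Lib.Helper13.HDUSect
import Groth.Agent.Lib.Helper62.CTElem
import Groth.Agent.Lib.Helper62.CTSec

/-! # Hypercohomology of a K-injective complex of sheaves is the cohomology of its sections -/

set_option autoImplicit false

open CategoryTheory CategoryTheory.Limits Opposite

universe u

namespace Groth.Agent.Lib.Helper62.CTTheta

open Groth.Agent.Lib.Helper13.HDUSect DerivedCategory

variable {C : Type u} [SmallCategory C] {J : GrothendieckTopology C}
  [HasDerivedCategory.{u} (Sheaf J AddCommGrpCat.{u})]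

section

variable (L : CochainComplex (Sheaf J AddCommGrpCat.{u}) ℤ) (n : ℤ) (U : C)

/-- the complex of sections -/
noncomputable abbrev M : CochainComplex AddCommGrpCat.{u} ℤ := (CohCx.sectCx J U).obj L

/-- sections of the cycle sheaf, as cycles of the complex of sections -/
noncomputable abbrev ιZ : (L.cycles n).obj.obj (op U) ⟶ (M L U).X n :=
  (L.iCycles n).hom.app (op U)

lemma ιZ_d : ιZ L n U ≫ (M L U).d n (n + 1) = 0 := by
  change (L.iCycles n).hom.app (op U) ≫ (L.d n (n + 1)).hom.app (op U) = 0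
  have h := congrArg (fun ψ : L.cycles n ⟶ L.X (n + 1) => ψ.hom.app (op U)) (L.iCycles_d n (n + 1))
  exact h

/-- the comparison with the cycles of the complex of sections -/
noncomputable abbrev κ : (L.cycles n).obj.obj (op U) ⟶ (M L U).cycles n :=
  (M L U).liftCycles (ιZ L n U) (n + 1) (by simp) (ιZ_d L n U)

lemma iCycles_κ (z : (L.cycles n).obj.obj (op U)) :
    ((M L U).iCycles n).hom ((κ L n U).hom z) = (ιZ L n U).hom z := by
  have h := (M L U).liftCycles_i (ιZ L n U) (n + 1) (by simp) (ιZ_d L n U)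
  exact congrArg (fun ψ => ψ.hom z) h

lemma ιZ_injective : Function.Injective (ιZ L n U).hom := by
  intro z z' h
  have h1 : CohFree.ofSect J U _ z ≫ L.iCycles n = CohFree.ofSect J U _ z' ≫ L.iCycles n := by
    apply (CohFree.homEquivSect J U _).injective
    rw [CohFree.homEquivSect_apply, CohFree.homEquivSect_apply, CTSec.evalGen_comp,
      CTSec.evalGen_comp, CohFree.evalGen_ofSect, CohFree.evalGen_ofSect]
    exact h
  have h2 := (cancel_mono (L.iCycles n)).1 h1
  have h3 := congrArg (CohFree.evalGen J U _) h2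
  rwa [CohFree.evalGen_ofSect, CohFree.evalGen_ofSect] at h3

lemma exists_of_cocycle (x : (L.X n).obj.obj (op U))
    (hx : ((L.d n (n + 1)).hom.app (op U)).hom x = 0) :
    ∃ z : (L.cycles n).obj.obj (op U), (ιZ L n U).hom z = x := by
  have h0 := CTSec.ofSect_comp_eq_zero x (L.d n (n + 1)) hx
  refine ⟨CohFree.evalGen J U _ (L.liftCycles (CohFree.ofSect J U _ x) (n + 1) (by simp) h0), ?_⟩
  change ((L.iCycles n).hom.app (op U)).hom _ = x
  rw [← CTSec.evalGen_comp, L.liftCycles_i, CohFree.evalGen_ofSect]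

/-- the map to the cohomology of the complex of sections -/
noncomputable def β : (L.cycles n).obj.obj (op U) →+ (M L U).homology n :=
  (κ L n U ≫ (M L U).homologyπ n).hom

lemma β_apply (z : (L.cycles n).obj.obj (op U)) :
    β L n U z = ((M L U).homologyπ n).hom ((κ L n U).hom z) := rfl

lemma β_surjective : Function.Surjective (β L n U) := by
  intro a
  obtain ⟨c, rfl⟩ := CTElem.homologyπ_surjective (M L U) n a
  obtain ⟨z, hz⟩ := exists_of_cocycle L n U (((M L U).iCycles n).hom c)
    (CTElem.iCycles_cocycle (M L U) n (n + 1) c)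
  refine ⟨z, ?_⟩
  rw [β_apply]
  congr 1
  apply CTElem.iCycles_injective
  rw [iCycles_κ, hz]

lemma β_eq_zero_iff (z : (L.cycles n).obj.obj (op U)) :
    β L n U z = 0 ↔ ∃ t : (L.X (n - 1)).obj.obj (op U),
      ((L.toCycles (n - 1) n).hom.app (op U)).hom t = z := by
  rw [β_apply, CTElem.homologyπ_eq_zero_iff (M L U) (n - 1) n (by omega), iCycles_κ]
  have key : ∀ t : (L.X (n - 1)).obj.obj (op U),
      (ιZ L n U).hom (((L.toCycles (n - 1) n).hom.app (op U)).hom t) =
        (((M L U).d (n - 1) n)).hom t := by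
    intro t
    have h := congrArg (fun ψ : L.X (n - 1) ⟶ L.X n => (ψ.hom.app (op U)).hom t)
      (L.toCycles_i (n - 1) n)
    exact h
  constructor
  · rintro ⟨t, ht⟩
    refine ⟨t, ?_⟩
    apply ιZ_injective
    rw [key, ht]
  · rintro ⟨t, rfl⟩
    exact ⟨t, (key t).symm⟩

end

theorem homology_addEquiv (L : CochainComplex (Sheaf J AddCommGrpCat.{u}) ℤ) [L.IsKInjective]
    (n : ℤ) (U : C) :
    Nonempty (((CohCx.sectCx J U).obj L).homology n ≃+ CohCx.HDU (Q.obj L) n U) := by
  have hker : (β L n U).ker = (thetaHom L n U).ker := by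
    ext z
    rw [AddMonoidHom.mem_ker, AddMonoidHom.mem_ker, β_eq_zero_iff, thetaHom_eq_zero_iff]
  exact ⟨(QuotientAddGroup.quotientKerEquivOfSurjective (β L n U) (β_surjective L n U)).symm.trans
    ((QuotientAddGroup.quotientAddEquivOfEq hker).trans
      (QuotientAddGroup.quotientKerEquivOfSurjective (thetaHom L n U)
        (thetaHom_surjective L n U)))⟩

theorem hdu_addEquiv_of_quasiIso {K L : CochainComplex (Sheaf J AddCommGrpCat.{u}) ℤ} (φ : K ⟶ L)
    [QuasiIso φ] (n : ℤ) (U : C) :
    Nonempty (CohCx.HDU (Q.obj K) n U ≃+ CohCx.HDU (Q.obj L) n U) := by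
  let e : (shiftFunctor (DerivedCategory (Sheaf J AddCommGrpCat.{u})) n).obj (Q.obj K) ≅
      (shiftFunctor (DerivedCategory (Sheaf J AddCommGrpCat.{u})) n).obj (Q.obj L) :=
    (shiftFunctor (DerivedCategory (Sheaf J AddCommGrpCat.{u})) n).mapIso (asIso (Q.map φ))
  exact ⟨{ toFun := fun f => f ≫ e.hom
           invFun := fun g => g ≫ e.inv
           left_inv := fun f => by simp
           right_inv := fun g => by simp
           map_add' := fun f g => Preadditive.add_comp _ _ _ _ _ _ }⟩

end Groth.Agent.Lib.Helper62.CTTheta
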