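import Mathlib
import Groth.Agent.Lib.Helper62.Resol

/-!
Dual of `Resol.exists_resolution`: coresolutions of cochain complexes.
-/

set_option autoImplicit false
universe v u

open CategoryTheory CategoryTheory.Limits Opposite

namespace Groth.Agent.Lib.Helper62.Resol

variable {C : Type u} [Category.{v} C] [Abelian C]

lemma nonempty_coprod_unop_iso (B B' : Cᵒᵖ) : Nonempty (B.unop ⨿ B'.unop ≅ (B ⨯ B').unop) := by
  refine ⟨{ hom := coprod.desc (prod.fst : B ⨯ B' ⟶ B).unop (prod.snd : B ⨯ B' ⟶ B').unop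
            inv := (prod.lift (coprod.inl : B.unop ⟶ B.unop ⨿ B'.unop).op
              (coprod.inr : B'.unop ⟶ B.unop ⨿ B'.unop).op).unop
            hom_inv_id := ?_
            inv_hom_id := ?_ }⟩
  · apply coprod.hom_ext
    · rw [← Category.assoc, coprod.inl_desc, Category.comp_id, ← unop_comp, prod.lift_fst]
      rfl
    · rw [← Category.assoc, coprod.inr_desc, Category.comp_id, ← unop_comp, prod.lift_snd]
      rfl
  · apply Quiver.Hom.op_inj
    apply prod.hom_ext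
    · rw [op_comp, Category.assoc, op_id, Category.id_comp, Quiver.Hom.op_unop, prod.lift_fst,
        ← op_comp, coprod.inl_desc]
      rfl
    · rw [op_comp, Category.assoc, op_id, Category.id_comp, Quiver.Hom.op_unop, prod.lift_snd,
        ← op_comp, coprod.inr_desc]
      rfl

/-- Coresolution theorem: dual of `exists_resolution`. -/
theorem exists_coresolution (K' K'' : ObjectProperty C) [K'.IsClosedUnderIsomorphisms]
    [K''.IsClosedUnderIsomorphisms] (hsub : K'' ≤ K')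
    (h1 : ∀ ⦃A' A : C⦄ (u : A' ⟶ A), K' A' → Mono u → ∃ (B : C) (v : A ⟶ B), K'' B ∧ Mono (u ≫ v))
    (h2 : ∀ ⦃A B : C⦄ (u : A ⟶ B), K' A → K' B → Mono u → K' (cokernel u))
    (h3 : ∀ ⦃B B' : C⦄, K'' B → K'' B' → K'' (B ⨿ B'))
    (P : CochainComplex C ℤ) (hP : ∀ i, K' (P.homology i)) (d : ℤ)
    (hd : ∀ i < d, IsZero (P.homology i)) :
    ∃ (Q : CochainComplex C ℤ) (u : P ⟶ Q),
      (∀ i, d ≤ i → K'' (Q.X i)) ∧ (∀ i < d, IsZero (Q.X i)) ∧ QuasiIso u := by
  let K'o : ObjectProperty Cᵒᵖ := fun X => K' X.unop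
  let K''o : ObjectProperty Cᵒᵖ := fun X => K'' X.unop
  have : K'o.IsClosedUnderIsomorphisms := ⟨fun e h => K'.prop_of_iso e.unop.symm h⟩
  have : K''o.IsClosedUnderIsomorphisms := ⟨fun e h => K''.prop_of_iso e.unop.symm h⟩
  have hsubo : K''o ≤ K'o := fun X h => hsub _ h
  have h1o : ∀ ⦃A A' : Cᵒᵖ⦄ (u : A ⟶ A'), K'o A' → Epi u →
      ∃ (B : Cᵒᵖ) (v : B ⟶ A), K''o B ∧ Epi (v ≫ u) := by
    intro A A' u hA' hu
    have : Mono u.unop := unop_mono_of_epi u
    obtain ⟨B, v, hB, hv⟩ := h1 u.unop hA' this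
    refine ⟨op B, v.op, hB, ?_⟩
    have : v.op ≫ u = (u.unop ≫ v).op := by simp
    rw [this]
    exact op_epi_of_mono _
  have h2o : ∀ ⦃A B : Cᵒᵖ⦄ (u : A ⟶ B), K'o A → K'o B → Epi u → K'o (kernel u) := by
    intro A B u hA hB hu
    have : Mono u.unop := unop_mono_of_epi u
    exact K'.prop_of_iso (cokernelUnopUnop u) (h2 u.unop hB hA this)
  have h3o : ∀ ⦃B B' : Cᵒᵖ⦄, K''o B → K''o B' → K''o (B ⨯ B') := by
    intro B B' hB hB'
    obtain ⟨e⟩ := nonempty_coprod_unop_iso B B'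
    exact K''.prop_of_iso e (h3 hB hB')
  let Po : ChainComplex Cᵒᵖ ℤ := P.op
  have hPo : ∀ i, K'o (Po.homology i) := fun i =>
    K'.prop_of_iso (P.homologyOp i).unop (hP i)
  have hdo : ∀ i < d, IsZero (Po.homology i) := fun i hi =>
    IsZero.of_iso (hd i hi).op (P.homologyOp i)
  obtain ⟨Qo, uo, hQ, hQ0, huo⟩ := exists_resolution (K' := K'o) (K'' := K''o)
    hsubo h1o h2o h3o hPo hdo
  let Q : CochainComplex C ℤ := Qo.unop
  let u : P ⟶ Q := (HomologicalComplex.unopFunctor C (ComplexShape.down ℤ)).map uo.op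
  refine ⟨Q, u, fun i hi => hQ i hi, fun i hi => (hQ0 i hi).unop, ?_⟩
  exact (HomologicalComplex.quasiIso_unopFunctor_map_iff uo).2 huo

end Groth.Agent.Lib.Helper62.Resol
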