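import Mathlib
import Groth.Agent.Lib.Helper62.CTDouble3
import Groth.Agent.Lib.Helper62.CTTheta
import Groth.Agent.Lib.Helper62.Coresol

/-! # Cech hypercohomology with respect to an acyclic cover computes hypercohomology -/

set_option autoImplicit false
set_option backward.isDefEq.respectTransparency false
set_option backward.isDefEq.respectTransparency.types false

open CategoryTheory CategoryTheory.Limits Opposite Simplicial SimplexCategory TopologicalSpace

universe v u

namespace Groth.Agent.Lib.Helper62.CTMain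

open CechChase HomCech CTCech CTAug CTAugQ CTRow CechTot Groth.Agent.Lib.Helper84.Tot CTDouble

theorem exists_inj_resolution {A : Type u} [Category.{v} A] [Abelian A] [EnoughInjectives A]
    (K : CochainComplex A ℤ) (a : ℤ) (ha : ∀ i : ℤ, i < a → IsZero (K.X i)) :
    ∃ (I : CochainComplex A ℤ) (φ : K ⟶ I), (∀ i, Injective (I.X i)) ∧
      (∀ i : ℤ, i < a → IsZero (I.X i)) ∧ QuasiIso φ := by
  let K' : ObjectProperty A := fun _ => True
  let K'' : ObjectProperty A := fun Y => Injective Y
  haveI : K'.IsClosedUnderIsomorphisms := ⟨fun _ _ => trivial⟩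
  haveI : K''.IsClosedUnderIsomorphisms := ⟨fun e h => by
    haveI : Injective _ := h
    exact Injective.of_iso e h⟩
  obtain ⟨I, φ, h1, h2, h3⟩ := Resol.exists_coresolution K' K'' (fun _ _ => trivial)
    (fun A' A u _ hu => by
      haveI := hu
      exact ⟨Injective.under A, Injective.ι A, (inferInstance : Injective (Injective.under A)),
        mono_comp _ _⟩)
    (fun _ _ _ _ _ _ => trivial)
    (fun B B' hB hB' => by
      haveI : Injective B := hB
      haveI : Injective B' := hB'
      exact Injective.of_iso (biprod.isoCoprod B B') (inferInstance : Injective (B ⊞ B')))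
    K (fun _ => trivial) a
    (fun i hi => ShortComplex.isZero_homology_of_isZero_X₂ _ (ha i hi))
  refine ⟨I, φ, fun i => ?_, h2, h3⟩
  by_cases hi : a ≤ i
  · exact h1 i hi
  · exact (h2 i (by omega)).injective

variable {X : TopCat.{u}} {ι : Type u} (U : ι → Opens X)

lemma pi_eq_iInf {p : ℕ} (σ : Fin (p + 1) → ι) :
    (∏ᶜ (U ∘ σ) : Opens X) = iInf (fun k => U (σ k)) :=
  le_antisymm (le_iInf fun k => (Pi.π (U ∘ σ) k).le)
    (Pi.lift (fun k => homOfLE (iInf_le (fun k => U (σ k)) k)) :
      iInf (fun k => U (σ k)) ⟶ ∏ᶜ (U ∘ σ)).le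

theorem main [HasDerivedCategory.{u} (CohTop.Ab X)] (hcov : iSup U = ⊤)
    (K : CochainComplex (CohTop.Ab X) ℤ) (a : ℤ)
    (ha : ∀ i : ℤ, i < a → IsZero (K.X i))
    (h : ∀ (p : ℕ) (c : Fin (p + 1) → ι) (i : ℤ) (q : ℕ),
      Subsingleton (CohTop.HU (K.X i) (q + 1) (iInf fun k => U (c k)))) (n : ℤ) :
    Nonempty (↑(CechTot.hyperH U ((CechTot.presheafCx X).obj K) n) ≃+
      CohCx.HDU (DerivedCategory.Q.obj K) n (⊤ : Opens X)) := by
  obtain ⟨I, φ, hI, hIa, hφ⟩ := exists_inj_resolution K a ha
  haveI := hφ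
  haveI : ∀ i, Injective (I.X i) := hI
  haveI : I.IsStrictlyGE a := (CochainComplex.isStrictlyGE_iff _ _).2 hIa
  haveI : I.IsKInjective := CochainComplex.isKInjective_of_injective I a
  -- rows
  have H : ∀ p : ℕ, QuasiIso ((R (Opens.grothendieckTopology X) (Kc U) p).map φ) := by
    intro p
    apply quasiIso_R
    intro σ
    have hV : ((Kc U).obj (op ⦋p⦌)).obj σ = iInf (fun k => U (σ k)) := pi_eq_iInf U σ
    refine CTSec.sections_qis φ a ha hIa _ ?_ ?_
    · intro m
      apply CTSec.extZero_of_subsingleton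
      intro q
      rw [hV]
      exact h p σ m q
    · intro m
      exact CTSec.extZero_of_injective (I.X m) _
  haveI : QuasiIso (HomologicalComplex₂.total.map (Dmap U φ) (ComplexShape.up ℤ)) :=
    quasiIso_total_of_rowQis (D U K) (D U I) (Dmap U φ) a 0 (bdd_D U K a ha) (bdd_D U I a hIa)
      (rowQis_Dmap U φ H)
  haveI : QuasiIso (HomologicalComplex₂.total.map (Dεflip U I) (ComplexShape.up ℤ)) :=
    quasiIso_total_Dεflip U hcov I hI a hIa
  let e1 : ((D U K).total (ComplexShape.up ℤ)).homology n ≅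
      ((D U I).total (ComplexShape.up ℤ)).homology n :=
    isoOfQuasiIsoAt (HomologicalComplex₂.total.map (Dmap U φ) (ComplexShape.up ℤ)) n
  let e2 : ((D U I).flip.total (ComplexShape.up ℤ)).homology n ≅
      ((D U I).total (ComplexShape.up ℤ)).homology n :=
    (HomologicalComplex.homologyFunctor _ _ n).mapIso
      (HomologicalComplex₂.totalFlipIso (D U I) (ComplexShape.up ℤ))
  let e3 : ((D' I).flip.total (ComplexShape.up ℤ)).homology n ≅
      ((D U I).flip.total (ComplexShape.up ℤ)).homology n :=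
    isoOfQuasiIsoAt (HomologicalComplex₂.total.map (Dεflip U I) (ComplexShape.up ℤ)) n
  let e4 : ((D' I).flip.total (ComplexShape.up ℤ)).homology n ≅
      ((D' I).total (ComplexShape.up ℤ)).homology n :=
    (HomologicalComplex.homologyFunctor _ _ n).mapIso
      (HomologicalComplex₂.totalFlipIso (D' I) (ComplexShape.up ℤ))
  let e5 : ((D' I).total (ComplexShape.up ℤ)).homology n ≅
      ((CohCx.sectCx (Opens.grothendieckTopology X) ⊤).obj I).homology n :=
    (HomologicalComplex.homologyFunctor _ _ n).mapIso (totalD'Iso I)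
  let e := e1 ≪≫ e2.symm ≪≫ e3.symm ≪≫ e4 ≪≫ e5
  obtain ⟨t1⟩ := CTTheta.homology_addEquiv I n (⊤ : Opens X)
  obtain ⟨t2⟩ := CTTheta.hdu_addEquiv_of_quasiIso φ n (⊤ : Opens X)
  exact ⟨(e.addCommGroupIsoToAddEquiv.trans t1).trans t2.symm⟩

end Groth.Agent.Lib.Helper62.CTMain
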