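import Mathlib
import Groth.Prelude.Def_Hyper
import Groth.Agent.Lib.Helper62.SheafExactLocal

/-! # Sections of an abelian sheaf as maps from the free sheaf on a representable;
sections of a short exact sequence with vanishing `H^1` -/

set_option autoImplicit false
set_option backward.isDefEq.respectTransparency false
set_option backward.isDefEq.respectTransparency.types false

open CategoryTheory CategoryTheory.Limits Opposite

universe u

namespace Groth.Agent.Lib.Helper62.SecHom

open SheafExactLocal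

variable {C : Type u} [SmallCategory C] (J : GrothendieckTopology C)

/-- the free abelian presheaf on a representable -/
noncomputable abbrev PU (U : C) : Cᵒᵖ ⥤ AddCommGrpCat.{u} := yoneda.obj U ⋙ AddCommGrpCat.free.{u}

/-- the free abelian sheaf on a representable -/
noncomputable abbrev ZU (U : C) : Sheaf J AddCommGrpCat.{u} :=
  (presheafToSheaf J AddCommGrpCat.{u}).obj (PU U)

variable {J}

/-- evaluation of a map `ZU U ⟶ G` at the tautological section -/
noncomputable def ev {U : C} {G : Sheaf J AddCommGrpCat.{u}} (g : ZU J U ⟶ G) : G.obj.obj (op U) :=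
  ((toSheafify J (PU U) ≫ g.hom).app (op U)).hom (FreeAbelianGroup.of (𝟙 U))

lemma ev_comp {U : C} {G G' : Sheaf J AddCommGrpCat.{u}} (g : ZU J U ⟶ G) (π : G ⟶ G') :
    ev (g ≫ π) = (π.hom.app (op U)).hom (ev g) := rfl

/-- the presheaf map attached to a section -/
noncomputable def ψOf {U : C} (P : Cᵒᵖ ⥤ AddCommGrpCat.{u}) (s : P.obj (op U)) : PU U ⟶ P where
  app T := AddCommGrpCat.ofHom (FreeAbelianGroup.lift (fun f : T.unop ⟶ U => (P.map f.op).hom s))
  naturality T T' h := by
    apply AddCommGrpCat.hom_ext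
    apply FreeAbelianGroup.lift_ext
    intro f
    change (FreeAbelianGroup.lift _) (FreeAbelianGroup.map ((yoneda.obj U).map h)
      (FreeAbelianGroup.of f)) = (P.map h).hom ((FreeAbelianGroup.lift _) (FreeAbelianGroup.of f))
    rw [FreeAbelianGroup.map_of_apply, FreeAbelianGroup.lift_apply_of,
      FreeAbelianGroup.lift_apply_of]
    change (P.map (h.unop ≫ f).op).hom s = _
    rw [op_comp, P.map_comp]
    rfl

lemma ψOf_apply {U : C} (P : Cᵒᵖ ⥤ AddCommGrpCat.{u}) (s : P.obj (op U)) :
    ((ψOf P s).app (op U)).hom (FreeAbelianGroup.of (𝟙 U)) = s := by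
  change (FreeAbelianGroup.lift _) (FreeAbelianGroup.of (𝟙 U)) = s
  rw [FreeAbelianGroup.lift_apply_of]
  change (P.map (𝟙 U).op).hom s = s
  rw [op_id, P.map_id]
  rfl

/-- the map `ZU U ⟶ G` attached to a section -/
noncomputable def homOf {U : C} (G : Sheaf J AddCommGrpCat.{u}) (s : G.obj.obj (op U)) :
    ZU J U ⟶ G :=
  ObjectProperty.homMk (sheafifyLift J (ψOf G.obj s) G.property)

lemma ev_homOf {U : C} (G : Sheaf J AddCommGrpCat.{u}) (s : G.obj.obj (op U)) :
    ev (homOf G s) = s := by
  unfold ev homOf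
  change ((toSheafify J (PU U) ≫ sheafifyLift J (ψOf G.obj s) G.property).app (op U)).hom _ = s
  rw [toSheafify_sheafifyLift, ψOf_apply]

lemma ψ_ext' {U : C} {P : Cᵒᵖ ⥤ AddCommGrpCat.{u}} (ψ ψ' : PU U ⟶ P)
    (h : (ψ.app (op U)).hom (FreeAbelianGroup.of (𝟙 U)) =
      (ψ'.app (op U)).hom (FreeAbelianGroup.of (𝟙 U))) : ψ = ψ' := by
  ext T : 2
  apply AddCommGrpCat.hom_ext
  apply FreeAbelianGroup.lift_ext
  intro f
  have key : ∀ χ : PU U ⟶ P, (χ.app T).hom (FreeAbelianGroup.of f) =
      (P.map f.op).hom ((χ.app (op U)).hom (FreeAbelianGroup.of (𝟙 U))) := by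
    intro χ
    have h1 := congrArg (fun φ => φ.hom (FreeAbelianGroup.of (𝟙 U))) (χ.naturality f.op)
    refine Eq.trans ?_ h1
    change _ = (χ.app T).hom (FreeAbelianGroup.map ((yoneda.obj U).map f.op)
      (FreeAbelianGroup.of (𝟙 U)))
    rw [FreeAbelianGroup.map_of_apply]
    congr 2
    change f = f ≫ 𝟙 U
    rw [Category.comp_id]
  exact (key ψ).trans ((congrArg _ h).trans (key ψ').symm)

lemma hom_ext_ev {U : C} {G : Sheaf J AddCommGrpCat.{u}} (g g' : ZU J U ⟶ G)
    (h : ev g = ev g') : g = g' := by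
  apply Sheaf.hom_ext
  apply sheafify_hom_ext J _ _ G.property
  exact ψ_ext' _ _ h

end Groth.Agent.Lib.Helper62.SecHom
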