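import Mathlib
import Groth.Prelude.Def_Hyper
import Groth.Prelude.Def_CohSite
import Groth.Agent.Lib.Helper62.SecHom

/-! # Sections of a short exact sequence of abelian sheaves when `H^1` of the kernel vanishes -/

set_option autoImplicit false
set_option backward.isDefEq.respectTransparency false
set_option backward.isDefEq.respectTransparency.types false

open CategoryTheory CategoryTheory.Limits Opposite

universe u

namespace Groth.Agent.Lib.Helper62.SecExact

open SheafExactLocal SecHom Abelian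

variable {C : Type u} [SmallCategory C] {J : GrothendieckTopology C}

lemma ev_zero {U : C} (G : Sheaf J AddCommGrpCat.{u}) : ev (0 : ZU J U ⟶ G) = 0 := by
  unfold ev
  change ((toSheafify J (PU U) ≫ (0 : (ZU J U).obj ⟶ G.obj)).app (op U)).hom _ = 0
  rw [Limits.comp_zero]
  rfl

/-- surjectivity on sections when `Ext^1(Z_U, kernel) = 0` -/
lemma sec_surj {S : ShortComplex (Sheaf J AddCommGrpCat.{u})} (hS : S.ShortExact)
    (U : C) (h1 : Subsingleton (Ext (ZU J U) S.X₁ 1)) (s : S.X₃.obj.obj (op U)) :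
    ∃ t : S.X₂.obj.obj (op U), (S.g.hom.app (op U)).hom t = s := by
  obtain ⟨x₂, hx₂⟩ := Ext.covariant_sequence_exact₃ (ZU J U) hS (Ext.mk₀ (homOf S.X₃ s)) rfl
    (Subsingleton.elim _ _)
  obtain ⟨g, rfl⟩ := (Ext.mk₀_bijective _ _).surjective x₂
  rw [Ext.mk₀_comp_mk₀] at hx₂
  have h := (Ext.mk₀_bijective _ _).injective hx₂
  refine ⟨ev g, ?_⟩
  rw [← ev_comp, h, ev_homOf]

/-- exactness in the middle on sections -/
lemma sec_exact {S : ShortComplex (Sheaf J AddCommGrpCat.{u})} (hS : S.ShortExact)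
    (U : C) (t : S.X₂.obj.obj (op U)) (ht : (S.g.hom.app (op U)).hom t = 0) :
    ∃ r : S.X₁.obj.obj (op U), (S.f.hom.app (op U)).hom r = t := by
  haveI := hS.mono_f
  have hk : homOf S.X₂ t ≫ S.g = 0 := by
    apply hom_ext_ev
    rw [ev_comp, ev_homOf, ht, ev_zero]
  refine ⟨ev (hS.exact.lift (homOf S.X₂ t) hk), ?_⟩
  rw [← ev_comp, hS.exact.lift_f, ev_homOf]

lemma sec_zero (S : ShortComplex (Sheaf J AddCommGrpCat.{u}))
    (U : C) (r : S.X₁.obj.obj (op U)) :
    (S.g.hom.app (op U)).hom ((S.f.hom.app (op U)).hom r) = 0 := by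
  have h := congrArg (fun φ => (φ.hom.app (op U)).hom r) S.zero
  exact h

/-- the cokernel of an injective hull inherits the vanishing of higher `Ext` -/
lemma subsingleton_ext {S : ShortComplex (Sheaf J AddCommGrpCat.{u})} (hS : S.ShortExact)
    [Injective S.X₂] (A : Sheaf J AddCommGrpCat.{u}) (q : ℕ)
    (h : Subsingleton (Ext A S.X₁ (q + 2))) : Subsingleton (Ext A S.X₃ (q + 1)) := by
  refine ⟨fun x y => ?_⟩
  have key : ∀ x₃ : Ext A S.X₃ (q + 1), x₃ = 0 := by
    intro x₃
    obtain ⟨x₂, hx₂⟩ := Ext.covariant_sequence_exact₃ A hS x₃ (n₁ := q + 2) rfl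
      (Subsingleton.elim _ _)
    rw [← hx₂, Ext.eq_zero_of_injective x₂, Ext.zero_comp]
  rw [key x, key y]

end Groth.Agent.Lib.Helper62.SecExact
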