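import Mathlib
import Groth.Prelude.Def_Hyper
import Groth.Prelude.Def_CohSite
import Groth.Agent.Lib.Helper62.CechChase
import Groth.Agent.Lib.Helper62.SecExact
import Groth.Agent.Lib.Helper62.HyperH0
import Groth.Agent.Lib.Helper53.OverSite

/-! # Cech cohomology of a hypercovering with values in a sheaf that is acyclic on all objects -/

set_option autoImplicit false
set_option backward.isDefEq.respectTransparency false
set_option backward.isDefEq.respectTransparency.types false

open CategoryTheory CategoryTheory.Limits Opposite Simplicial SimplexCategory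

universe u

namespace Groth.Agent.Lib.Helper62.CechAcyclic

open CechChase SecExact SecHom SheafExactLocal Abelian

variable {C : Type u} [SmallCategory C] [HasPullbacks C] (J : GrothendieckTopology C) (X : C)
  (K : SimplicialObject (FormalCoproduct.{u} (Over X)))
  [∀ (n : ℕ) (G : (SimplexCategory.Truncated n)ᵒᵖ ⥤ FormalCoproduct.{u} (Over X)),
      (SimplexCategory.Truncated.inclusion n).op.HasRightKanExtension G]

/-- restriction of a map of sheaves to `Over X` -/
abbrev rs {F G : Sheaf J AddCommGrpCat.{u}} (φ : F ⟶ G) :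
    HyperH0.P J X F ⟶ HyperH0.P J X G :=
  Functor.whiskerLeft (Over.forget X).op φ.hom

lemma exactAt_injective (I : Sheaf J AddCommGrpCat.{u}) [Injective I]
    (hK : Hyper.IsHypercovering J X K) (p : ℕ) : ExactAt K (HyperH0.P J X I) p := by
  rw [← exactAt_iff]
  haveI : Injective ((Groth.Agent.Lib.Helper53.OverSite.overRestr X J).obj I) := inferInstance
  exact Groth.Agent.Lib.Helper62.HomCech.cech_vanish (J.over X) K
    ((Groth.Agent.Lib.Helper53.OverSite.overRestr X J).obj I) p
    (Groth.Agent.Lib.Helper62.FreeAcyclic.homology_pos J X K hK p)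

lemma h0_lift {S : ShortComplex (Sheaf J AddCommGrpCat.{u})} (hS : S.ShortExact)
    (h1 : Subsingleton (Ext (ZU J X) S.X₁ 1))
    (hK : Hyper.IsHypercovering J X K)
    (b : (Cx K (HyperH0.P J X S.X₃)).X 0)
    (hb : ((Cx K (HyperH0.P J X S.X₃)).d 0 1).hom b = 0) :
    ∃ a' : (Cx K (HyperH0.P J X S.X₂)).X 0, ((Cx K (HyperH0.P J X S.X₂)).d 0 1).hom a' = 0 ∧
      ((Mp K (rs J X S.g)).f 0).hom a' = b := by
  have hb' : ((HyperH0.E J X S.X₃).map (K.δ 0).op).hom b =
      ((HyperH0.E J X S.X₃).map (K.δ 1).op).hom b := by
    have h := HyperH0.d01 J X S.X₃ K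
    have h2 : ((HyperH0.E J X S.X₃).map (K.δ 0).op - (HyperH0.E J X S.X₃).map (K.δ 1).op).hom b = 0 := by
      rw [← h]
      exact hb
    exact sub_eq_zero.1 h2
  obtain ⟨y, hy⟩ := HyperH0.exists_preimage J X S.X₃ K hK b hb'
  obtain ⟨ybar, hybar⟩ := sec_surj hS X h1 y
  refine ⟨(HyperH0.ι J X S.X₂ K).hom ybar, ?_, ?_⟩
  · have h := HyperH0.ι_d J X S.X₂ K
    exact congrArg (fun ψ => ψ.hom ybar) h
  · apply cx_ext
    intro i
    rw [comp_Mp, ← hy]
    unfold HomCech.comp
    rw [HyperH0.ι_apply_π, HyperH0.ι_apply_π, ← hybar]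
    have h := S.g.hom.naturality ((K.obj (op ⦋0⦌)).obj i).hom.op
    exact congrArg (fun ψ => ψ.hom ybar) h

theorem exactAt_acyclic (hK : Hyper.IsHypercovering J X K) (p : ℕ) :
    ∀ (F : Sheaf J AddCommGrpCat.{u}), (∀ (U : C) (q : ℕ), Subsingleton (Ext (ZU J U) F (q + 1))) →
      ExactAt K (HyperH0.P J X F) p := by
  induction p with
  | zero =>
    intro F hF
    let S : ShortComplex (Sheaf J AddCommGrpCat.{u}) :=
      ShortComplex.mk (Injective.ι F) (cokernel.π (Injective.ι F)) (cokernel.condition _)
    have hS : S.ShortExact :=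
      { exact := ShortComplex.exact_cokernel (Injective.ι F)
        mono_f := (inferInstance : Mono (Injective.ι F))
        epi_g := (inferInstance : Epi (cokernel.π (Injective.ι F))) }
    haveI : Injective S.X₂ := (inferInstance : Injective (Injective.under F))
    haveI : Mono S.f := hS.mono_f
    refine chase_zero (rs J X S.f) (rs J X S.g)
      (fun T => injective_app_of_mono J S.f T.left)
      (fun T s => sec_surj hS T.left (hF T.left 0) s)
      (fun T x hx => sec_exact hS T.left x hx)
      (fun T y => sec_zero S T.left y)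
      (exactAt_injective J X K S.X₂ hK 0) ?_
    intro b hb
    exact h0_lift J X K hS (hF X 0) hK b hb
  | succ p ih =>
    intro F hF
    let S : ShortComplex (Sheaf J AddCommGrpCat.{u}) :=
      ShortComplex.mk (Injective.ι F) (cokernel.π (Injective.ι F)) (cokernel.condition _)
    have hS : S.ShortExact :=
      { exact := ShortComplex.exact_cokernel (Injective.ι F)
        mono_f := (inferInstance : Mono (Injective.ι F))
        epi_g := (inferInstance : Epi (cokernel.π (Injective.ι F))) }
    haveI : Injective S.X₂ := (inferInstance : Injective (Injective.under F))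
    haveI : Mono S.f := hS.mono_f
    refine chase_succ (rs J X S.f) (rs J X S.g)
      (fun T => injective_app_of_mono J S.f T.left)
      (fun T s => sec_surj hS T.left (hF T.left 0) s)
      (fun T x hx => sec_exact hS T.left x hx)
      (fun T y => sec_zero S T.left y) p
      (exactAt_injective J X K S.X₂ hK (p + 1)) ?_
    apply ih S.X₃
    intro U q
    exact subsingleton_ext hS (ZU J U) q (hF U (q + 1))

theorem cechH_isZero (F : Sheaf J AddCommGrpCat.{u})
    (hF : ∀ (U : C) (q : ℕ), Subsingleton (CohSite.HU F (q + 1) U))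
    (hK : Hyper.IsHypercovering J X K) (p : ℕ) :
    IsZero (Hyper.cechH X K F.obj (p + 1)) := by
  have h := exactAt_acyclic J X K hK p F (fun U q => hF U q)
  rw [← exactAt_iff] at h
  exact h

end Groth.Agent.Lib.Helper62.CechAcyclic
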