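import Mathlib
import Groth.Prelude.Def_Hyper
import Groth.Agent.Lib.Helper62.CechE

/-! # Componentwise calculus for the extension of a presheaf to formal coproducts -/

set_option autoImplicit false
set_option backward.isDefEq.respectTransparency false
set_option backward.isDefEq.respectTransparency.types false

open CategoryTheory CategoryTheory.Limits Opposite Simplicial

universe u

namespace Groth.Agent.Lib.Helper62.ECalc

open CechE

variable {C' : Type u} [SmallCategory C']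

/-- the component of an element of `E P B` -/
noncomputable def cmpE (P : C'ᵒᵖ ⥤ AddCommGrpCat.{u}) {B : FormalCoproduct.{u} C'}
    (x : (E P).obj (op B)) (i : B.I) : P.obj (op (B.obj i)) :=
  (Pi.π (fun i : B.I => P.obj (op (B.obj i))) i).hom x

/-- an element from its components -/
noncomputable def mkE (P : C'ᵒᵖ ⥤ AddCommGrpCat.{u}) {B : FormalCoproduct.{u} C'}
    (c : ∀ i : B.I, P.obj (op (B.obj i))) : (E P).obj (op B) :=
  (Concrete.productEquiv (fun i : B.I => P.obj (op (B.obj i)))).symm c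

lemma cmpE_mkE (P : C'ᵒᵖ ⥤ AddCommGrpCat.{u}) {B : FormalCoproduct.{u} C'}
    (c : ∀ i : B.I, P.obj (op (B.obj i))) (i : B.I) : cmpE P (mkE P c) i = c i := by
  unfold cmpE mkE
  rw [← Concrete.productEquiv_apply_apply]
  simp only [Equiv.apply_symm_apply]

lemma E_ext (P : C'ᵒᵖ ⥤ AddCommGrpCat.{u}) {B : FormalCoproduct.{u} C'}
    (x y : (E P).obj (op B)) (h : ∀ i, cmpE P x i = cmpE P y i) : x = y :=
  pi_ext _ x y h

lemma cmpE_zero (P : C'ᵒᵖ ⥤ AddCommGrpCat.{u}) {B : FormalCoproduct.{u} C'} (i : B.I) :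
    cmpE P (0 : (E P).obj (op B)) i = 0 := by
  unfold cmpE
  rw [map_zero]

lemma cmpE_map (P : C'ᵒᵖ ⥤ AddCommGrpCat.{u}) {A B : FormalCoproduct.{u} C'} (h : A ⟶ B)
    (x : (E P).obj (op B)) (j : A.I) :
    cmpE P (((E P).map h.op).hom x) j = (P.map (h.φ j).op).hom (cmpE P x (h.f j)) := by
  have h1 := E_map_π P h j
  exact congrArg (fun φ => φ.hom x) h1

/-- the map induced by a map of presheaves -/
noncomputable def Eθ {P P' : C'ᵒᵖ ⥤ AddCommGrpCat.{u}} (θ : P ⟶ P') (B : FormalCoproduct.{u} C') :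
    (E P).obj (op B) ⟶ (E P').obj (op B) :=
  ((FormalCoproduct.evalOp.{u} C' AddCommGrpCat.{u}).map θ).app (op B)

lemma cmpE_Eθ {P P' : C'ᵒᵖ ⥤ AddCommGrpCat.{u}} (θ : P ⟶ P') {B : FormalCoproduct.{u} C'}
    (x : (E P).obj (op B)) (i : B.I) :
    cmpE P' ((Eθ θ B).hom x) i = (θ.app (op (B.obj i))).hom (cmpE P x i) := by
  unfold cmpE Eθ
  have h : ((FormalCoproduct.evalOp.{u} C' AddCommGrpCat.{u}).map θ).app (op B) ≫
      Pi.π (fun i : B.I => P'.obj (op (B.obj i))) i =
      Pi.π (fun i : B.I => P.obj (op (B.obj i))) i ≫ θ.app (op (B.obj i)) := by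
    change Limits.Pi.map (fun i : B.I => θ.app (op (B.obj i))) ≫ _ = _
    rw [Limits.Pi.map_π]
  exact congrArg (fun ψ => ψ.hom x) h

lemma Eθ_natural {P P' : C'ᵒᵖ ⥤ AddCommGrpCat.{u}} (θ : P ⟶ P') {A B : FormalCoproduct.{u} C'}
    (h : A ⟶ B) (x : (E P).obj (op B)) :
    (Eθ θ A).hom (((E P).map h.op).hom x) = ((E P').map h.op).hom ((Eθ θ B).hom x) := by
  have h1 := ((FormalCoproduct.evalOp.{u} C' AddCommGrpCat.{u}).map θ).naturality h.op
  exact congrArg (fun ψ => ψ.hom x) h1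

end Groth.Agent.Lib.Helper62.ECalc
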