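import Mathlib

/-! # The simplicial object `Hom(Δ[n], Y)` : right adjoint to evaluation at `n` -/

set_option autoImplicit false
set_option backward.isDefEq.respectTransparency false
set_option backward.isDefEq.respectTransparency.types false

open CategoryTheory CategoryTheory.Limits Opposite Simplicial SimplexCategory

universe v u

namespace Groth.Agent.Lib.Helper62.PowerObj

variable {D : Type u} [Category.{v} D] [HasFiniteProducts D] (n : ℕ)

/-- the constant family -/
abbrev fam (Y : D) (m : SimplexCategoryᵒᵖ) : (⦋n⦌ ⟶ m.unop) → D := fun _ => Y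

/-- the simplicial object with `m`-simplices `∏_{α : [n] → [m]} Y` -/
noncomputable def Rn (Y : D) : SimplicialObject D where
  obj m := ∏ᶜ (fam n Y m)
  map {m m'} θ := Pi.lift (fun β : (⦋n⦌ ⟶ m'.unop) => Pi.π (fam n Y m) (β ≫ θ.unop))
  map_id m := by
    apply Limits.Pi.hom_ext
    intro β
    simp only [Limits.Pi.lift_π, Category.id_comp, unop_id]
    rw [Category.comp_id]
  map_comp {m m' m''} θ θ' := by
    apply Limits.Pi.hom_ext
    intro β
    simp only [Limits.Pi.lift_π, Category.assoc, unop_comp]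
    rw [Category.assoc]

@[reassoc]
lemma Rn_map_π (Y : D) {m m' : SimplexCategoryᵒᵖ} (θ : m ⟶ m') (β : ⦋n⦌ ⟶ m'.unop) :
    (Rn n Y).map θ ≫ Pi.π (fam n Y m') β = Pi.π (fam n Y m) (β ≫ θ.unop) := by
  simp [Rn]

/-- functoriality in `Y` -/
noncomputable def RnMap {Z Y : D} (u : Z ⟶ Y) : Rn n Z ⟶ Rn n Y where
  app m := Limits.Pi.map (fun _ => u)
  naturality m m' θ := by
    apply Limits.Pi.hom_ext
    intro β
    simp [Rn]

@[reassoc]
lemma RnMap_π {Z Y : D} (u : Z ⟶ Y) (m : SimplexCategoryᵒᵖ) (α : ⦋n⦌ ⟶ m.unop) :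
    (RnMap n u).app m ≫ Pi.π (fam n Y m) α = Pi.π (fam n Z m) α ≫ u := by
  simp [RnMap]

/-- the map to `Rn n Y` attached to a map `W_n ⟶ Y` -/
noncomputable def toRn (W : SimplicialObject D) {Y : D} (φ : W.obj (op ⦋n⦌) ⟶ Y) :
    W ⟶ Rn n Y where
  app m := Pi.lift (fun α : (⦋n⦌ ⟶ m.unop) => W.map α.op ≫ φ)
  naturality m m' θ := by
    apply Limits.Pi.hom_ext
    intro β
    simp only [Category.assoc, Limits.Pi.lift_π, Rn_map_π]
    rw [← Category.assoc, ← W.map_comp]
    rfl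

@[reassoc]
lemma toRn_π (W : SimplicialObject D) {Y : D} (φ : W.obj (op ⦋n⦌) ⟶ Y)
    (m : SimplexCategoryᵒᵖ) (α : ⦋n⦌ ⟶ m.unop) :
    (toRn n W φ).app m ≫ Pi.π (fam n Y m) α = W.map α.op ≫ φ := by
  simp [toRn]

end Groth.Agent.Lib.Helper62.PowerObj
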