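import Mathlib
import Groth.Prelude.Def_Hyper
import Groth.Agent.Lib.Helper62.CoskGen
import Groth.Agent.Lib.Helper62.PowerObj
import Groth.Agent.Lib.Helper62.LLPFin
import Groth.Agent.Lib.Helper62.HyperFP

/-! # Refining a hypercovering so that a covering of `K_n` is dominated -/

set_option autoImplicit false
set_option backward.isDefEq.respectTransparency false
set_option backward.isDefEq.respectTransparency.types false

open CategoryTheory CategoryTheory.Limits Opposite Simplicial SimplexCategory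

universe v u

namespace Groth.Agent.Lib.Helper62.Refine

open CoskZero CoskGen PowerObj LLP LLPFin HyperFP HyperH0

section General

lemma len_image_le {a : SimplexCategory} {p : ℕ} (θ : a ⟶ ⦋p⦌) : (image θ).len ≤ a.len :=
  len_le_of_epi (factorThruImage θ)

/-- the comparison of images -/
noncomputable def κ {b a : SimplexCategory} {p : ℕ} (θ : a ⟶ ⦋p⦌) (β : b ⟶ a) :
    image (β ≫ θ) ⟶ image θ :=
  image.lift
    { I := image θ
      m := image.ι θ
      e := β ≫ factorThruImage θ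
      fac := by rw [Category.assoc, image.fac] }

lemma κ_ι {b a : SimplexCategory} {p : ℕ} (θ : a ⟶ ⦋p⦌) (β : b ⟶ a) :
    κ θ β ≫ image.ι θ = image.ι (β ≫ θ) :=
  image.lift_fac _

lemma e_κ {b a : SimplexCategory} {p : ℕ} (θ : a ⟶ ⦋p⦌) (β : b ⟶ a) :
    factorThruImage (β ≫ θ) ≫ κ θ β = β ≫ factorThruImage θ :=
  image.fac_lift _

lemma len_image_comp_le {b a : SimplexCategory} {p : ℕ} (θ : a ⟶ ⦋p⦌) (β : b ⟶ a) :
    (image (β ≫ θ)).len ≤ a.len := by
  haveI : Mono (κ θ β ≫ image.ι θ) := by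
    rw [κ_ι]
    infer_instance
  haveI : Mono (κ θ β) := mono_of_mono (κ θ β) (image.ι θ)
  exact le_trans (len_le_of_mono (κ θ β)) (len_image_le θ)

variable {D : Type u} [Category.{v} D] [HasFiniteLimits D] (n m : ℕ)
  [∀ (F : (SimplexCategory.Truncated m)ᵒᵖ ⥤ D),
    (SimplexCategory.Truncated.inclusion m).op.HasRightKanExtension F]

lemma indep (Y : D) {a : SimplexCategory} {p : ℕ} (ha : a.len ≤ m) (θ : a ⟶ ⦋p⦌) (β : ⦋n⦌ ⟶ a)
    (hα : (image (β ≫ θ)).len ≤ m) :
    cmp m (Rn n Y) (image (β ≫ θ)) hα (image.ι (β ≫ θ)) ≫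
        Pi.π (fam n Y (op (image (β ≫ θ)))) (factorThruImage (β ≫ θ)) =
      cmp m (Rn n Y) a ha θ ≫ Pi.π (fam n Y (op a)) β := by
  have hi : (image θ).len ≤ m := le_trans (len_image_le θ) ha
  have e1 : cmp m (Rn n Y) (image (β ≫ θ)) hα (image.ι (β ≫ θ)) =
      cmp m (Rn n Y) (image θ) hi (image.ι θ) ≫ (Rn n Y).map (κ θ β).op := by
    rw [cmp_nat m (Rn n Y) (image θ) (image (β ≫ θ)) hi hα (image.ι θ) (κ θ β), κ_ι]
  have e2 : cmp m (Rn n Y) a ha θ =
      cmp m (Rn n Y) (image θ) hi (image.ι θ) ≫ (Rn n Y).map (factorThruImage θ).op := by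
    rw [cmp_nat m (Rn n Y) (image θ) a hi ha (image.ι θ) (factorThruImage θ), image.fac]
  rw [e1, e2, Category.assoc, Category.assoc, Rn_map_π, Rn_map_π]
  have h3 : factorThruImage (β ≫ θ) ≫ (κ θ β).op.unop = β ≫ (factorThruImage θ).op.unop :=
    e_κ θ β
  rw [h3]

end General

variable {C : Type u} [SmallCategory C] [HasPullbacks C] (J : GrothendieckTopology C) (X : C)
  [∀ (n : ℕ) (G : (SimplexCategory.Truncated n)ᵒᵖ ⥤ FormalCoproduct.{u} (Over X)),
      (SimplexCategory.Truncated.inclusion n).op.HasRightKanExtension G]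

theorem llp_gamma (n m : ℕ) {Z Y : FormalCoproduct.{u} (Over X)} (u : Z ⟶ Y)
    (hu : HasLLP (J.over X) u)
    (Q : FormalCoproduct.{u} (Over X))
    (q1 : Q ⟶ (Rn n Y).obj (op ⦋m + 1⦌))
    (q2 : Q ⟶ ((SimplicialObject.cosk m).obj (Rn n Z)).obj (op ⦋m + 1⦌))
    (γ : (Rn n Z).obj (op ⦋m + 1⦌) ⟶ Q)
    (sq : IsPullback q1 q2 (((SimplicialObject.coskAdj m).unit.app (Rn n Y)).app (op ⦋m + 1⦌))
        (((SimplicialObject.cosk m).map (RnMap n u)).app (op ⦋m + 1⦌)))
    (h1 : γ ≫ q1 = (RnMap n u).app (op ⦋m + 1⦌))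
    (h2 : γ ≫ q2 = ((SimplicialObject.coskAdj m).unit.app (Rn n Z)).app (op ⦋m + 1⦌)) :
    HasLLP (J.over X) γ := by
  intro T l
  have hb : HasLLP (J.over X) ((RnMap n u).app (op ⦋m + 1⦌)) :=
    llp_pimap (J.over X) _ (fun _ => hu)
  obtain ⟨S, hS, hl⟩ := hb (l ≫ q1)
  refine ⟨S, hS, ?_⟩
  intro Z' h hh
  obtain ⟨z', hz'⟩ := hl h hh
  let c := (FormalCoproduct.incl (Over X)).map h ≫ l ≫ q2
  let z : (FormalCoproduct.incl (Over X)).obj Z' ⟶ (Rn n Z).obj (op ⦋m + 1⦌) :=
    Pi.lift (fun α : ⦋n⦌ ⟶ ⦋m + 1⦌ =>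
      if hα : (image α).len ≤ m then
        c ≫ cmp m (Rn n Z) (image α) hα (image.ι α) ≫
          Pi.π (fam n Z (op (image α))) (factorThruImage α)
      else z' ≫ Pi.π (fam n Z (op ⦋m + 1⦌)) α)
  have hzπ : ∀ α : ⦋n⦌ ⟶ ⦋m + 1⦌, z ≫ Pi.π (fam n Z (op ⦋m + 1⦌)) α =
      if hα : (image α).len ≤ m then
        c ≫ cmp m (Rn n Z) (image α) hα (image.ι α) ≫
          Pi.π (fam n Z (op (image α))) (factorThruImage α)
      else z' ≫ Pi.π (fam n Z (op ⦋m + 1⦌)) α := fun α => Limits.Pi.lift_π _ _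
  refine ⟨z, ?_⟩
  apply sq.hom_ext
  · rw [Category.assoc, Category.assoc, h1]
    apply Limits.Pi.hom_ext
    intro α
    simp only [Category.assoc]
    rw [RnMap_π, ← Category.assoc z, hzπ α]
    by_cases hα : (image α).len ≤ m
    · rw [dif_pos hα]
      have e1 : cmp m (Rn n Z) (image α) hα (image.ι α) ≫
          Pi.π (fam n Z (op (image α))) (factorThruImage α) ≫ u =
          ((SimplicialObject.cosk m).map (RnMap n u)).app (op ⦋m + 1⦌) ≫
            cmp m (Rn n Y) (image α) hα (image.ι α) ≫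
            Pi.π (fam n Y (op (image α))) (factorThruImage α) := by
        rw [← RnMap_π, ← Category.assoc, ← cosk_map_cmp, Category.assoc]
      have e2 : c ≫ ((SimplicialObject.cosk m).map (RnMap n u)).app (op ⦋m + 1⦌) =
          ((FormalCoproduct.incl (Over X)).map h ≫ l ≫ q1) ≫
            (η m (Rn n Y)).app (op ⦋m + 1⦌) := by
        simp only [c, Category.assoc]
        rw [sq.w]
      have e3 : (η m (Rn n Y)).app (op ⦋m + 1⦌) ≫ cmp m (Rn n Y) (image α) hα (image.ι α) ≫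
          Pi.π (fam n Y (op (image α))) (factorThruImage α) =
          Pi.π (fam n Y (op ⦋m + 1⦌)) α := by
        rw [← Category.assoc, η_cmp, Rn_map_π]
        congr 1
        exact image.fac α
      simp only [Category.assoc]
      rw [e1, ← Category.assoc c, e2, Category.assoc, e3]
      simp only [Category.assoc]
    · rw [dif_neg hα]
      have := congrArg (fun φ => φ ≫ Pi.π (fam n Y (op ⦋m + 1⦌)) α) hz'
      simp only [Category.assoc] at this
      rw [RnMap_π] at this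
      simp only [Category.assoc]
      exact this
  · rw [Category.assoc, Category.assoc, h2]
    apply hom_ext_cmp
    intro a ha θ
    simp only [Category.assoc]
    erw [η_cmp m (Rn n Z) a ha θ]
    apply Limits.Pi.hom_ext
    intro β
    simp only [Category.assoc]
    rw [Rn_map_π]
    have hα : (image (β ≫ θ)).len ≤ m := le_trans (len_image_comp_le θ β) ha
    erw [hzπ (β ≫ θ), dif_pos hα]
    rw [indep n m Z ha θ β hα]
    simp only [c, Category.assoc]

/-- Stacks 01GI: refine a hypercovering so that a given covering of `K_n` is dominated -/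
theorem exists_refinement (K : SimplicialObject (FormalCoproduct.{u} (Over X)))
    (hK : Hyper.IsHypercovering J X K) (n : ℕ)
    (Z : FormalCoproduct.{u} (Over X)) (u : Z ⟶ K.obj (op ⦋n⦌))
    (hu : Hyper.IsSRCovering (J.over X) u) :
    ∃ (L : SimplicialObject (FormalCoproduct.{u} (Over X))) (f : L ⟶ K)
      (g : L.obj (op ⦋n⦌) ⟶ Z),
      Hyper.IsHypercovering J X L ∧ g ≫ u = f.app (op ⦋n⦌) := by
  let a : K ⟶ Rn n (K.obj (op ⦋n⦌)) := toRn n K (𝟙 (K.obj (op ⦋n⦌)))
  let b : Rn n Z ⟶ Rn n (K.obj (op ⦋n⦌)) := RnMap n u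
  haveI : HasPullbacks (SimplicialObject (FormalCoproduct.{u} (Over X))) := by
    unfold SimplicialObject
    infer_instance
  refine ⟨pullback a b, pullback.fst a b,
    (pullback.snd a b).app (op ⦋n⦌) ≫ Pi.π (fam n Z (op ⦋n⦌)) (𝟙 ⦋n⦌), ?_, ?_⟩
  · apply fp_hyper J X a b _ _ (IsPullback.of_hasPullback a b) hK
    · apply sr_of_llp
      exact llp_pimap (J.over X) _ (fun _ => llp_of_sr _ _ hu)
    · intro m Q q1 q2 γ sq h1 h2
      exact sr_of_llp _ _ (llp_gamma J X n m u (llp_of_sr _ _ hu) Q q1 q2 γ sq h1 h2)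
  · have h1 : (pullback.fst a b).app (op ⦋n⦌) ≫ a.app (op ⦋n⦌) =
        (pullback.snd a b).app (op ⦋n⦌) ≫ b.app (op ⦋n⦌) := by
      rw [← NatTrans.comp_app, ← NatTrans.comp_app, pullback.condition]
    have h2 := congrArg (fun φ => φ ≫ Pi.π (fam n (K.obj (op ⦋n⦌)) (op ⦋n⦌)) (𝟙 ⦋n⦌)) h1
    simp only [Category.assoc] at h2
    rw [toRn_π, RnMap_π] at h2
    rw [Category.assoc, ← h2]
    erw [K.map_id]
    simp

end Groth.Agent.Lib.Helper62.Refine
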