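import Mathlib
import Groth.Prelude.Def_Hyper
import Groth.Prelude.Def_Hyper2
import Groth.Agent.Lib.Helper62.Refine
import Groth.Agent.Lib.Helper62.ECalc
import Groth.Agent.Lib.Helper62.CechChase

/-! # Refining a hypercovering so that a cochain lifts along a locally surjective map, or dies
along a locally injective map -/

set_option autoImplicit false
set_option backward.isDefEq.respectTransparency false
set_option backward.isDefEq.respectTransparency.types false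

open CategoryTheory CategoryTheory.Limits Opposite Simplicial SimplexCategory

universe u

namespace Groth.Agent.Lib.Helper62.RefineGood

open LLP Refine CechE ECalc CechChase

variable {C : Type u} [SmallCategory C] (J : GrothendieckTopology C) [HasPullbacks C] (X : C)
  [∀ (n : ℕ) (G : (SimplexCategory.Truncated n)ᵒᵖ ⥤ FormalCoproduct.{u} (Over X)),
      (SimplexCategory.Truncated.inclusion n).op.HasRightKanExtension G]

/-- the presheaf on `Over X` -/
abbrev PX (N : Cᵒᵖ ⥤ AddCommGrpCat.{u}) : (Over X)ᵒᵖ ⥤ AddCommGrpCat.{u} := (Over.forget X).op ⋙ N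

/-- the induced map of presheaves on `Over X` -/
abbrev wl {N N' : Cᵒᵖ ⥤ AddCommGrpCat.{u}} (θ : N ⟶ N') : PX X N ⟶ PX X N' :=
  Functor.whiskerLeft (Over.forget X).op θ

section Good

variable {B : FormalCoproduct.{u} (Over X)} (Good : ∀ (i : B.I) (V : Over X), (V ⟶ B.obj i) → Prop)

/-- the family of all good maps -/
def ZG : FormalCoproduct.{u} (Over X) :=
  ⟨Σ (i : B.I), Σ (V : Over X), {g : V ⟶ B.obj i // Good i V g}, fun a => a.2.1⟩

/-- the map to `B` -/
def uG : ZG X Good ⟶ B := ⟨fun a => a.1, fun a => a.2.2.1⟩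

theorem llp_uG
    (hloc : ∀ (i : B.I) (T : Over X) (g₀ : T ⟶ B.obj i), ∃ S ∈ (J.over X) T,
      ∀ ⦃Z' : Over X⦄ (h : Z' ⟶ T), S.arrows h → Good i Z' (h ≫ g₀)) :
    HasLLP (J.over X) (uG X Good) := by
  intro T l
  let i := l.f PUnit.unit
  let g₀ : T ⟶ B.obj i := l.φ PUnit.unit
  obtain ⟨S, hS, hl⟩ := hloc i T g₀
  refine ⟨S, hS, ?_⟩
  intro Z' h hh
  refine ⟨FormalCoproduct.Hom.fromIncl (⟨i, Z', ⟨h ≫ g₀, hl h hh⟩⟩ : (ZG X Good).I) (𝟙 Z'), ?_⟩
  refine FormalCoproduct.hom_ext ?_ ?_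
  · funext t
    rfl
  · intro t
    change (h ≫ l.φ t) ≫ eqToHom _ = 𝟙 _ ≫ (h ≫ g₀)
    simp
    rfl

end Good

theorem refine_good (K : SimplicialObject (FormalCoproduct.{u} (Over X)))
    (hK : Hyper.IsHypercovering J X K) (n : ℕ)
    (Good : ∀ (i : (K.obj (op ⦋n⦌)).I) (V : Over X), (V ⟶ (K.obj (op ⦋n⦌)).obj i) → Prop)
    (hloc : ∀ (i : (K.obj (op ⦋n⦌)).I) (T : Over X) (g₀ : T ⟶ (K.obj (op ⦋n⦌)).obj i),
      ∃ S ∈ (J.over X) T, ∀ ⦃Z' : Over X⦄ (h : Z' ⟶ T), S.arrows h → Good i Z' (h ≫ g₀)) :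
    ∃ (L : SimplicialObject (FormalCoproduct.{u} (Over X))) (f : L ⟶ K)
      (g : L.obj (op ⦋n⦌) ⟶ ZG X Good),
      Hyper.IsHypercovering J X L ∧ g ≫ uG X Good = f.app (op ⦋n⦌) :=
  exists_refinement J X K hK n (ZG X Good) (uG X Good)
    (sr_of_llp _ _ (llp_uG J X Good hloc))

lemma cechMap_f {K L : SimplicialObject (FormalCoproduct.{u} (Over X))} (f : L ⟶ K)
    (N : Cᵒᵖ ⥤ AddCommGrpCat.{u}) (n : ℕ) :
    (Hyper.cechMap X f N).f n = (E (PX X N)).map (f.app (op ⦋n⦌)).op := rfl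

lemma Mp_f (K : SimplicialObject (FormalCoproduct.{u} (Over X)))
    {N N' : Cᵒᵖ ⥤ AddCommGrpCat.{u}} (θ : N ⟶ N') (n : ℕ) :
    (Mp K (wl X θ)).f n = Eθ (wl X θ) (K.obj (op ⦋n⦌)) := rfl

/-- a cochain killed by a locally injective map dies on a refinement -/
theorem killR {N N' : Cᵒᵖ ⥤ AddCommGrpCat.{u}} (θ : N ⟶ N')
    (hθ : Presheaf.IsLocallyInjective J θ)
    (K : SimplicialObject (FormalCoproduct.{u} (Over X))) (hK : Hyper.IsHypercovering J X K)
    (n : ℕ) (c : (Hyper.cechCx X K N).X n) (hc : ((Mp K (wl X θ)).f n).hom c = 0) :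
    ∃ (L : SimplicialObject (FormalCoproduct.{u} (Over X))) (f : L ⟶ K),
      Hyper.IsHypercovering J X L ∧ ((Hyper.cechMap X f N).f n).hom c = 0 := by
  let c' : (E (PX X N)).obj (op (K.obj (op ⦋n⦌))) := c
  let Good : ∀ (i : (K.obj (op ⦋n⦌)).I) (V : Over X), (V ⟶ (K.obj (op ⦋n⦌)).obj i) → Prop :=
    fun i V g => (N.map g.left.op).hom (cmpE (PX X N) c' i) = 0
  have hloc : ∀ (i : (K.obj (op ⦋n⦌)).I) (T : Over X) (g₀ : T ⟶ (K.obj (op ⦋n⦌)).obj i),
      ∃ S ∈ (J.over X) T, ∀ ⦃Z' : Over X⦄ (h : Z' ⟶ T), S.arrows h → Good i Z' (h ≫ g₀) := by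
    intro i T g₀
    let y : N.obj (op T.left) := (N.map g₀.left.op).hom (cmpE (PX X N) c' i)
    have hy : (θ.app (op T.left)).hom y = (θ.app (op T.left)).hom 0 := by
      rw [map_zero]
      have h1 := congrArg (fun φ => φ.hom (cmpE (PX X N) c' i)) (θ.naturality g₀.left.op)
      refine h1.trans ?_
      have h2 : (θ.app (op ((K.obj (op ⦋n⦌)).obj i).left)).hom (cmpE (PX X N) c' i) = 0 := by
        have h3 := cmpE_Eθ (wl X θ) c' i
        have h4 : (Eθ (wl X θ) (K.obj (op ⦋n⦌))).hom c' = 0 := hc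
        rw [h4, cmpE_zero] at h3
        exact h3.symm
      exact (congrArg (fun z => (N'.map g₀.left.op).hom z) h2).trans (map_zero _)
    refine ⟨(Sieve.overEquiv T).symm (Presheaf.equalizerSieve (F := N) (X := op T.left) y 0),
      J.overEquiv_symm_mem_over _ _ (Presheaf.equalizerSieve_mem J θ y 0 hy), ?_⟩
    intro Z' h hh
    rw [Sieve.overEquiv_symm_iff] at hh
    change (N.map (h ≫ g₀).left.op).hom (cmpE (PX X N) c' i) = 0
    have e : (h ≫ g₀).left.op = g₀.left.op ≫ h.left.op := rfl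
    rw [e, N.map_comp]
    exact (hh : (N.map h.left.op).hom y = (N.map h.left.op).hom 0).trans (map_zero _)
  obtain ⟨L, f, g, hL, hg⟩ := refine_good J X K hK n Good hloc
  refine ⟨L, f, hL, ?_⟩
  rw [cechMap_f, ← hg, op_comp, Functor.map_comp]
  change ((E (PX X N)).map g.op).hom (((E (PX X N)).map (uG X Good).op).hom c') = 0
  have h0 : ((E (PX X N)).map (uG X Good).op).hom c' = 0 := by
    apply E_ext
    intro a
    rw [cmpE_map, cmpE_zero]
    exact a.2.2.2
  rw [h0, map_zero]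

/-- a cochain lifts along a locally surjective map on a refinement -/
theorem liftR {N N' : Cᵒᵖ ⥤ AddCommGrpCat.{u}} (θ : N ⟶ N')
    (hθ : Presheaf.IsLocallySurjective J θ)
    (K : SimplicialObject (FormalCoproduct.{u} (Over X))) (hK : Hyper.IsHypercovering J X K)
    (n : ℕ) (c : (Hyper.cechCx X K N').X n) :
    ∃ (L : SimplicialObject (FormalCoproduct.{u} (Over X))) (f : L ⟶ K),
      Hyper.IsHypercovering J X L ∧ ∃ a : (Hyper.cechCx X L N).X n,
        ((Mp L (wl X θ)).f n).hom a = ((Hyper.cechMap X f N').f n).hom c := by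
  let c' : (E (PX X N')).obj (op (K.obj (op ⦋n⦌))) := c
  let Good : ∀ (i : (K.obj (op ⦋n⦌)).I) (V : Over X), (V ⟶ (K.obj (op ⦋n⦌)).obj i) → Prop :=
    fun i V g => ∃ a : N.obj (op V.left),
      (θ.app (op V.left)).hom a = (N'.map g.left.op).hom (cmpE (PX X N') c' i)
  have hloc : ∀ (i : (K.obj (op ⦋n⦌)).I) (T : Over X) (g₀ : T ⟶ (K.obj (op ⦋n⦌)).obj i),
      ∃ S ∈ (J.over X) T, ∀ ⦃Z' : Over X⦄ (h : Z' ⟶ T), S.arrows h → Good i Z' (h ≫ g₀) := by
    intro i T g₀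
    let y : N'.obj (op T.left) := (N'.map g₀.left.op).hom (cmpE (PX X N') c' i)
    refine ⟨(Sieve.overEquiv T).symm (Presheaf.imageSieve θ y),
      J.overEquiv_symm_mem_over _ _ (Presheaf.imageSieve_mem J θ y), ?_⟩
    intro Z' h hh
    rw [Sieve.overEquiv_symm_iff] at hh
    obtain ⟨t, ht⟩ := hh
    refine ⟨t, ?_⟩
    have e : (h ≫ g₀).left.op = g₀.left.op ≫ h.left.op := rfl
    rw [e, N'.map_comp]
    exact ht
  obtain ⟨L, f, g, hL, hg⟩ := refine_good J X K hK n Good hloc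
  refine ⟨L, f, hL, ?_⟩
  let abar : (E (PX X N)).obj (op (ZG X Good)) := mkE (PX X N) (fun a => a.2.2.2.choose)
  have h0 : (Eθ (wl X θ) (ZG X Good)).hom abar = ((E (PX X N')).map (uG X Good).op).hom c' := by
    apply E_ext
    intro a
    rw [cmpE_Eθ, cmpE_map, cmpE_mkE]
    exact a.2.2.2.choose_spec
  refine ⟨((E (PX X N)).map g.op).hom abar, ?_⟩
  rw [cechMap_f, ← hg, op_comp, Functor.map_comp, Mp_f]
  change (Eθ (wl X θ) (L.obj (op ⦋n⦌))).hom (((E (PX X N)).map g.op).hom abar) =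
    ((E (PX X N')).map g.op).hom (((E (PX X N')).map (uG X Good).op).hom c')
  rw [Eθ_natural, h0]

end Groth.Agent.Lib.Helper62.RefineGood
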