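import Mathlib
import Groth.Prelude.Def_Hyper
import Groth.Prelude.Def_Hyper2
import Groth.Agent.Lib.Helper62.RefineGood

/-! # Cech classes dying on refinements: cocycle-level formulation -/

set_option autoImplicit false
set_option backward.isDefEq.respectTransparency false
set_option backward.isDefEq.respectTransparency.types false

open CategoryTheory CategoryTheory.Limits Opposite Simplicial SimplexCategory

universe u

namespace Groth.Agent.Lib.Helper62.CechDies

open CechE ECalc CechChase RefineGood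

section complexes

variable (Kc : CochainComplex AddCommGrpCat.{u} ℕ)

lemma exists_cycle (q : ℕ) (s : Kc.X q) (hs : (Kc.d q (q + 1)).hom s = 0) :
    ∃ y : Kc.cycles q, (Kc.iCycles q).hom y = s := by
  have hex : (ShortComplex.mk (Kc.iCycles q) (Kc.d q (q + 1)) (Kc.iCycles_d q (q + 1))).Exact :=
    ShortComplex.exact_of_f_is_kernel _ (Kc.cyclesIsKernel q (q + 1) (by simp))
  rw [ShortComplex.ab_exact_iff] at hex
  exact hex s hs

lemma iCycles_cocycle (q : ℕ) (y : Kc.cycles q) :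
    (Kc.d q (q + 1)).hom ((Kc.iCycles q).hom y) = 0 := by
  have h := congrArg (fun φ => φ.hom y) (Kc.iCycles_d q (q + 1))
  exact h

lemma iCycles_injective (q : ℕ) : Function.Injective (Kc.iCycles q).hom :=
  (AddCommGrpCat.mono_iff_injective _).1 inferInstance

lemma homologyπ_eq_zero_iff_succ (q : ℕ) (y : Kc.cycles (q + 1)) :
    (Kc.homologyπ (q + 1)).hom y = 0 ↔
      ∃ t : Kc.X q, (Kc.d q (q + 1)).hom t = (Kc.iCycles (q + 1)).hom y := by
  constructor
  · intro h
    have hex : (ShortComplex.mk (Kc.toCycles q (q + 1)) (Kc.homologyπ (q + 1))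
        (Kc.toCycles_comp_homologyπ q (q + 1))).Exact :=
      ShortComplex.exact_of_g_is_cokernel _ (Kc.homologyIsCokernel q (q + 1) (by simp))
    rw [ShortComplex.ab_exact_iff] at hex
    obtain ⟨t, ht⟩ := hex y h
    refine ⟨t, ?_⟩
    have h1 := congrArg (fun φ => φ.hom t) (Kc.toCycles_i q (q + 1))
    have ht' : (Kc.toCycles q (q + 1)).hom t = y := ht
    rw [← ht']
    exact h1.symm
  · rintro ⟨t, ht⟩
    have h1 := congrArg (fun φ => φ.hom t) (Kc.toCycles_i q (q + 1))
    have h2 : (Kc.toCycles q (q + 1)).hom t = y := by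
      apply iCycles_injective
      exact h1.trans ht
    rw [← h2]
    have h3 := congrArg (fun φ => φ.hom t) (Kc.toCycles_comp_homologyπ q (q + 1))
    exact h3

lemma homologyπ_eq_zero_iff_zero (y : Kc.cycles 0) :
    (Kc.homologyπ 0).hom y = 0 ↔ (Kc.iCycles 0).hom y = 0 := by
  constructor
  · intro h
    have hex : (ShortComplex.mk (Kc.toCycles 0 0) (Kc.homologyπ 0)
        (Kc.toCycles_comp_homologyπ 0 0)).Exact :=
      ShortComplex.exact_of_g_is_cokernel _ (Kc.homologyIsCokernel 0 0 (by simp))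
    rw [ShortComplex.ab_exact_iff] at hex
    obtain ⟨t, ht⟩ := hex y h
    have h1 := congrArg (fun φ => φ.hom t) (Kc.toCycles_i 0 0)
    have ht' : (Kc.toCycles 0 0).hom t = y := ht
    rw [← ht']
    refine h1.trans ?_
    rw [Kc.shape 0 0 (by simp)]
    rfl
  · intro h
    have h2 : y = 0 := by
      apply iCycles_injective
      rw [h, map_zero]
    rw [h2, map_zero]

end complexes

variable {C : Type u} [SmallCategory C] (J : GrothendieckTopology C) [HasPullbacks C] (X : C)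
  [∀ (n : ℕ) (G : (SimplexCategory.Truncated n)ᵒᵖ ⥤ FormalCoproduct.{u} (Over X)),
      (SimplexCategory.Truncated.inclusion n).op.HasRightKanExtension G]

/-- the differential of the Cech complex -/
noncomputable abbrev dd (K : SimplicialObject (FormalCoproduct.{u} (Over X)))
    (N : Cᵒᵖ ⥤ AddCommGrpCat.{u}) (n : ℕ) :
    (Hyper.cechCx X K N).X n →+ (Hyper.cechCx X K N).X (n + 1) :=
  ((Hyper.cechCx X K N).d n (n + 1)).hom

/-- pull-back of cochains along a refinement -/
noncomputable abbrev pb {K L : SimplicialObject (FormalCoproduct.{u} (Over X))} (f : L ⟶ K)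
    (N : Cᵒᵖ ⥤ AddCommGrpCat.{u}) (n : ℕ) :
    (Hyper.cechCx X K N).X n →+ (Hyper.cechCx X L N).X n :=
  ((Hyper.cechMap X f N).f n).hom

/-- push-forward of cochains along a map of presheaves -/
noncomputable abbrev mp (K : SimplicialObject (FormalCoproduct.{u} (Over X)))
    {N N' : Cᵒᵖ ⥤ AddCommGrpCat.{u}} (θ : N ⟶ N') (n : ℕ) :
    (Hyper.cechCx X K N).X n →+ (Hyper.cechCx X K N').X n :=
  ((Mp K (wl X θ)).f n).hom

lemma dd_dd (K : SimplicialObject (FormalCoproduct.{u} (Over X)))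
    (N : Cᵒᵖ ⥤ AddCommGrpCat.{u}) (n : ℕ) (c : (Hyper.cechCx X K N).X n) :
    dd X K N (n + 1) (dd X K N n c) = 0 := by
  have h := (Hyper.cechCx X K N).d_comp_d n (n + 1) (n + 2)
  exact congrArg (fun ψ => ψ.hom c) h

lemma pb_dd {K L : SimplicialObject (FormalCoproduct.{u} (Over X))} (f : L ⟶ K)
    (N : Cᵒᵖ ⥤ AddCommGrpCat.{u}) (n : ℕ) (c : (Hyper.cechCx X K N).X n) :
    pb X f N (n + 1) (dd X K N n c) = dd X L N n (pb X f N n c) := by
  have h := (Hyper.cechMap X f N).comm n (n + 1)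
  exact (congrArg (fun ψ => ψ.hom c) h).symm

lemma mp_dd (K : SimplicialObject (FormalCoproduct.{u} (Over X)))
    {N N' : Cᵒᵖ ⥤ AddCommGrpCat.{u}} (θ : N ⟶ N') (n : ℕ) (c : (Hyper.cechCx X K N).X n) :
    mp X K θ (n + 1) (dd X K N n c) = dd X K N' n (mp X K θ n c) :=
  Mp_d (wl X θ) n c

lemma pb_mp {K L : SimplicialObject (FormalCoproduct.{u} (Over X))} (f : L ⟶ K)
    {N N' : Cᵒᵖ ⥤ AddCommGrpCat.{u}} (θ : N ⟶ N') (n : ℕ) (c : (Hyper.cechCx X K N).X n) :
    pb X f N' n (mp X K θ n c) = mp X L θ n (pb X f N n c) :=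
  (Eθ_natural (wl X θ) (f.app (op ⦋n⦌)) c).symm

lemma pb_comp {K L L' : SimplicialObject (FormalCoproduct.{u} (Over X))} (f' : L' ⟶ L) (f : L ⟶ K)
    (N : Cᵒᵖ ⥤ AddCommGrpCat.{u}) (n : ℕ) (c : (Hyper.cechCx X K N).X n) :
    pb X (f' ≫ f) N n c = pb X f' N n (pb X f N n c) := by
  change ((E (PX X N)).map ((f' ≫ f).app (op ⦋n⦌)).op).hom c =
    ((E (PX X N)).map (f'.app (op ⦋n⦌)).op).hom (((E (PX X N)).map (f.app (op ⦋n⦌)).op).hom c)
  rw [NatTrans.comp_app, op_comp, Functor.map_comp]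
  rfl

/-- being a coboundary (being zero in degree `0`) -/
def IsBdry (K : SimplicialObject (FormalCoproduct.{u} (Over X))) (N : Cᵒᵖ ⥤ AddCommGrpCat.{u})
    (q : ℕ) (s : (Hyper.cechCx X K N).X q) : Prop :=
  match q, s with
  | 0, s => s = 0
  | (q + 1), s => ∃ t : (Hyper.cechCx X K N).X q, dd X K N q t = s

lemma isBdry_pb {K L : SimplicialObject (FormalCoproduct.{u} (Over X))} (f : L ⟶ K)
    (N : Cᵒᵖ ⥤ AddCommGrpCat.{u}) (q : ℕ) (s : (Hyper.cechCx X K N).X q)
    (h : IsBdry X K N q s) : IsBdry X L N q (pb X f N q s) := by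
  cases q with
  | zero =>
    change s = 0 at h
    change pb X f N 0 s = 0
    rw [h, map_zero]
  | succ q =>
    obtain ⟨t, ht⟩ := h
    exact ⟨pb X f N q t, by rw [← pb_dd, ht]⟩

lemma isBdry_mp (K : SimplicialObject (FormalCoproduct.{u} (Over X)))
    {N N' : Cᵒᵖ ⥤ AddCommGrpCat.{u}} (θ : N ⟶ N') (q : ℕ) (s : (Hyper.cechCx X K N).X q)
    (h : IsBdry X K N q s) : IsBdry X K N' q (mp X K θ q s) := by
  cases q with
  | zero =>
    change s = 0 at h
    change mp X K θ 0 s = 0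
    rw [h, map_zero]
  | succ q =>
    obtain ⟨t, ht⟩ := h
    exact ⟨mp X K θ q t, by rw [← mp_dd, ht]⟩

lemma homologyπ_eq_zero_iff (K : SimplicialObject (FormalCoproduct.{u} (Over X)))
    (N : Cᵒᵖ ⥤ AddCommGrpCat.{u}) (q : ℕ) (y : (Hyper.cechCx X K N).cycles q) :
    ((Hyper.cechCx X K N).homologyπ q).hom y = 0 ↔
      IsBdry X K N q (((Hyper.cechCx X K N).iCycles q).hom y) := by
  cases q with
  | zero => exact homologyπ_eq_zero_iff_zero _ y
  | succ q => exact homologyπ_eq_zero_iff_succ _ q y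

/-- cocycle-level: every cocycle becomes a coboundary on a refinement -/
def DiesC (N : Cᵒᵖ ⥤ AddCommGrpCat.{u}) (q : ℕ) : Prop :=
  ∀ (K : SimplicialObject (FormalCoproduct.{u} (Over X))), Hyper.IsHypercovering J X K →
    ∀ s : (Hyper.cechCx X K N).X q, dd X K N q s = 0 →
      ∃ (L : SimplicialObject (FormalCoproduct.{u} (Over X))) (f : L ⟶ K),
        Hyper.IsHypercovering J X L ∧ IsBdry X L N q (pb X f N q s)

/-- homology-level: every class dies on a refinement -/
def DiesH (N : Cᵒᵖ ⥤ AddCommGrpCat.{u}) (q : ℕ) : Prop :=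
  ∀ (K : SimplicialObject (FormalCoproduct.{u} (Over X))), Hyper.IsHypercovering J X K →
    ∀ ξ : Hyper.cechH X K N q,
      ∃ (L : SimplicialObject (FormalCoproduct.{u} (Over X))) (f : L ⟶ K),
        Hyper.IsHypercovering J X L ∧ Hyper.cechHMap X f N q ξ = 0

lemma cechHMap_π {K L : SimplicialObject (FormalCoproduct.{u} (Over X))} (f : L ⟶ K)
    (N : Cᵒᵖ ⥤ AddCommGrpCat.{u}) (q : ℕ) (y : (Hyper.cechCx X K N).cycles q) :
    Hyper.cechHMap X f N q (((Hyper.cechCx X K N).homologyπ q).hom y) =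
      ((Hyper.cechCx X L N).homologyπ q).hom
        ((HomologicalComplex.cyclesMap (Hyper.cechMap X f N) q).hom y) := by
  have h4 := congrArg (fun φ => φ.hom y)
    (HomologicalComplex.homologyπ_naturality (Hyper.cechMap X f N) q)
  exact h4

lemma iCycles_cyclesMap {K L : SimplicialObject (FormalCoproduct.{u} (Over X))} (f : L ⟶ K)
    (N : Cᵒᵖ ⥤ AddCommGrpCat.{u}) (q : ℕ) (y : (Hyper.cechCx X K N).cycles q) :
    ((Hyper.cechCx X L N).iCycles q).hom
      ((HomologicalComplex.cyclesMap (Hyper.cechMap X f N) q).hom y) =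
      pb X f N q (((Hyper.cechCx X K N).iCycles q).hom y) := by
  have := congrArg (fun φ => φ.hom y)
    (HomologicalComplex.cyclesMap_i (Hyper.cechMap X f N) q)
  exact this

theorem diesH_iff_diesC (N : Cᵒᵖ ⥤ AddCommGrpCat.{u}) (q : ℕ) :
    DiesH J X N q ↔ DiesC J X N q := by
  constructor
  · intro h K hK s hs
    obtain ⟨y, hy⟩ := exists_cycle (Hyper.cechCx X K N) q s hs
    obtain ⟨L, f, hL, h0⟩ := h K hK (((Hyper.cechCx X K N).homologyπ q).hom y)
    refine ⟨L, f, hL, ?_⟩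
    rw [cechHMap_π X f N q y, homologyπ_eq_zero_iff X L N q, iCycles_cyclesMap X f N q y, hy] at h0
    exact h0
  · intro h K hK ξ
    have hsurj : Function.Surjective ((Hyper.cechCx X K N).homologyπ q).hom :=
      (AddCommGrpCat.epi_iff_surjective _).1 inferInstance
    obtain ⟨y, rfl⟩ := hsurj ξ
    obtain ⟨L, f, hL, h0⟩ := h K hK (((Hyper.cechCx X K N).iCycles q).hom y)
      (iCycles_cocycle _ q y)
    refine ⟨L, f, hL, ?_⟩
    rw [cechHMap_π X f N q y, homologyπ_eq_zero_iff X L N q, iCycles_cyclesMap X f N q y]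
    exact h0

end Groth.Agent.Lib.Helper62.CechDies
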