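import Mathlib
import Groth.Prelude.Def_Hyper
import Groth.Prelude.Def_Hyper2
import Groth.Agent.Lib.Helper62.Refine
import Groth.Agent.Lib.Helper62.CechE

/-! # Killing Cech classes of a presheaf with zero sheafification by refining the hypercovering -/

set_option autoImplicit false
set_option backward.isDefEq.respectTransparency false
set_option backward.isDefEq.respectTransparency.types false

open CategoryTheory CategoryTheory.Limits Opposite Simplicial SimplexCategory

universe u

namespace Groth.Agent.Lib.Helper62.CechKill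

open LLP Refine CechE

variable {C : Type u} [SmallCategory C] (J : GrothendieckTopology C)

lemma locally_zero (N : Cᵒᵖ ⥤ AddCommGrpCat.{u})
    (hN : IsZero ((presheafToSheaf J AddCommGrpCat.{u}).obj N)) {U : C} (x : N.obj (op U)) :
    Presheaf.equalizerSieve (F := N) (X := op U) x 0 ∈ J U := by
  apply Presheaf.equalizerSieve_mem J (toSheafify J N)
  have h1 : IsZero ((sheafToPresheaf J AddCommGrpCat.{u}).obj
      ((presheafToSheaf J AddCommGrpCat.{u}).obj N)) :=
    (sheafToPresheaf J AddCommGrpCat.{u}).map_isZero hN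
  have h2 : IsZero ((sheafify J N).obj (op U)) :=
    ((evaluation _ _).obj (op U)).map_isZero h1
  haveI := AddCommGrpCat.subsingleton_of_isZero h2
  exact Subsingleton.elim _ _

variable [HasPullbacks C] (X : C)
  [∀ (n : ℕ) (G : (SimplexCategory.Truncated n)ᵒᵖ ⥤ FormalCoproduct.{u} (Over X)),
      (SimplexCategory.Truncated.inclusion n).op.HasRightKanExtension G]

section cover

variable (N : Cᵒᵖ ⥤ AddCommGrpCat.{u})

/-- the presheaf on `Over X` -/
abbrev P' : (Over X)ᵒᵖ ⥤ AddCommGrpCat.{u} := (Over.forget X).op ⋙ N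

variable {B : FormalCoproduct.{u} (Over X)} (x : (E (P' X N)).obj (op B))

/-- the component of a cochain -/
noncomputable def comp (i : B.I) : N.obj (op (B.obj i).left) :=
  (Pi.π (fun i : B.I => (P' X N).obj (op (B.obj i))) i).hom x

/-- the index set of the family of all maps killing the components of `x` -/
def ZI : Type u :=
  Σ (i : B.I), Σ (V : Over X), {g : V ⟶ B.obj i // (N.map g.left.op).hom (comp X N x i) = 0}

/-- the family of all maps killing the components of `x` -/
def ZK : FormalCoproduct.{u} (Over X) := ⟨ZI X N x, fun a => a.2.1⟩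

/-- the map to `B` -/
def uK : ZK X N x ⟶ B := ⟨fun a => a.1, fun a => a.2.2.1⟩

lemma E_map_uK : ((E (P' X N)).map (uK X N x).op).hom x = 0 := by
  apply pi_ext
  intro a
  have h := E_map_π (P' X N) (uK X N x) a
  have h2 := congrArg (fun φ => φ.hom x) h
  refine h2.trans ?_
  rw [map_zero]
  exact a.2.2.2

theorem llp_uK (hN : IsZero ((presheafToSheaf J AddCommGrpCat.{u}).obj N)) :
    HasLLP (J.over X) (uK X N x) := by
  intro T l
  let i := l.f PUnit.unit
  let g₀ : T ⟶ B.obj i := l.φ PUnit.unit
  let y : N.obj (op T.left) := (N.map g₀.left.op).hom (comp X N x i)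
  refine ⟨(Sieve.overEquiv T).symm (Presheaf.equalizerSieve (F := N) (X := op T.left) y 0),
    J.overEquiv_symm_mem_over _ _ (locally_zero J N hN y), ?_⟩
  intro Z' h hh
  rw [Sieve.overEquiv_symm_iff] at hh
  have h0 : (N.map (h ≫ g₀).left.op).hom (comp X N x i) = 0 := by
    have e : (h ≫ g₀).left.op = g₀.left.op ≫ h.left.op := rfl
    rw [e, N.map_comp]
    exact (hh : (N.map h.left.op).hom y = (N.map h.left.op).hom 0).trans (map_zero _)
  refine ⟨FormalCoproduct.Hom.fromIncl (⟨i, Z', ⟨h ≫ g₀, h0⟩⟩ : (ZK X N x).I) (𝟙 Z'), ?_⟩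
  refine FormalCoproduct.hom_ext ?_ ?_
  · funext t
    rfl
  · intro t
    change (h ≫ l.φ t) ≫ eqToHom _ = 𝟙 _ ≫ (h ≫ g₀)
    simp
    rfl

end cover

theorem kill (K : SimplicialObject (FormalCoproduct.{u} (Over X)))
    (hK : Hyper.IsHypercovering J X K)
    (N : Cᵒᵖ ⥤ AddCommGrpCat.{u}) (hN : IsZero ((presheafToSheaf J AddCommGrpCat.{u}).obj N))
    (p : ℕ) (ξ : Hyper.cechH X K N p) :
    ∃ (L : SimplicialObject (FormalCoproduct.{u} (Over X))) (f : L ⟶ K),
      Hyper.IsHypercovering J X L ∧ Hyper.cechHMap X f N p ξ = 0 := by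
  have hsurj : Function.Surjective ((Hyper.cechCx X K N).homologyπ p).hom :=
    (AddCommGrpCat.epi_iff_surjective _).1 inferInstance
  obtain ⟨y, rfl⟩ := hsurj ξ
  let x : (E (P' X N)).obj (op (K.obj (op ⦋p⦌))) := ((Hyper.cechCx X K N).iCycles p).hom y
  obtain ⟨L, f, g, hL, hg⟩ := exists_refinement J X K hK p (ZK X N x) (uK X N x)
    (sr_of_llp _ _ (llp_uK J X N x hN))
  refine ⟨L, f, hL, ?_⟩
  have h1 : (Hyper.cechMap X f N).f p = (E (P' X N)).map (f.app (op ⦋p⦌)).op := rfl
  have h2 : ((Hyper.cechMap X f N).f p).hom x = 0 := by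
    rw [h1, ← hg, op_comp, Functor.map_comp]
    change ((E (P' X N)).map g.op).hom (((E (P' X N)).map (uK X N x).op).hom x) = 0
    rw [E_map_uK, map_zero]
  have h3 : (HomologicalComplex.cyclesMap (Hyper.cechMap X f N) p).hom y = 0 := by
    apply (AddCommGrpCat.mono_iff_injective ((Hyper.cechCx X L N).iCycles p)).1 inferInstance
    rw [map_zero]
    have := congrArg (fun φ => φ.hom y)
      (HomologicalComplex.cyclesMap_i (Hyper.cechMap X f N) p)
    exact this.trans h2
  have h4 := congrArg (fun φ => φ.hom y)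
    (HomologicalComplex.homologyπ_naturality (Hyper.cechMap X f N) p)
  refine h4.trans ?_
  change ((Hyper.cechCx X L N).homologyπ p).hom
    ((HomologicalComplex.cyclesMap (Hyper.cechMap X f N) p).hom y) = 0
  rw [h3, map_zero]

end Groth.Agent.Lib.Helper62.CechKill
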