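import Mathlib

/-! # Coskeletal comparison: combinatorics of simplicial sets

`p : X ⟶ Y` a map of simplicial sets, bijective below dimension `n`, `X` and `Y` being
`n`-coskeletal (in elementwise form).  We construct relative lifts, the "twisting" operation and
the set-level simplicial (semi-)homotopy. -/

set_option autoImplicit false

open CategoryTheory CategoryTheory.Limits Opposite Simplicial SimplexCategory

universe u

namespace Groth.Agent.Lib.Helper62.CoskQI

section simplex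

lemma epi_mono_unique {a b b' c : SimplexCategory} (e : a ⟶ b) (i : b ⟶ c) (e' : a ⟶ b')
    (i' : b' ⟶ c) [Epi e] [Mono i] [Epi e'] [Mono i'] (h : e ≫ i = e' ≫ i') :
    ∃ hb : b = b', e ≫ eqToHom hb = e' ∧ eqToHom hb ≫ i' = i := by
  haveI := strongEpi_of_epi e
  have sq : CommSq e' e i' i := ⟨h.symm⟩
  have h1 : e ≫ sq.lift = e' := sq.fac_left
  have h2 : sq.lift ≫ i' = i := sq.fac_right
  haveI : Mono sq.lift := mono_of_mono_fac h2
  haveI : Epi sq.lift := epi_of_epi_fac h1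
  haveI : IsIso sq.lift := isIso_of_mono_of_epi sq.lift
  have hb : b = b' := by
    ext
    exact len_eq_of_isIso sq.lift
  subst hb
  have hd : sq.lift = 𝟙 _ := eq_id_of_isIso sq.lift
  refine ⟨rfl, ?_, ?_⟩
  · rw [eqToHom_refl, Category.comp_id, ← h1, hd, Category.comp_id]
  · rw [eqToHom_refl, Category.id_comp, ← h2, hd, Category.id_comp]

lemma mono_of_epi_len {a b : SimplexCategory} (e : a ⟶ b) [Epi e] (h : a.len ≤ b.len) :
    Mono e := by
  have := len_le_of_epi e
  obtain rfl : a = b := by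
    ext
    omega
  rw [eq_id_of_epi e]
  infer_instance

lemma image_len_le {a c : SimplexCategory} (θ : a ⟶ c) : (image θ).len ≤ a.len :=
  len_le_of_epi (factorThruImage θ)

lemma mono_of_image_len {a c : SimplexCategory} (θ : a ⟶ c) (h : a.len ≤ (image θ).len) :
    Mono θ := by
  haveI := mono_of_epi_len (factorThruImage θ) h
  rw [← image.fac θ]
  infer_instance

lemma image_len_of_mono {a c : SimplexCategory} (θ : a ⟶ c) [Mono θ] :
    (image θ).len = a.len := by
  have h : image θ = a := image_eq (e := 𝟙 a) (i := θ) (Category.id_comp θ)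
  rw [h]

lemma image_len_lt_of_not_mono {a c : SimplexCategory} (θ : a ⟶ c) (h : ¬ Mono θ) :
    (image θ).len < a.len := by
  by_contra h'
  exact h (mono_of_image_len θ (by omega))

lemma dich {n : ℕ} {a' a : SimplexCategory} (ψ : a' ⟶ a) (ha' : a'.len ≤ n) (ha : a.len = n) :
    (∃ (b : SimplexCategory) (e : a' ⟶ b) (i : b ⟶ a), b.len < n ∧ e ≫ i = ψ) ∨
      (∃ h : a' = a, ψ = eqToHom h) := by
  by_cases hlt : a'.len < n
  · exact Or.inl ⟨a', 𝟙 _, ψ, hlt, Category.id_comp ψ⟩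
  · obtain rfl : a' = a := by
      ext
      omega
    by_cases hm : Mono ψ
    · exact Or.inr ⟨rfl, eq_id_of_mono ψ⟩
    · refine Or.inl ⟨image ψ, factorThruImage ψ, image.ι ψ, ?_, image.fac ψ⟩
      have := image_len_lt_of_not_mono ψ hm
      omega

end simplex

section sset

variable {X Y : SimplicialObject (Type u)}

lemma map_comp' (X : SimplicialObject (Type u)) {a b c : SimplexCategory} (e : a ⟶ b) (i : b ⟶ c)
    (x : X.obj (op c)) : X.map (e ≫ i).op x = X.map e.op (X.map i.op x) := by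
  rw [op_comp, Functor.map_comp_apply]

lemma map_id' (X : SimplicialObject (Type u)) {a : SimplexCategory} (x : X.obj (op a)) :
    X.map (𝟙 a).op x = x := by
  rw [op_id, Functor.map_id_apply]

lemma p_nat (p : X ⟶ Y) {a b : SimplexCategory} (θ : a ⟶ b) (x : X.obj (op b)) :
    p.app (op a) (X.map θ.op x) = Y.map θ.op (p.app (op b) x) :=
  NatTrans.naturality_apply p θ.op x

/-- simplices are determined by their faces of dimension `≤ n` -/
def U (X : SimplicialObject (Type u)) (n : ℕ) : Prop :=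
  ∀ (m : ℕ) (x y : X.obj (op ⦋m⦌)),
    (∀ (a : SimplexCategory) (_ : a.len ≤ n) (θ : a ⟶ ⦋m⦌), X.map θ.op x = X.map θ.op y) → x = y

/-- compatible families of faces of dimension `≤ n` are realised -/
def E (X : SimplicialObject (Type u)) (n : ℕ) : Prop :=
  ∀ (m : ℕ) (fam : ∀ (a : SimplexCategory), a.len ≤ n → (a ⟶ ⦋m⦌) → X.obj (op a)),
    (∀ (a a' : SimplexCategory) (ha : a.len ≤ n) (ha' : a'.len ≤ n) (θ : a ⟶ ⦋m⦌) (ψ : a' ⟶ a),
      X.map ψ.op (fam a ha θ) = fam a' ha' (ψ ≫ θ)) →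
    ∃ x : X.obj (op ⦋m⦌), ∀ (a : SimplexCategory) (ha : a.len ≤ n) (θ : a ⟶ ⦋m⦌),
      X.map θ.op x = fam a ha θ

/-- the hypotheses on `p : X ⟶ Y` -/
structure Hyp (p : X ⟶ Y) (n : ℕ) : Prop where
  uX : U X n
  eX : E X n
  uY : U Y n
  bij : ∀ a : SimplexCategory, a.len < n → Function.Bijective (fun x => p.app (op a) x)

variable {p : X ⟶ Y} {n : ℕ} (H : Hyp p n)

/-- inverse of `p` in low dimensions -/
noncomputable def pinv (a : SimplexCategory) (h : a.len < n) (y : Y.obj (op a)) : X.obj (op a) :=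
  (Equiv.ofBijective (fun x => p.app (op a) x) (H.bij a h)).symm y

lemma p_pinv (a : SimplexCategory) (h : a.len < n) (y : Y.obj (op a)) :
    p.app (op a) (pinv H a h y) = y :=
  (Equiv.ofBijective (fun x => p.app (op a) x) (H.bij a h)).apply_symm_apply y

lemma pinv_p (a : SimplexCategory) (h : a.len < n) (x : X.obj (op a)) :
    pinv H a h (p.app (op a) x) = x :=
  (Equiv.ofBijective (fun x => p.app (op a) x) (H.bij a h)).symm_apply_apply x

lemma pinv_nat {a' a : SimplexCategory} (ψ : a' ⟶ a) (h' : a'.len < n) (h : a.len < n)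
    (y : Y.obj (op a)) :
    X.map ψ.op (pinv H a h y) = pinv H a' h' (Y.map ψ.op y) := by
  apply (H.bij a' h').1
  change p.app (op a') _ = p.app (op a') _
  rw [p_nat, p_pinv, p_pinv]

/-- the canonical lift of a face factoring through low dimension -/
noncomputable def canon {m : ℕ} (σ : Y.obj (op ⦋m⦌)) {a : SimplexCategory} (θ : a ⟶ ⦋m⦌)
    (h : (image θ).len < n) : X.obj (op a) :=
  X.map (factorThruImage θ).op (pinv H (image θ) h (Y.map (image.ι θ).op σ))

lemma val_eq {m : ℕ} (σ : Y.obj (op ⦋m⦌)) {a b b' : SimplexCategory} (e : a ⟶ b) (i : b ⟶ ⦋m⦌)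
    (e' : a ⟶ b') (i' : b' ⟶ ⦋m⦌) [Epi e] [Mono i] [Epi e'] [Mono i'] (h : e ≫ i = e' ≫ i')
    (hb : b.len < n) (hb' : b'.len < n) :
    X.map e.op (pinv H b hb (Y.map i.op σ)) = X.map e'.op (pinv H b' hb' (Y.map i'.op σ)) := by
  obtain ⟨rfl, h1, h2⟩ := epi_mono_unique e i e' i' h
  rw [eqToHom_refl, Category.comp_id] at h1
  rw [eqToHom_refl, Category.id_comp] at h2
  subst h1 h2
  rfl

lemma canon_of_fac {m : ℕ} (σ : Y.obj (op ⦋m⦌)) {a b : SimplexCategory} (e : a ⟶ b)
    (θ' : b ⟶ ⦋m⦌) (hb : b.len < n) (θ : a ⟶ ⦋m⦌) (hθ : e ≫ θ' = θ) :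
    ∃ h : (image θ).len < n,
      canon H σ θ h = X.map e.op (pinv H b hb (Y.map θ'.op σ)) := by
  subst hθ
  have hb₁ : (image θ').len < n := lt_of_le_of_lt (image_len_le θ') hb
  have hb₂ : (image (e ≫ factorThruImage θ')).len < n :=
    lt_of_le_of_lt (len_le_of_mono (image.ι (e ≫ factorThruImage θ'))) hb₁
  have fac : factorThruImage (e ≫ θ') ≫ image.ι (e ≫ θ') =
      factorThruImage (e ≫ factorThruImage θ') ≫
        (image.ι (e ≫ factorThruImage θ') ≫ image.ι θ') := by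
    rw [image.fac, ← Category.assoc, image.fac, Category.assoc, image.fac]
  obtain ⟨hb', -, -⟩ := epi_mono_unique _ _ _ _ fac
  have h : (image (e ≫ θ')).len < n := by
    rw [hb']
    exact hb₂
  refine ⟨h, ?_⟩
  unfold canon
  rw [val_eq H σ _ _ _ _ fac h hb₂]
  have e1 : Y.map θ'.op σ = Y.map (factorThruImage θ').op (Y.map (image.ι θ').op σ) := by
    rw [← map_comp' Y, image.fac]
  have e2 : ∀ z : X.obj (op (image θ')), X.map (e ≫ factorThruImage θ').op z =
      X.map (factorThruImage (e ≫ factorThruImage θ')).op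
        (X.map (image.ι (e ≫ factorThruImage θ')).op z) := by
    intro z
    rw [← map_comp' X, image.fac]
  rw [e1, ← pinv_nat H (factorThruImage θ') hb hb₁, ← map_comp' X, e2,
    pinv_nat H (image.ι (e ≫ factorThruImage θ')) hb₂ hb₁, ← map_comp' Y]

lemma p_canon {m : ℕ} (σ : Y.obj (op ⦋m⦌)) {a : SimplexCategory} (θ : a ⟶ ⦋m⦌)
    (h : (image θ).len < n) : p.app (op a) (canon H σ θ h) = Y.map θ.op σ := by
  unfold canon
  rw [p_nat, p_pinv, ← map_comp' Y, image.fac]

/-- the family of faces of the lift -/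
noncomputable def fam {m : ℕ} (σ : Y.obj (op ⦋m⦌))
    (c : ∀ (a : SimplexCategory) (θ : a ⟶ ⦋m⦌), a.len = n → Mono θ → X.obj (op a))
    (a : SimplexCategory) (ha : a.len ≤ n) (θ : a ⟶ ⦋m⦌) : X.obj (op a) :=
  if h : (image θ).len < n then canon H σ θ h
  else c a θ (by have := image_len_le θ; omega) (mono_of_image_len θ (by omega))

variable {m : ℕ} (σ : Y.obj (op ⦋m⦌))
    (c : ∀ (a : SimplexCategory) (θ : a ⟶ ⦋m⦌), a.len = n → Mono θ → X.obj (op a))

lemma fam_low (a : SimplexCategory) (ha : a.len ≤ n) (θ : a ⟶ ⦋m⦌) (hlt : a.len < n) :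
    fam H σ c a ha θ = pinv H a hlt (Y.map θ.op σ) := by
  obtain ⟨h, hc⟩ := canon_of_fac H σ (𝟙 a) θ hlt θ (Category.id_comp θ)
  rw [fam, dif_pos h, hc, map_id']

lemma fam_mono (a : SimplexCategory) (ha : a.len ≤ n) (θ : a ⟶ ⦋m⦌) (h1 : a.len = n)
    (h2 : Mono θ) : fam H σ c a ha θ = c a θ h1 h2 := by
  have := image_len_of_mono θ
  rw [fam, dif_neg (by omega)]

lemma p_fam (hc : ∀ a θ h1 h2, p.app (op a) (c a θ h1 h2) = Y.map θ.op σ)
    (a : SimplexCategory) (ha : a.len ≤ n) (θ : a ⟶ ⦋m⦌) :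
    p.app (op a) (fam H σ c a ha θ) = Y.map θ.op σ := by
  unfold fam
  split_ifs with h
  · exact p_canon H σ θ h
  · exact hc _ _ _ _

lemma fam_compat (hc : ∀ a θ h1 h2, p.app (op a) (c a θ h1 h2) = Y.map θ.op σ)
    (a a' : SimplexCategory) (ha : a.len ≤ n) (ha' : a'.len ≤ n) (θ : a ⟶ ⦋m⦌) (ψ : a' ⟶ a) :
    X.map ψ.op (fam H σ c a ha θ) = fam H σ c a' ha' (ψ ≫ θ) := by
  by_cases h : (image θ).len < n
  · obtain ⟨h', hc'⟩ := canon_of_fac H σ (ψ ≫ factorThruImage θ) (image.ι θ) h (ψ ≫ θ)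
      (by rw [Category.assoc, image.fac])
    simp only [fam, dif_pos h, dif_pos h', hc']
    rw [canon, ← map_comp' X]
  · have han : a.len = n := by
      have := image_len_le θ
      omega
    rcases dich ψ ha' han with ⟨b, e, i, hb, rfl⟩ | ⟨rfl, rfl⟩
    · obtain ⟨h', hc'⟩ := canon_of_fac H σ e (i ≫ θ) hb ((e ≫ i) ≫ θ) (by rw [Category.assoc])
      have h3 : X.map i.op (fam H σ c a ha θ) = pinv H b hb (Y.map (i ≫ θ).op σ) := by
        apply (H.bij b hb).1
        change p.app (op b) _ = p.app (op b) _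
        rw [p_nat, p_fam H σ c hc, p_pinv, map_comp' Y]
      rw [map_comp' X, h3]
      simp only [fam, dif_pos h', hc']
    · simp [map_id']

include H in
theorem lift_exists (hc : ∀ a θ h1 h2, p.app (op a) (c a θ h1 h2) = Y.map θ.op σ) :
    ∃ τ : X.obj (op ⦋m⦌), p.app (op ⦋m⦌) τ = σ ∧
      ∀ a θ h1 h2, X.map θ.op τ = c a θ h1 h2 := by
  obtain ⟨τ, hτ⟩ := H.eX m (fam H σ c) (fam_compat H σ c hc)
  refine ⟨τ, ?_, ?_⟩
  · apply H.uY m
    intro a ha θ
    rw [← p_nat, hτ a ha θ, p_fam H σ c hc]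
  · intro a θ h1 h2
    rw [hτ a (le_of_eq h1) θ, fam_mono H σ c a _ θ h1 h2]

include H in
theorem lift_unique (τ₁ τ₂ : X.obj (op ⦋m⦌))
    (hp : p.app (op ⦋m⦌) τ₁ = p.app (op ⦋m⦌) τ₂)
    (hf : ∀ (a : SimplexCategory) (θ : a ⟶ ⦋m⦌), a.len = n → Mono θ →
      X.map θ.op τ₁ = X.map θ.op τ₂) : τ₁ = τ₂ := by
  apply H.uX m
  intro a ha θ
  have e : ∀ τ : X.obj (op ⦋m⦌), X.map θ.op τ =
      X.map (factorThruImage θ).op (X.map (image.ι θ).op τ) := by
    intro τ
    rw [← map_comp' X, image.fac]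
  rw [e τ₁, e τ₂]
  congr 1
  by_cases h : (image θ).len < n
  · apply (H.bij _ h).1
    change p.app (op _) _ = p.app (op _) _
    rw [p_nat, p_nat, hp]
  · exact hf _ _ (by have := image_len_le θ; omega) inferInstance

end sset

end Groth.Agent.Lib.Helper62.CoskQI
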