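import Mathlib
import Groth.Agent.Lib.Helper62.CoskQIa

/-! # Coskeletal comparison: the twisting operation and the set-level homotopy -/

set_option autoImplicit false

open CategoryTheory CategoryTheory.Limits Opposite Simplicial SimplexCategory

universe u

namespace Groth.Agent.Lib.Helper62.CoskQI

variable {X Y : SimplicialObject (Type u)}

/-- a chosen element of the fibre of `p` through `x` (depends only on `p x`) -/
noncomputable def rr (p : X ⟶ Y) {a : SimplexCategory} (x : X.obj (op a)) : X.obj (op a) :=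
  Classical.choose (show ∃ x', p.app (op a) x' = p.app (op a) x from ⟨x, rfl⟩)

lemma p_rr (p : X ⟶ Y) {a : SimplexCategory} (x : X.obj (op a)) :
    p.app (op a) (rr p x) = p.app (op a) x :=
  Classical.choose_spec (show ∃ x', p.app (op a) x' = p.app (op a) x from ⟨x, rfl⟩)

lemma rr_congr (p : X ⟶ Y) {a : SimplexCategory} (x x' : X.obj (op a))
    (h : p.app (op a) x = p.app (op a) x') : rr p x = rr p x' := by
  have key : ∀ (y y' : Y.obj (op a)) (hy : ∃ x', p.app (op a) x' = y)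
      (hy' : ∃ x', p.app (op a) x' = y'), y = y' → Classical.choose hy = Classical.choose hy' := by
    intro y y' hy hy' e
    subst e
    rfl
  exact key _ _ _ _ h

open Classical in
/-- the prescribed faces of the twisted simplex -/
noncomputable def twc (p : X ⟶ Y) {m : ℕ} (τ : X.obj (op ⦋m⦌)) (P : Fin (m + 1) → Prop)
    (a : SimplexCategory) (θ : a ⟶ ⦋m⦌) : X.obj (op a) :=
  if P (θ.toOrderHom 0) then rr p (X.map θ.op τ) else X.map θ.op τ

lemma p_twc (p : X ⟶ Y) {m : ℕ} (τ : X.obj (op ⦋m⦌)) (P : Fin (m + 1) → Prop)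
    (a : SimplexCategory) (θ : a ⟶ ⦋m⦌) :
    p.app (op a) (twc p τ P a θ) = Y.map θ.op (p.app (op ⦋m⦌) τ) := by
  unfold twc
  split_ifs
  · rw [p_rr, p_nat]
  · rw [p_nat]

variable {p : X ⟶ Y} {n : ℕ} (H : Hyp p n)

include H in
theorem tw_exists {m : ℕ} (τ : X.obj (op ⦋m⦌)) (P : Fin (m + 1) → Prop) :
    ∃ τ' : X.obj (op ⦋m⦌), p.app (op ⦋m⦌) τ' = p.app (op ⦋m⦌) τ ∧
      ∀ (a : SimplexCategory) (θ : a ⟶ ⦋m⦌), a.len = n → Mono θ →
        X.map θ.op τ' = twc p τ P a θ :=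
  lift_exists H (p.app (op ⦋m⦌) τ) (fun a θ _ _ => twc p τ P a θ)
    (fun a θ _ _ => p_twc p τ P a θ)

/-- the twisted simplex -/
noncomputable def tw {m : ℕ} (τ : X.obj (op ⦋m⦌)) (P : Fin (m + 1) → Prop) : X.obj (op ⦋m⦌) :=
  (tw_exists H τ P).choose

lemma p_tw {m : ℕ} (τ : X.obj (op ⦋m⦌)) (P : Fin (m + 1) → Prop) :
    p.app (op ⦋m⦌) (tw H τ P) = p.app (op ⦋m⦌) τ :=
  (tw_exists H τ P).choose_spec.1

lemma tw_face {m : ℕ} (τ : X.obj (op ⦋m⦌)) (P : Fin (m + 1) → Prop)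
    (a : SimplexCategory) (θ : a ⟶ ⦋m⦌) (ha : a.len = n) (hθ : Mono θ) :
    X.map θ.op (tw H τ P) = twc p τ P a θ :=
  (tw_exists H τ P).choose_spec.2 a θ ha hθ

lemma tw_unique {m : ℕ} (τ : X.obj (op ⦋m⦌)) (P : Fin (m + 1) → Prop) (τ' : X.obj (op ⦋m⦌))
    (h1 : p.app (op ⦋m⦌) τ' = p.app (op ⦋m⦌) τ)
    (h2 : ∀ (a : SimplexCategory) (θ : a ⟶ ⦋m⦌), a.len = n → Mono θ →
        X.map θ.op τ' = twc p τ P a θ) : τ' = tw H τ P :=
  lift_unique H _ _ (h1.trans (p_tw H τ P).symm)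
    (fun a θ ha hθ => (h2 a θ ha hθ).trans (tw_face H τ P a θ ha hθ).symm)

lemma tw_map {m m' : ℕ} (α : ⦋m'⦌ ⟶ ⦋m⦌) [Mono α] (τ : X.obj (op ⦋m⦌))
    (P : Fin (m + 1) → Prop) :
    X.map α.op (tw H τ P) = tw H (X.map α.op τ) (fun x => P (α.toOrderHom x)) := by
  apply tw_unique
  · rw [p_nat, p_tw, p_nat]
  · intro a θ ha hθ
    rw [← map_comp' X, tw_face H τ P a (θ ≫ α) ha (mono_comp θ α)]
    unfold twc
    rw [map_comp' X]
    rfl

lemma tw_congr {m : ℕ} (τ : X.obj (op ⦋m⦌)) (P Q : Fin (m + 1) → Prop) (h : ∀ x, P x ↔ Q x) :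
    tw H τ P = tw H τ Q := by
  have : P = Q := funext fun x => propext (h x)
  rw [this]

lemma tw_false {m : ℕ} (τ : X.obj (op ⦋m⦌)) : tw H τ (fun _ => False) = τ :=
  (tw_unique H τ _ τ rfl (fun a θ _ _ => by simp [twc])).symm

lemma tw_true_congr {m : ℕ} (τ τ' : X.obj (op ⦋m⦌))
    (h : p.app (op ⦋m⦌) τ = p.app (op ⦋m⦌) τ') :
    tw H τ (fun _ => True) = tw H τ' (fun _ => True) := by
  apply tw_unique
  · rw [p_tw, h]
  · intro a θ ha hθ
    rw [tw_face H τ _ a θ ha hθ]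
    simp only [twc, if_true]
    apply rr_congr
    rw [p_nat, p_nat, h]

/-- the homotopy operators -/
noncomputable def hh {m : ℕ} (i : Fin (m + 1)) (τ : X.obj (op ⦋m⦌)) : X.obj (op ⦋m + 1⦌) :=
  tw H (X.σ i τ) (fun x => (i : ℕ) < (x : ℕ))

/-- the retraction -/
noncomputable def r {m : ℕ} (τ : X.obj (op ⦋m⦌)) : X.obj (op ⦋m⦌) :=
  tw H τ (fun _ => True)

lemma δ_val {m : ℕ} (k : Fin (m + 2)) (x : Fin (m + 1)) :
    (((SimplexCategory.δ k).toOrderHom x : Fin (m + 2)) : ℕ) =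
      if (x : ℕ) < (k : ℕ) then (x : ℕ) else (x : ℕ) + 1 := by
  change ((k.succAbove x : Fin (m + 2)) : ℕ) = _
  simp only [Fin.succAbove]
  split_ifs with h h' h' <;> simp [Fin.lt_def] at * <;> omega

lemma δ_hh {m : ℕ} (k : Fin (m + 2)) (i : Fin (m + 1)) (τ : X.obj (op ⦋m⦌)) :
    X.δ k (hh H i τ) =
      tw H (X.δ k (X.σ i τ))
        (fun x => (i : ℕ) < if (x : ℕ) < (k : ℕ) then (x : ℕ) else (x : ℕ) + 1) := by
  unfold hh
  have h := tw_map H (SimplexCategory.δ k) (X.σ i τ) (fun x => (i : ℕ) < (x : ℕ))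
  simp only [δ_val] at h
  exact h

lemma δ_r {m : ℕ} (k : Fin (m + 2)) (τ : X.obj (op ⦋m + 1⦌)) :
    X.δ k (r H τ) = r H (X.δ k τ) :=
  tw_map H (SimplexCategory.δ k) τ (fun _ => True)

lemma p_r {m : ℕ} (τ : X.obj (op ⦋m⦌)) : p.app (op ⦋m⦌) (r H τ) = p.app (op ⦋m⦌) τ :=
  p_tw H τ _

lemma r_congr {m : ℕ} (τ τ' : X.obj (op ⦋m⦌)) (h : p.app (op ⦋m⦌) τ = p.app (op ⦋m⦌) τ') :
    r H τ = r H τ' :=
  tw_true_congr H τ τ' h

lemma I1 {m : ℕ} (τ : X.obj (op ⦋m⦌)) : X.δ 0 (hh H 0 τ) = r H τ := by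
  rw [δ_hh]
  have e : X.δ 0 (X.σ 0 τ) = τ :=
    ConcreteCategory.congr_hom (X.δ_comp_σ_self' (j := 0) (i := (0 : Fin (m + 1))) rfl) τ
  rw [e]
  unfold r
  apply tw_congr
  intro x
  simp

lemma I2 {m : ℕ} (τ : X.obj (op ⦋m⦌)) :
    X.δ (Fin.last (m + 1)) (hh H (Fin.last m) τ) = τ := by
  rw [δ_hh]
  have e : X.δ (Fin.last (m + 1)) (X.σ (Fin.last m) τ) = τ :=
    ConcreteCategory.congr_hom
      (X.δ_comp_σ_succ' (j := Fin.last (m + 1)) (i := Fin.last m) (Fin.succ_last m).symm) τ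
  rw [e]
  refine (tw_congr H τ _ _ ?_).trans (tw_false H τ)
  intro x
  have := x.is_lt
  simp only [Fin.val_last]
  constructor
  · intro h
    split_ifs at h <;> omega
  · exact False.elim

lemma I3 {m : ℕ} (i : Fin (m + 2)) (j : Fin (m + 1)) (hij : i ≤ j.castSucc)
    (τ : X.obj (op ⦋m + 1⦌)) :
    X.δ i.castSucc (hh H j.succ τ) = hh H j (X.δ i τ) := by
  rw [δ_hh]
  have e : X.δ i.castSucc (X.σ j.succ τ) = X.σ j (X.δ i τ) :=
    ConcreteCategory.congr_hom (X.δ_comp_σ_of_le hij) τ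
  rw [e]
  unfold hh
  apply tw_congr
  intro x
  have hij' : (i : ℕ) ≤ (j : ℕ) := by
    have := Fin.le_def.mp hij
    simpa using this
  simp only [Fin.val_succ, Fin.val_castSucc]
  split_ifs with hx <;> constructor <;> intro h <;> omega

lemma I4 {m : ℕ} (j : Fin (m + 1)) (τ : X.obj (op ⦋m + 1⦌)) :
    X.δ j.castSucc.succ (hh H j.succ τ) = X.δ j.castSucc.succ (hh H j.castSucc τ) := by
  rw [δ_hh, δ_hh]
  have e1 : X.δ j.castSucc.succ (X.σ j.succ τ) = τ :=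
    ConcreteCategory.congr_hom
      (X.δ_comp_σ_self' (j := j.castSucc.succ) (i := j.succ) (Fin.succ_castSucc j)) τ
  have e2 : X.δ j.castSucc.succ (X.σ j.castSucc τ) = τ :=
    ConcreteCategory.congr_hom (X.δ_comp_σ_succ (i := j.castSucc)) τ
  rw [e1, e2]
  apply tw_congr
  intro x
  simp only [Fin.val_succ, Fin.val_castSucc]
  split_ifs with hx <;> constructor <;> intro h <;> omega

lemma I5 {m : ℕ} (i : Fin (m + 2)) (j : Fin (m + 1)) (hji : j.castSucc < i)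
    (τ : X.obj (op ⦋m + 1⦌)) :
    X.δ i.succ (hh H j.castSucc τ) = hh H j (X.δ i τ) := by
  rw [δ_hh]
  have e : X.δ i.succ (X.σ j.castSucc τ) = X.σ j (X.δ i τ) :=
    ConcreteCategory.congr_hom (X.δ_comp_σ_of_gt hji) τ
  rw [e]
  unfold hh
  apply tw_congr
  intro x
  have hji' : (j : ℕ) < (i : ℕ) := by
    have := Fin.lt_def.mp hji
    simpa using this
  simp only [Fin.val_succ, Fin.val_castSucc]
  split_ifs with hx <;> constructor <;> intro h <;> omega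

end Groth.Agent.Lib.Helper62.CoskQI
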