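import Mathlib
import Groth.Agent.Lib.Helper62.CoskQIb
import Groth.Agent.Lib.Helper62.SemiHomotopy

/-! # Coskeletal comparison: the sectionwise quasi-isomorphism -/

set_option autoImplicit false

open CategoryTheory CategoryTheory.Limits Opposite Simplicial SimplexCategory AlgebraicTopology

universe u

namespace Groth.Agent.Lib.Helper62.CoskQI

open SemiHomotopy

variable {X Y' Y : SimplicialObject (Type u)} {q : X ⟶ Y'} {j : Y' ⟶ Y} {n : ℕ}
  (H : Hyp (q ≫ j) n)
  (hq : ∀ m : ℕ, Function.Surjective (fun x => q.app (op ⦋m⦌) x))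
  (hj : ∀ m : ℕ, Function.Injective (fun y => j.app (op ⦋m⦌) y))

/-- the (non-simplicial) section of `q` -/
noncomputable def sec (m : ℕ) (y : Y'.obj (op ⦋m⦌)) : X.obj (op ⦋m⦌) :=
  r H (Classical.choose (hq m y))

include hj in
lemma q_sec (m : ℕ) (y : Y'.obj (op ⦋m⦌)) : q.app (op ⦋m⦌) (sec H hq m y) = y := by
  apply hj m
  change (q ≫ j).app (op ⦋m⦌) (r H _) = j.app (op ⦋m⦌) y
  rw [p_r]
  change j.app (op ⦋m⦌) (q.app (op ⦋m⦌) (Classical.choose (hq m y))) = _
  have := Classical.choose_spec (hq m y)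
  dsimp only at this
  rw [this]

lemma sec_q (m : ℕ) (τ : X.obj (op ⦋m⦌)) : sec H hq m (q.app (op ⦋m⦌) τ) = r H τ := by
  apply r_congr
  change j.app (op ⦋m⦌) (q.app (op ⦋m⦌) _) = j.app (op ⦋m⦌) (q.app (op ⦋m⦌) τ)
  have := Classical.choose_spec (hq m (q.app (op ⦋m⦌) τ))
  dsimp only at this
  rw [this]

lemma q_δ {m : ℕ} (k : Fin (m + 2)) (τ : X.obj (op ⦋m + 1⦌)) :
    q.app (op ⦋m⦌) (X.δ k τ) = Y'.δ k (q.app (op ⦋m + 1⦌) τ) :=
  p_nat q (SimplexCategory.δ k) τ

lemma sec_δ {m : ℕ} (k : Fin (m + 2)) (y : Y'.obj (op ⦋m + 1⦌)) :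
    X.δ k (sec H hq (m + 1) y) = sec H hq m (Y'.δ k y) := by
  have hy := Classical.choose_spec (hq (m + 1) y)
  dsimp only at hy
  conv_rhs => rw [← hy, ← q_δ, sec_q]
  unfold sec
  rw [δ_r]

/-- the inverse chain map -/
noncomputable def invMap :
    (alternatingFaceMapComplex AddCommGrpCat.{u}).obj (Y' ⋙ AddCommGrpCat.free) ⟶
      (alternatingFaceMapComplex AddCommGrpCat.{u}).obj (X ⋙ AddCommGrpCat.free) :=
  semiMap (X := Y' ⋙ AddCommGrpCat.free) (Y := X ⋙ AddCommGrpCat.free)
    (fun m => AddCommGrpCat.free.map (↾(sec H hq m)))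
    (fun m k => by
      change AddCommGrpCat.free.map (Y'.δ k) ≫ AddCommGrpCat.free.map _ =
        AddCommGrpCat.free.map _ ≫ AddCommGrpCat.free.map (X.δ k)
      rw [← Functor.map_comp, ← Functor.map_comp]
      congr 1
      ext y
      exact (sec_δ H hq k y).symm)

/-- the semi-simplicial homotopy -/
noncomputable def semiH :
    SemiHomotopy (X := X ⋙ AddCommGrpCat.free) (Y := X ⋙ AddCommGrpCat.free)
      (fun _ => 𝟙 _) (fun m => AddCommGrpCat.free.map (↾(r H (m := m)))) where
  h i := AddCommGrpCat.free.map (↾(hh H i))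
  h_zero_comp_δ_zero m := by
    change AddCommGrpCat.free.map _ ≫ AddCommGrpCat.free.map (X.δ 0) = _
    rw [← Functor.map_comp]
    congr 1
    ext τ
    exact I1 H τ
  h_last_comp_δ_last m := by
    change AddCommGrpCat.free.map _ ≫ AddCommGrpCat.free.map (X.δ (Fin.last (m + 1))) = _
    rw [← Functor.map_comp]
    refine Eq.trans ?_ (AddCommGrpCat.free.map_id _)
    congr 1
    ext τ
    exact I2 H τ
  h_succ_comp_δ_castSucc_of_lt i k hik := by
    change AddCommGrpCat.free.map _ ≫ AddCommGrpCat.free.map (X.δ i.castSucc) =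
      AddCommGrpCat.free.map (X.δ i) ≫ AddCommGrpCat.free.map _
    rw [← Functor.map_comp, ← Functor.map_comp]
    congr 1
    ext τ
    exact I3 H i k hik τ
  h_succ_comp_δ_castSucc_succ k := by
    change AddCommGrpCat.free.map _ ≫ AddCommGrpCat.free.map (X.δ k.castSucc.succ) =
      AddCommGrpCat.free.map _ ≫ AddCommGrpCat.free.map (X.δ k.castSucc.succ)
    rw [← Functor.map_comp, ← Functor.map_comp]
    congr 1
    ext τ
    exact I4 H k τ
  h_castSucc_comp_δ_succ_of_lt i k hki := by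
    change AddCommGrpCat.free.map _ ≫ AddCommGrpCat.free.map (X.δ i.succ) =
      AddCommGrpCat.free.map (X.δ i) ≫ AddCommGrpCat.free.map _
    rw [← Functor.map_comp, ← Functor.map_comp]
    congr 1
    ext τ
    exact I5 H i k hki τ

/-- the homotopy equivalence -/
noncomputable def he :
    HomotopyEquiv ((alternatingFaceMapComplex AddCommGrpCat.{u}).obj (X ⋙ AddCommGrpCat.free))
      ((alternatingFaceMapComplex AddCommGrpCat.{u}).obj (Y' ⋙ AddCommGrpCat.free)) where
  hom := (alternatingFaceMapComplex AddCommGrpCat.{u}).map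
    (Functor.whiskerRight q AddCommGrpCat.free)
  inv := invMap H hq
  homotopyHomInvId := ((semiH H).toChainHomotopy (𝟙 _)
    ((alternatingFaceMapComplex AddCommGrpCat.{u}).map
      (Functor.whiskerRight q AddCommGrpCat.free) ≫ invMap H hq)
    (fun m => rfl)
    (fun m => by
      change AddCommGrpCat.free.map (q.app (op ⦋m⦌)) ≫ AddCommGrpCat.free.map _ = _
      rw [← Functor.map_comp]
      congr 1
      ext τ
      exact sec_q H hq m τ)).symm
  homotopyInvHomId := Homotopy.ofEq (by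
    ext m : 1
    change AddCommGrpCat.free.map _ ≫ AddCommGrpCat.free.map (q.app (op ⦋m⦌)) = 𝟙 _
    rw [← Functor.map_comp]
    refine Eq.trans ?_ (AddCommGrpCat.free.map_id _)
    congr 1
    ext y
    exact q_sec H hq hj m y)

include H hq hj in
theorem quasiIso_sect :
    QuasiIso ((alternatingFaceMapComplex AddCommGrpCat.{u}).map
      (Functor.whiskerRight q AddCommGrpCat.free)) :=
  (he H hq hj).quasiIso_hom

end Groth.Agent.Lib.Helper62.CoskQI
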