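import Mathlib
import Groth.Agent.Lib.Helper62.CoskQIa
import Groth.Agent.Lib.Helper62.CoskW

/-! # Coskeletal comparison: elementwise form of coskeletality -/

set_option autoImplicit false
set_option backward.isDefEq.respectTransparency false
set_option backward.isDefEq.respectTransparency.types false

open CategoryTheory CategoryTheory.Limits Opposite Simplicial SimplexCategory CategoryTheory.Functor

universe w v u

namespace Groth.Agent.Lib.Helper62.CoskQI

open CoskW

variable {D : Type u} [Category.{v} D]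
  [∀ (n : ℕ) (Y : SimplexCategoryᵒᵖ), HasLimitsOfShape (StructuredArrow Y (CoskW.L n)) D]
  (n : ℕ)
  [∀ (F : (SimplexCategory.Truncated n)ᵒᵖ ⥤ D),
    (SimplexCategory.Truncated.inclusion n).op.HasRightKanExtension F]
  (K : SimplicialObject D) (hK : IsIso ((SimplicialObject.coskAdj n).unit.app K))
  (G : D ⥤ Type w)
  [∀ m : ℕ, PreservesLimitsOfShape (StructuredArrow (op ⦋m⦌) (CoskW.L n)) G]

lemma G_η_cmp {m : ℕ} (w : G.obj (K.obj (op ⦋m⦌))) (a : SimplexCategory) (ha : a.len ≤ n)
    (θ : a ⟶ ⦋m⦌) :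
    G.map (cmp n K a ha θ) (G.map ((η n K).app (op ⦋m⦌)) w) = G.map (K.map θ.op) w := by
  rw [← Functor.map_comp_apply, η_cmp]

include hK in
theorem U_of_cosk : U (K ⋙ G) n := by
  intro m x y hxy
  haveI : IsIso (η n K) := hK
  have hbij := (isIso_iff_bijective (G.map ((η n K).app (op ⦋m⦌)))).1 inferInstance
  apply hbij.1
  have hlim := (Types.isLimit_iff _).1 ⟨isLimitOfPreserves G (hB n K (op ⦋m⦌))⟩
  obtain ⟨z, -, huniq⟩ := hlim _ (Types.sectionOfCone
    (G.mapCone ((RightExtension.mk (R n K) (ε n K)).coneAt (op ⦋m⦌)))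
    (G.map ((η n K).app (op ⦋m⦌)) x)).2
  rw [huniq (G.map ((η n K).app (op ⦋m⦌)) x) (fun j => rfl)]
  symm
  apply huniq
  intro j
  obtain ⟨l, r, hom⟩ := j
  exact (G_η_cmp n K G y r.unop.obj r.unop.property hom.unop).trans
    ((hxy r.unop.obj r.unop.property hom.unop).symm.trans
      (G_η_cmp n K G x r.unop.obj r.unop.property hom.unop).symm)

include hK in
theorem E_of_cosk : E (K ⋙ G) n := by
  intro m fam hfam
  haveI : IsIso (η n K) := hK
  have hbij := (isIso_iff_bijective (G.map ((η n K).app (op ⦋m⦌)))).1 inferInstance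
  have hlim := (Types.isLimit_iff _).1 ⟨isLimitOfPreserves G (hB n K (op ⦋m⦌))⟩
  obtain ⟨z, hz, -⟩ := hlim
    (fun j => fam j.right.unop.obj j.right.unop.property j.hom.unop) (by
      intro j j' φ
      obtain ⟨l, r, hom⟩ := j
      obtain ⟨l', r', hom'⟩ := j'
      have hw := StructuredArrow.w φ
      have hw' : hom ≫ (CoskW.L n).map φ.right = hom' := hw
      have e : hom'.unop = φ.right.unop.hom ≫ hom.unop :=
        congrArg Quiver.Hom.unop hw'.symm
      change _ = fam r'.unop.obj r'.unop.property hom'.unop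
      rw [e]
      exact hfam r.unop.obj r'.unop.obj r.unop.property r'.unop.property hom.unop
        φ.right.unop.hom)
  obtain ⟨x, hx⟩ := hbij.2 z
  refine ⟨x, ?_⟩
  intro a ha θ
  have h1 := G_η_cmp n K G x a ha θ
  rw [hx] at h1
  exact h1.symm.trans (hz (mkJ n a ha θ))

end Groth.Agent.Lib.Helper62.CoskQI
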