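import Mathlib
import Groth.Agent.Lib.Helper62.CoskQIc

/-! # Coskeletal comparison: the presheaf-level core theorem -/

set_option autoImplicit false

open CategoryTheory CategoryTheory.Limits Opposite Simplicial SimplexCategory AlgebraicTopology

universe u

namespace Groth.Agent.Lib.Helper62.CoskQI

variable {C : Type u} [SmallCategory C] (J : GrothendieckTopology C)
  {L K : SimplicialObject (Cᵒᵖ ⥤ Type u)} (f : L ⟶ K) (n : ℕ)

/-- sections over `T` -/
abbrev ev (T : C) : (Cᵒᵖ ⥤ Type u) ⥤ Type u := (evaluation Cᵒᵖ (Type u)).obj (op T)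

/-- local surjectivity in all degrees -/
theorem locSurj_all (hH : ∀ T : C, Hyp (Functor.whiskerRight f (ev T)) n)
    (h2 : Presheaf.IsLocallySurjective J (f.app (op ⦋n⦌))) (m : ℕ) :
    Presheaf.IsLocallySurjective J (f.app (op ⦋m⦌)) where
  imageSieve_mem {U} y := by
    classical
    haveI := Fintype.ofFinite (⦋n⦌ ⟶ ⦋m⦌)
    let S : (⦋n⦌ ⟶ ⦋m⦌) → Sieve U := fun θ =>
      Presheaf.imageSieve (f.app (op ⦋n⦌)) ((K.map θ.op).app (op U) y)
    have hS : (Finset.univ.inf S) ∈ J U :=
      Finset.inf_induction (J.top_mem U) (fun _ h1 _ h2 => J.intersection_covering h1 h2)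
        (fun θ _ => Presheaf.imageSieve_mem J (f.app (op ⦋n⦌)) _)
    refine J.superset_covering ?_ hS
    intro V g hg
    have hg' : ∀ θ : ⦋n⦌ ⟶ ⦋m⦌, (S θ).arrows g := fun θ =>
      (Finset.inf_le (Finset.mem_univ θ) : Finset.univ.inf S ≤ S θ) _ hg
    have key : ∀ (a : SimplexCategory) (θ : a ⟶ ⦋m⦌), a.len = n →
        ∃ t : (L.obj (op a)).obj (op V), (f.app (op a)).app (op V) t =
          (K.map θ.op).app (op V) ((K.obj (op ⦋m⦌)).map g.op y) := by
      intro a θ ha
      obtain rfl : a = ⦋n⦌ := by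
        ext
        exact ha
      obtain ⟨t, ht⟩ := hg' θ
      exact ⟨t, ht.trans (NatTrans.naturality_apply (K.map θ.op) g.op y).symm⟩
    choose c hc using key
    obtain ⟨τ, hτ, -⟩ := lift_exists (hH V) (X := L ⋙ ev V) (Y := K ⋙ ev V)
      ((K.obj (op ⦋m⦌)).map g.op y) (fun a θ ha _ => c a θ ha) (fun a θ ha _ => hc a θ ha)
    exact ⟨τ, hτ⟩

/-! ### the image simplicial presheaf -/

/-- the transition maps of the image -/
def imgMap {a b : SimplexCategoryᵒᵖ} (θ : a ⟶ b) :
    (Subfunctor.range (f.app a)).toFunctor ⟶ (Subfunctor.range (f.app b)).toFunctor :=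
  Subfunctor.lift ((Subfunctor.range (f.app a)).ι ≫ K.map θ) (by
    rintro U _ ⟨⟨_, ⟨t, rfl⟩⟩, rfl⟩
    exact ⟨(L.map θ).app U t,
      ConcreteCategory.congr_hom (congrArg (fun φ : L.obj a ⟶ K.obj b => φ.app U) (f.naturality θ)) t⟩)

/-- the image of `f`, as a simplicial presheaf -/
def img : SimplicialObject (Cᵒᵖ ⥤ Type u) where
  obj a := (Subfunctor.range (f.app a)).toFunctor
  map θ := imgMap f θ
  map_id a := by
    ext U x
    obtain ⟨v, hv⟩ := x
    apply Subtype.ext
    change (K.map (𝟙 a)).app U v = v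
    rw [K.map_id]
    rfl
  map_comp θ ψ := by
    ext U x
    obtain ⟨v, hv⟩ := x
    apply Subtype.ext
    change (K.map (θ ≫ ψ)).app U v = (K.map ψ).app U ((K.map θ).app U v)
    rw [K.map_comp]
    rfl

/-- the corestriction -/
def toImg : L ⟶ img f where
  app a := Subfunctor.toRange (f.app a)
  naturality a b θ := by
    ext U t
    apply Subtype.ext
    exact ConcreteCategory.congr_hom (congrArg (fun φ : L.obj a ⟶ K.obj b => φ.app U) (f.naturality θ)) t

/-- the inclusion -/
def imgι : img f ⟶ K where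
  app a := (Subfunctor.range (f.app a)).ι
  naturality a b θ := rfl

lemma toImg_ι : toImg f ≫ imgι f = f := by
  apply NatTrans.ext
  funext a
  exact Subfunctor.toRange_ι (f.app a)

lemma toImg_surj (T : C) (m : ℕ) :
    Function.Surjective
      (fun x => (Functor.whiskerRight (toImg f) (ev T)).app (op ⦋m⦌) x) := by
  rintro ⟨v, ⟨t, ht⟩⟩
  exact ⟨t, Subtype.ext ht⟩

lemma imgι_inj (T : C) (m : ℕ) :
    Function.Injective
      (fun x => (Functor.whiskerRight (imgι f) (ev T)).app (op ⦋m⦌) x) := by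
  intro y y' h
  exact Subtype.ext (show y.val = y'.val from h)

theorem quasiIso_sect_img (hH : ∀ T : C, Hyp (Functor.whiskerRight f (ev T)) n) (T : C) :
    QuasiIso ((alternatingFaceMapComplex AddCommGrpCat.{u}).map
      (Functor.whiskerRight (Functor.whiskerRight (toImg f) (ev T)) AddCommGrpCat.free)) := by
  have e : Functor.whiskerRight (toImg f) (ev T) ≫ Functor.whiskerRight (imgι f) (ev T) =
      Functor.whiskerRight f (ev T) := by
    rw [← Functor.whiskerRight_comp, toImg_ι]
  have H : Hyp (Functor.whiskerRight (toImg f) (ev T) ≫ Functor.whiskerRight (imgι f) (ev T)) n := by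
    rw [e]
    exact hH T
  exact quasiIso_sect H (toImg_surj f T) (imgι_inj f T)

end Groth.Agent.Lib.Helper62.CoskQI
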