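import Mathlib
import Groth.Agent.Lib.Helper62.CoskQIe

/-! # Coskeletal comparison: passage to sheaves -/

set_option autoImplicit false

open CategoryTheory CategoryTheory.Limits Opposite Simplicial SimplexCategory AlgebraicTopology

universe u

namespace Groth.Agent.Lib.Helper62.CoskQI

variable {C : Type u} [SmallCategory C] (J : GrothendieckTopology C)

/-- the free abelian presheaf functor -/
abbrev Wf : (Cᵒᵖ ⥤ Type u) ⥤ (Cᵒᵖ ⥤ AddCommGrpCat.{u}) :=
  (Functor.whiskeringRight Cᵒᵖ (Type u) AddCommGrpCat.{u}).obj AddCommGrpCat.free.{u}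

variable {L K : SimplicialObject (Cᵒᵖ ⥤ Type u)}

theorem quasiIso_presheaf (q : L ⟶ K)
    (hsect : ∀ T : C, QuasiIso ((alternatingFaceMapComplex AddCommGrpCat.{u}).map
      (Functor.whiskerRight (Functor.whiskerRight q (ev T)) AddCommGrpCat.free))) :
    QuasiIso ((alternatingFaceMapComplex (Cᵒᵖ ⥤ AddCommGrpCat.{u})).map
      (Functor.whiskerRight q Wf)) := by
  rw [HomologicalComplex.quasiIso_iff_evaluation]
  intro t
  have h := Functor.congr_hom
    (map_alternatingFaceMapComplex ((evaluation Cᵒᵖ AddCommGrpCat.{u}).obj t))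
    (Functor.whiskerRight q Wf)
  dsimp only [Functor.comp_map] at h
  rw [h]
  haveI : QuasiIso ((alternatingFaceMapComplex AddCommGrpCat.{u}).map
      (((SimplicialObject.whiskering _ _).obj ((evaluation Cᵒᵖ AddCommGrpCat.{u}).obj t)).map
        (Functor.whiskerRight q Wf))) := hsect t.unop
  infer_instance

theorem quasiIso_sheaf (q : L ⟶ K)
    (h : QuasiIso ((alternatingFaceMapComplex (Cᵒᵖ ⥤ AddCommGrpCat.{u})).map
      (Functor.whiskerRight q Wf))) :
    QuasiIso ((alternatingFaceMapComplex (Sheaf J AddCommGrpCat.{u})).map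
      (Functor.whiskerRight q (Wf ⋙ presheafToSheaf J AddCommGrpCat.{u}))) := by
  have hc := Functor.congr_hom
    (map_alternatingFaceMapComplex (presheafToSheaf J AddCommGrpCat.{u}))
    (Functor.whiskerRight q Wf)
  dsimp only [Functor.comp_map] at hc
  have h1 : QuasiIso (((presheafToSheaf J AddCommGrpCat.{u}).mapHomologicalComplex _).map
      ((alternatingFaceMapComplex (Cᵒᵖ ⥤ AddCommGrpCat.{u})).map (Functor.whiskerRight q Wf))) :=
    inferInstance
  rw [hc, quasiIso_iff_comp_left, quasiIso_iff_comp_right] at h1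
  exact h1

end Groth.Agent.Lib.Helper62.CoskQI
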