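import Mathlib
import Groth.Agent.Lib.Helper62.CoskQIf
import Groth.Agent.Lib.Helper62.CoskQId

/-! # Coskeletal comparison: the core theorem for simplicial presheaves -/

set_option autoImplicit false

open CategoryTheory CategoryTheory.Limits Opposite Simplicial SimplexCategory AlgebraicTopology

universe u

namespace Groth.Agent.Lib.Helper62.CoskQI

variable {C : Type u} [SmallCategory C] (J : GrothendieckTopology C)
  {L K : SimplicialObject (Cᵒᵖ ⥤ Type u)}

theorem isIso_imgι (f : L ⟶ K)
    (hls : ∀ m : ℕ, Presheaf.IsLocallySurjective J (f.app (op ⦋m⦌))) :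
    IsIso (Functor.whiskerRight (imgι f) (Wf ⋙ presheafToSheaf J AddCommGrpCat.{u})) := by
  haveI : ∀ a, IsIso ((Functor.whiskerRight (imgι f)
      (Wf ⋙ presheafToSheaf J AddCommGrpCat.{u})).app a) := by
    intro a
    haveI : Presheaf.IsLocallySurjective J (f.app a) := hls a.unop.len
    haveI : Presheaf.IsLocallySurjective J (Subfunctor.range (f.app a)).ι :=
      Presheaf.isLocallySurjective_of_isLocallySurjective_fac J (Subfunctor.toRange_ι (f.app a))
    have hW : J.W ((Subfunctor.range (f.app a)).ι) := J.W_of_isLocallyBijective _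
    exact J.W_isInvertedBy_whiskeringRight_presheafToSheaf AddCommGrpCat.free _ hW
  exact NatIso.isIso_of_isIso_app _

theorem core (f : L ⟶ K) (n : ℕ) (hH : ∀ T : C, Hyp (Functor.whiskerRight f (ev T)) n)
    (h2 : Presheaf.IsLocallySurjective J (f.app (op ⦋n⦌))) :
    (∀ m : ℕ, Presheaf.IsLocallySurjective J (f.app (op ⦋m⦌))) ∧
    QuasiIso ((alternatingFaceMapComplex (Sheaf J AddCommGrpCat.{u})).map
      (Functor.whiskerRight f (Wf ⋙ presheafToSheaf J AddCommGrpCat.{u}))) := by
  have hls := locSurj_all J f n hH h2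
  refine ⟨hls, ?_⟩
  have e : Functor.whiskerRight f (Wf ⋙ presheafToSheaf J AddCommGrpCat.{u}) =
      Functor.whiskerRight (toImg f) (Wf ⋙ presheafToSheaf J AddCommGrpCat.{u}) ≫
        Functor.whiskerRight (imgι f) (Wf ⋙ presheafToSheaf J AddCommGrpCat.{u}) := by
    rw [← Functor.whiskerRight_comp, toImg_ι]
  rw [e, Functor.map_comp]
  haveI := quasiIso_sheaf J (toImg f) (quasiIso_presheaf (toImg f) (quasiIso_sect_img f n hH))
  haveI := isIso_imgι J f hls
  infer_instance

end Groth.Agent.Lib.Helper62.CoskQI
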