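import Mathlib.Algebra.Homology.HomologySequenceLemmas
import Mathlib.Algebra.Homology.Embedding.CochainComplex
import Mathlib.Algebra.Homology.HomotopyCategory.Pretriangulated
import Mathlib.Algebra.Homology.HomologicalComplexLimits
import Mathlib.Algebra.Homology.HomologicalComplexAbelian

/-!
Factorisation of an `n`-quasi-isomorphism of cochain complexes as a degreewise mono which is an iso in
degrees `≥ n`, followed by a quasi-isomorphism.  Everything is done in the abelian category of
complexes (cokernels, canonical truncations, pullbacks).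
-/

universe v u

open CategoryTheory Limits HomologicalComplex

namespace Groth.Agent.Lib.Helper62

variable {C : Type u} [Category.{v} C] [Abelian C]

/-- In a short exact sequence of complexes with acyclic third term, the first map is a
quasi-isomorphism. -/
theorem quasiIso_f_of_acyclic_X₃ {S : ShortComplex (CochainComplex C ℤ)} (hS : S.ShortExact)
    (h : S.X₃.Acyclic) : QuasiIso S.f := by
  rw [quasiIso_iff]
  intro i
  rw [quasiIsoAt_iff_isIso_homologyMap]
  have hz : ∀ j, IsZero (S.X₃.homology j) := fun j => (exactAt_iff_isZero_homology _ _).1 (h j)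
  have h1 : Mono (homologyMap S.f i) :=
    (hS.homology_exact₁ (i - 1) i (by simp)).mono_g ((hz (i - 1)).eq_of_src _ _)
  have h2 : Epi (homologyMap S.f i) :=
    (hS.homology_exact₂ i).epi_f ((hz i).eq_of_tgt _ _)
  exact isIso_of_mono_of_epi _

/-- In a short exact sequence of complexes with acyclic first term, the second map is a
quasi-isomorphism. -/
theorem quasiIso_g_of_acyclic_X₁ {S : ShortComplex (CochainComplex C ℤ)} (hS : S.ShortExact)
    (h : S.X₁.Acyclic) : QuasiIso S.g := by
  rw [quasiIso_iff]
  intro i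
  rw [quasiIsoAt_iff_isIso_homologyMap]
  have hz : ∀ j, IsZero (S.X₁.homology j) := fun j => (exactAt_iff_isZero_homology _ _).1 (h j)
  have h1 : Mono (homologyMap S.g i) :=
    (hS.homology_exact₂ i).mono_g ((hz i).eq_of_src _ _)
  have h2 : Epi (homologyMap S.g i) :=
    (hS.homology_exact₃ i (i + 1) (by simp)).epi_f ((hz (i + 1)).eq_of_tgt _ _)
  exact isIso_of_mono_of_epi _

/-- The mono case of the factorisation. -/
theorem exists_factor_of_mono (n : ℤ) {E F : CochainComplex C ℤ} (u : E ⟶ F) [Mono u]
    (hiso : ∀ i : ℤ, n < i → IsIso (homologyMap u i)) (hepi : Epi (homologyMap u n)) :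
    ∃ (E' : CochainComplex C ℤ) (v : E ⟶ E') (u' : E' ⟶ F), v ≫ u' = u ∧ QuasiIso u' ∧ Mono u' ∧
      (∀ i : ℤ, Mono (v.f i)) ∧ (∀ i : ℤ, n ≤ i → IsIso (v.f i)) := by
  let S : ShortComplex (CochainComplex C ℤ) := ShortComplex.mk u (cokernel.π u) (cokernel.condition u)
  have hS : S.ShortExact :=
    { exact := ShortComplex.exact_cokernel u
      mono_f := inferInstanceAs (Mono u)
      epi_g := inferInstanceAs (Epi (cokernel.π u)) }
  let N : CochainComplex C ℤ := cokernel u
  have hN : N.IsLE (n - 1) := by
    rw [CochainComplex.isLE_iff]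
    intro i hi
    have hi' : n ≤ i := by omega
    refine hS.exactAt_X₃ i ?_ ?_
    · rcases hi'.eq_or_lt with h | h
      · subst h; exact hepi
      · have := hiso i h
        change Epi (homologyMap u i)
        infer_instance
    · intro j hij
      have hj : n < j := by
        have : i + 1 = j := hij
        omega
      have := hiso j hj
      change Mono (homologyMap u j)
      infer_instance
  let ι : N.truncLE (n - 1) ⟶ N := N.ιTruncLE (n - 1)
  have hι : QuasiIso ι := inferInstance
  let T := N.shortComplexTruncLE (n - 1)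
  have hT : T.ShortExact := N.shortComplexTruncLE_shortExact (n - 1)
  have hQ : T.X₃.Acyclic := hT.acyclic_X₃ hι
  let E' : CochainComplex C ℤ := pullback (cokernel.π u) ι
  let v : E ⟶ E' := pullback.lift u 0 (by simp)
  let u' : E' ⟶ F := pullback.fst _ _
  have hvu : v ≫ u' = u := pullback.lift_fst _ _ _
  have hmonoι : Mono ι := hT.mono_f
  have hmonou' : Mono u' := pullback.fst_of_mono
  have hmonov : Mono v := mono_of_mono_fac hvu
  -- the short exact sequence `0 → E' → F → N / τ_{≤ n-1} N → 0`
  have hw : u' ≫ cokernel.π u ≫ T.g = 0 := by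
    rw [← Category.assoc, pullback.condition, Category.assoc]
    have : ι ≫ T.g = 0 := T.zero
    rw [this, comp_zero]
  let S2 : ShortComplex (CochainComplex C ℤ) := ShortComplex.mk u' (cokernel.π u ≫ T.g) hw
  have hS2 : S2.ShortExact := by
    have : Epi T.g := hT.epi_g
    refine
      { exact := ?_
        mono_f := hmonou'
        epi_g := @epi_comp _ _ _ _ _ (cokernel.π u) _ T.g hT.epi_g }
    apply ShortComplex.exact_of_f_is_kernel
    refine KernelFork.IsLimit.ofι' _ _ (fun {A} k hk => ?_)
    have hk' : (k ≫ cokernel.π u) ≫ T.g = 0 := by rw [Category.assoc]; exact hk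
    have := hT.mono_f
    refine ⟨pullback.lift k (hT.exact.lift (k ≫ cokernel.π u) hk') ?_, pullback.lift_fst _ _ _⟩
    exact (hT.exact.lift_f _ _).symm
  have hqu' : QuasiIso u' := quasiIso_f_of_acyclic_X₃ hS2 hQ
  -- the exact sequence `0 → E → E' → τ_{≤ n-1} N`
  have hw3 : v ≫ pullback.snd (cokernel.π u) ι = 0 := pullback.lift_snd _ _ _
  let S3 : ShortComplex (CochainComplex C ℤ) := ShortComplex.mk v (pullback.snd _ _) hw3
  have hS3 : S3.Exact := by
    apply ShortComplex.exact_of_f_is_kernel
    refine KernelFork.IsLimit.ofι' _ _ (fun {A} k hk => ?_)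
    have hk' : (k ≫ u') ≫ cokernel.π u = 0 := by
      rw [Category.assoc, pullback.condition, ← Category.assoc]
      have : k ≫ pullback.snd (cokernel.π u) ι = 0 := hk
      rw [this, zero_comp]
    refine ⟨hS.exact.lift (k ≫ u') hk', ?_⟩
    apply pullback.hom_ext
    · rw [Category.assoc]
      have h1 : v ≫ pullback.fst (cokernel.π u) ι = u := hvu
      rw [h1]
      exact hS.exact.lift_f _ _
    · rw [Category.assoc, hw3, comp_zero]
      exact hk.symm
  refine ⟨E', v, u', hvu, hqu', hmonou', fun i => inferInstance, fun i hi => ?_⟩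
  have hex := hS3.map (eval C (ComplexShape.up ℤ) i)
  have hzero : IsZero ((N.truncLE (n - 1)).X i) :=
    CochainComplex.isZero_of_isStrictlyLE _ (n - 1) i (by omega)
  have hepi' : Epi (v.f i) := hex.epi_f (hzero.eq_of_tgt _ _)
  have hmono' : Mono (v.f i) := inferInstance
  exact isIso_of_mono_of_epi _


open CochainComplex in
/-- The mapping cone of an identity is acyclic. -/
theorem acyclic_mappingCone_id (E : CochainComplex C ℤ) : (mappingCone (𝟙 E)).Acyclic := by
  intro i
  rw [exactAt_iff_isZero_homology, IsZero.iff_id_eq_zero, ← homologyMap_id,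
    (mappingCone.homotopyToZeroOfId E).homologyMap_eq i, homologyMap_zero]

open CochainComplex in
theorem mono_mappingCone_inr {E F : CochainComplex C ℤ} (φ : E ⟶ F) : Mono (mappingCone.inr φ) := by
  apply mono_of_mono_f
  intro i
  exact mono_of_mono_fac (mappingCone.inr_f_snd_v φ i)

open CochainComplex in
/-- Factorisation of an `n`-quasi-isomorphism `u : E ⟶ F` as `v ≫ u'` with `u'` a quasi-isomorphism and
`v` a degreewise mono which is an iso in degrees `≥ n`. -/
theorem exists_factor (n : ℤ) {E F : CochainComplex C ℤ} (u : E ⟶ F)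
    (hiso : ∀ i : ℤ, n < i → IsIso (homologyMap u i)) (hepi : Epi (homologyMap u n)) :
    ∃ (E' : CochainComplex C ℤ) (v : E ⟶ E') (u' : E' ⟶ F), v ≫ u' = u ∧ QuasiIso u' ∧
      (∀ i : ℤ, Mono (v.f i)) ∧ (∀ i : ℤ, n ≤ i → IsIso (v.f i)) := by
  let K : CochainComplex C ℤ := mappingCone (𝟙 E)
  let S : ShortComplex (CochainComplex C ℤ) :=
    ShortComplex.mk (biprod.inl : K ⟶ K ⊞ F) (biprod.snd : K ⊞ F ⟶ F) (by simp)
  have hS : S.ShortExact := (ShortComplex.Splitting.ofHasBinaryBiproduct K F).shortExact
  have hsnd : QuasiIso (biprod.snd : K ⊞ F ⟶ F) :=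
    quasiIso_g_of_acyclic_X₁ hS (acyclic_mappingCone_id E)
  let ũ : E ⟶ K ⊞ F := biprod.lift (mappingCone.inr (𝟙 E)) u
  have hũ1 : ũ ≫ biprod.fst = mappingCone.inr (𝟙 E) := biprod.lift_fst _ _
  have hũ2 : ũ ≫ biprod.snd = u := biprod.lift_snd _ _
  have : Mono (mappingCone.inr (𝟙 E)) := mono_mappingCone_inr _
  have hmono : Mono ũ := mono_of_mono_fac hũ1
  have hH : ∀ i, homologyMap ũ i ≫ homologyMap (biprod.snd : K ⊞ F ⟶ F) i = homologyMap u i := by
    intro i
    rw [← homologyMap_comp, hũ2]
  have hsndi : ∀ i, IsIso (homologyMap (biprod.snd : K ⊞ F ⟶ F) i) := fun i => by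
    rw [← quasiIsoAt_iff_isIso_homologyMap]
    infer_instance
  have hiso' : ∀ i : ℤ, n < i → IsIso (homologyMap ũ i) := by
    intro i hi
    have := hiso i hi
    have := hsndi i
    have h1 : IsIso (homologyMap ũ i ≫ homologyMap (biprod.snd : K ⊞ F ⟶ F) i) := by
      rw [hH]; infer_instance
    exact IsIso.of_isIso_comp_right _ (homologyMap (biprod.snd : K ⊞ F ⟶ F) i)
  have hepi' : Epi (homologyMap ũ n) := by
    have := hsndi n
    have h1 : homologyMap ũ n = homologyMap u n ≫ inv (homologyMap (biprod.snd : K ⊞ F ⟶ F) n) := by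
      rw [← hH, Category.assoc, IsIso.hom_inv_id, Category.comp_id]
    rw [h1]
    infer_instance
  obtain ⟨E', v, u'', h1, h2, _, h3, h4⟩ := exists_factor_of_mono n ũ hiso' hepi'
  refine ⟨E', v, u'' ≫ biprod.snd, ?_, ?_, h3, h4⟩
  · rw [← Category.assoc, h1, hũ2]
  · infer_instance

end Groth.Agent.Lib.Helper62
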