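import Mathlib
import Groth.Agent.Lib.Helper68.RightDerivedLES

/-! # Comparison of two effaceable cohomological delta functors, objectwise -/

set_option autoImplicit false

open CategoryTheory CategoryTheory.Limits

universe v u v' u'

namespace Groth.Agent.Lib.Helper62.DeltaCmp

variable {𝒜 : Type u} [Category.{v} 𝒜] [Abelian 𝒜]
variable {𝒟 : Type u'} [Category.{v'} 𝒟] [Abelian 𝒟]

/-- the part of the structure of a cohomological delta functor that dimension shifting needs -/
structure DeltaData (G : ℕ → 𝒜 ⥤ 𝒟) where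
  /-- connecting maps -/
  δ : ∀ (S : ShortComplex 𝒜) (_ : S.ShortExact) (p : ℕ), (G p).obj S.X₃ ⟶ (G (p + 1)).obj S.X₁
  w3 : ∀ (S : ShortComplex 𝒜) (hS : S.ShortExact) (p : ℕ), (G p).map S.g ≫ δ S hS p = 0
  w1 : ∀ (S : ShortComplex 𝒜) (hS : S.ShortExact) (p : ℕ), δ S hS p ≫ (G (p + 1)).map S.f = 0
  ex3 : ∀ (S : ShortComplex 𝒜) (hS : S.ShortExact) (p : ℕ),
    (ShortComplex.mk _ _ (w3 S hS p)).Exact
  ex1 : ∀ (S : ShortComplex 𝒜) (hS : S.ShortExact) (p : ℕ),
    (ShortComplex.mk _ _ (w1 S hS p)).Exact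
  vanish : ∀ (J : 𝒜) [Injective J] (p : ℕ), IsZero ((G (p + 1)).obj J)

variable [EnoughInjectives 𝒜]

/-- the standard embedding sequence `0 → X → J → Q → 0` -/
noncomputable def es (X : 𝒜) : ShortComplex 𝒜 :=
  ShortComplex.mk (Injective.ι X) (cokernel.π (Injective.ι X)) (cokernel.condition _)

lemma es_shortExact (X : 𝒜) : (es X).ShortExact where
  exact := ShortComplex.exact_cokernel _
  mono_f := by
    change Mono (Injective.ι X)
    infer_instance
  epi_g := by
    change Epi (cokernel.π (Injective.ι X))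
    infer_instance

instance (X : 𝒜) : Injective (es X).X₂ := by
  change Injective (Injective.under X)
  infer_instance

theorem nonempty_iso {G G' : ℕ → 𝒜 ⥤ 𝒟} (D : DeltaData G) (D' : DeltaData G')
    (e0 : G 0 ≅ G' 0) : ∀ (p : ℕ) (X : 𝒜), Nonempty ((G p).obj X ≅ (G' p).obj X) := by
  intro p
  induction p with
  | zero => exact fun X => ⟨e0.app X⟩
  | succ p ih =>
    intro X
    have hS := es_shortExact X
    cases p with
    | zero =>
      have hepi : Epi (D.δ (es X) hS 0) :=
        (D.ex1 (es X) hS 0).epi_f ((D.vanish (es X).X₂ 0).eq_of_tgt _ _)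
      have hepi' : Epi (D'.δ (es X) hS 0) :=
        (D'.ex1 (es X) hS 0).epi_f ((D'.vanish (es X).X₂ 0).eq_of_tgt _ _)
      have c := (D.ex3 (es X) hS 0).gIsCokernel
      have c' := (D'.ex3 (es X) hS 0).gIsCokernel
      exact ⟨CokernelCofork.mapIsoOfIsColimit c c'
        (Arrow.isoMk (e0.app _) (e0.app _) (e0.hom.naturality (es X).g).symm)⟩
    | succ p =>
      have h1 : IsIso (D.δ (es X) hS (p + 1)) := by
        have : Mono (D.δ (es X) hS (p + 1)) :=
          (D.ex3 (es X) hS (p + 1)).mono_g ((D.vanish (es X).X₂ p).eq_of_src _ _)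
        have : Epi (D.δ (es X) hS (p + 1)) :=
          (D.ex1 (es X) hS (p + 1)).epi_f ((D.vanish (es X).X₂ (p + 1)).eq_of_tgt _ _)
        exact isIso_of_mono_of_epi _
      have h2 : IsIso (D'.δ (es X) hS (p + 1)) := by
        have : Mono (D'.δ (es X) hS (p + 1)) :=
          (D'.ex3 (es X) hS (p + 1)).mono_g ((D'.vanish (es X).X₂ p).eq_of_src _ _)
        have : Epi (D'.δ (es X) hS (p + 1)) :=
          (D'.ex1 (es X) hS (p + 1)).epi_f ((D'.vanish (es X).X₂ (p + 1)).eq_of_tgt _ _)
        exact isIso_of_mono_of_epi _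
      obtain ⟨e⟩ := ih (es X).X₃
      exact ⟨(@asIso _ _ _ _ (D.δ (es X) hS (p + 1)) h1).symm ≪≫ e ≪≫
        @asIso _ _ _ _ (D'.δ (es X) hS (p + 1)) h2⟩

open Groth.Agent.Lib.Helper68 in
/-- right derived functors form such a structure -/
noncomputable def rightDerivedData (F : 𝒜 ⥤ 𝒟) [F.Additive] :
    DeltaData (fun p => F.rightDerived p) where
  δ S hS p := RightDerivedLES.δ F hS p
  w3 S hS p := RightDerivedLES.map_g_δ F hS p
  w1 S hS p := RightDerivedLES.δ_map_f F hS p
  ex3 S hS p := RightDerivedLES.exact₃ F hS p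
  ex1 S hS p := RightDerivedLES.exact₁ F hS p
  vanish J _ p := Functor.isZero_rightDerived_obj_injective_succ F p J

/-- an effaceable delta functor whose degree zero part is a left exact functor computes its
right derived functors, objectwise -/
theorem nonempty_iso_rightDerived (F : 𝒜 ⥤ 𝒟) [F.Additive] [PreservesFiniteLimits F]
    {G : ℕ → 𝒜 ⥤ 𝒟} (D : DeltaData G) (e0 : G 0 ≅ F) (p : ℕ) (X : 𝒜) :
    Nonempty ((G p).obj X ≅ (F.rightDerived p).obj X) :=
  nonempty_iso D (rightDerivedData F) (e0 ≪≫ F.rightDerivedZeroIsoSelf.symm) p X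

end Groth.Agent.Lib.Helper62.DeltaCmp
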