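import Mathlib
import Groth.Agent.Lib.Helper62.CplxFactor

/-!
Dimension shifting for cochain complexes: given degreewise monomorphisms `ι n : K.X n ⟶ M n`,
the complex `K⟦1⟧` maps quasi-isomorphically to a complex `Q` with terms
`(M (n + 1) ⊞ M n) / K.X n`.
-/

set_option autoImplicit false
universe v u

open CategoryTheory Limits CochainComplex HomComplex

namespace Groth.Agent.Lib.Helper62.DimShift

variable {A : Type u} [Category.{v} A] [Abelian A]

section General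

lemma acyclic_cone_id (X : CochainComplex A ℤ) : (mappingCone (𝟙 X)).Acyclic := by
  have h₀ : Homotopy (𝟙 (mappingCone (𝟙 X))) 0 :=
    mappingCone.liftHomotopy _ _ _ (mappingCone.snd _) 0 (by simp) (by simp)
  intro n
  rw [HomologicalComplex.exactAt_iff_isZero_homology, IsZero.iff_id_eq_zero,
    ← HomologicalComplex.homologyMap_id, h₀.homologyMap_eq, HomologicalComplex.homologyMap_zero]

lemma quasiIso_of_acyclic {X Y : CochainComplex A ℤ} (f : X ⟶ Y) (hX : X.Acyclic)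
    (hY : Y.Acyclic) : QuasiIso f := by
  rw [quasiIso_iff]
  intro n
  rw [quasiIsoAt_iff_isIso_homologyMap]
  have h1 := (HomologicalComplex.exactAt_iff_isZero_homology _ _).1 (hX n)
  have h2 := (HomologicalComplex.exactAt_iff_isZero_homology _ _).1 (hY n)
  exact ⟨⟨0, h1.eq_of_src _ _, h2.eq_of_src _ _⟩⟩

lemma shortExact_rotate {K L : CochainComplex A ℤ} (φ : K ⟶ L) :
    (mappingCone.triangleRotateShortComplex φ).ShortExact :=
  HomologicalComplex.shortExact_of_degreewise_shortExact _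
    (fun n => (mappingCone.triangleRotateShortComplexSplitting φ n).shortExact)

/-- If `B = A' ⊕ A''` and `f : X ⟶ B` has invertible `A''`-component, then `A' ⟶ B ⟶ coker f`
is an isomorphism. -/
lemma isIso_comp_of_decomp {X B Q A' A'' : A} (f : X ⟶ B) (g : B ⟶ Q) (w : f ≫ g = 0)
    (hS : (ShortComplex.mk f g w).ShortExact)
    (s : A' ⟶ B) (p : B ⟶ A') (r : B ⟶ A'') (j : A'' ⟶ B)
    (hsp : s ≫ p = 𝟙 _) (hsr : s ≫ r = 0) (hid : p ≫ s + r ≫ j = 𝟙 _)
    (hfr : IsIso (f ≫ r)) : IsIso (s ≫ g) := by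
  have hg : Epi g := hS.epi_g
  have hf : Mono f := hS.mono_f
  have hs : Mono s := mono_of_mono_fac hsp
  have hmono : Mono (s ≫ g) := by
    rw [Preadditive.mono_iff_cancel_zero]
    intro T x hx
    have hx' : (x ≫ s) ≫ g = 0 := by rw [Category.assoc]; exact hx
    have h1 : hS.exact.lift (x ≫ s) hx' ≫ f = x ≫ s := hS.exact.lift_f _ _
    have h2 : hS.exact.lift (x ≫ s) hx' ≫ (f ≫ r) = 0 := by
      rw [← Category.assoc, h1, Category.assoc, hsr, comp_zero]
    have h3 : hS.exact.lift (x ≫ s) hx' = 0 := by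
      rw [← cancel_mono (f ≫ r), h2, zero_comp]
    rw [h3, zero_comp] at h1
    rw [← cancel_mono s, zero_comp]
    exact h1.symm
  have hepi : Epi (s ≫ g) := by
    rw [Preadditive.epi_iff_cancel_zero]
    intro T t ht
    have h1 : s ≫ (g ≫ t) = 0 := by rw [← Category.assoc]; exact ht
    have h2 : f ≫ (g ≫ t) = 0 := by rw [← Category.assoc, w, zero_comp]
    have h3 : g ≫ t = r ≫ j ≫ (g ≫ t) := by
      have := congrArg (fun z => z ≫ (g ≫ t)) hid
      simp only [Preadditive.add_comp, Category.assoc, Category.id_comp] at this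
      rw [h1, comp_zero, zero_add] at this
      exact this.symm
    have h4 : (f ≫ r) ≫ (j ≫ g ≫ t) = 0 := by
      rw [Category.assoc, ← h3, h2]
    have h5 : j ≫ g ≫ t = 0 := by
      rw [← cancel_epi (f ≫ r), h4, comp_zero]
    rw [h5, comp_zero] at h3
    rw [← cancel_epi g, h3, comp_zero]
  exact isIso_of_mono_of_epi _

lemma eq_of_section {X Y Z : A} (s : X ⟶ Y) (g : Y ⟶ X) (ψ : X ⟶ Z) (t : Y ⟶ Z)
    (h1 : s ≫ g = 𝟙 X) (h2 : g ≫ ψ = t) : ψ = s ≫ t := by
  rw [← h2, ← Category.assoc, h1, Category.id_comp]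

lemma isIso_neg {X Y : A} (f : X ⟶ Y) (hf : IsIso f) : IsIso (-f) :=
  ⟨⟨-inv f, by rw [Preadditive.neg_comp, Preadditive.comp_neg, neg_neg, IsIso.hom_inv_id],
    by rw [Preadditive.neg_comp, Preadditive.comp_neg, neg_neg, IsIso.inv_hom_id]⟩⟩

end General

section Step

variable (K : CochainComplex A ℤ) (M : ℤ → A)

/-- The complex with terms `M n` and zero differential. -/
def I : CochainComplex A ℤ where
  X n := M n
  d _ _ := 0

@[simp] lemma I_d (p q : ℤ) : (I M).d p q = 0 := rfl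

variable (ι : ∀ n, K.X n ⟶ (I M).X n)

/-- The contractible complex containing `K`. -/
noncomputable abbrev C : CochainComplex A ℤ := mappingCone (𝟙 (I M))

/-- The inclusion `K ⟶ C`. -/
noncomputable def i : K ⟶ C M :=
  mappingCone.lift _
    (Cocycle.mk (Cochain.mk (fun p q _ => K.d p q ≫ ι q)) 2 (by lia) (by
      ext p q hpq
      simp [δ_v 1 2 (by lia) _ p q hpq (p + 1) (p + 1) (by lia) rfl]))
    (Cochain.ofHoms (fun n => ι n)) (by
      ext p q hpq
      simp [δ_v 0 1 (by lia) _ p q hpq p q (by lia) hpq])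

lemma i_f_snd (n : ℤ) :
    (i K M ι).f n ≫ (mappingCone.snd (𝟙 (I M))).v n n (add_zero n) = ι n := by
  simp [i]

lemma mono_i_f [∀ n, Mono (ι n)] (n : ℤ) : Mono ((i K M ι).f n) :=
  mono_of_mono_fac (i_f_snd K M ι n)

instance [∀ n, Mono (ι n)] : Mono (i K M ι) :=
  HomologicalComplex.mono_of_mono_f _ (mono_i_f K M ι)

/-- The comparison map `cone(𝟙 K) ⟶ C`. -/
noncomputable def θ : mappingCone (𝟙 K) ⟶ C M :=
  mappingCone.desc (𝟙 K)
    ((Cochain.ofHoms (fun n => ι n)).comp (mappingCone.inl (𝟙 (I M))) (zero_add (-1)))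
    (i K M ι) (by
      ext p
      rw [δ_v (-1) 0 (by lia) _ p p (add_zero p) (p - 1) (p + 1) (by lia) (by lia)]
      simp [i, mappingCone.ext_to_iff _ p (p + 1) rfl,
        Cochain.comp_v _ _ (zero_add (-1)) p p (p - 1) (by lia) (by lia),
        Cochain.comp_v _ _ (zero_add (-1)) (p + 1) (p + 1) p (by lia) (by lia)])

lemma inr_θ : mappingCone.inr (𝟙 K) ≫ θ K M ι = i K M ι := by
  simp [θ]

variable [∀ n, Mono (ι n)]

/-- The quotient complex. -/
noncomputable abbrev Q : CochainComplex A ℤ := cokernel (i K M ι)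

/-- The short exact sequence `0 ⟶ K ⟶ C ⟶ Q ⟶ 0`. -/
noncomputable abbrev S₂ : ShortComplex (CochainComplex A ℤ) :=
  ShortComplex.mk (i K M ι) (cokernel.π (i K M ι)) (cokernel.condition _)

lemma hS₂ : (S₂ K M ι).ShortExact :=
  { exact := ShortComplex.exact_cokernel _
    mono_f := inferInstanceAs (Mono (i K M ι))
    epi_g := inferInstanceAs (Epi (cokernel.π (i K M ι))) }

/-- The comparison map `K⟦1⟧ ⟶ Q`. -/
noncomputable def ψ : K⟦(1 : ℤ)⟧ ⟶ Q K M ι :=
  (shortExact_rotate (𝟙 K)).gIsCokernel.desc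
    (CokernelCofork.ofπ (f := (mappingCone.triangleRotateShortComplex (𝟙 K)).f)
      (θ K M ι ≫ cokernel.π (i K M ι)) (by
        change mappingCone.inr (𝟙 K) ≫ θ K M ι ≫ cokernel.π (i K M ι) = 0
        rw [← Category.assoc, inr_θ, cokernel.condition]))

lemma g_ψ : (mappingCone.triangle (𝟙 K)).mor₃ ≫ ψ K M ι = θ K M ι ≫ cokernel.π (i K M ι) :=
  (shortExact_rotate (𝟙 K)).gIsCokernel.fac _ WalkingParallelPair.one

/-- The morphism of short exact sequences. -/
noncomputable def Φ : mappingCone.triangleRotateShortComplex (𝟙 K) ⟶ S₂ K M ι where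
  τ₁ := 𝟙 K
  τ₂ := θ K M ι
  τ₃ := ψ K M ι
  comm₁₂ := by
    change 𝟙 K ≫ i K M ι = mappingCone.inr (𝟙 K) ≫ θ K M ι
    rw [inr_θ, Category.id_comp]
  comm₂₃ := by
    change θ K M ι ≫ cokernel.π (i K M ι) = (mappingCone.triangle (𝟙 K)).mor₃ ≫ ψ K M ι
    rw [g_ψ]

instance quasiIso_ψ : QuasiIso (ψ K M ι) :=
  HomologicalComplex.HomologySequence.quasiIso_τ₃ (Φ K M ι) (shortExact_rotate (𝟙 K))
    (hS₂ K M ι) (inferInstanceAs (QuasiIso (𝟙 K)))
    (quasiIso_of_acyclic _ (acyclic_cone_id K) (acyclic_cone_id (I M)))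

lemma ψ_f (n : ℤ) : (ψ K M ι).f n =
    -(ι (n + 1) ≫ (mappingCone.inl (𝟙 (I M))).v (n + 1) n (by lia) ≫
      (cokernel.π (i K M ι)).f n) := by
  have h1 : (-(mappingCone.inl (𝟙 K)).v (n + 1) n (by lia)) ≫
      (mappingCone.triangle (𝟙 K)).mor₃.f n = 𝟙 _ :=
    (mappingCone.triangleRotateShortComplexSplitting (𝟙 K) n).s_g
  have h2 : (mappingCone.triangle (𝟙 K)).mor₃.f n ≫ (ψ K M ι).f n =
      (θ K M ι).f n ≫ (cokernel.π (i K M ι)).f n := congrArg (fun z => z.f n) (g_ψ K M ι)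
  have h4 : (ψ K M ι).f n = (-(mappingCone.inl (𝟙 K)).v (n + 1) n (by lia)) ≫
      (θ K M ι).f n ≫ (cokernel.π (i K M ι)).f n :=
    eq_of_section _ _ _ _ h1 h2
  rw [h4]
  simp [θ, Cochain.comp_v _ _ (zero_add (-1)) (n + 1) (n + 1) n (by lia) (by lia)]

lemma isIso_ψ_f (n : ℤ) (h₁ : IsIso (ι (n + 1))) (h₀ : IsIso (ι n)) : IsIso ((ψ K M ι).f n) := by
  have hS := (hS₂ K M ι).map_of_exact (HomologicalComplex.eval A (ComplexShape.up ℤ) n)
  have hfr : IsIso ((i K M ι).f n ≫ (mappingCone.snd (𝟙 (I M))).v n n (add_zero n)) := by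
    rw [i_f_snd]
    exact h₀
  have h : IsIso ((mappingCone.inl (𝟙 (I M))).v (n + 1) n (by lia) ≫
      (cokernel.π (i K M ι)).f n) :=
    isIso_comp_of_decomp ((i K M ι).f n) ((cokernel.π (i K M ι)).f n)
      (((S₂ K M ι).map (HomologicalComplex.eval A (ComplexShape.up ℤ) n)).zero) hS
      ((mappingCone.inl (𝟙 (I M))).v (n + 1) n (by lia))
      ((mappingCone.fst (𝟙 (I M))).1.v n (n + 1) rfl)
      ((mappingCone.snd (𝟙 (I M))).v n n (add_zero n))
      ((mappingCone.inr (𝟙 (I M))).f n) (by simp) (by simp)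
      (mappingCone.id_X (𝟙 (I M)) n (n + 1) rfl) hfr
  rw [ψ_f]
  have h' : IsIso (ι (n + 1) ≫ (mappingCone.inl (𝟙 (I M))).v (n + 1) n (by lia) ≫
      (cokernel.π (i K M ι)).f n) := inferInstance
  exact isIso_neg _ h'

/-- The degreewise short exact sequence `0 ⟶ K.X n ⟶ M (n + 1) ⊞ M n ⟶ Q.X n ⟶ 0`. -/
lemma exists_ses (n : ℤ) : ∃ (f : K.X n ⟶ M (n + 1) ⊞ M n) (g : M (n + 1) ⊞ M n ⟶ (Q K M ι).X n)
    (w : f ≫ g = 0), (ShortComplex.mk f g w).ShortExact := by
  have hS := (hS₂ K M ι).map_of_exact (HomologicalComplex.eval A (ComplexShape.up ℤ) n)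
  let e : (C M).X n ≅ M (n + 1) ⊞ M n :=
    HomologicalComplex.homotopyCofiber.XIsoBiprod (𝟙 (I M)) n (n + 1) rfl
  have w : ((i K M ι).f n ≫ e.hom) ≫ (e.inv ≫ (cokernel.π (i K M ι)).f n) = 0 := by
    rw [Category.assoc, Iso.hom_inv_id_assoc]
    exact ((S₂ K M ι).map (HomologicalComplex.eval A (ComplexShape.up ℤ) n)).zero
  refine ⟨(i K M ι).f n ≫ e.hom, e.inv ≫ (cokernel.π (i K M ι)).f n, w, ?_⟩
  refine ShortComplex.shortExact_of_iso ?_ hS
  refine ShortComplex.isoMk (Iso.refl _) e (Iso.refl _) ?_ ?_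
  · exact Category.id_comp _
  · change e.hom ≫ e.inv ≫ (cokernel.π (i K M ι)).f n = (cokernel.π (i K M ι)).f n ≫ 𝟙 _
    rw [Iso.hom_inv_id_assoc, Category.comp_id]

end Step

end Groth.Agent.Lib.Helper62.DimShift
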