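import Mathlib.Algebra.Homology.HomologicalComplexLimits
import Mathlib.CategoryTheory.Limits.Constructions.EventuallyConstant
import Mathlib.CategoryTheory.Functor.OfSequence
import Groth.Agent.Lib.Helper62.SigmaGE

/-!
Colimit of a sequence of cochain complexes whose transition maps are degreewise eventually
isomorphisms.
-/

universe v u

open CategoryTheory Limits HomologicalComplex

namespace Groth.Agent.Lib.Helper62

variable {C : Type u} [Category.{v} C] [Abelian C]

section

variable {T : ℕ → CochainComplex C ℤ} (φ : ∀ k, T k ⟶ T (k + 1))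

theorem isIso_ofSequence_map_f_add (j : ℤ) (k : ℕ) (hj : ∀ l, k ≤ l → IsIso ((φ l).f j)) (d : ℕ) :
    IsIso (((Functor.ofSequence φ).map (homOfLE (Nat.le_add_right k d))).f j) := by
  induction d with
  | zero =>
    have e : homOfLE (Nat.le_add_right k 0) = 𝟙 k := Subsingleton.elim _ _
    rw [e, CategoryTheory.Functor.map_id]
    exact inferInstanceAs (IsIso (𝟙 ((T k).X j)))
  | succ d ih =>
    have e : homOfLE (Nat.le_add_right k (d + 1)) =
        homOfLE (Nat.le_add_right k d) ≫ homOfLE (Nat.le_add_right (k + d) 1) :=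
      Subsingleton.elim _ _
    rw [e, CategoryTheory.Functor.map_comp, comp_f, Functor.ofSequence_map_homOfLE_succ]
    exact IsIso.comp_isIso' ih (hj (k + d) (by omega))

theorem isIso_ofSequence_map_f (j : ℤ) {k k' : ℕ} (f : k ⟶ k')
    (hj : ∀ l, k ≤ l → IsIso ((φ l).f j)) : IsIso (((Functor.ofSequence φ).map f).f j) := by
  obtain ⟨d, rfl⟩ := Nat.exists_eq_add_of_le (leOfHom f)
  have e : f = homOfLE (Nat.le_add_right k d) := Subsingleton.elim _ _
  rw [e]
  exact isIso_ofSequence_map_f_add φ j k hj d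

theorem mono_ofSequence_map_f_add (j : ℤ) (k : ℕ) (hj : ∀ l, Mono ((φ l).f j)) (d : ℕ) :
    Mono (((Functor.ofSequence φ).map (homOfLE (Nat.le_add_right k d))).f j) := by
  induction d with
  | zero =>
    have e : homOfLE (Nat.le_add_right k 0) = 𝟙 k := Subsingleton.elim _ _
    rw [e, CategoryTheory.Functor.map_id]
    exact inferInstanceAs (Mono (𝟙 ((T k).X j)))
  | succ d ih =>
    have e : homOfLE (Nat.le_add_right k (d + 1)) =
        homOfLE (Nat.le_add_right k d) ≫ homOfLE (Nat.le_add_right (k + d) 1) :=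
      Subsingleton.elim _ _
    rw [e, CategoryTheory.Functor.map_comp, comp_f, Functor.ofSequence_map_homOfLE_succ]
    exact mono_comp' ih (hj (k + d))

end

set_option maxHeartbeats 800000 in
/-- The colimit of a sequence of complexes `T k`, `k : ℕ`, with transition maps that are
isomorphisms in degrees `≥ n - k`, together with compatible `(n - k)`-quasi-isomorphisms to `F₀`. -/
theorem exists_seq_colimit (n : ℤ) (T : ℕ → CochainComplex C ℤ) (φ : ∀ k, T k ⟶ T (k + 1))
    (F₀ : CochainComplex C ℤ) (τ : ∀ k, T k ⟶ F₀) (hτ : ∀ k, φ k ≫ τ (k + 1) = τ k)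
    (hφiso : ∀ (k : ℕ) (j : ℤ), n - k ≤ j → IsIso ((φ k).f j))
    (hφmono : ∀ (k : ℕ) (j : ℤ), Mono ((φ k).f j))
    (hτiso : ∀ (k : ℕ) (j : ℤ), n - k < j → IsIso (homologyMap (τ k) j)) :
    ∃ (T' : CochainComplex C ℤ) (v : T 0 ⟶ T') (u' : T' ⟶ F₀), v ≫ u' = τ 0 ∧ QuasiIso u' ∧
      (∀ j : ℤ, Mono (v.f j)) ∧ (∀ j : ℤ, n ≤ j → IsIso (v.f j)) ∧
      (∀ j : ℤ, ∃ k : ℕ, Nonempty ((T k).X j ≅ T'.X j)) := by
  let Fn : ℕ ⥤ CochainComplex C ℤ := Functor.ofSequence φ
  have hEC : ∀ j : ℤ,
      (Fn ⋙ eval C (ComplexShape.up ℤ) j).IsEventuallyConstantFrom (n - j).toNat := by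
    intro j k' f
    change IsIso ((Fn.map f).f j)
    exact isIso_ofSequence_map_f φ j f (fun l hl => hφiso l j (by omega))
  have : ∀ j : ℤ, HasColimit (Fn ⋙ eval C (ComplexShape.up ℤ) j) := fun j => (hEC j).hasColimit
  let ι : ∀ k, T k ⟶ colimit Fn := fun k => colimit.ι Fn k
  have hιiso : ∀ (k : ℕ) (j : ℤ), n - k ≤ j → IsIso ((ι k).f j) := by
    intro k j hkj
    exact (hEC j).isIso_ι_of_isColimit'
      (isColimitOfPreserves (eval C (ComplexShape.up ℤ) j) (colimit.isColimit Fn)) k
      (homOfLE (by omega))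
  let c : Cocone Fn :=
    { pt := F₀
      ι := NatTrans.ofSequence (F := Fn) (G := (Functor.const ℕ).obj F₀) τ (fun k => by
        have h1 : Fn.map (homOfLE (Nat.le_add_right k 1)) = φ k :=
          Functor.ofSequence_map_homOfLE_succ φ k
        rw [h1]
        exact (hτ k).trans (Category.comp_id _).symm) }
  let u' : colimit Fn ⟶ F₀ := colimit.desc Fn c
  have hι : ∀ k, ι k ≫ u' = τ k := fun k => colimit.ι_desc c k
  refine ⟨colimit Fn, ι 0, u', hι 0, ?_, ?_, ?_, ?_⟩
  · rw [quasiIso_iff]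
    intro j
    rw [quasiIsoAt_iff_isIso_homologyMap]
    have h1 : IsIso (homologyMap (ι (n - j + 1).toNat) j) :=
      isIso_homologyMap_of_isIso_f_ge (n - ((n - j + 1).toNat : ℤ)) (ι (n - j + 1).toNat)
        (hιiso _) j (by omega)
    have h2 : IsIso (homologyMap (τ (n - j + 1).toNat) j) := hτiso _ j (by omega)
    have h3 : homologyMap (ι (n - j + 1).toNat) j ≫ homologyMap u' j =
        homologyMap (τ (n - j + 1).toNat) j := by
      rw [← homologyMap_comp, hι]
    have h4 : IsIso (homologyMap (ι (n - j + 1).toNat) j ≫ homologyMap u' j) := by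
      rw [h3]; exact h2
    exact IsIso.of_isIso_comp_left (homologyMap (ι (n - j + 1).toNat) j) _
  · intro j
    have h1 : ι 0 = Fn.map (homOfLE (Nat.zero_le (n - j).toNat)) ≫ ι (n - j).toNat :=
      (colimit.w Fn _).symm
    have e : homOfLE (Nat.zero_le (n - j).toNat) =
        homOfLE (Nat.le_add_right 0 (0 + (n - j).toNat)) ≫ eqToHom (by omega) :=
      Subsingleton.elim _ _
    have h2 : Mono ((Fn.map (homOfLE (Nat.zero_le (n - j).toNat))).f j) := by
      rw [e, CategoryTheory.Functor.map_comp, comp_f]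
      have := mono_ofSequence_map_f_add φ j 0 (fun l => hφmono l j) (0 + (n - j).toNat)
      have h5 : IsIso ((Fn.map (eqToHom (by omega : 0 + (0 + (n - j).toNat) = (n - j).toNat))).f j) :=
        isIso_ofSequence_map_f φ j _ (fun l hl => hφiso l j (by omega))
      exact mono_comp' this inferInstance
    have h3 := hιiso (n - j).toNat j (by omega)
    rw [h1, comp_f]
    exact mono_comp' h2 (@IsIso.mono_of_iso _ _ _ _ _ h3)
  · intro j hj
    exact hιiso 0 j (by simpa using hj)
  · intro j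
    have h3 := hιiso (n - j).toNat j (by omega)
    exact ⟨(n - j).toNat, ⟨asIso ((ι (n - j).toNat).f j)⟩⟩

end Groth.Agent.Lib.Helper62
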