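import Mathlib
import Groth.Agent.Lib.Helper62.SeqColimit

/-!
Colimit of a sequence of quasi-isomorphisms of cochain complexes which is degreewise eventually
constant (with an arbitrary stabilization function).
-/

universe v u

open CategoryTheory Limits HomologicalComplex

namespace Groth.Agent.Lib.Helper62

variable {C : Type u} [Category.{v} C] [Abelian C]

lemma isIso_of_eq' {X Y : C} {f g : X ⟶ Y} (h : f = g) (hg : IsIso g) : IsIso f := h ▸ hg

theorem quasiIso_ofSequence_map_add {T : ℕ → CochainComplex C ℤ} (φ : ∀ k, T k ⟶ T (k + 1))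
    (hφ : ∀ k, QuasiIso (φ k)) (k d : ℕ) :
    QuasiIso ((Functor.ofSequence φ).map (homOfLE (Nat.le_add_right k d))) := by
  induction d with
  | zero =>
    have e : homOfLE (Nat.le_add_right k 0) = 𝟙 k := Subsingleton.elim _ _
    rw [e, CategoryTheory.Functor.map_id]
    infer_instance
  | succ d ih =>
    have e : homOfLE (Nat.le_add_right k (d + 1)) =
        homOfLE (Nat.le_add_right k d) ≫ homOfLE (Nat.le_add_right (k + d) 1) :=
      Subsingleton.elim _ _
    rw [e, CategoryTheory.Functor.map_comp, Functor.ofSequence_map_homOfLE_succ]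
    rw [quasiIso_iff]
    intro i
    rw [quasiIsoAt_iff_isIso_homologyMap]
    have a := (quasiIsoAt_iff_isIso_homologyMap _ i).1 ((quasiIso_iff _).1 ih i)
    have b := (quasiIsoAt_iff_isIso_homologyMap _ i).1 ((quasiIso_iff _).1 (hφ (k + d)) i)
    exact isIso_of_eq' (homologyMap_comp _ _ _) (IsIso.comp_isIso' a b)

theorem quasiIso_ofSequence_map {T : ℕ → CochainComplex C ℤ} (φ : ∀ k, T k ⟶ T (k + 1))
    (hφ : ∀ k, QuasiIso (φ k)) {k k' : ℕ} (f : k ⟶ k') :
    QuasiIso ((Functor.ofSequence φ).map f) := by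
  obtain ⟨d, rfl⟩ := Nat.exists_eq_add_of_le (leOfHom f)
  have e : f = homOfLE (Nat.le_add_right k d) := Subsingleton.elim _ _
  rw [e]
  exact quasiIso_ofSequence_map_add φ hφ k d

theorem isIso_homologyMap_of_isIso_three {K L : CochainComplex C ℤ} (φ : K ⟶ L) (i : ℤ)
    (h1 : IsIso (φ.f (i - 1))) (h2 : IsIso (φ.f i)) (h3 : IsIso (φ.f (i + 1))) :
    IsIso (homologyMap φ i) := by
  have h1' : IsIso (φ.f ((ComplexShape.up ℤ).prev i)) := by
    rw [CochainComplex.prev]; exact h1
  have h3' : IsIso (φ.f ((ComplexShape.up ℤ).next i)) := by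
    rw [CochainComplex.next]; exact h3
  exact ShortComplex.isIso_homologyMap_of_epi_of_isIso_of_mono'
    ((shortComplexFunctor C (ComplexShape.up ℤ) i).map φ)
    (inferInstanceAs (Epi (φ.f ((ComplexShape.up ℤ).prev i)))) h2
    (inferInstanceAs (Mono (φ.f ((ComplexShape.up ℤ).next i))))

theorem exists_seq_colimit' (T : ℕ → CochainComplex C ℤ) (φ : ∀ k, T k ⟶ T (k + 1))
    (hφ : ∀ k, QuasiIso (φ k)) (N : ℤ → ℕ)
    (hN : ∀ (j : ℤ) (k : ℕ), N j ≤ k → IsIso ((φ k).f j)) :
    ∃ (L : CochainComplex C ℤ) (v : T 0 ⟶ L), QuasiIso v ∧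
      ∀ j : ℤ, Nonempty ((T (N j)).X j ≅ L.X j) := by
  let Fn : ℕ ⥤ CochainComplex C ℤ := Functor.ofSequence φ
  have hEC : ∀ j : ℤ,
      (Fn ⋙ eval C (ComplexShape.up ℤ) j).IsEventuallyConstantFrom (N j) := by
    intro j k' f
    change IsIso ((Fn.map f).f j)
    exact isIso_ofSequence_map_f φ j f (fun l hl => hN j l hl)
  have : ∀ j : ℤ, HasColimit (Fn ⋙ eval C (ComplexShape.up ℤ) j) := fun j => (hEC j).hasColimit
  let ι : ∀ k, T k ⟶ colimit Fn := fun k => colimit.ι Fn k
  have hιiso : ∀ (k : ℕ) (j : ℤ), N j ≤ k → IsIso ((ι k).f j) := by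
    intro k j hkj
    exact (hEC j).isIso_ι_of_isColimit'
      (isColimitOfPreserves (eval C (ComplexShape.up ℤ) j) (colimit.isColimit Fn)) k
      (homOfLE hkj)
  refine ⟨colimit Fn, ι 0, ?_, ?_⟩
  · rw [quasiIso_iff]
    intro j
    rw [quasiIsoAt_iff_isIso_homologyMap]
    let k : ℕ := max (N (j - 1)) (max (N j) (N (j + 1)))
    have h1 : IsIso (homologyMap (ι k) j) :=
      isIso_homologyMap_of_isIso_three (ι k) j
        (hιiso k (j - 1) (le_max_left _ _))
        (hιiso k j (le_trans (le_max_left _ _) (le_max_right _ _)))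
        (hιiso k (j + 1) (le_trans (le_max_right _ _) (le_max_right _ _)))
    have h2 : ι 0 = Fn.map (homOfLE (Nat.zero_le k)) ≫ ι k := (colimit.w Fn _).symm
    have h3 : QuasiIso (Fn.map (homOfLE (Nat.zero_le k))) := quasiIso_ofSequence_map φ hφ _
    have h4 : IsIso (homologyMap (Fn.map (homOfLE (Nat.zero_le k))) j) := inferInstance
    rw [h2]
    exact isIso_of_eq' (homologyMap_comp _ _ _) (IsIso.comp_isIso' h4 h1)
  · intro j
    have := hιiso (N j) j le_rfl
    exact ⟨asIso ((ι (N j)).f j)⟩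

end Groth.Agent.Lib.Helper62
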