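import Mathlib
import Groth.Agent.Lib.Helper62.DimShift
import Groth.Agent.Lib.Helper62.SeqColimit2

/-!
Resolutions of unbounded complexes by objects of dimension zero, for a dimension function `d`
with `n + d (K.X n) → -∞` as `n → -∞`.
-/

set_option autoImplicit false
universe v u

open CategoryTheory Limits

namespace Groth.Agent.Lib.Helper62.DimRes

open DimShift

variable {A : Type u} [Category.{v} A] [Abelian A]

/-- The axioms of a dimension function. -/
structure DimFun (d : A → ℕ∞) : Prop where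
  iso : ∀ ⦃X Y : A⦄, Nonempty (X ≅ Y) → d X = d Y
  emb : ∀ X : A, ∃ (Y : A) (ι : X ⟶ Y), Mono ι ∧ d Y = 0
  biprod : ∀ X Y : A, d (X ⊞ Y) ≤ max (d X) (d Y)
  ses : ∀ S : ShortComplex A, S.ShortExact → d S.X₃ ≤ max (d S.X₁ - 1) (d S.X₂)

variable {d : A → ℕ∞} (hd : DimFun d)

include hd in
lemma exists_emb (X : A) :
    ∃ (Y : A) (ι : X ⟶ Y), Mono ι ∧ d Y = 0 ∧ (d X = 0 → IsIso ι) := by
  by_cases h : d X = 0
  · exact ⟨X, 𝟙 X, inferInstance, h, fun _ => inferInstance⟩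
  · obtain ⟨Y, ι, hι, hY⟩ := hd.emb X
    exact ⟨Y, ι, hι, hY, fun h' => (h h').elim⟩

/-- A chosen object of dimension zero containing `X` (equal to `X` if `d X = 0`). -/
noncomputable def emb (X : A) : A := (exists_emb hd X).choose

/-- The chosen embedding. -/
noncomputable def embι (X : A) : X ⟶ emb hd X := (exists_emb hd X).choose_spec.choose

instance mono_embι (X : A) : Mono (embι hd X) := (exists_emb hd X).choose_spec.choose_spec.1

lemma d_emb (X : A) : d (emb hd X) = 0 := (exists_emb hd X).choose_spec.choose_spec.2.1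

lemma isIso_embι (X : A) (h : d X = 0) : IsIso (embι hd X) :=
  (exists_emb hd X).choose_spec.choose_spec.2.2 h

include hd in
theorem step (K : CochainComplex A ℤ) :
    ∃ (K' : CochainComplex A ℤ) (φ : K ⟶ K'), QuasiIso φ ∧
      (∀ n m : ℤ, m + 1 = n → d (K'.X n) ≤ d (K.X m) - 1) ∧
      (∀ n m : ℤ, m + 1 = n → d (K.X n) = 0 → d (K.X m) = 0 → IsIso (φ.f n)) := by
  let M : ℤ → A := fun n => emb hd (K.X n)
  let ι : ∀ n, K.X n ⟶ (I M).X n := fun n => embι hd (K.X n)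
  haveI : ∀ n, Mono (ι n) := fun n => mono_embι hd (K.X n)
  let e : (K⟦(1 : ℤ)⟧)⟦(-1 : ℤ)⟧ ≅ K :=
    (shiftFunctorCompIsoId (CochainComplex A ℤ) (1 : ℤ) (-1) (by simp)).app K
  refine ⟨(Q K M ι)⟦(-1 : ℤ)⟧, e.inv ≫ (ψ K M ι)⟦(-1 : ℤ)⟧', inferInstance, ?_, ?_⟩
  · intro n m hmn
    have e1 : d (((Q K M ι)⟦(-1 : ℤ)⟧).X n) = d ((Q K M ι).X m) :=
      hd.iso ⟨(Q K M ι).XIsoOfEq (by lia)⟩
    rw [e1]
    obtain ⟨f, g, w, hS⟩ := exists_ses K M ι m
    have h4 : d (M (m + 1) ⊞ M m) = 0 := by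
      have := hd.biprod (M (m + 1)) (M m)
      rw [d_emb hd, d_emb hd, max_self] at this
      exact nonpos_iff_eq_zero.1 this
    have h5 := hd.ses _ hS
    change d ((Q K M ι).X m) ≤ max (d (K.X m) - 1) (d (M (m + 1) ⊞ M m)) at h5
    rw [h4, max_eq_left (by simp)] at h5
    exact h5
  · intro n m hmn hn hm
    have h5 : IsIso ((ψ K M ι).f (n + -1)) := by
      apply isIso_ψ_f K M ι (n + -1)
      · apply isIso_embι
        rw [show n + -1 + 1 = n by lia]
        exact hn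
      · apply isIso_embι
        rw [show n + -1 = m by lia]
        exact hm
    have h6 : IsIso (((ψ K M ι)⟦(-1 : ℤ)⟧').f n) := h5
    have h7 : IsIso (e.inv.f n) :=
      inferInstanceAs (IsIso ((HomologicalComplex.eval A (ComplexShape.up ℤ) n).map e.inv))
    rw [HomologicalComplex.comp_f]
    infer_instance

/-- The sequence of improved complexes. -/
noncomputable def T (K : CochainComplex A ℤ) : ℕ → CochainComplex A ℤ
  | 0 => K
  | j + 1 => (step hd (T K j)).choose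

/-- The transition maps. -/
noncomputable def φ (K : CochainComplex A ℤ) (j : ℕ) : T hd K j ⟶ T hd K (j + 1) :=
  (step hd (T hd K j)).choose_spec.choose

lemma φ_spec (K : CochainComplex A ℤ) (j : ℕ) : QuasiIso (φ hd K j) ∧
    (∀ n m : ℤ, m + 1 = n → d ((T hd K (j + 1)).X n) ≤ d ((T hd K j).X m) - 1) ∧
    (∀ n m : ℤ, m + 1 = n → d ((T hd K j).X n) = 0 → d ((T hd K j).X m) = 0 →
      IsIso ((φ hd K j).f n)) :=
  (step hd (T hd K j)).choose_spec.choose_spec

lemma d_T (K : CochainComplex A ℤ) (j : ℕ) :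
    ∀ n : ℤ, d ((T hd K j).X n) ≤ d (K.X (n - j)) - j := by
  induction j with
  | zero =>
    intro n
    simp [T]
  | succ j ih =>
    intro n
    have h := (φ_spec hd K j).2.1 n (n - 1) (by lia)
    have h' := ih (n - 1)
    have e1 : n - 1 - (j : ℤ) = n - ((j + 1 : ℕ) : ℤ) := by push_cast; ring
    calc d ((T hd K (j + 1)).X n) ≤ d ((T hd K j).X (n - 1)) - 1 := h
      _ ≤ (d (K.X (n - 1 - j)) - j) - 1 := tsub_le_tsub_right h' 1
      _ = d (K.X (n - ((j + 1 : ℕ) : ℤ))) - ((j + 1 : ℕ) : ℕ∞) := by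
          rw [tsub_tsub, e1]
          push_cast
          rfl

lemma exists_stab (K : CochainComplex A ℤ)
    (hK : ∀ m : ℤ, ∃ N : ℤ, ∀ n : ℤ, n ≤ N → ∃ k : ℕ, d (K.X n) = k ∧ n + k ≤ m) (n : ℤ) :
    ∃ J : ℕ, ∀ j : ℕ, J ≤ j → d ((T hd K j).X n) = 0 := by
  obtain ⟨N, hN⟩ := hK n
  refine ⟨(n - N).toNat, fun j hj => ?_⟩
  have hj' : n - (j : ℤ) ≤ N := by lia
  obtain ⟨k, hk, hk'⟩ := hN (n - j) hj'
  have h := d_T hd K j n
  rw [hk] at h
  have hkj : k ≤ j := by lia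
  rw [tsub_eq_zero_of_le (by exact_mod_cast hkj)] at h
  exact nonpos_iff_eq_zero.1 h

include hd in
theorem main (K : CochainComplex A ℤ)
    (hK : ∀ m : ℤ, ∃ N : ℤ, ∀ n : ℤ, n ≤ N → ∃ k : ℕ, d (K.X n) = k ∧ n + k ≤ m) :
    ∃ (L : CochainComplex A ℤ) (f : K ⟶ L), QuasiIso f ∧ ∀ n, d (L.X n) = 0 := by
  choose J hJ using exists_stab hd K hK
  let N : ℤ → ℕ := fun n => max (J n) (J (n - 1))
  obtain ⟨L, v, hv, hL⟩ := exists_seq_colimit' (T hd K) (φ hd K)
    (fun k => (φ_spec hd K k).1) N (fun j k hk => (φ_spec hd K k).2.2 j (j - 1) (by lia)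
      (hJ j k (le_trans (le_max_left _ _) hk)) (hJ (j - 1) k (le_trans (le_max_right _ _) hk)))
  refine ⟨L, v, hv, fun n => ?_⟩
  obtain ⟨e⟩ := hL n
  rw [← hd.iso ⟨e⟩]
  exact hJ n (N n) (le_max_left _ _)

end Groth.Agent.Lib.Helper62.DimRes
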