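import Mathlib

/-!
Euler characteristic of a bounded complex of finite length modules equals that of its homology,
for an arbitrary complex shape with a sign function.
-/

set_option autoImplicit false
universe u

open CategoryTheory CategoryTheory.Limits

namespace Groth.Agent.Lib.Helper62.EulerChar

variable {A : Type u} [Ring A]

/-- Length identity for a short complex of modules. -/
lemma length_shortComplex (S : ShortComplex (ModuleCat.{u} A)) :
    Module.length A S.X₂ = Module.length A S.homology +
      Module.length A (LinearMap.range S.f.hom) + Module.length A (LinearMap.range S.g.hom) := by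
  have ha : Module.length A S.X₂ = Module.length A (LinearMap.ker S.g.hom) +
      Module.length A (LinearMap.range S.g.hom) :=
    Module.length_eq_add_of_exact (LinearMap.ker S.g.hom).subtype S.g.hom.rangeRestrict
      (Submodule.subtype_injective _) S.g.hom.surjective_rangeRestrict (by
        intro x
        constructor
        · intro hx
          exact ⟨⟨x, by
            have := congrArg Subtype.val hx
            simpa using this⟩, rfl⟩
        · rintro ⟨y, rfl⟩
          exact Subtype.ext y.2)
  have hb : Module.length A (LinearMap.ker S.g.hom) =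
      Module.length A (LinearMap.range S.moduleCatToCycles) +
        Module.length A (LinearMap.ker S.g.hom ⧸ LinearMap.range S.moduleCatToCycles) :=
    Module.length_eq_add_of_exact (LinearMap.range S.moduleCatToCycles).subtype
      (LinearMap.range S.moduleCatToCycles).mkQ (Submodule.subtype_injective _)
      (Submodule.mkQ_surjective _) (LinearMap.exact_subtype_mkQ _)
  have hc : Module.length A (LinearMap.range S.moduleCatToCycles) =
      Module.length A (LinearMap.range S.f.hom) := by
    have hk : LinearMap.ker S.moduleCatToCycles = LinearMap.ker S.f.hom :=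
      LinearMap.ker_codRestrict _ _ _
    rw [← (LinearMap.quotKerEquivRange S.moduleCatToCycles).length_eq,
      ← (LinearMap.quotKerEquivRange S.f.hom).length_eq]
    exact (Submodule.quotEquivOfEq _ _ hk).length_eq
  have hd : Module.length A S.homology =
      Module.length A (LinearMap.ker S.g.hom ⧸ LinearMap.range S.moduleCatToCycles) :=
    (S.moduleCatLeftHomologyData.homologyIso).toLinearEquiv.length_eq
  rw [ha, hb, hc, hd]
  abel

variable {ι : Type*} {c : ComplexShape ι} (K : HomologicalComplex (ModuleCat.{u} A) c)

/-- The length of the image of a differential. -/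
noncomputable def B (i j : ι) : ℕ := (Module.length A (LinearMap.range (K.d i j).hom)).toNat

lemma length_X (i : ι) : Module.length A (K.X i) = Module.length A (K.homology i) +
    Module.length A (LinearMap.range (K.d (c.prev i) i).hom) +
      Module.length A (LinearMap.range (K.d i (c.next i)).hom) :=
  length_shortComplex (K.sc i)

lemma length_homology_le (i : ι) : Module.length A (K.homology i) ≤ Module.length A (K.X i) := by
  rw [length_X K i, add_assoc]
  exact le_self_add

lemma isFiniteLength_homology (i : ι) (h : IsFiniteLength A (K.X i)) :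
    IsFiniteLength A (K.homology i) := by
  rw [← Module.length_ne_top_iff] at h ⊢
  exact ne_top_of_le_ne_top h (length_homology_le K i)

lemma toNat_length_X (i : ι) (h : IsFiniteLength A (K.X i)) :
    (Module.length A (K.X i)).toNat =
      (Module.length A (K.homology i)).toNat + B K (c.prev i) i + B K i (c.next i) := by
  rw [← Module.length_ne_top_iff] at h
  have e := length_X K i
  have h1 : Module.length A (K.homology i) ≠ ⊤ := by
    intro h'; rw [e, h', top_add, top_add] at h; exact h rfl
  have h2 : Module.length A (LinearMap.range (K.d (c.prev i) i).hom) ≠ ⊤ := by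
    intro h'; rw [e, h', add_top, top_add] at h; exact h rfl
  have h3 : Module.length A (LinearMap.range (K.d i (c.next i)).hom) ≠ ⊤ := by
    intro h'; rw [e, h', add_top] at h; exact h rfl
  rw [e, ENat.toNat_add (by simp [h1, h2]) h3, ENat.toNat_add h1 h2]
  rfl

lemma B_eq_zero_of_d_eq_zero (i j : ι) (h : K.d i j = 0) : B K i j = 0 := by
  unfold B
  rw [h]
  have : Subsingleton (LinearMap.range (0 : K.X i ⟶ K.X j).hom) := by
    rw [ModuleCat.hom_zero, LinearMap.range_zero]
    infer_instance
  rw [Module.length_eq_zero]
  rfl

lemma B_eq_zero_of_not_rel (i j : ι) (h : ¬ c.Rel i j) : B K i j = 0 :=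
  B_eq_zero_of_d_eq_zero K i j (K.shape i j h)

lemma B_eq_zero_of_isZero_left (i j : ι) (h : IsZero (K.X i)) : B K i j = 0 :=
  B_eq_zero_of_d_eq_zero K i j (h.eq_of_src _ _)

lemma B_eq_zero_of_isZero_right (i j : ι) (h : IsZero (K.X j)) : B K i j = 0 :=
  B_eq_zero_of_d_eq_zero K i j (h.eq_of_tgt _ _)

/-- The Euler characteristic of a bounded complex of finite length modules is that of its
homology. -/
theorem euler (s : Finset ι) (hs : ∀ i, i ∉ s → IsZero (K.X i))
    (hfl : ∀ i, IsFiniteLength A (K.X i)) (ε : ι → ℤ) (hε : ∀ i j, c.Rel i j → ε j = - ε i) :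
    (s.sum fun i => ε i * ((Module.length A (K.X i)).toNat : ℤ)) =
      s.sum fun i => ε i * ((Module.length A (K.homology i)).toNat : ℤ) := by
  classical
  have key : (s.sum fun i => ε i * (B K (c.prev i) i : ℤ)) +
      (s.sum fun i => ε i * (B K i (c.next i) : ℤ)) = 0 := by
    have h1 : (s.sum fun j => ε j * (B K (c.prev j) j : ℤ)) =
        (s.filter fun j => c.Rel (c.prev j) j ∧ c.prev j ∈ s).sum
          fun j => ε j * (B K (c.prev j) j : ℤ) := by
      rw [Finset.sum_filter]
      refine Finset.sum_congr rfl (fun j _ => ?_)
      split_ifs with h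
      · rfl
      · rw [not_and_or] at h
        rcases h with h | h
        · rw [B_eq_zero_of_not_rel K _ _ h]; simp
        · rw [B_eq_zero_of_isZero_left K _ _ (hs _ h)]; simp
    have h2 : (s.sum fun i => ε i * (B K i (c.next i) : ℤ)) =
        (s.filter fun i => c.Rel i (c.next i) ∧ c.next i ∈ s).sum
          fun i => ε i * (B K i (c.next i) : ℤ) := by
      rw [Finset.sum_filter]
      refine Finset.sum_congr rfl (fun i _ => ?_)
      split_ifs with h
      · rfl
      · rw [not_and_or] at h
        rcases h with h | h
        · rw [B_eq_zero_of_not_rel K _ _ h]; simp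
        · rw [B_eq_zero_of_isZero_right K _ _ (hs _ h)]; simp
    rw [h1, h2, add_comm, ← sub_neg_eq_add, sub_eq_zero, ← Finset.sum_neg_distrib]
    refine Finset.sum_nbij' (fun i => c.next i) (fun j => c.prev j) ?_ ?_ ?_ ?_ ?_
    · intro i hi
      rw [Finset.mem_filter] at hi ⊢
      obtain ⟨hi, hrel, hn⟩ := hi
      have hp : c.prev (c.next i) = i := c.prev_eq' hrel
      exact ⟨hn, by rw [hp]; exact hrel, by rw [hp]; exact hi⟩
    · intro j hj
      rw [Finset.mem_filter] at hj ⊢
      obtain ⟨hj, hrel, hp⟩ := hj
      have hn : c.next (c.prev j) = j := c.next_eq' hrel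
      exact ⟨hp, by rw [hn]; exact hrel, by rw [hn]; exact hj⟩
    · intro i hi
      rw [Finset.mem_filter] at hi
      exact c.prev_eq' hi.2.1
    · intro j hj
      rw [Finset.mem_filter] at hj
      exact c.next_eq' hj.2.1
    · intro i hi
      rw [Finset.mem_filter] at hi
      obtain ⟨-, hrel, -⟩ := hi
      have hp : c.prev (c.next i) = i := c.prev_eq' hrel
      rw [hp, hε i _ hrel]
      ring
  have e : ∀ i ∈ s, ε i * ((Module.length A (K.X i)).toNat : ℤ) =
      ε i * ((Module.length A (K.homology i)).toNat : ℤ) + ε i * (B K (c.prev i) i : ℤ) +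
        ε i * (B K i (c.next i) : ℤ) := by
    intro i _
    rw [toNat_length_X K i (hfl i)]
    push_cast
    ring
  rw [Finset.sum_congr rfl e, Finset.sum_add_distrib, Finset.sum_add_distrib, add_assoc, key,
    add_zero]

end Groth.Agent.Lib.Helper62.EulerChar
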