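import Mathlib
import Groth.Prelude.Def_Hyper
import Groth.Prelude.Def_CohSite
import Groth.Agent.Lib.Helper62.SecExact

/-! # Vanishing of `Ext` groups from free sheaves on representables: dimension shifting -/

set_option autoImplicit false
set_option backward.isDefEq.respectTransparency false
set_option backward.isDefEq.respectTransparency.types false

open CategoryTheory CategoryTheory.Limits Opposite

universe u

namespace Groth.Agent.Lib.Helper62.ExtSec

open SheafExactLocal SecHom SecExact Abelian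

variable {C : Type u} [SmallCategory C] {J : GrothendieckTopology C}

theorem subsingleton_ext_zero_iff (F : Sheaf J AddCommGrpCat.{u}) (U : C) :
    Subsingleton (Ext (ZU J U) F 0) ↔ ∀ x : F.obj.obj (op U), x = 0 := by
  constructor
  · intro h x
    have h1 : Ext.mk₀ (homOf F x) = Ext.mk₀ (0 : ZU J U ⟶ F) := Subsingleton.elim _ _
    have h2 := (Ext.mk₀_bijective _ _).injective h1
    rw [← ev_homOf F x, h2, ev_zero]
  · intro h
    refine ⟨fun a b => ?_⟩
    obtain ⟨g, rfl⟩ := (Ext.mk₀_bijective _ _).surjective a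
    obtain ⟨g', rfl⟩ := (Ext.mk₀_bijective _ _).surjective b
    congr 1
    apply hom_ext_ev
    rw [h (ev g), h (ev g')]

theorem subsingleton_ext_one_iff {S : ShortComplex (Sheaf J AddCommGrpCat.{u})} (hS : S.ShortExact)
    [Injective S.X₂] (U : C) :
    Subsingleton (Ext (ZU J U) S.X₁ 1) ↔ Function.Surjective (S.g.hom.app (op U)).hom := by
  constructor
  · intro h s
    exact sec_surj hS U h s
  · intro h
    refine ⟨fun a b => ?_⟩
    have key : ∀ x₁ : Ext (ZU J U) S.X₁ 1, x₁ = 0 := by
      intro x₁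
      obtain ⟨x₃, hx₃⟩ := Ext.covariant_sequence_exact₁ (ZU J U) hS x₁
        (Ext.eq_zero_of_injective _) (n₀ := 0) rfl
      obtain ⟨k, rfl⟩ := (Ext.mk₀_bijective _ _).surjective x₃
      obtain ⟨ybar, hy⟩ := h (ev k)
      have hk : k = homOf S.X₂ ybar ≫ S.g := by
        apply hom_ext_ev
        rw [ev_comp, ev_homOf, hy]
      rw [← hx₃, hk, ← Ext.mk₀_comp_mk₀, Ext.comp_assoc_of_second_deg_zero,
        ShortComplex.ShortExact.comp_extClass, Ext.comp_zero]
    rw [key a, key b]

theorem subsingleton_ext_succ_iff {S : ShortComplex (Sheaf J AddCommGrpCat.{u})}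
    (hS : S.ShortExact) [Injective S.X₂] (A : Sheaf J AddCommGrpCat.{u}) (q : ℕ) :
    Subsingleton (Ext A S.X₁ (q + 2)) ↔ Subsingleton (Ext A S.X₃ (q + 1)) := by
  constructor
  · intro h
    exact subsingleton_ext hS A q h
  · intro h
    refine ⟨fun a b => ?_⟩
    have key : ∀ x₁ : Ext A S.X₁ (q + 2), x₁ = 0 := by
      intro x₁
      obtain ⟨x₃, hx₃⟩ := Ext.covariant_sequence_exact₁ A hS x₁
        (Ext.eq_zero_of_injective _) (n₀ := q + 1) rfl
      rw [← hx₃, Subsingleton.elim x₃ 0, Ext.zero_comp]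
    rw [key a, key b]

end Groth.Agent.Lib.Helper62.ExtSec
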