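import Mathlib

/-!
Dévissage for full faithfulness of a triangulated functor: the class of pairs `(K, L)` on which a
triangulated functor induces bijections `Hom(K⟦p⟧, L⟦q⟧) → Hom(Φ(K⟦p⟧), Φ(L⟦q⟧))` is closed under
extensions (distinguished triangles) in both variables.
-/

set_option autoImplicit false
universe v v' u u'

open CategoryTheory CategoryTheory.Limits CategoryTheory.Pretriangulated
open ZeroObject

namespace Groth.Agent.Lib.Helper62.FFD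

section Exactness

variable {𝒟 : Type u} [Category.{v} 𝒟] [Preadditive 𝒟] [HasZeroObject 𝒟] [HasShift 𝒟 ℤ]
  [∀ n : ℤ, (shiftFunctor 𝒟 n).Additive] [Pretriangulated 𝒟]

lemma exact_rightComp (X : 𝒟) (T : Triangle 𝒟) (hT : T ∈ distTriang 𝒟) :
    Function.Exact (Preadditive.rightComp X T.mor₁) (Preadditive.rightComp X T.mor₂) := by
  intro f
  constructor
  · intro hf
    obtain ⟨g, hg⟩ := Triangle.coyoneda_exact₂ T hT f hf
    exact ⟨g, hg.symm⟩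
  · rintro ⟨g, rfl⟩
    change (g ≫ T.mor₁) ≫ T.mor₂ = 0
    rw [Category.assoc, comp_distTriang_mor_zero₁₂ _ hT, comp_zero]

lemma exact_leftComp (X : 𝒟) (T : Triangle 𝒟) (hT : T ∈ distTriang 𝒟) :
    Function.Exact (Preadditive.leftComp X T.mor₂) (Preadditive.leftComp X T.mor₁) := by
  intro f
  constructor
  · intro hf
    obtain ⟨g, hg⟩ := Triangle.yoneda_exact₂ T hT f hf
    exact ⟨g, hg.symm⟩
  · rintro ⟨g, rfl⟩
    change T.mor₁ ≫ T.mor₂ ≫ g = 0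
    rw [← Category.assoc, comp_distTriang_mor_zero₁₂ _ hT, zero_comp]

end Exactness

section FF

variable {𝒟 : Type u} [Category.{v} 𝒟] [Preadditive 𝒟] [HasZeroObject 𝒟] [HasShift 𝒟 ℤ]
  [∀ n : ℤ, (shiftFunctor 𝒟 n).Additive] [Pretriangulated 𝒟]
  {𝒟' : Type u'} [Category.{v'} 𝒟'] [Preadditive 𝒟'] [HasZeroObject 𝒟'] [HasShift 𝒟' ℤ]
  [∀ n : ℤ, (shiftFunctor 𝒟' n).Additive] [Pretriangulated 𝒟']
  (Φ : 𝒟 ⥤ 𝒟') [Φ.Additive] [Φ.CommShift ℤ] [Φ.IsTriangulated]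

/-- `Φ` induces a bijection on `Hom(K, L)`. -/
def FF (K L : 𝒟) : Prop := Function.Bijective (fun f : K ⟶ L => Φ.map f)

/-- Five lemma in the second variable. -/
lemma ff_obj₂ (K : 𝒟) (T : Triangle 𝒟) (hT : T ∈ distTriang 𝒟)
    (h₀ : Function.Surjective (fun f : K ⟶ T.invRotate.obj₁ => Φ.map f))
    (h₁ : FF Φ K T.obj₁) (h₃ : FF Φ K T.obj₃)
    (h₄ : Function.Injective (fun f : K ⟶ T.obj₁⟦(1 : ℤ)⟧ => Φ.map f)) :
    FF Φ K T.obj₂ := by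
  have hT' := inv_rot_of_distTriang _ hT
  have hT'' := rot_of_distTriang _ hT
  exact AddMonoidHom.bijective_of_surjective_of_bijective_of_bijective_of_injective
    (Preadditive.rightComp K T.invRotate.mor₁) (Preadditive.rightComp K T.mor₁)
    (Preadditive.rightComp K T.mor₂) (Preadditive.rightComp K T.mor₃)
    (Preadditive.rightComp (Φ.obj K) (Φ.map T.invRotate.mor₁))
    (Preadditive.rightComp (Φ.obj K) (Φ.map T.mor₁))
    (Preadditive.rightComp (Φ.obj K) (Φ.map T.mor₂))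
    (Preadditive.rightComp (Φ.obj K) (Φ.map T.mor₃))
    Φ.mapAddHom Φ.mapAddHom Φ.mapAddHom Φ.mapAddHom Φ.mapAddHom
    (by ext f; exact (Φ.map_comp f _).symm) (by ext f; exact (Φ.map_comp f _).symm)
    (by ext f; exact (Φ.map_comp f _).symm) (by ext f; exact (Φ.map_comp f _).symm)
    (exact_rightComp K _ hT') (exact_rightComp K _ hT) (exact_rightComp K _ hT'')
    (exact_rightComp (Φ.obj K) _ (Φ.map_distinguished _ hT'))
    (exact_rightComp (Φ.obj K) _ (Φ.map_distinguished _ hT))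
    (exact_rightComp (Φ.obj K) _ (Φ.map_distinguished _ hT''))
    h₀ h₁ h₃ h₄

/-- Five lemma in the first variable. -/
lemma ff_obj₂' (L : 𝒟) (T : Triangle 𝒟) (hT : T ∈ distTriang 𝒟)
    (h₀ : Function.Surjective (fun f : T.obj₁⟦(1 : ℤ)⟧ ⟶ L => Φ.map f))
    (h₁ : FF Φ T.obj₁ L) (h₃ : FF Φ T.obj₃ L)
    (h₄ : Function.Injective (fun f : T.invRotate.obj₁ ⟶ L => Φ.map f)) :
    FF Φ T.obj₂ L := by
  have hT' := inv_rot_of_distTriang _ hT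
  have hT'' := rot_of_distTriang _ hT
  exact AddMonoidHom.bijective_of_surjective_of_bijective_of_bijective_of_injective
    (Preadditive.leftComp L T.mor₃) (Preadditive.leftComp L T.mor₂)
    (Preadditive.leftComp L T.mor₁) (Preadditive.leftComp L T.invRotate.mor₁)
    (Preadditive.leftComp (Φ.obj L) (Φ.map T.mor₃))
    (Preadditive.leftComp (Φ.obj L) (Φ.map T.mor₂))
    (Preadditive.leftComp (Φ.obj L) (Φ.map T.mor₁))
    (Preadditive.leftComp (Φ.obj L) (Φ.map T.invRotate.mor₁))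
    Φ.mapAddHom Φ.mapAddHom Φ.mapAddHom Φ.mapAddHom Φ.mapAddHom
    (by ext f; exact (Φ.map_comp _ f).symm) (by ext f; exact (Φ.map_comp _ f).symm)
    (by ext f; exact (Φ.map_comp _ f).symm) (by ext f; exact (Φ.map_comp _ f).symm)
    (exact_leftComp L _ hT'') (exact_leftComp L _ hT) (exact_leftComp L _ hT')
    (exact_leftComp (Φ.obj L) _ (Φ.map_distinguished _ hT''))
    (exact_leftComp (Φ.obj L) _ (Φ.map_distinguished _ hT))
    (exact_leftComp (Φ.obj L) _ (Φ.map_distinguished _ hT'))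
    h₀ h₃ h₁ h₄

omit [∀ n : ℤ, (shiftFunctor 𝒟 n).Additive] [Pretriangulated 𝒟]
  [∀ n : ℤ, (shiftFunctor 𝒟' n).Additive] [Pretriangulated 𝒟'] [Φ.Additive] [Φ.CommShift ℤ]
  [Φ.IsTriangulated] [HasZeroObject 𝒟] [HasZeroObject 𝒟'] [HasShift 𝒟 ℤ] [HasShift 𝒟' ℤ]
  [Preadditive 𝒟] [Preadditive 𝒟'] in
lemma ff_of_iso {K K' L L' : 𝒟} (e : K ≅ K') (e' : L ≅ L') (h : FF Φ K L) : FF Φ K' L' := by
  constructor
  · intro f g hfg
    have h1 : Φ.map (e.hom ≫ f ≫ e'.inv) = Φ.map (e.hom ≫ g ≫ e'.inv) := by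
      change Φ.map f = Φ.map g at hfg
      simp only [Functor.map_comp, hfg]
    have h2 := h.1 h1
    rw [cancel_epi] at h2
    rwa [cancel_mono] at h2
  · intro g
    obtain ⟨f, hf⟩ := h.2 (Φ.map e.hom ≫ g ≫ Φ.map e'.inv)
    refine ⟨e.inv ≫ f ≫ e'.hom, ?_⟩
    change Φ.map f = _ at hf
    change Φ.map (e.inv ≫ f ≫ e'.hom) = g
    simp only [Functor.map_comp, hf, Category.assoc, ← Φ.map_comp, e'.inv_hom_id]
    rw [← Category.assoc, ← Φ.map_comp, e.inv_hom_id, CategoryTheory.Functor.map_id,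
      CategoryTheory.Functor.map_id, Category.id_comp, Category.comp_id]

omit [∀ n : ℤ, (shiftFunctor 𝒟 n).Additive] [Pretriangulated 𝒟]
  [∀ n : ℤ, (shiftFunctor 𝒟' n).Additive] [Pretriangulated 𝒟'] [Φ.Additive]
  [Φ.IsTriangulated] [HasZeroObject 𝒟] [HasZeroObject 𝒟'] [Preadditive 𝒟] [Preadditive 𝒟'] in
lemma ff_shift {K L : 𝒟} (m : ℤ) (h : FF Φ K L) : FF Φ (K⟦m⟧) (L⟦m⟧) := by
  have key : ∀ f : K ⟶ L, Φ.map (f⟦m⟧') =
      (Φ.commShiftIso m).hom.app K ≫ (Φ.map f)⟦m⟧' ≫ (Φ.commShiftIso m).inv.app L := by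
    intro f
    have := (Φ.commShiftIso m).hom.naturality f
    dsimp at this
    rw [← Category.assoc, ← this, Category.assoc, Iso.hom_inv_id_app]
    exact (Category.comp_id _).symm
  constructor
  · intro g g' hgg
    obtain ⟨f, rfl⟩ := (shiftFunctor 𝒟 m).map_surjective g
    obtain ⟨f', rfl⟩ := (shiftFunctor 𝒟 m).map_surjective g'
    change Φ.map (f⟦m⟧') = Φ.map (f'⟦m⟧') at hgg
    rw [key, key, cancel_epi, cancel_mono] at hgg
    have := (shiftFunctor 𝒟' m).map_injective hgg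
    rw [h.1 this]
  · intro g
    obtain ⟨k, hk⟩ := (shiftFunctor 𝒟' m).map_surjective
      ((Φ.commShiftIso m).inv.app K ≫ g ≫ (Φ.commShiftIso m).hom.app L)
    obtain ⟨f, rfl⟩ := h.2 k
    refine ⟨f⟦m⟧', ?_⟩
    change Φ.map (f⟦m⟧') = g
    rw [key]
    change (Φ.commShiftIso m).hom.app K ≫ (shiftFunctor 𝒟' m).map (Φ.map f) ≫ _ = g
    rw [hk]
    simp

/-- `Φ` induces bijections on `Hom(K⟦p⟧, L⟦q⟧)` for all `p`, `q`. -/
def FFs (K L : 𝒟) : Prop := ∀ p q : ℤ, FF Φ (K⟦p⟧) (L⟦q⟧)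

omit [∀ n : ℤ, (shiftFunctor 𝒟 n).Additive] [Pretriangulated 𝒟]
  [∀ n : ℤ, (shiftFunctor 𝒟' n).Additive] [Pretriangulated 𝒟'] [Φ.Additive] [Φ.CommShift ℤ]
  [Φ.IsTriangulated] [HasZeroObject 𝒟] [HasZeroObject 𝒟'] [HasShift 𝒟' ℤ]
  [Preadditive 𝒟] [Preadditive 𝒟'] in
lemma ffs_of_iso {K K' L L' : 𝒟} (e : K ≅ K') (e' : L ≅ L') (h : FFs Φ K L) : FFs Φ K' L' :=
  fun p q => ff_of_iso Φ ((shiftFunctor 𝒟 p).mapIso e) ((shiftFunctor 𝒟 q).mapIso e') (h p q)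

omit [∀ n : ℤ, (shiftFunctor 𝒟 n).Additive] [Pretriangulated 𝒟]
  [∀ n : ℤ, (shiftFunctor 𝒟' n).Additive] [Pretriangulated 𝒟'] [Φ.Additive] [Φ.CommShift ℤ]
  [Φ.IsTriangulated] [HasZeroObject 𝒟] [HasZeroObject 𝒟'] [HasShift 𝒟' ℤ]
  [Preadditive 𝒟] [Preadditive 𝒟'] in
lemma ffs_shift_left {K L : 𝒟} (m : ℤ) (h : FFs Φ K L) : FFs Φ (K⟦m⟧) L :=
  fun p q => ff_of_iso Φ ((shiftFunctorAdd' 𝒟 m p (m + p) rfl).app K) (Iso.refl _) (h (m + p) q)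

omit [∀ n : ℤ, (shiftFunctor 𝒟 n).Additive] [Pretriangulated 𝒟]
  [∀ n : ℤ, (shiftFunctor 𝒟' n).Additive] [Pretriangulated 𝒟'] [Φ.Additive] [Φ.CommShift ℤ]
  [Φ.IsTriangulated] [HasZeroObject 𝒟] [HasZeroObject 𝒟'] [HasShift 𝒟' ℤ]
  [Preadditive 𝒟] [Preadditive 𝒟'] in
lemma ffs_shift_right {K L : 𝒟} (m : ℤ) (h : FFs Φ K L) : FFs Φ K (L⟦m⟧) :=
  fun p q => ff_of_iso Φ (Iso.refl _) ((shiftFunctorAdd' 𝒟 m q (m + q) rfl).app L) (h p (m + q))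

omit [∀ n : ℤ, (shiftFunctor 𝒟 n).Additive] [Pretriangulated 𝒟]
  [∀ n : ℤ, (shiftFunctor 𝒟' n).Additive] [Pretriangulated 𝒟'] [Φ.Additive]
  [Φ.IsTriangulated] [HasZeroObject 𝒟] [HasZeroObject 𝒟'] [Preadditive 𝒟] [Preadditive 𝒟'] in
lemma ffs_of_ff_shift {K L : 𝒟} (h : ∀ n : ℤ, FF Φ K (L⟦n⟧)) : FFs Φ K L := by
  intro p q
  have h1 : FF Φ K ((L⟦q⟧)⟦-p⟧) :=
    ff_of_iso Φ (Iso.refl _) ((shiftFunctorAdd' 𝒟 q (-p) (q - p) (by omega)).app L) (h (q - p))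
  have h2 := ff_shift Φ p h1
  exact ff_of_iso Φ (Iso.refl _) ((shiftFunctorCompIsoId 𝒟 (-p) p (by omega)).app (L⟦q⟧)) h2

omit [∀ n : ℤ, (shiftFunctor 𝒟 n).Additive] [Pretriangulated 𝒟]
  [∀ n : ℤ, (shiftFunctor 𝒟' n).Additive] [Pretriangulated 𝒟'] [Φ.CommShift ℤ]
  [Φ.IsTriangulated] [HasShift 𝒟 ℤ] [HasShift 𝒟' ℤ] in
lemma ff_of_isZero_right {K L : 𝒟} (hL : IsZero L) : FF Φ K L := by
  have hL' : IsZero (Φ.obj L) := Φ.map_isZero hL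
  exact ⟨fun f g _ => hL.eq_of_tgt _ _, fun g => ⟨0, hL'.eq_of_tgt _ _⟩⟩

omit [∀ n : ℤ, (shiftFunctor 𝒟 n).Additive] [Pretriangulated 𝒟]
  [∀ n : ℤ, (shiftFunctor 𝒟' n).Additive] [Pretriangulated 𝒟'] [Φ.CommShift ℤ]
  [Φ.IsTriangulated] [HasShift 𝒟 ℤ] [HasShift 𝒟' ℤ] in
lemma ff_of_isZero_left {K L : 𝒟} (hK : IsZero K) : FF Φ K L := by
  have hK' : IsZero (Φ.obj K) := Φ.map_isZero hK
  exact ⟨fun f g _ => hK.eq_of_src _ _, fun g => ⟨0, hK'.eq_of_src _ _⟩⟩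

omit [Pretriangulated 𝒟] [∀ n : ℤ, (shiftFunctor 𝒟' n).Additive] [Pretriangulated 𝒟']
  [Φ.CommShift ℤ] [Φ.IsTriangulated] [HasShift 𝒟' ℤ] in
lemma ffs_of_isZero_right {K L : 𝒟} (hL : IsZero L) : FFs Φ K L :=
  fun _ q => ff_of_isZero_right Φ ((shiftFunctor 𝒟 q).map_isZero hL)

omit [Pretriangulated 𝒟] [∀ n : ℤ, (shiftFunctor 𝒟' n).Additive] [Pretriangulated 𝒟']
  [Φ.CommShift ℤ] [Φ.IsTriangulated] [HasShift 𝒟' ℤ] in
lemma ffs_of_isZero_left {K L : 𝒟} (hK : IsZero K) : FFs Φ K L :=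
  fun p _ => ff_of_isZero_left Φ ((shiftFunctor 𝒟 p).map_isZero hK)

/-- Closure under extensions in the second variable. -/
lemma ffs_obj₂ (K : 𝒟) (T : Triangle 𝒟) (hT : T ∈ distTriang 𝒟)
    (h₁ : FFs Φ K T.obj₁) (h₃ : FFs Φ K T.obj₃) : FFs Φ K T.obj₂ := by
  intro p q
  have hT' := Triangle.shift_distinguished T hT q
  refine ff_obj₂ Φ (K⟦p⟧) _ hT' ?_ (h₁ p q) (h₃ p q) ?_
  · exact (ff_of_iso Φ (Iso.refl _) ((shiftFunctorAdd' 𝒟 q (-1) (q - 1) (by omega)).app T.obj₃)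
      (h₃ p (q - 1))).2
  · exact (ff_of_iso Φ (Iso.refl _) ((shiftFunctorAdd' 𝒟 q 1 (q + 1) (by omega)).app T.obj₁)
      (h₁ p (q + 1))).1

/-- Closure under extensions in the first variable. -/
lemma ffs_obj₂' (L : 𝒟) (T : Triangle 𝒟) (hT : T ∈ distTriang 𝒟)
    (h₁ : FFs Φ T.obj₁ L) (h₃ : FFs Φ T.obj₃ L) : FFs Φ T.obj₂ L := by
  intro p q
  have hT' := Triangle.shift_distinguished T hT p
  refine ff_obj₂' Φ (L⟦q⟧) _ hT' ?_ (h₁ p q) (h₃ p q) ?_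
  · exact (ff_of_iso Φ ((shiftFunctorAdd' 𝒟 p 1 (p + 1) (by omega)).app T.obj₁) (Iso.refl _)
      (h₁ (p + 1) q)).2
  · exact (ff_of_iso Φ ((shiftFunctorAdd' 𝒟 p (-1) (p - 1) (by omega)).app T.obj₃) (Iso.refl _)
      (h₃ (p - 1) q)).1

end FF

end Groth.Agent.Lib.Helper62.FFD
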