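import Groth.Prelude.Def_AlgSt
import Groth.Prelude.Def_FibCat2
import Groth.Prelude.Def_W4c2modmodulilectNerve
import Groth.Agent.Lib.Helper17.FibGrpd
import Mathlib.CategoryTheory.Category.ULift
import Mathlib.CategoryTheory.Groupoid.Discrete
import Mathlib.CategoryTheory.Comma.StructuredArrow.Basic
import Mathlib.CategoryTheory.FiberedCategory.Fiber

/-!
# Sections of a category fibred in groupoids over a diagram with simply connected comma categories
(helper62)

* `SC A`: `A` is non-empty and every functor from `A` to a (small, universe `w`) groupoid is isomorphic to a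
  constant functor.  Consequence of `HasContractibleNerve`.
* `SC.induction`: connectedness.  `SC.transfer`: transfer along a functor with a weak right adjoint.
* `exists_cone`: for `t : C ⥤ F` over `φ : C ⥤ D` and `Y : D` with `SC (StructuredArrow Y φ)` there is an
  object over `Y` with a compatible family of arrows to the `t X` over all `f : Y ⟶ φ X`.
* `restr_isEquivalence`: restriction of sections along `φ` is an equivalence.
-/

set_option autoImplicit false
universe w v₁ v₂ v₃ u₁ u₂ u₃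
open CategoryTheory CategoryTheory.Functor FibCat

namespace Groth.Agent.Lib.Helper62.FibSect

open Groth.Agent.Lib.Helper17 Groth.Agent.Lib.Helper17.FG

section SC

variable (A : Type u₁) [Category.{v₁} A]

/-- `A` is non-empty and every functor from `A` to a groupoid (objects and morphisms in universe `w`) is
isomorphic to a constant functor. -/
def SC : Prop :=
  Nonempty A ∧ ∀ (G : Type w) [Groupoid.{w} G] (H : A ⥤ G),
    ∃ g : G, Nonempty (H ≅ (Functor.const A).obj g)

variable {A}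

theorem SC.of_contractible (h : W4c2modmodulilect.HasContractibleNerve.{w, w} A) : SC.{w} A := by
  refine ⟨h.1, fun G _ H => ?_⟩
  have := h.2 G
  obtain ⟨g, ⟨e⟩⟩ := this.essSurj.mem_essImage H
  exact ⟨g, ⟨e.symm⟩⟩

/-- Connectedness: a property of objects invariant along arrows holds everywhere as soon as it holds somewhere. -/
theorem SC.induction (h : SC.{w} A) (q : A → Prop)
    (hq : ∀ {a a' : A} (_ : a ⟶ a'), q a ↔ q a') (a₀ : A) (h₀ : q a₀) (a : A) : q a := by
  let H : A ⥤ Discrete (ULift.{w} Prop) :=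
    { obj := fun a => ⟨⟨q a⟩⟩
      map := fun {a a'} m => eqToHom (by rw [propext (hq m)])
      map_id := fun _ => Subsingleton.elim _ _
      map_comp := fun _ _ => Subsingleton.elim _ _ }
  obtain ⟨g, ⟨e⟩⟩ := h.2 (Discrete (ULift.{w} Prop)) H
  have h1 : ∀ a, (⟨q a⟩ : ULift.{w} Prop) = g.as := fun a => Discrete.eq_of_hom (e.hom.app a)
  have h2 : q a = q a₀ := by
    have := (h1 a).trans (h1 a₀).symm
    exact congrArg ULift.down this
  rw [h2]; exact h₀

/-- Transfer of simple connectedness along a functor admitting a weak right adjoint. -/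
theorem SC.transfer {B : Type u₂} [Category.{v₂} B] (i : A ⥤ B) (r : B → A)
    (ε : ∀ b, i.obj (r b) ⟶ b)
    (hε : ∀ {b b' : B} (k : b ⟶ b'), ∃ m : r b ⟶ r b', i.map m ≫ ε b' = ε b ≫ k)
    (h : SC.{w} A) : SC.{w} B := by
  refine ⟨h.1.map i.obj, fun G _ H => ?_⟩
  obtain ⟨g, ⟨e⟩⟩ := h.2 G (i ⋙ H)
  refine ⟨g, ⟨NatIso.ofComponents (fun b => (asIso (H.map (ε b))).symm ≪≫ e.app (r b)) ?_⟩⟩
  intro b b' k
  obtain ⟨m, hm⟩ := hε k
  have h1 := e.hom.naturality m
  have h2 : H.map (i.map m) ≫ H.map (ε b') = H.map (ε b) ≫ H.map k := by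
    rw [← H.map_comp, ← H.map_comp, hm]
  simp only [Functor.comp_obj, Functor.comp_map, Functor.const_obj_obj, Functor.const_obj_map,
    Category.comp_id, Iso.trans_hom, Iso.symm_hom, asIso_inv, Iso.app_hom] at h1 ⊢
  rw [IsIso.eq_inv_comp, ← Category.assoc, ← Category.assoc, ← h2, Category.assoc, Category.assoc,
    IsIso.hom_inv_id_assoc, h1]

end SC

section Grpd

/-- `AsSmall` of a groupoid is a groupoid. -/
instance asSmallGroupoid (G : Type u₁) [Groupoid.{v₁} G] : Groupoid (AsSmall.{w} G) where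
  inv f := ⟨Groupoid.inv f.down⟩
  inv_comp f := ULift.ext _ _ (Groupoid.inv_comp f.down)
  comp_inv f := ULift.ext _ _ (Groupoid.comp_inv f.down)

end Grpd

section Fib

variable {D : Type u₂} [Category.{v₂} D] {F : Type u₃} [Category.{v₃} F] (p : F ⥤ D)
  [hp : IsFibGrpd p]

include hp in
theorem sc {x y : F} {R S : D} (f : R ⟶ S) (c : y ⟶ x) (hc : p.IsHomLift f c) :
    p.IsStronglyCartesian f c :=
  sc_all (𝒳 := BasedCategory.ofFunctor p) hp f c hc

include hp in
theorem lift_existsUnique {x y z : F} {R S T : D} (g : R ⟶ S) (f : S ⟶ T) (f' : R ⟶ T)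
    (hf' : f' = g ≫ f) (c : y ⟶ x) (hc : p.IsHomLift f c) (ψ : z ⟶ x) (hψ : p.IsHomLift f' ψ) :
    ∃! χ : z ⟶ y, p.IsHomLift g χ ∧ χ ≫ c = ψ := by
  have := sc p f c hc
  exact IsStronglyCartesian.universal_property p f c g f' hf' ψ

include hp in
theorem lift_cancel {x y z : F} {R S T : D} (g : R ⟶ S) (f : S ⟶ T) (c : y ⟶ x)
    (hc : p.IsHomLift f c) (α β : z ⟶ y) (hα : p.IsHomLift g α) (hβ : p.IsHomLift g β)
    (h : α ≫ c = β ≫ c) : α = β := by
  have hβc : p.IsHomLift (g ≫ f) (β ≫ c) := inferInstance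
  exact (lift_existsUnique p g f (g ≫ f) rfl c hc (β ≫ c) hβc).unique ⟨hα, h⟩ ⟨hβ, rfl⟩

omit hp in
theorem comp_lift {x y z : F} {R S T : D} (g : R ⟶ S) (f : S ⟶ T) (α : z ⟶ y) (c : y ⟶ x)
    (hα : p.IsHomLift g α) (hc : p.IsHomLift f c) : p.IsHomLift (g ≫ f) (α ≫ c) := inferInstance

omit hp in
theorem comp_lift_id {x y z : F} {S T : D} (f : S ⟶ T) (α : z ⟶ y) (c : y ⟶ x)
    (hα : p.IsHomLift (𝟙 S) α) (hc : p.IsHomLift f c) : p.IsHomLift f (α ≫ c) := by
  have := comp_lift p (𝟙 S) f α c hα hc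
  rwa [Category.id_comp] at this

omit hp in
theorem comp_lift_id' {x y z : F} {S T : D} (f : S ⟶ T) (α : z ⟶ y) (c : y ⟶ x)
    (hα : p.IsHomLift f α) (hc : p.IsHomLift (𝟙 T) c) : p.IsHomLift f (α ≫ c) := by
  have := comp_lift p f (𝟙 T) α c hα hc
  rwa [Category.comp_id] at this

include hp in
theorem isIso_of_lift_id' {x y : F} {R : D} (c : y ⟶ x) (hc : p.IsHomLift (𝟙 R) c) : IsIso c :=
  isIso_of_lift_id (𝒳 := BasedCategory.ofFunctor p) hp c hc

/-- The fibres of a category fibred in groupoids are groupoids. -/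
noncomputable instance fiberGroupoid (Y : D) : Groupoid (p.Fiber Y) :=
  Groupoid.ofIsIso (fun {a b} m => by
    have h1 : IsIso m.1 := isIso_of_lift_id' p m.1 m.2
    have h2 : p.IsHomLift (𝟙 Y) m.1 := m.2
    refine ⟨⟨⟨inv m.1, inferInstance⟩, ?_, ?_⟩⟩
    · apply Subtype.ext
      exact IsIso.hom_inv_id m.1
    · apply Subtype.ext
      exact IsIso.inv_hom_id m.1)

end Fib

section Cone

variable {C : Type u₁} [Category.{v₁} C] {D : Type u₂} [Category.{v₂} D] {F : Type u₃}
  [Category.{v₃} F] (p : F ⥤ D) [hp : IsFibGrpd p] (φ : C ⥤ D) (t : C ⥤ F) (ht : t ⋙ p = φ)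

omit hp in
include ht in
theorem t_obj (X : C) : p.obj (t.obj X) = φ.obj X := by rw [← ht]; rfl

omit hp in
include ht in
theorem t_map {X X' : C} (g : X ⟶ X') : p.IsHomLift (φ.map g) (t.map g) := by
  subst ht
  exact (inferInstance : p.IsHomLift (p.map (t.map g)) (t.map g))

include hp ht in
theorem exists_pb {Y : D} (a : StructuredArrow Y φ) :
    ∃ (y : F) (c : y ⟶ t.obj a.right), p.IsHomLift a.hom c := by
  obtain ⟨y, c, hc⟩ := exists_lift_of_eq (𝒳 := BasedCategory.ofFunctor p) hp
    (t_obj p φ t ht a.right) a.hom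
  exact ⟨y, c, hc.toIsHomLift⟩

/-- chosen pullback of `t X` along `f : Y ⟶ φ X` -/
noncomputable def pbObj {Y : D} (a : StructuredArrow Y φ) : F := (exists_pb p φ t ht a).choose

noncomputable def pbMap {Y : D} (a : StructuredArrow Y φ) : pbObj p φ t ht a ⟶ t.obj a.right :=
  (exists_pb p φ t ht a).choose_spec.choose

theorem pbMap_lift {Y : D} (a : StructuredArrow Y φ) : p.IsHomLift a.hom (pbMap p φ t ht a) :=
  (exists_pb p φ t ht a).choose_spec.choose_spec

theorem pbObj_eq {Y : D} (a : StructuredArrow Y φ) : p.obj (pbObj p φ t ht a) = Y := by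
  have := pbMap_lift p φ t ht a
  exact IsHomLift.domain_eq p a.hom (pbMap p φ t ht a)

theorem pb_trans {Y : D} {a a' : StructuredArrow Y φ} (m : a ⟶ a') :
    ∃! χ : pbObj p φ t ht a ⟶ pbObj p φ t ht a', p.IsHomLift (𝟙 Y) χ ∧
      χ ≫ pbMap p φ t ht a' = pbMap p φ t ht a ≫ t.map m.right := by
  have h1 := pbMap_lift p φ t ht a
  have h2 := t_map p φ t ht m.right
  have h3 : p.IsHomLift (a.hom ≫ φ.map m.right) (pbMap p φ t ht a ≫ t.map m.right) := inferInstance
  exact lift_existsUnique p (𝟙 Y) a'.hom (a.hom ≫ φ.map m.right)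
    (by rw [Category.id_comp, StructuredArrow.w m]) (pbMap p φ t ht a') (pbMap_lift p φ t ht a')
    _ h3

/-- The functor of chosen pullbacks `(X, f) ↦ f^* t X` to the (small) fibre groupoid over `Y`. -/
noncomputable def pbFunctor (Y : D) : StructuredArrow Y φ ⥤ AsSmall.{w} (p.Fiber Y) where
  obj a := ⟨⟨pbObj p φ t ht a, pbObj_eq p φ t ht a⟩⟩
  map {a a'} m := ⟨⟨(pb_trans p φ t ht m).choose, (pb_trans p φ t ht m).choose_spec.1.1⟩⟩
  map_id a := by
    apply ULift.ext
    apply Subtype.ext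
    refine (pb_trans p φ t ht (𝟙 a)).unique (pb_trans p φ t ht (𝟙 a)).choose_spec.1
      ⟨IsHomLift.id (pbObj_eq p φ t ht a), ?_⟩
    change 𝟙 (pbObj p φ t ht a) ≫ _ = _ ≫ t.map (𝟙 a.right)
    rw [t.map_id, Category.id_comp, Category.comp_id]
  map_comp {a a' a''} m m' := by
    apply ULift.ext
    apply Subtype.ext
    have s1 := (pb_trans p φ t ht m).choose_spec.1
    have s2 := (pb_trans p φ t ht m').choose_spec.1
    refine (pb_trans p φ t ht (m ≫ m')).unique (pb_trans p φ t ht (m ≫ m')).choose_spec.1 ⟨?_, ?_⟩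
    · have := s1.1
      have := s2.1
      have h : p.IsHomLift (𝟙 Y ≫ 𝟙 Y)
        ((pb_trans p φ t ht m).choose ≫ (pb_trans p φ t ht m').choose) := inferInstance
      rwa [Category.id_comp] at h
    · change ((pb_trans p φ t ht m).choose ≫ (pb_trans p φ t ht m').choose) ≫ _ = _
      rw [Category.assoc, s2.2, ← Category.assoc, s1.2, Category.assoc, ← t.map_comp]
      rfl

theorem pbFunctor_map_spec {Y : D} {a a' : StructuredArrow Y φ} (m : a ⟶ a') :
    ((pbFunctor.{w} p φ t ht Y).map m).down.1 ≫ pbMap p φ t ht a' =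
      pbMap p φ t ht a ≫ t.map m.right :=
  (pb_trans p φ t ht m).choose_spec.1.2

include ht in
/-- Over `Y` with simply connected `(Y/φ)`: an object over `Y` with compatible arrows to all `t X`. -/
theorem exists_cone (Y : D) (h : SC.{max w u₃ v₃} (StructuredArrow Y φ)) :
    ∃ (s : F) (_ : p.obj s = Y) (μ : ∀ (X : C) (_ : Y ⟶ φ.obj X), s ⟶ t.obj X),
      (∀ X f, p.IsHomLift f (μ X f)) ∧
      ∀ (X X' : C) (f : Y ⟶ φ.obj X) (g : X ⟶ X'), μ X f ≫ t.map g = μ X' (f ≫ φ.map g) := by
  obtain ⟨g, ⟨e⟩⟩ := h.2 (AsSmall.{w} (p.Fiber Y)) (pbFunctor.{w} p φ t ht Y)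
  refine ⟨(AsSmall.down.obj g).1, (AsSmall.down.obj g).2, fun X f => (e.inv.app (StructuredArrow.mk f)).down.1 ≫
    pbMap p φ t ht (StructuredArrow.mk f), ?_, ?_⟩
  · intro X f
    exact comp_lift_id p f _ _ (e.inv.app (StructuredArrow.mk f)).down.2
      (pbMap_lift p φ t ht (StructuredArrow.mk f))
  · intro X X' f k
    have hn := e.inv.naturality
      (StructuredArrow.homMk k rfl : StructuredArrow.mk f ⟶ StructuredArrow.mk (f ≫ φ.map k))
    have hn' := congrArg (fun x => x.down.1) hn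
    have hs := pbFunctor_map_spec.{w} p φ t ht
      (StructuredArrow.homMk k rfl : StructuredArrow.mk f ⟶ StructuredArrow.mk (f ≫ φ.map k))
    simp only [Functor.const_obj_obj, Functor.const_obj_map, Category.id_comp] at hn'
    change _ = (e.inv.app (StructuredArrow.mk f)).down.1 ≫ _ at hn'
    calc ((e.inv.app (StructuredArrow.mk f)).down.1 ≫ pbMap p φ t ht (StructuredArrow.mk f)) ≫
          t.map k
        = (e.inv.app (StructuredArrow.mk f)).down.1 ≫
          (pbMap p φ t ht (StructuredArrow.mk f) ≫ t.map k) := Category.assoc _ _ _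
      _ = (e.inv.app (StructuredArrow.mk f)).down.1 ≫
          (((pbFunctor.{w} p φ t ht Y).map (StructuredArrow.homMk k rfl :
            StructuredArrow.mk f ⟶ StructuredArrow.mk (f ≫ φ.map k))).down.1 ≫
            pbMap p φ t ht (StructuredArrow.mk (f ≫ φ.map k))) :=
          congrArg (fun z => (e.inv.app (StructuredArrow.mk f)).down.1 ≫ z) hs.symm
      _ = ((e.inv.app (StructuredArrow.mk f)).down.1 ≫
          ((pbFunctor.{w} p φ t ht Y).map (StructuredArrow.homMk k rfl :
            StructuredArrow.mk f ⟶ StructuredArrow.mk (f ≫ φ.map k))).down.1) ≫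
            pbMap p φ t ht (StructuredArrow.mk (f ≫ φ.map k)) := (Category.assoc _ _ _).symm
      _ = _ := congrArg (fun z => z ≫ pbMap p φ t ht (StructuredArrow.mk (f ≫ φ.map k))) hn'.symm

end Cone

set_option backward.isDefEq.respectTransparency false
set_option backward.isDefEq.respectTransparency.types false

section Main

variable {C : Type u₁} [Category.{v₁} C] {D : Type u₂} [Category.{v₂} D] {F : Type u₃}
  [Category.{v₃} F] (φ : C ⥤ D) (p : F ⥤ D) [hp : IsFibGrpd p]

/-- Restriction of sections of `p` over `D` to sections over the diagram `φ`. -/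
abbrev restrφ : (FibCat.selfOver D ⥤ᵇ BasedCategory.ofFunctor p) ⥤
    (BasedCategory.ofFunctor φ ⥤ᵇ BasedCategory.ofFunctor p) :=
  Stk.restr (FibCat.toSelf (BasedCategory.ofFunctor φ)) (BasedCategory.ofFunctor p)

omit hp in
theorem sec_lift (s : FibCat.selfOver D ⥤ᵇ BasedCategory.ofFunctor p) {Y' Y : D} (k : Y' ⟶ Y) :
    p.IsHomLift k (s.map k) :=
  t_map p (𝟭 D) s.toFunctor s.w k

omit hp in
theorem sec_obj (s : FibCat.selfOver D ⥤ᵇ BasedCategory.ofFunctor p) (Y : D) :
    p.obj (s.obj Y) = Y :=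
  t_obj p (𝟭 D) s.toFunctor s.w Y

include hp in
theorem restr_faithful (hne : ∀ Y : D, Nonempty (StructuredArrow Y φ)) :
    (restrφ φ p).Faithful where
  map_injective {s s'} α β h := by
    apply BasedNatTrans.homCategory.ext
    apply NatTrans.ext
    funext Y
    obtain ⟨a⟩ := hne Y
    have h1 : α.app (φ.obj a.right) = β.app (φ.obj a.right) :=
      congrArg (fun γ => γ.toNatTrans.app a.right) h
    have hα := α.toNatTrans.naturality a.hom
    have hβ := β.toNatTrans.naturality a.hom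
    refine lift_cancel p (𝟙 Y) a.hom (s'.map a.hom) (sec_lift p s' a.hom) (α.app Y) (β.app Y)
      (α.isHomLift' Y) (β.isHomLift' Y) ?_
    rw [← hα, ← hβ, h1]

section Full

variable {φ p} {s s' : FibCat.selfOver D ⥤ᵇ BasedCategory.ofFunctor p}
  (γ : (restrφ φ p).obj s ⟶ (restrφ φ p).obj s')

include hp in
theorem full_exists {Y : D} (a : StructuredArrow Y φ) :
    ∃! χ : s.obj Y ⟶ s'.obj Y, p.IsHomLift (𝟙 Y) χ ∧
      χ ≫ s'.map a.hom = s.map a.hom ≫ γ.app a.right :=
  lift_existsUnique p (𝟙 Y) a.hom a.hom (Category.id_comp _).symm (s'.map a.hom)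
    (sec_lift p s' a.hom) (s.map a.hom ≫ γ.app a.right)
    (comp_lift_id' p a.hom (s.map a.hom) (γ.app a.right) (sec_lift p s a.hom) (γ.isHomLift' a.right))

/-- the candidate component at `Y`, computed with the help of `a : (Y/φ)` -/
noncomputable def fullApp {Y : D} (a : StructuredArrow Y φ) : s.obj Y ⟶ s'.obj Y :=
  (full_exists γ a).choose

theorem fullApp_lift {Y : D} (a : StructuredArrow Y φ) : p.IsHomLift (𝟙 Y) (fullApp γ a) :=
  (full_exists γ a).choose_spec.1.1

theorem fullApp_spec {Y : D} (a : StructuredArrow Y φ) :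
    fullApp γ a ≫ s'.map a.hom = s.map a.hom ≫ γ.app a.right :=
  (full_exists γ a).choose_spec.1.2

theorem fullApp_unique {Y : D} (a : StructuredArrow Y φ) (χ : s.obj Y ⟶ s'.obj Y)
    (h1 : p.IsHomLift (𝟙 Y) χ) (h2 : χ ≫ s'.map a.hom = s.map a.hom ≫ γ.app a.right) :
    χ = fullApp γ a :=
  (full_exists γ a).unique ⟨h1, h2⟩ (full_exists γ a).choose_spec.1

theorem fullApp_hom {Y : D} {a a' : StructuredArrow Y φ} (m : a ⟶ a') :
    fullApp γ a = fullApp γ a' := by
  apply fullApp_unique γ a' _ (fullApp_lift γ a)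
  have hw := StructuredArrow.w m
  have hn := γ.toNatTrans.naturality m.right
  change s.map (φ.map m.right) ≫ γ.app a'.right = γ.app a.right ≫ s'.map (φ.map m.right) at hn
  rw [← hw, s'.map_comp, s.map_comp, ← Category.assoc, fullApp_spec γ a, Category.assoc,
    Category.assoc, hn]

theorem fullApp_const {Y : D} (h : SC.{w} (StructuredArrow Y φ)) (a a₀ : StructuredArrow Y φ) :
    fullApp γ a = fullApp γ a₀ :=
  h.induction (fun a => fullApp γ a = fullApp γ a₀) (fun m => by rw [fullApp_hom γ m]) a₀ rfl a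

end Full

include hp in
theorem restr_full (h : ∀ Y : D, SC.{w} (StructuredArrow Y φ)) : (restrφ φ p).Full where
  map_surjective {s s'} γ := by
    have hnat : ∀ {Y' Y : D} (k : Y' ⟶ Y), s.map k ≫ fullApp γ (Classical.choice (h Y).1) =
        fullApp γ (Classical.choice (h Y').1) ≫ s'.map k := by
      intro Y' Y k
      set a := Classical.choice (h Y).1 with ha
      rw [fullApp_const γ (h Y') (Classical.choice (h Y').1) (StructuredArrow.mk (k ≫ a.hom))]
      refine lift_cancel p k a.hom (s'.map a.hom) (sec_lift p s' a.hom) _ _ ?_ ?_ ?_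
      · exact comp_lift_id' p k _ _ (sec_lift p s k) (fullApp_lift γ a)
      · exact comp_lift_id p k _ _ (fullApp_lift γ _) (sec_lift p s' k)
      · have h1 := fullApp_spec γ (StructuredArrow.mk (k ≫ a.hom))
        change _ ≫ s'.map (k ≫ a.hom) = s.map (k ≫ a.hom) ≫ γ.app a.right at h1
        rw [Category.assoc, fullApp_spec γ a, Category.assoc, ← s'.map_comp, h1, s.map_comp,
          Category.assoc]
    refine ⟨{ toNatTrans := { app := fun Y => fullApp γ (Classical.choice (h Y).1)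
                              naturality := fun Y' Y k => hnat k }
              isHomLift' := fun Y => fullApp_lift γ _ }, ?_⟩
    apply BasedNatTrans.homCategory.ext
    apply NatTrans.ext
    refine funext (fun (X : C) => ?_)
    change fullApp γ (Classical.choice (h (φ.obj X)).1) = γ.app X
    rw [fullApp_const γ (h (φ.obj X)) _ (StructuredArrow.mk (𝟙 (φ.obj X)))]
    symm
    apply fullApp_unique γ _ _ (γ.isHomLift' X)
    change γ.app X ≫ s'.map (𝟙 (φ.obj X)) = s.map (𝟙 (φ.obj X)) ≫ γ.app X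
    have e1 : s'.map (𝟙 (φ.obj X)) = 𝟙 (s'.obj (φ.obj X)) := s'.toFunctor.map_id _
    have e2 : s.map (𝟙 (φ.obj X)) = 𝟙 (s.obj (φ.obj X)) := s.toFunctor.map_id _
    calc γ.app X ≫ s'.map (𝟙 (φ.obj X)) = γ.app X ≫ 𝟙 _ := congrArg (γ.app X ≫ ·) e1
      _ = γ.app X := Category.comp_id _
      _ = 𝟙 _ ≫ γ.app X := (Category.id_comp _).symm
      _ = _ := congrArg (· ≫ γ.app X) e2.symm

section Ess

variable {φ p} (t : BasedCategory.ofFunctor φ ⥤ᵇ BasedCategory.ofFunctor p)
  (h : ∀ Y : D, SC.{max w u₃ v₃} (StructuredArrow Y φ))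

/-- the value of the extended section at `Y` -/
noncomputable def sObj (Y : D) : F := (exists_cone.{w} p φ t.toFunctor t.w Y (h Y)).choose

theorem sObj_eq (Y : D) : p.obj (sObj t h Y) = Y :=
  (exists_cone.{w} p φ t.toFunctor t.w Y (h Y)).choose_spec.choose

/-- the cone from the value at `Y` to the `t X`, `(X, f) : (Y/φ)` -/
noncomputable def μ (Y : D) (X : C) (f : Y ⟶ φ.obj X) : sObj t h Y ⟶ t.obj X :=
  (exists_cone.{w} p φ t.toFunctor t.w Y (h Y)).choose_spec.choose_spec.choose X f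

theorem μ_lift (Y : D) (X : C) (f : Y ⟶ φ.obj X) : p.IsHomLift f (μ t h Y X f) :=
  (exists_cone.{w} p φ t.toFunctor t.w Y (h Y)).choose_spec.choose_spec.choose_spec.1 X f

theorem μ_comp (Y : D) (X X' : C) (f : Y ⟶ φ.obj X) (g : X ⟶ X') :
    μ t h Y X f ≫ t.map g = μ t h Y X' (f ≫ φ.map g) :=
  (exists_cone.{w} p φ t.toFunctor t.w Y (h Y)).choose_spec.choose_spec.choose_spec.2 X X' f g

theorem sMap_exists {Y' Y : D} (k : Y' ⟶ Y) (a : StructuredArrow Y φ) :
    ∃! χ : sObj t h Y' ⟶ sObj t h Y, p.IsHomLift k χ ∧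
      χ ≫ μ t h Y a.right a.hom = μ t h Y' a.right (k ≫ a.hom) :=
  lift_existsUnique p k a.hom (k ≫ a.hom) rfl (μ t h Y a.right a.hom) (μ_lift t h Y a.right a.hom)
    (μ t h Y' a.right (k ≫ a.hom)) (μ_lift t h Y' a.right (k ≫ a.hom))

noncomputable def sMapA {Y' Y : D} (k : Y' ⟶ Y) (a : StructuredArrow Y φ) :
    sObj t h Y' ⟶ sObj t h Y := (sMap_exists t h k a).choose

theorem sMapA_lift {Y' Y : D} (k : Y' ⟶ Y) (a : StructuredArrow Y φ) :
    p.IsHomLift k (sMapA t h k a) := (sMap_exists t h k a).choose_spec.1.1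

theorem sMapA_spec {Y' Y : D} (k : Y' ⟶ Y) (a : StructuredArrow Y φ) :
    sMapA t h k a ≫ μ t h Y a.right a.hom = μ t h Y' a.right (k ≫ a.hom) :=
  (sMap_exists t h k a).choose_spec.1.2

theorem sMapA_unique {Y' Y : D} (k : Y' ⟶ Y) (a : StructuredArrow Y φ)
    (χ : sObj t h Y' ⟶ sObj t h Y) (h1 : p.IsHomLift k χ)
    (h2 : χ ≫ μ t h Y a.right a.hom = μ t h Y' a.right (k ≫ a.hom)) : χ = sMapA t h k a :=
  (sMap_exists t h k a).unique ⟨h1, h2⟩ (sMap_exists t h k a).choose_spec.1

theorem sMapA_hom {Y' Y : D} (k : Y' ⟶ Y) {a a' : StructuredArrow Y φ} (m : a ⟶ a') :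
    sMapA t h k a = sMapA t h k a' := by
  apply sMapA_unique t h k a' _ (sMapA_lift t h k a)
  have hw := StructuredArrow.w m
  rw [← hw, ← μ_comp t h Y a.right a'.right a.hom m.right, ← Category.assoc, sMapA_spec,
    μ_comp, Category.assoc]

theorem sMapA_const {Y' Y : D} (k : Y' ⟶ Y) (a a₀ : StructuredArrow Y φ) :
    sMapA t h k a = sMapA t h k a₀ :=
  (h Y).induction (fun a => sMapA t h k a = sMapA t h k a₀)
    (fun m => by rw [sMapA_hom t h k m]) a₀ rfl a

/-- the extended section on morphisms -/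
noncomputable def sMap {Y' Y : D} (k : Y' ⟶ Y) : sObj t h Y' ⟶ sObj t h Y :=
  sMapA t h k (Classical.choice (h Y).1)

theorem sMap_lift {Y' Y : D} (k : Y' ⟶ Y) : p.IsHomLift k (sMap t h k) := sMapA_lift t h k _

theorem sMap_spec {Y' Y : D} (k : Y' ⟶ Y) (X : C) (f : Y ⟶ φ.obj X) :
    sMap t h k ≫ μ t h Y X f = μ t h Y' X (k ≫ f) := by
  have := sMapA_spec t h k (StructuredArrow.mk f)
  rw [sMapA_const t h k (StructuredArrow.mk f) (Classical.choice (h Y).1)] at this
  exact this

theorem sMap_unique {Y' Y : D} (k : Y' ⟶ Y) (X : C) (f : Y ⟶ φ.obj X)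
    (χ : sObj t h Y' ⟶ sObj t h Y) (h1 : p.IsHomLift k χ)
    (h2 : χ ≫ μ t h Y X f = μ t h Y' X (k ≫ f)) : χ = sMap t h k := by
  have := sMapA_unique t h k (StructuredArrow.mk f) χ h1 h2
  rw [this]
  exact sMapA_const t h k _ _

/-- the extended section as a functor -/
noncomputable def sFunctor : D ⥤ F where
  obj := sObj t h
  map k := sMap t h k
  map_id Y := by
    obtain ⟨a⟩ := (h Y).1
    symm
    apply sMap_unique t h (𝟙 Y) a.right a.hom _ (IsHomLift.id (sObj_eq t h Y))
    rw [Category.id_comp, Category.id_comp]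
  map_comp {Y'' Y' Y} k' k := by
    obtain ⟨a⟩ := (h Y).1
    symm
    apply sMap_unique t h (k' ≫ k) a.right a.hom _
      (comp_lift p k' k _ _ (sMap_lift t h k') (sMap_lift t h k))
    rw [Category.assoc, sMap_spec, sMap_spec, Category.assoc]

/-- the extended section -/
noncomputable def sSec : FibCat.selfOver D ⥤ᵇ BasedCategory.ofFunctor p where
  toFunctor := sFunctor t h
  w := by
    refine CategoryTheory.Functor.ext (fun Y => sObj_eq t h Y) (fun Y' Y k => ?_)
    have := sMap_lift t h k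
    exact IsHomLift.fac' p k (sMap t h k)

/-- the extended section restricts to the given one -/
noncomputable def sIso : (restrφ φ p).obj (sSec t h) ≅ t :=
  BasedNatIso.mkNatIso
    (NatIso.ofComponents
      (fun X => @asIso _ _ _ _ (μ t h (φ.obj X) X (𝟙 _))
        (isIso_of_lift_id' p _ (μ_lift t h (φ.obj X) X (𝟙 _))))
      (fun {X X'} g => by
        change sMap t h (φ.map g) ≫ μ t h (φ.obj X') X' (𝟙 _) = μ t h (φ.obj X) X (𝟙 _) ≫ t.map g
        rw [sMap_spec, μ_comp, Category.comp_id, Category.id_comp]))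
    (fun X => μ_lift t h (φ.obj X) X (𝟙 _))

end Ess

include hp in
theorem restr_essSurj (h : ∀ Y : D, SC.{max w u₃ v₃} (StructuredArrow Y φ)) :
    (restrφ φ p).EssSurj where
  mem_essImage t := ⟨sSec t h, ⟨sIso t h⟩⟩

include hp in
/-- Restriction of sections along `φ` is an equivalence when all `(Y/φ)` are simply connected. -/
theorem restr_isEquivalence (h : ∀ Y : D, SC.{max w u₃ v₃} (StructuredArrow Y φ)) :
    (Stk.restr (FibCat.toSelf (BasedCategory.ofFunctor φ))
      (BasedCategory.ofFunctor p)).IsEquivalence :=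
  { faithful := restr_faithful φ p (fun Y => (h Y).1)
    full := restr_full φ p h
    essSurj := restr_essSurj.{w} φ p h }

end Main

end Groth.Agent.Lib.Helper62.FibSect
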