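import Groth.Agent.Lib.Helper62.FibSect
import Mathlib.CategoryTheory.FiberedCategory.Fibered

/-!
# Fibres of a (pre)fibred category versus comma categories (helper62)

For a prefibred `f : C ⥤ D` the inclusion of the fibre `f⁻¹(Y)` into the comma category `(Y/f)` has a (weak)
right adjoint given by pullback; so simple connectedness (`FibSect.SC`) passes from the fibre to the comma
category.
-/

set_option autoImplicit false
universe w v₁ v₂ u₁ u₂
open CategoryTheory CategoryTheory.Functor

namespace Groth.Agent.Lib.Helper62.FibSectFib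

open Groth.Agent.Lib.Helper62.FibSect

variable {C : Type u₁} [Category.{v₁} C] {D : Type u₂} [Category.{v₂} D] (f : C ⥤ D)

/-- inclusion of the fibre over `Y` into the comma category `(Y/f)` -/
def fibIncl (Y : D) : f.Fiber Y ⥤ StructuredArrow Y f where
  obj x := StructuredArrow.mk (eqToHom x.2.symm : Y ⟶ f.obj x.1)
  map {x x'} m := StructuredArrow.homMk m.1 (by
    have := m.2
    have h := IsHomLift.fac' f (𝟙 Y) m.1
    change eqToHom x.2.symm ≫ f.map m.1 = eqToHom x'.2.symm
    rw [h]; simp)
  map_id x := by apply StructuredArrow.hom_ext; rfl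
  map_comp m m' := by apply StructuredArrow.hom_ext; rfl

variable [f.IsPreFibered]

omit [f.IsPreFibered] in
theorem eqToHom_aux {Y Z W : D} (e1 : Y = Z) (e2 : Z = Y) (g : Y ⟶ W) :
    eqToHom e1 ≫ eqToHom e2 ≫ g = g := by
  cases e1; simp

/-- pullback along the structure arrow -/
noncomputable def fibR (Y : D) (b : StructuredArrow Y f) : f.Fiber Y :=
  ⟨IsPreFibered.pullbackObj (p := f) (a := b.right) rfl b.hom,
    IsPreFibered.pullbackObj_proj (p := f) (a := b.right) rfl b.hom⟩

/-- the counit -/
noncomputable def fibε (Y : D) (b : StructuredArrow Y f) :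
    (fibIncl f Y).obj (fibR f Y b) ⟶ b :=
  StructuredArrow.homMk (IsPreFibered.pullbackMap (p := f) (a := b.right) rfl b.hom) (by
    have h := IsHomLift.fac' f b.hom (IsPreFibered.pullbackMap (p := f) (a := b.right) rfl b.hom)
    exact (congrArg (fun z => eqToHom (fibR f Y b).2.symm ≫ z) h).trans
      ((congrArg (fun z => eqToHom (fibR f Y b).2.symm ≫ eqToHom _ ≫ z) (Category.comp_id _)).trans
        (eqToHom_aux _ _ _)))

theorem fib_hε (Y : D) {b b' : StructuredArrow Y f} (k : b ⟶ b') :
    ∃ m : fibR f Y b ⟶ fibR f Y b', (fibIncl f Y).map m ≫ fibε f Y b' = fibε f Y b ≫ k := by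
  have hk : f.IsHomLift b'.hom
      (IsPreFibered.pullbackMap (p := f) (a := b.right) rfl b.hom ≫ k.right) := by
    have : f.IsHomLift (b.hom ≫ f.map k.right)
      (IsPreFibered.pullbackMap (p := f) (a := b.right) rfl b.hom ≫ k.right) := inferInstance
    rwa [StructuredArrow.w k] at this
  obtain ⟨χ, ⟨h1, h2⟩, -⟩ := IsCartesian.universal_property (p := f) (f := b'.hom)
    (φ := IsPreFibered.pullbackMap (p := f) (a := b'.right) rfl b'.hom)
    (IsPreFibered.pullbackMap (p := f) (a := b.right) rfl b.hom ≫ k.right)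
  refine ⟨⟨χ, h1⟩, ?_⟩
  apply StructuredArrow.hom_ext
  exact h2

theorem sc_structuredArrow (Y : D) (h : SC.{w} (f.Fiber Y)) : SC.{w} (StructuredArrow Y f) :=
  SC.transfer (fibIncl f Y) (fibR f Y) (fibε f Y) (fun k => fib_hε f Y k) h

end Groth.Agent.Lib.Helper62.FibSectFib
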