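import Groth.Agent.Lib.Helper62.FibSect
import Groth.Agent.Lib.Helper62.BaseChange

/-!
# Restriction of functors over `D` into a category fibred in groupoids along a functor over `D` with
simply connected comma categories (helper62)
-/

set_option autoImplicit false
set_option backward.isDefEq.respectTransparency false
set_option backward.isDefEq.respectTransparency.types false
universe w va ua vb ub v₃ u₃ v₂ u₂
open CategoryTheory CategoryTheory.Functor CategoryTheory.Limits FibCat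

namespace Groth.Agent.Lib.Helper62.FibSectRel

open Groth.Agent.Lib.Helper62.FibSect Groth.Agent.Lib.Helper62.BaseChange

variable {D : Type u₂} [Category.{v₂} D]

theorem rel_aux (ℬ : BasedCategory.{vb, ub} D) (𝒮 : BasedCategory.{v₃, u₃} D)
    (h𝒮 : IsFibGrpd 𝒮.p) {A : Type ua} [Category.{va} A] (j : A ⥤ ℬ.obj)
    (h : ∀ b : ℬ.obj, SC.{max w ub u₃ v₂ vb v₃} (StructuredArrow b j)) :
    (Stk.restr (⟨j, rfl⟩ : BasedCategory.ofFunctor (j ⋙ ℬ.p) ⥤ᵇ ℬ) 𝒮).IsEquivalence := by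
  have hP : IsFibGrpd (CategoricalPullback.π₁ ℬ.p 𝒮.p) := isFibGrpd_bc ℬ.p 𝒮 h𝒮
  have h1 := restr_isEquivalence.{w} j (CategoricalPullback.π₁ ℬ.p 𝒮.p) h
  have h2 := theta_isEquivalence ℬ.p 𝒮 (selfOver ℬ.obj) h𝒮
  have h3 := theta_isEquivalence ℬ.p 𝒮 (BasedCategory.ofFunctor j) h𝒮
  obtain ⟨e⟩ := theta_square ℬ.p 𝒮 (selfOver ℬ.obj) (toSelf (BasedCategory.ofFunctor j))
  have h4 : (Stk.restr (pushF ℬ.p (toSelf (BasedCategory.ofFunctor j))) 𝒮 ⋙
      theta ℬ.p 𝒮 (BasedCategory.ofFunctor j)).IsEquivalence :=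
    Functor.isEquivalence_of_iso e
  have h5 : (Stk.restr (pushF ℬ.p (toSelf (BasedCategory.ofFunctor j))) 𝒮).IsEquivalence :=
    Functor.isEquivalence_of_comp_right _ (theta ℬ.p 𝒮 (BasedCategory.ofFunctor j))
  exact h5

/-- Restriction along `ι : 𝒜 ⟶ ℬ` over `D` of functors into `𝒮` (fibred in groupoids) is an equivalence
when all comma categories `(b/ι)` are simply connected. -/
theorem restr_isEquivalence_rel {𝒜 : BasedCategory.{va, ua} D} {ℬ : BasedCategory.{vb, ub} D}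
    (ι : 𝒜 ⥤ᵇ ℬ) (𝒮 : BasedCategory.{v₃, u₃} D) (h𝒮 : IsFibGrpd 𝒮.p)
    (h : ∀ b : ℬ.obj, SC.{max w ub u₃ v₂ vb v₃} (StructuredArrow b ι.toFunctor)) :
    (Stk.restr ι 𝒮).IsEquivalence := by
  obtain ⟨A, instA, p⟩ := 𝒜
  obtain ⟨j, hw⟩ := ι
  change A ⥤ ℬ.obj at j
  change j ⋙ ℬ.p = p at hw
  subst hw
  exact rel_aux.{w} ℬ 𝒮 h𝒮 j h

end Groth.Agent.Lib.Helper62.FibSectRel
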