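import Mathlib
import Groth.Prelude.Def_Hyper
import Groth.Agent.Lib.Helper62.BSimp

/-! # Sub-simplicial objects of the universal object cut out by admissible simplices -/

set_option autoImplicit false
set_option backward.isDefEq.respectTransparency false
set_option backward.isDefEq.respectTransparency.types false

open CategoryTheory CategoryTheory.Limits Opposite Simplicial SimplexCategory

universe u

namespace Groth.Agent.Lib.Helper62.FinHyp

open BSimp

variable {D : Type u} [SmallCategory D] {Bx : Set D}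
  (A : ∀ n : ℕ, Set (Simp Bx n))
  (hA : ∀ (m n : ℕ) (θ : Fn m n) (σ : Simp Bx n), σ ∈ A n → pull θ σ ∈ A m)

/-- the object of admissible `n`-simplices -/
def KAobj (n : ℕ) : FormalCoproduct.{u} D := ⟨{σ : Simp Bx n // σ ∈ A n}, fun σ => σ.1.obj id⟩

/-- the simplicial operators -/
def KAmap {m n : ℕ} (θ : Fn m n) : KAobj A n ⟶ KAobj A m :=
  ⟨fun σ => ⟨pull θ σ.1, hA m n θ σ.1 σ.2⟩, fun σ => σ.1.res id θ⟩

lemma KAmap_id (n : ℕ) : KAmap A hA (id : Fn n n) = 𝟙 _ := by
  refine FormalCoproduct.hom_ext rfl ?_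
  intro σ
  change σ.1.res id id ≫ eqToHom _ = 𝟙 _
  rw [σ.1.res_id]
  simp

lemma KAmap_comp {m n p : ℕ} (θ : Fn m n) (θ' : Fn n p) :
    KAmap A hA (θ' ∘ θ) = KAmap A hA θ' ≫ KAmap A hA θ := by
  refine FormalCoproduct.hom_ext rfl ?_
  intro σ
  change σ.1.res id (θ' ∘ θ) ≫ eqToHom _ = σ.1.res id θ' ≫ (pull θ' σ.1).res id θ
  rw [σ.1.res_comp id θ' θ]
  simp
  rfl

/-- the simplicial object of admissible simplices -/
def KA : SimplicialObject (FormalCoproduct.{u} D) where
  obj a := KAobj A a.unop.len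
  map {a b} θ := KAmap A hA (fun x => θ.unop.toOrderHom x)
  map_id a := KAmap_id A hA _
  map_comp {a b c} θ θ' := KAmap_comp A hA (fun x => θ'.unop.toOrderHom x)
    (fun x => θ.unop.toOrderHom x)

/-- the inclusion into the universal object -/
def incA : KA A hA ⟶ BSimp.K Bx where
  app a := ⟨fun σ => σ.1, fun σ => 𝟙 _⟩
  naturality a b θ := by
    refine FormalCoproduct.hom_ext rfl ?_
    intro σ
    change (σ.1.res id _ ≫ 𝟙 _) ≫ eqToHom _ = 𝟙 _ ≫ σ.1.res id _
    simp

lemma incA_cancel {W : FormalCoproduct.{u} D} (n : ℕ) (f g : W ⟶ KAobj A n)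
    (h : f ≫ (incA A hA).app (op ⦋n⦌) = g ≫ (incA A hA).app (op ⦋n⦌)) : f = g := by
  rw [FormalCoproduct.hom_ext_iff] at h
  obtain ⟨h1, h2⟩ := h
  have hf : f.f = g.f := by
    funext i
    exact Subtype.ext (congrFun h1 i)
  refine FormalCoproduct.hom_ext hf ?_
  intro i
  have h3 := h2 i
  have h4 : (f.φ i ≫ 𝟙 _) ≫ eqToHom (by rw [hf]) = g.φ i ≫ 𝟙 _ := h3
  rw [Category.comp_id, Category.comp_id] at h4
  exact h4

end Groth.Agent.Lib.Helper62.FinHyp
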