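import Mathlib
import Groth.Prelude.Def_Hyper
import Groth.Agent.Lib.Helper62.BHyper

/-! # Universal boundaries: the components of the coskeleton of the universal object -/

set_option autoImplicit false
set_option backward.isDefEq.respectTransparency false
set_option backward.isDefEq.respectTransparency.types false

open CategoryTheory CategoryTheory.Limits Opposite Simplicial SimplexCategory

universe u

namespace Groth.Agent.Lib.Helper62.FinHyp

open BSimp BGlue CoskZero CoskGen BHyper

variable {D : Type u} [SmallCategory D] [HasFiniteLimits (FormalCoproduct.{u} D)] (Bx : Set D)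
  (n : ℕ)
  [∀ (F : (SimplexCategory.Truncated n)ᵒᵖ ⥤ FormalCoproduct.{u} D),
    (SimplexCategory.Truncated.inclusion n).op.HasRightKanExtension F]

/-- the index set of the matching objects -/
abbrev MI : Type u := ((R n (BSimp.K Bx)).obj (op ⦋n + 1⦌)).I

/-- the matching objects -/
noncomputable abbrev MO (i : MI Bx n) : D := ((R n (BSimp.K Bx)).obj (op ⦋n + 1⦌)).obj i

/-- the universal point of a matching object -/
noncomputable def ιpt (i : MI Bx n) :
    (FormalCoproduct.incl D).obj (MO Bx n i) ⟶ (R n (BSimp.K Bx)).obj (op ⦋n + 1⦌) :=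
  FormalCoproduct.Hom.fromIncl i (𝟙 _)

/-- the universal boundary -/
noncomputable def UB (i : MI Bx n) : Bdry Bx n (MO Bx n i) := bdry Bx n (ιpt Bx n i)

/-- the indices of the faces of the universal boundary -/
noncomputable def faceIdx (i : MI Bx n) (j : Fin (n + 2)) : Simp Bx n :=
  ((UB Bx n i).p j).f PUnit.unit

variable {Bx n}

lemma pt_fac {Z : D} (l : (FormalCoproduct.incl D).obj Z ⟶ (R n (BSimp.K Bx)).obj (op ⦋n + 1⦌)) :
    l = (FormalCoproduct.incl D).map (l.φ PUnit.unit) ≫ ιpt Bx n (l.f PUnit.unit) := by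
  refine FormalCoproduct.hom_ext ?_ ?_
  · funext x
    cases x
    rfl
  · intro x
    cases x
    change l.φ PUnit.unit ≫ eqToHom _ = l.φ PUnit.unit ≫ 𝟙 _
    simp

lemma bdry_fac {Z : D} (l : (FormalCoproduct.incl D).obj Z ⟶ (R n (BSimp.K Bx)).obj (op ⦋n + 1⦌))
    (j : Fin (n + 2)) :
    (bdry Bx n l).p j =
      (FormalCoproduct.incl D).map (l.φ PUnit.unit) ≫ (UB Bx n (l.f PUnit.unit)).p j := by
  change l ≫ cmp n (BSimp.K Bx) ⦋n⦌ le_rfl (δ j) =
    (FormalCoproduct.incl D).map (l.φ PUnit.unit) ≫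
      (ιpt Bx n (l.f PUnit.unit) ≫ cmp n (BSimp.K Bx) ⦋n⦌ le_rfl (δ j))
  rw [← Category.assoc, ← pt_fac l]

lemma faceIdx_eq {Z : D}
    (l : (FormalCoproduct.incl D).obj Z ⟶ (R n (BSimp.K Bx)).obj (op ⦋n + 1⦌)) (j : Fin (n + 2)) :
    faceIdx Bx n (l.f PUnit.unit) j = ((bdry Bx n l).p j).f PUnit.unit := by
  rw [bdry_fac l j]
  rfl

/-- two points of the coskeleton with the same faces are equal -/
lemma pt_ext_faces {Z : D}
    (l l' : (FormalCoproduct.incl D).obj Z ⟶ (R n (BSimp.K Bx)).obj (op ⦋n + 1⦌))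
    (h : ∀ j, (bdry Bx n l).p j = (bdry Bx n l').p j) : l = l' := by
  apply hom_ext_cmp
  intro a ha θ
  have hns : ¬ Function.Surjective θ.toOrderHom := by
    intro hsurj
    have h1 := Fintype.card_le_of_surjective _ hsurj
    simp only [Fintype.card_fin] at h1
    omega
  obtain ⟨j, ψ, rfl⟩ := SimplexCategory.eq_comp_δ_of_not_surjective θ hns
  rw [← cmp_nat n (BSimp.K Bx) ⦋n⦌ a le_rfl ha (δ j) ψ, ← Category.assoc, ← Category.assoc]
  congr 1
  exact h j

/-- a matching object is determined by the indices of its faces -/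
theorem faceIdx_injective [HasFiniteProducts D] [HasPullbacks D] (i i' : MI Bx n)
    (h : ∀ j, faceIdx Bx n i j = faceIdx Bx n i' j) : i = i' := by
  let T : Fin (n + 2) → D := fun j => (Kobj Bx n).obj (faceIdx Bx n i j)
  let a : ∀ j, MO Bx n i ⟶ T j := fun j => ((UB Bx n i).p j).φ PUnit.unit
  let a' : ∀ j, MO Bx n i' ⟶ T j := fun j =>
    ((UB Bx n i').p j).φ PUnit.unit ≫ eqToHom (by
      change (Kobj Bx n).obj (faceIdx Bx n i' j) = (Kobj Bx n).obj (faceIdx Bx n i j)
      rw [h j])
  have key : (FormalCoproduct.incl D).map (pullback.fst (Pi.lift a) (Pi.lift a')) ≫ ιpt Bx n i =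
      (FormalCoproduct.incl D).map (pullback.snd (Pi.lift a) (Pi.lift a')) ≫ ιpt Bx n i' := by
    apply pt_ext_faces
    intro j
    change ((FormalCoproduct.incl D).map (pullback.fst (Pi.lift a) (Pi.lift a')) ≫ ιpt Bx n i) ≫
        cmp n (BSimp.K Bx) ⦋n⦌ le_rfl (δ j) =
      ((FormalCoproduct.incl D).map (pullback.snd (Pi.lift a) (Pi.lift a')) ≫ ιpt Bx n i') ≫
        cmp n (BSimp.K Bx) ⦋n⦌ le_rfl (δ j)
    rw [Category.assoc, Category.assoc]
    change (FormalCoproduct.incl D).map (pullback.fst (Pi.lift a) (Pi.lift a')) ≫ (UB Bx n i).p j =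
      (FormalCoproduct.incl D).map (pullback.snd (Pi.lift a) (Pi.lift a')) ≫ (UB Bx n i').p j
    refine FormalCoproduct.hom_ext ?_ ?_
    · funext x
      exact h j
    · intro x
      have hc := congrArg (fun φ => φ ≫ Pi.π T j)
        (pullback.condition (f := Pi.lift a) (g := Pi.lift a'))
      simp only [Category.assoc, Pi.lift_π] at hc
      change (pullback.fst (Pi.lift a) (Pi.lift a') ≫ a j) ≫ eqToHom _ =
        pullback.snd (Pi.lift a) (Pi.lift a') ≫ ((UB Bx n i').p j).φ PUnit.unit
      rw [hc]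
      simp only [a', Category.assoc, eqToHom_trans, eqToHom_refl, Category.comp_id]
  exact congrArg (fun q => q.f PUnit.unit) key

end Groth.Agent.Lib.Helper62.FinHyp
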