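import Mathlib
import Groth.Prelude.Def_Hyper
import Groth.Agent.Lib.Helper62.FinHypB

/-! # Admissible simplices: a finite sub-object of the universal object -/

set_option autoImplicit false
set_option backward.isDefEq.respectTransparency false
set_option backward.isDefEq.respectTransparency.types false

open CategoryTheory CategoryTheory.Limits Opposite Simplicial SimplexCategory

universe u

namespace Groth.Agent.Lib.Helper62.FinHyp

open BSimp BGlue CoskZero CoskGen BHyper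

variable {D : Type u} [SmallCategory D] [HasFiniteLimits (FormalCoproduct.{u} D)]
  [HasFiniteProducts D] [HasPullbacks D] {Bx : Set D} (J' : GrothendieckTopology D)
  [∀ (n : ℕ) (F : (SimplexCategory.Truncated n)ᵒᵖ ⥤ FormalCoproduct.{u} D),
    (SimplexCategory.Truncated.inclusion n).op.HasRightKanExtension F]

/-- a finite covering by objects of `Bx` -/
structure FinCov (Bx : Set D) (Z : D) where
  ι : Type u
  fin : Finite ι
  U : ι → D
  u : ∀ t, U t ⟶ Z
  mem : ∀ t, U t ∈ Bx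
  cov : Sieve.ofArrows U u ∈ J' Z

variable {J'} (cov : ∀ Z : D, FinCov J' Bx Z)

/-- the new simplices -/
noncomputable def G (n : ℕ) (i : MI Bx n) (t : (cov (MO Bx n i)).ι) : Simp Bx (n + 1) :=
  glue (UB Bx n i) ((cov (MO Bx n i)).u t) ((cov (MO Bx n i)).mem t)

lemma glue_face {n : ℕ} {Z U : D} (B : Bdry Bx n Z) (u : U ⟶ Z) (hU : U ∈ Bx) (j : Fin (n + 2)) :
    pull j.succAbove (glue B u hU) = (B.p j).f PUnit.unit :=
  congrArg (fun q => q.f PUnit.unit) (gpt_face B u hU j)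

lemma G_face (n : ℕ) (i : MI Bx n) (t : (cov (MO Bx n i)).ι) (j : Fin (n + 2)) :
    pull j.succAbove (G cov n i t) = faceIdx Bx n i j :=
  glue_face (UB Bx n i) _ _ j

lemma factor {m k : ℕ} (hk : k ≤ m) (χ : Fn (m + 1) k) :
    ∃ (χ₁ : Fn m k) (χ₂ : Fn (m + 1) m), χ = χ₁ ∘ χ₂ := by
  refine ⟨fun x => ⟨min x.val k, by omega⟩, fun x => ⟨(χ x).val, by have := (χ x).isLt; omega⟩, ?_⟩
  funext x
  apply Fin.ext
  have := (χ x).isLt
  simp only [Function.comp_apply]
  omega

/-- the admissible simplices of the next level -/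
def next (n : ℕ) (S : Set (Simp Bx n)) : Set (Simp Bx (n + 1)) :=
  {σ | ∃ τ ∈ S, ∃ θ : Fn (n + 1) n, σ = pull θ τ} ∪
  {σ | ∃ i : MI Bx n, (∀ j, faceIdx Bx n i j ∈ S) ∧
    ∃ (t : (cov (MO Bx n i)).ι) (θ : Fn (n + 1) (n + 1)), σ = pull θ (G cov n i t)}

variable (S0 : Set (Simp Bx 0))

/-- the admissible simplices -/
def Adm (n : ℕ) : Set (Simp Bx n) :=
  Nat.rec (motive := fun n => Set (Simp Bx n)) S0 (fun n S => next cov n S) n

lemma adm_succ (n : ℕ) : Adm cov S0 (n + 1) = next cov n (Adm cov S0 n) := rfl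

lemma adm_up (n : ℕ) (σ : Simp Bx n) (h : σ ∈ Adm cov S0 n) (θ : Fn (n + 1) n) :
    pull θ σ ∈ Adm cov S0 (n + 1) := Or.inl ⟨σ, h, θ, rfl⟩

lemma adm_const (V : D) (hV : V ∈ Bx) (h0 : const Bx V hV 0 ∈ S0) (m : ℕ) :
    const Bx V hV m ∈ Adm cov S0 m := by
  induction m with
  | zero => exact h0
  | succ m ih => exact adm_up cov S0 m _ ih (fun _ => 0)

lemma adm_glue_pull (n : ℕ) (i : MI Bx n) (hi : ∀ j, faceIdx Bx n i j ∈ Adm cov S0 n)
    (t : (cov (MO Bx n i)).ι)
    (IH : ∀ (σ : Simp Bx n), σ ∈ Adm cov S0 n → ∀ (m : ℕ) (θ : Fn m n),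
      pull θ σ ∈ Adm cov S0 m) :
    ∀ (m : ℕ) (χ : Fn m (n + 1)), pull χ (G cov n i t) ∈ Adm cov S0 m := by
  have hns : ∀ (m : ℕ) (χ : Fn m (n + 1)), ¬ Function.Surjective χ →
      pull χ (G cov n i t) ∈ Adm cov S0 m := by
    intro m χ hχ
    obtain ⟨j, π, rfl⟩ := exists_factor χ hχ
    have e : pull (j.succAbove ∘ π) (G cov n i t) = pull π (faceIdx Bx n i j) := by
      rw [← G_face cov n i t j]
      rfl
    rw [e]
    exact IH _ (hi j) m π
  intro m
  induction m with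
  | zero =>
    intro χ
    apply hns
    intro hs
    have h1 := Fintype.card_le_of_surjective _ hs
    simp only [Fintype.card_fin] at h1
    omega
  | succ m' ih =>
    intro χ
    by_cases hs : Function.Surjective χ
    · have h1 := Fintype.card_le_of_surjective _ hs
      simp only [Fintype.card_fin] at h1
      by_cases hm : m' = n
      · subst hm
        exact Or.inr ⟨i, hi, t, χ, rfl⟩
      · obtain ⟨χ₁, χ₂, rfl⟩ := factor (k := n + 1) (m := m') (by omega) χ
        exact adm_up cov S0 m' _ (ih χ₁) χ₂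
    · exact hns _ χ hs

theorem adm_pull (hS0 : ∀ σ ∈ S0, ∃ (V : D) (hV : V ∈ Bx), σ = const Bx V hV 0) :
    ∀ (n : ℕ) (σ : Simp Bx n), σ ∈ Adm cov S0 n → ∀ (m : ℕ) (θ : Fn m n),
      pull θ σ ∈ Adm cov S0 m := by
  intro n
  induction n with
  | zero =>
    intro σ hσ m θ
    obtain ⟨V, hV, rfl⟩ := hS0 σ hσ
    exact adm_const cov S0 V hV hσ m
  | succ n ih =>
    intro σ hσ m θ
    rcases hσ with ⟨τ, hτ, θ', rfl⟩ | ⟨i, hi, t, θ', rfl⟩
    · exact ih τ hτ m (θ' ∘ θ)
    · exact adm_glue_pull cov S0 n i hi t ih m (θ' ∘ θ)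

lemma next_finite (n : ℕ) (S : Set (Simp Bx n)) (hS : S.Finite) : (next cov n S).Finite := by
  apply Set.Finite.union
  · have e : ({σ | ∃ τ ∈ S, ∃ θ : Fn (n + 1) n, σ = pull θ τ} : Set (Simp Bx (n + 1))) =
        (fun p : Simp Bx n × Fn (n + 1) n => pull p.2 p.1) '' (S ×ˢ Set.univ) := by
      ext σ
      constructor
      · rintro ⟨τ, hτ, θ, rfl⟩
        exact ⟨(τ, θ), ⟨hτ, trivial⟩, rfl⟩
      · rintro ⟨⟨τ, θ⟩, ⟨hτ, -⟩, rfl⟩
        exact ⟨τ, hτ, θ, rfl⟩
    rw [e]
    exact (hS.prod Set.finite_univ).image _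
  · have hI : ({i | ∀ j, faceIdx Bx n i j ∈ S} : Set (MI Bx n)).Finite := by
      refine Set.Finite.of_injOn (f := fun i => (fun j => faceIdx Bx n i j))
        (t := Set.pi Set.univ (fun _ => S)) ?_ ?_ (Set.Finite.pi (fun _ => hS))
      · intro i hi j _
        exact hi j
      · intro i _ i' _ h
        exact faceIdx_injective i i' (fun j => congrFun h j)
    have e : ({σ | ∃ i : MI Bx n, (∀ j, faceIdx Bx n i j ∈ S) ∧
        ∃ (t : (cov (MO Bx n i)).ι) (θ : Fn (n + 1) (n + 1)), σ = pull θ (G cov n i t)} :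
          Set (Simp Bx (n + 1))) =
        ⋃ i ∈ ({i | ∀ j, faceIdx Bx n i j ∈ S} : Set (MI Bx n)),
          Set.range (fun p : (cov (MO Bx n i)).ι × Fn (n + 1) (n + 1) =>
            pull p.2 (G cov n i p.1)) := by
      ext σ
      simp only [Set.mem_setOf_eq, Set.mem_iUnion, Set.mem_range, Prod.exists, exists_prop]
      constructor
      · rintro ⟨i, hi, t, θ, rfl⟩
        exact ⟨i, hi, t, θ, rfl⟩
      · rintro ⟨i, hi, t, θ, rfl⟩
        exact ⟨i, hi, t, θ, rfl⟩
    rw [e]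
    refine hI.biUnion (fun i _ => ?_)
    haveI := (cov (MO Bx n i)).fin
    exact Set.finite_range _

theorem adm_finite (hfin : S0.Finite) (n : ℕ) : (Adm cov S0 n).Finite := by
  induction n with
  | zero => exact hfin
  | succ n ih => exact next_finite cov n _ ih

end Groth.Agent.Lib.Helper62.FinHyp
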