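import Mathlib
import Groth.Prelude.Def_Hyper
import Groth.Agent.Lib.Helper62.FinHypA
import Groth.Agent.Lib.Helper62.FinHypC
import Groth.Agent.Lib.Helper62.LLP

/-! # The finite sub-object of admissible simplices is a hypercovering -/

set_option autoImplicit false
set_option backward.isDefEq.respectTransparency false
set_option backward.isDefEq.respectTransparency.types false

open CategoryTheory CategoryTheory.Limits Opposite Simplicial SimplexCategory

universe u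

namespace Groth.Agent.Lib.Helper62.FinHyp

open BSimp BGlue CoskZero CoskGen BHyper LLP

variable {D : Type u} [SmallCategory D] [HasFiniteLimits (FormalCoproduct.{u} D)]
  [HasFiniteProducts D] [HasPullbacks D] {Bx : Set D} {J' : GrothendieckTopology D}
  [∀ (n : ℕ) (F : (SimplexCategory.Truncated n)ᵒᵖ ⥤ FormalCoproduct.{u} D),
    (SimplexCategory.Truncated.inclusion n).op.HasRightKanExtension F]
  (cov : ∀ Z : D, FinCov J' Bx Z) (S0 : Set (Simp Bx 0))
  (hS0 : ∀ σ ∈ S0, ∃ (V : D) (hV : V ∈ Bx), σ = const Bx V hV 0)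

include hS0 in
theorem hAdm : ∀ (m n : ℕ) (θ : Fn m n) (σ : Simp Bx n), σ ∈ Adm cov S0 n →
    pull θ σ ∈ Adm cov S0 m :=
  fun m n θ σ h => adm_pull cov S0 hS0 n σ h m θ

/-- the finite hypercovering -/
abbrev KF : SimplicialObject (FormalCoproduct.{u} D) := KA (Adm cov S0) (hAdm cov S0 hS0)

theorem llp_η_KF (n : ℕ) : HasLLP J' ((η n (KF cov S0 hS0)).app (op ⦋n + 1⦌)) := by
  intro Z l
  obtain ⟨l', hl'⟩ : ∃ l' : (FormalCoproduct.incl D).obj Z ⟶ (R n (BSimp.K Bx)).obj (op ⦋n + 1⦌),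
      l' = l ≫ ((SimplicialObject.cosk n).map
        (incA (Adm cov S0) (hAdm cov S0 hS0))).app (op ⦋n + 1⦌) := ⟨_, rfl⟩
  have hface : ∀ j : Fin (n + 2), l' ≫ cmp n (BSimp.K Bx) ⦋n⦌ le_rfl (δ j) =
      (l ≫ cmp n (KF cov S0 hS0) ⦋n⦌ le_rfl (δ j)) ≫
        (incA (Adm cov S0) (hAdm cov S0 hS0)).app (op ⦋n⦌) := by
    intro j
    rw [hl', Category.assoc, cosk_map_cmp, Category.assoc]
  have hi : ∀ j, faceIdx Bx n (l'.f PUnit.unit) j ∈ Adm cov S0 n := by
    intro j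
    rw [faceIdx_eq l' j]
    change (l' ≫ cmp n (BSimp.K Bx) ⦋n⦌ le_rfl (δ j)).f PUnit.unit ∈ _
    rw [hface j]
    exact ((l ≫ cmp n (KF cov S0 hS0) ⦋n⦌ le_rfl (δ j)).f PUnit.unit).2
  refine ⟨Sieve.pullback (l'.φ PUnit.unit)
    (Sieve.ofArrows (cov (MO Bx n (l'.f PUnit.unit))).U (cov (MO Bx n (l'.f PUnit.unit))).u),
    J'.pullback_stable (l'.φ PUnit.unit) (cov (MO Bx n (l'.f PUnit.unit))).cov, ?_⟩
  intro Z' h hh
  obtain ⟨t, a, hta⟩ := (Sieve.mem_ofArrows_iff _ _ (h ≫ l'.φ PUnit.unit)).1 hh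
  have hadm : G cov n (l'.f PUnit.unit) t ∈ Adm cov S0 (n + 1) :=
    Or.inr ⟨l'.f PUnit.unit, hi, t, id, rfl⟩
  refine ⟨FormalCoproduct.Hom.fromIncl (Y := KAobj (Adm cov S0) (n + 1))
    ⟨G cov n (l'.f PUnit.unit) t, hadm⟩
    (a ≫ eqToHom (glue_top (UB Bx n (l'.f PUnit.unit))
      ((cov (MO Bx n (l'.f PUnit.unit))).u t) ((cov (MO Bx n (l'.f PUnit.unit))).mem t)).symm), ?_⟩
  apply hom_ext_cmp
  intro a' ha' θ
  rw [Category.assoc, Category.assoc, η_cmp]
  have hns : ¬ Function.Surjective θ.toOrderHom := by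
    intro hsurj
    have h1 := Fintype.card_le_of_surjective _ hsurj
    simp only [Fintype.card_fin] at h1
    omega
  obtain ⟨j, ψ, rfl⟩ := SimplexCategory.eq_comp_δ_of_not_surjective θ hns
  rw [← cmp_nat n (KF cov S0 hS0) ⦋n⦌ a' le_rfl ha' (δ j) ψ, op_comp, Functor.map_comp,
    ← Category.assoc, ← Category.assoc, ← Category.assoc]
  congr 1
  rw [Category.assoc]
  apply incA_cancel (Adm cov S0) (hAdm cov S0 hS0) n
  rw [Category.assoc, ← hface j]
  have e1 : l' ≫ cmp n (BSimp.K Bx) ⦋n⦌ le_rfl (δ j) = (bdry Bx n l').p j := rfl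
  rw [e1, bdry_fac l' j, ← Category.assoc, ← Functor.map_comp, hta, Functor.map_comp,
    Category.assoc]
  have e2 := gpt_face (UB Bx n (l'.f PUnit.unit)) ((cov (MO Bx n (l'.f PUnit.unit))).u t)
    ((cov (MO Bx n (l'.f PUnit.unit))).mem t) j
  rw [← e2, Category.assoc]
  have e3 := (incA (Adm cov S0) (hAdm cov S0 hS0)).naturality (δ j).op
  erw [e3]
  rw [← Category.assoc, ← Category.assoc]
  congr 1
  refine FormalCoproduct.hom_ext rfl ?_
  intro x
  simp [gpt, incA]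

end Groth.Agent.Lib.Helper62.FinHyp
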