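import Mathlib
import Groth.Prelude.Def_Hyper
import Groth.Agent.Lib.Helper62.FinHypD
import Groth.Agent.Lib.Helper62.HyperH0

/-! # Finite hypercoverings with components in a class of objects -/

set_option autoImplicit false
set_option backward.isDefEq.respectTransparency false
set_option backward.isDefEq.respectTransparency.types false

open CategoryTheory CategoryTheory.Limits Opposite Simplicial SimplexCategory

universe u

namespace Groth.Agent.Lib.Helper62.FinHyp

open BSimp BGlue CoskZero CoskGen BHyper LLP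

variable {C : Type u} [SmallCategory C] [HasPullbacks C] (J : GrothendieckTopology C)
  (B : Set C) (X : C)

/-- objects over `X` whose source is in `B` -/
def BxO : Set (Over X) := {Y | Y.left ∈ B}

/-- finite coverings over `X` from finite coverings in `C` -/
noncomputable def finCovOver
    (h2 : ∀ Y : C, ∃ (ι : Type u) (_ : Finite ι) (U : ι → C) (f : ∀ i, U i ⟶ Y),
      Sieve.ofArrows U f ∈ J Y ∧ ∀ i, U i ∈ B) (Z : Over X) :
    FinCov (J.over X) (BxO B X) Z where
  ι := (h2 Z.left).choose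
  fin := (h2 Z.left).choose_spec.choose
  U t := Over.mk ((h2 Z.left).choose_spec.choose_spec.choose_spec.choose t ≫ Z.hom)
  u t := Over.homMk ((h2 Z.left).choose_spec.choose_spec.choose_spec.choose t) rfl
  mem t := (h2 Z.left).choose_spec.choose_spec.choose_spec.choose_spec.2 t
  cov := by
    have hc := (h2 Z.left).choose_spec.choose_spec.choose_spec.choose_spec.1
    rw [J.mem_over_iff]
    refine J.superset_covering ?_ hc
    intro Y g hg
    rw [Sieve.overEquiv_iff]
    obtain ⟨t, a, rfl⟩ := (Sieve.mem_ofArrows_iff _ _ g).1 hg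
    have e : (Over.homMk (a ≫ (h2 Z.left).choose_spec.choose_spec.choose_spec.choose t) rfl :
        Over.mk ((a ≫ (h2 Z.left).choose_spec.choose_spec.choose_spec.choose t) ≫ Z.hom) ⟶ Z) =
        (Over.homMk a (by simp) : Over.mk ((a ≫
          (h2 Z.left).choose_spec.choose_spec.choose_spec.choose t) ≫ Z.hom) ⟶
            Over.mk ((h2 Z.left).choose_spec.choose_spec.choose_spec.choose t ≫ Z.hom)) ≫
          Over.homMk ((h2 Z.left).choose_spec.choose_spec.choose_spec.choose t) rfl := by
      apply Over.OverMorphism.ext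
      rfl
    rw [e]
    exact Sieve.downward_closed _ (Sieve.ofArrows_mk _ _ t) _

theorem exists_finite_hypercovering
    (h2 : ∀ Y : C, ∃ (ι : Type u) (_ : Finite ι) (U : ι → C) (f : ∀ i, U i ⟶ Y),
      Sieve.ofArrows U f ∈ J Y ∧ ∀ i, U i ∈ B)
    [∀ (n : ℕ) (F : (SimplexCategory.Truncated n)ᵒᵖ ⥤ FormalCoproduct.{u} (Over X)),
      (SimplexCategory.Truncated.inclusion n).op.HasRightKanExtension F] :
    ∃ K : SimplicialObject (FormalCoproduct.{u} (Over X)), Hyper.IsHypercovering J X K ∧
      ∀ n : ℕ, Finite (K.obj (op (SimplexCategory.mk n))).I ∧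
        ∀ i, ((K.obj (op (SimplexCategory.mk n))).obj i).left ∈ B := by
  haveI : HasFiniteLimits (Over X) := hasFiniteLimits_of_hasTerminal_and_pullbacks
  obtain ⟨ι₀, fin₀, V, f, hcov, hmem⟩ := h2 X
  let S0 : Set (Simp (BxO B X) 0) :=
    Set.range (fun t : ι₀ => BSimp.const (BxO B X) (Over.mk (f t)) (hmem t) 0)
  have hS0 : ∀ σ ∈ S0, ∃ (V' : Over X) (hV : V' ∈ BxO B X), σ = BSimp.const (BxO B X) V' hV 0 := by
    rintro σ ⟨t, rfl⟩
    exact ⟨_, _, rfl⟩
  have hfin : S0.Finite := Set.finite_range _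
  refine ⟨KF (finCovOver J B X h2) S0 hS0, ⟨?_, ?_⟩, ?_⟩
  · refine J.superset_covering ?_ hcov
    intro Y g hg
    obtain ⟨t, a, rfl⟩ := (Sieve.mem_ofArrows_iff V f g).1 hg
    apply Sieve.downward_closed
    exact Sieve.ofArrows_mk
      (fun i => (((KF (finCovOver J B X h2) S0 hS0).obj (op ⦋0⦌)).obj i).left)
      (fun i => (((KF (finCovOver J B X h2) S0 hS0).obj (op ⦋0⦌)).obj i).hom)
      (⟨BSimp.const (BxO B X) (Over.mk (f t)) (hmem t) 0, ⟨t, rfl⟩⟩ :
        ((KF (finCovOver J B X h2) S0 hS0).obj (op ⦋0⦌)).I)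
  · intro n
    exact sr_of_llp (J.over X) _ (llp_η_KF (finCovOver J B X h2) S0 hS0 n)
  · intro n
    refine ⟨(adm_finite (finCovOver J B X h2) S0 hfin n).to_subtype, ?_⟩
    intro σ
    exact σ.1.mem n id

end Groth.Agent.Lib.Helper62.FinHyp
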