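import Mathlib
import Groth.Prelude.Def_Hyper
import Groth.Agent.Lib.Helper62.FreeAcyclic

/-! # Degree zero homology of the free abelian complex of a hypercovering -/

set_option autoImplicit false
set_option backward.isDefEq.respectTransparency false
set_option backward.isDefEq.respectTransparency.types false

open CategoryTheory CategoryTheory.Limits Opposite Simplicial SimplexCategory

universe u

namespace Groth.Agent.Lib.Helper62.FreeAcyclicZero

open ConeExt FreeChain SheafExactLocal HyperSite HyperSiteH0 LLP FreeAcyclic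

variable {C : Type u} [SmallCategory C] [HasPullbacks C] (J : GrothendieckTopology C) (X : C)
  [∀ (n : ℕ) (G : (SimplexCategory.Truncated n)ᵒᵖ ⥤ FormalCoproduct.{u} (Over X)),
      (SimplexCategory.Truncated.inclusion n).op.HasRightKanExtension G]
  (K : SimplicialObject (FormalCoproduct.{u} (Over X)))

/-- the constant presheaf `ℤ` -/
noncomputable abbrev constZ : (Over X)ᵒᵖ ⥤ AddCommGrpCat.{u} :=
  (Functor.const (Over X)ᵒᵖ).obj (AddCommGrpCat.free.{u}.obj PUnit.{u + 1})

/-- the augmentation from level `m` -/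
noncomputable def aug (m : ℕ) : (PS K).obj (op ⦋m⦌) ⟶ constZ X where
  app T := AddCommGrpCat.free.map (TypeCat.ofHom (fun _ => PUnit.unit))
  naturality T T' g := by
    change AddCommGrpCat.free.map _ ≫ AddCommGrpCat.free.map _ = AddCommGrpCat.free.map _ ≫ 𝟙 _
    rw [Category.comp_id, ← Functor.map_comp]
    rfl

lemma aug_apply (m : ℕ) (T : Over X) (z : FreeAbelianGroup (Sec X K T m)) :
    ((aug X K m).app (op T)).hom z = FreeAbelianGroup.map (fun _ => PUnit.unit) z := rfl

lemma δ_aug (m : ℕ) (i : Fin (m + 2)) : (PS K).δ i ≫ aug X K m = aug X K (m + 1) := by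
  ext T : 2
  change AddCommGrpCat.free.map _ ≫ AddCommGrpCat.free.map _ = AddCommGrpCat.free.map _
  rw [← Functor.map_comp]
  rfl

lemma dP_aug : dP K 0 ≫ aug X K 0 = 0 := by
  unfold dP
  rw [Preadditive.sum_comp, Fin.sum_univ_two]
  simp only [Preadditive.zsmul_comp, δ_aug]
  simp

theorem local_exact_zero_vertex (hK : Hyper.IsHypercovering J X K) (T₀ : Over X)
    (v : Y X K T₀ 0) (s : FreeAbelianGroup (Sec X K T₀ 0))
    (hs : ((aug X K 0).app (op T₀)).hom s = 0) :
    ∃ R ∈ (J.over X) T₀, ∀ ⦃T : Over X⦄ (g : T ⟶ T₀), R.arrows g →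
      ∃ t : FreeAbelianGroup (Sec X K T 1),
        ((dP K 0).app (op T)).hom t = (((PS K).obj (op ⦋0⦌)).map g.op).hom s := by
  obtain ⟨BA, hBA, hsB⟩ := exists_finite_support s
  let B : ∀ j, Set (Y X K T₀ j) := fun j =>
    Set.image2 (fun x (θ : ⦋j⦌ ⟶ ⦋0⦌) => (secE X K T₀ 0).symm x ≫ K.map θ.op)
      BA Set.univ
  have hfin : ∀ j, (B j).Finite := fun j => hBA.image2 _ Set.finite_univ
  have hmem : ∀ x ∈ BA, (secE X K T₀ 0).symm x ∈ B 0 := by
    intro x hx
    refine ⟨x, hx, 𝟙 _, trivial, ?_⟩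
    simp only [op_id, K.map_id, Category.comp_id]
  obtain ⟨S, hS, hl⟩ := cone_ext_zero J X K hK v B hfin
  refine ⟨S, hS, fun T g hg => ?_⟩
  obtain ⟨c, hc⟩ := hl g hg
  let cS : Sec X K T₀ 0 → Sec X K T 1 :=
    fun x => sec (c 0 ((secE X K T₀ 0).symm x))
  refine ⟨FreeAbelianGroup.map cS s, ?_⟩
  rw [dP_app_apply, PS_map_apply]
  rw [aug_apply] at hs
  have hx_eq : ∀ x : Sec X K T₀ 0, sec ((secE X K T₀ 0).symm x) = x :=
    fun x => (secE X K T₀ 0).apply_symm_apply x
  refine cone_chain_zero PUnit.unit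
    (fun i x => (FormalCoproduct.yoneda.map (K.δ i)).app (op T) x)
    (fun x => (FormalCoproduct.yoneda.obj (K.obj (op ⦋0⦌))).map g.op x)
    cS (sec (res X g v)) BA ?_ ?_ s hsB hs
  · intro x hx
    change (FormalCoproduct.yoneda.map (K.δ 0)).app (op T)
      (sec (c 0 ((secE X K T₀ 0).symm x))) = _
    rw [face_sec, hc.h0 0 le_rfl _ (hmem x hx), ← restr_sec, hx_eq]
  · intro x hx
    change (FormalCoproduct.yoneda.map (K.δ 1)).app (op T)
      (sec (c 0 ((secE X K T₀ 0).symm x))) = _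
    rw [face_sec, hc.hv _ (hmem x hx)]

lemma aug_natural {T T' : Over X} (g : T' ⟶ T) (s : FreeAbelianGroup (Sec X K T 0)) :
    ((aug X K 0).app (op T')).hom ((((PS K).obj (op ⦋0⦌)).map g.op).hom s) =
      ((aug X K 0).app (op T)).hom s := by
  have h := congrArg (fun φ => φ.hom s) ((aug X K 0).naturality g.op)
  exact h

theorem local_exact_zero (hK : Hyper.IsHypercovering J X K) (T₀ : Over X)
    (s : FreeAbelianGroup (Sec X K T₀ 0))
    (hs : ((aug X K 0).app (op T₀)).hom s = 0) :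
    ∃ R ∈ (J.over X) T₀, ∀ ⦃T : Over X⦄ (g : T ⟶ T₀), R.arrows g →
      ∃ t : FreeAbelianGroup (Sec X K T 1),
        ((dP K 0).app (op T)).hom t = (((PS K).obj (op ⦋0⦌)).map g.op).hom s := by
  refine ⟨Presheaf.imageSieve (dP K 0) s, ?_, fun T g hg => hg⟩
  refine (J.over X).transitive (vertexSieve_mem J X K hK T₀) _ ?_
  intro T₁ g₁ hg₁
  obtain ⟨v⟩ := hg₁
  have hs₁ : ((aug X K 0).app (op T₁)).hom ((((PS K).obj (op ⦋0⦌)).map g₁.op).hom s) = 0 := by
    rw [aug_natural, hs]
  obtain ⟨R₁, hR₁, hl⟩ := local_exact_zero_vertex J X K hK T₁ v _ hs₁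
  refine (J.over X).superset_covering ?_ hR₁
  intro T₂ g₂ hg₂
  obtain ⟨t, ht⟩ := hl g₂ hg₂
  refine ⟨t, ?_⟩
  refine ht.trans ?_
  change _ = (((PS K).obj (op ⦋0⦌)).map (g₂ ≫ g₁).op).hom s
  rw [op_comp, Functor.map_comp]
  rfl

theorem aug_locally_surjective (hK : Hyper.IsHypercovering J X K) (T₀ : Over X)
    (s : FreeAbelianGroup PUnit.{u + 1}) :
    ∃ R ∈ (J.over X) T₀, ∀ ⦃T : Over X⦄ (g : T ⟶ T₀), R.arrows g →
      ∃ t : FreeAbelianGroup (Sec X K T 0),
        ((aug X K 0).app (op T)).hom t = ((constZ X).map g.op).hom s := by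
  refine ⟨vertexSieve X K T₀, vertexSieve_mem J X K hK T₀, ?_⟩
  intro T g hg
  obtain ⟨v⟩ := hg
  refine ⟨FreeAbelianGroup.map (fun _ => sec v) s, ?_⟩
  rw [aug_apply, map_map_apply]
  change _ = s
  have : ((fun _ : Sec X K T 0 => PUnit.unit.{u + 1}) ∘ fun _ : PUnit.{u + 1} => sec v) = id := by
    funext x
    rfl
  rw [this, FreeAbelianGroup.map_id]
  rfl

theorem homology_zero (hK : Hyper.IsHypercovering J X K) :
    Nonempty ((Hyper.freeChainCx (J.over X) K).homology 0 ≅
      (presheafToSheaf (J.over X) AddCommGrpCat.{u}).obj (constZ X)) := by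
  have hex := exact_sheafify (J.over X) (dP K 0) (aug X K 0) (dP_aug X K)
    (fun U s hs => local_exact_zero J X K hK U s hs)
  have hex2 := exact_sheafify (J.over X) (aug X K 0) (0 : constZ X ⟶ constZ X) (by simp)
    (fun U s _ => aug_locally_surjective J X K hK U s)
  have hepi : Epi ((presheafToSheaf (J.over X) AddCommGrpCat.{u}).map (aug X K 0)) := by
    rw [ShortComplex.exact_iff_epi _ (by simp)] at hex2
    exact hex2
  let S' : ShortComplex (Sheaf (J.over X) AddCommGrpCat.{u}) :=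
    ShortComplex.mk ((Hyper.freeChainCx (J.over X) K).d 1 0)
      ((presheafToSheaf (J.over X) AddCommGrpCat.{u}).map (aug X K 0))
      (by rw [freeChainCx_d, ← Functor.map_comp, dP_aug, Functor.map_zero])
  have hS' : S'.Exact := by
    refine ShortComplex.exact_of_iso (S₁ := ShortComplex.mk
        ((presheafToSheaf (J.over X) AddCommGrpCat.{u}).map (dP K 0))
        ((presheafToSheaf (J.over X) AddCommGrpCat.{u}).map (aug X K 0))
        (by rw [← Functor.map_comp, dP_aug, Functor.map_zero]))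
      (ShortComplex.isoMk (Iso.refl _) (Iso.refl _) (Iso.refl _) ?_ ?_) hex
    · simp only [Iso.refl_hom, Category.id_comp, Category.comp_id]
      exact (freeChainCx_d J X K 0)
    · simp only [Iso.refl_hom, Category.id_comp, Category.comp_id]
      rfl
  haveI : Epi S'.g := hepi
  have hcok := hS'.gIsCokernel
  exact ⟨(Hyper.freeChainCx (J.over X) K).isoHomologyι₀ ≪≫
    IsColimit.coconePointUniqueUpToIso
      ((Hyper.freeChainCx (J.over X) K).opcyclesIsCokernel 1 0 (by simp)) hcok⟩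

end Groth.Agent.Lib.Helper62.FreeAcyclicZero
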