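import Mathlib.CategoryTheory.Abelian.GrothendieckCategory.EnoughInjectives
import Mathlib.CategoryTheory.Abelian.GrothendieckCategory.Subobject
import Mathlib.CategoryTheory.Limits.Constructions.Filtered
import Mathlib.CategoryTheory.Abelian.SerreClass.Basic
import Mathlib.CategoryTheory.ObjectProperty.ColimitsOfShape
import Mathlib.Algebra.Homology.ShortComplex.ShortExact
import Mathlib.CategoryTheory.Abelian.Injective.Basic

/-!
# Closed objects for localizing subcategories (helper62)

For a monomorphism `i : M ⟶ I` into an injective object of an abelian category we study the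
class `Q i` of objects all of whose subobjects `Y` satisfy `Hom(Y, M) = 0` and
"every `Y ⟶ I/M` lifts to `I`" (i.e. `Ext¹(Y, M) = 0`).  It is a Serre class, and in a Grothendieck
abelian category it is closed under filtered colimits and coproducts.
-/

set_option autoImplicit false
universe w v u
open CategoryTheory CategoryTheory.Limits

namespace Groth.Agent.Lib.Helper62.GabClosed

variable {C : Type u} [Category.{v} C] [Abelian C] {M I : C} (i : M ⟶ I)

/-- `Hom(Y, M) = 0`. -/
def HomZero (M Y : C) : Prop := ∀ f : Y ⟶ M, f = 0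

/-- Every morphism `Y ⟶ I/M` lifts to `I`. -/
def Lift (Y : C) : Prop := ∀ g : Y ⟶ cokernel i, ∃ h : Y ⟶ I, h ≫ cokernel.π i = g

/-- Both conditions. -/
def Good (Y : C) : Prop := HomZero M Y ∧ Lift i Y

/-- Objects all of whose subobjects are good. -/
def Q : ObjectProperty C := fun X => ∀ ⦃Y : C⦄ (m : Y ⟶ X), Mono m → Good i Y

lemma Q_of_mono {X' X : C} (f : X' ⟶ X) [Mono f] (hX : Q i X) : Q i X' :=
  fun _ m _ => hX (m ≫ f) (mono_comp m f)

lemma Q_of_isZero {X : C} (hX : IsZero X) : Q i X := by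
  intro Y m hm
  have hY : IsZero Y := IsZero.of_mono m hX
  exact ⟨fun f => hY.eq_of_src _ _, fun g => ⟨0, hY.eq_of_src _ _⟩⟩

lemma good_self {X : C} (hX : Q i X) : Good i X := hX (𝟙 X) inferInstance

section

variable [Mono i]

lemma eq_zero_of_comp_π {T : C} (hT : HomZero M T) (d : T ⟶ I) (hd : d ≫ cokernel.π i = 0) :
    d = 0 := by
  rw [← Abelian.monoLift_comp i d hd, hT (Abelian.monoLift i d hd), zero_comp]

lemma Q_of_epi {X X'' : C} (e : X ⟶ X'') [Epi e] (hX : Q i X) : Q i X'' := by
  intro Y'' m'' hm''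
  have hfst : Epi (pullback.fst m'' e) := inferInstance
  have hsnd : Mono (pullback.snd m'' e) := inferInstance
  have hY : Good i (pullback m'' e) := hX (pullback.snd m'' e) inferInstance
  have hK : Good i (kernel (pullback.fst m'' e)) :=
    hX (kernel.ι (pullback.fst m'' e) ≫ pullback.snd m'' e) (mono_comp _ _)
  constructor
  · intro f
    have := hY.1 (pullback.fst m'' e ≫ f)
    rwa [← cancel_epi (pullback.fst m'' e), comp_zero]
  · intro g
    obtain ⟨h, hh⟩ := hY.2 (pullback.fst m'' e ≫ g)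
    have hk : kernel.ι (pullback.fst m'' e) ≫ h = 0 := by
      apply eq_zero_of_comp_π i hK.1
      rw [Category.assoc, hh, kernel.condition_assoc, zero_comp]
    refine ⟨Abelian.epiDesc (pullback.fst m'' e) h hk, ?_⟩
    rw [← cancel_epi (pullback.fst m'' e), Abelian.comp_epiDesc_assoc, hh]

omit [Mono i] in
lemma Q_of_shortExact [Injective I] {S : ShortComplex C} (hS : S.ShortExact)
    (h₁ : Q i S.X₁) (h₃ : Q i S.X₃) : Q i S.X₂ := by
  intro Y m hm
  have := hS.mono_f
  -- Y' = Y ∩ X₁
  let k : pullback m S.f ⟶ Y := pullback.fst m S.f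
  have hkm : Mono k := inferInstance
  have hY' : Good i (pullback m S.f) := h₁ (pullback.snd m S.f) inferInstance
  -- Y'' = image of Y in X₃
  obtain ⟨Im, c, ι, hc, hι, hcι⟩ : ∃ (Im : C) (c : Y ⟶ Im) (ι : Im ⟶ S.X₃),
      Epi c ∧ Mono ι ∧ c ≫ ι = m ≫ S.g :=
    ⟨_, factorThruImage (m ≫ S.g), image.ι (m ≫ S.g), inferInstance, inferInstance,
      image.fac _⟩
  have hY'' : Good i Im := h₃ ι hι
  -- `c` is a cokernel of `k`
  have hfac : ∀ {T : C} (φ : Y ⟶ T), k ≫ φ = 0 → ∃ φ'' : Im ⟶ T, c ≫ φ'' = φ := by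
    intro T φ hφ
    have h0 : (kernel.ι c ≫ m) ≫ S.g = 0 := by
      rw [Category.assoc, ← hcι, kernel.condition_assoc, zero_comp]
    let ℓ : kernel c ⟶ pullback m S.f :=
      pullback.lift (kernel.ι c) (hS.exact.lift (kernel.ι c ≫ m) h0)
        (by rw [hS.exact.lift_f])
    have hℓ : ℓ ≫ k = kernel.ι c := pullback.lift_fst _ _ _
    refine ⟨Abelian.epiDesc c φ ?_, Abelian.comp_epiDesc c φ _⟩
    rw [← hℓ, Category.assoc, hφ, comp_zero]
  constructor
  · intro f
    obtain ⟨f'', hf''⟩ := hfac f (hY'.1 _)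
    rw [← hf'', hY''.1 f'', comp_zero]
  · intro g
    obtain ⟨h', hh'⟩ := hY'.2 (k ≫ g)
    let h₁' : Y ⟶ I := Injective.factorThru h' k
    have hh₁ : k ≫ h₁' = h' := Injective.comp_factorThru h' k
    obtain ⟨g'', hg''⟩ := hfac (g - h₁' ≫ cokernel.π i) (by
      rw [Preadditive.comp_sub, ← Category.assoc, hh₁, hh', sub_self])
    obtain ⟨h'', hh''⟩ := hY''.2 g''
    refine ⟨h₁' + c ≫ h'', ?_⟩
    rw [Preadditive.add_comp, Category.assoc, hh'', hg'']
    abel

/-- If every extension of `Y` by `M` splits, then maps `Y ⟶ I/M` lift to `I`. -/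
lemma lift_of_split {Y : C}
    (h : ∀ ⦃N : C⦄ (j : M ⟶ N) (p : N ⟶ Y) (hp : j ≫ p = 0),
      (ShortComplex.mk j p hp).ShortExact → IsSplitMono j) : Lift i Y := by
  intro g
  let N := pullback (cokernel.π i) g
  let p : N ⟶ Y := pullback.snd (cokernel.π i) g
  let j : M ⟶ N := pullback.lift i 0 (by simp)
  have hjfst : j ≫ pullback.fst (cokernel.π i) g = i := pullback.lift_fst _ _ _
  have hjp : j ≫ p = 0 := pullback.lift_snd _ _ _
  have hj : Mono j := mono_of_mono_fac hjfst
  have hp : Epi p := inferInstance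
  have hex : (ShortComplex.mk j p hjp).Exact := by
    apply ShortComplex.exact_of_f_is_kernel
    refine KernelFork.IsLimit.ofι' _ _ (fun {T} t ht => ?_)
    dsimp at t ht
    have h0 : (t ≫ pullback.fst (cokernel.π i) g) ≫ cokernel.π i = 0 := by
      rw [Category.assoc, pullback.condition, ← Category.assoc]
      change (t ≫ p) ≫ g = 0
      rw [ht, zero_comp]
    refine ⟨Abelian.monoLift i _ h0, ?_⟩
    dsimp
    apply pullback.hom_ext
    · rw [Category.assoc, hjfst, Abelian.monoLift_comp]
    · rw [Category.assoc]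
      change _ ≫ j ≫ p = t ≫ p
      rw [hjp, comp_zero, ht]
  have hS : (ShortComplex.mk j p hjp).ShortExact := { exact := hex, mono_f := hj, epi_g := hp }
  obtain ⟨⟨r, hr⟩⟩ := h j p hjp hS
  -- φ = fst - r ≫ i kills `j`
  let φ : N ⟶ I := pullback.fst (cokernel.π i) g - r ≫ i
  have hφ : j ≫ φ = 0 := by
    dsimp only [φ]
    rw [Preadditive.comp_sub, hjfst, reassoc_of% hr, sub_self]
  have : Epi (ShortComplex.mk j p hjp).g := hp
  refine ⟨hex.desc φ hφ, ?_⟩
  rw [← cancel_epi p]
  have := hex.g_desc φ hφ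
  dsimp at this
  rw [reassoc_of% this]
  dsimp only [φ]
  rw [Preadditive.sub_comp, Category.assoc, cokernel.condition, comp_zero, sub_zero]
  exact pullback.condition

omit [Mono i] in
/-- Conversely, if maps `Y ⟶ I/M` lift to `I` (with `I` injective), every extension of `Y`
by `M` splits. -/
lemma split_of_lift [Mono i] [Injective I] {Y : C} (hY : Lift i Y)
    ⦃N : C⦄ (j : M ⟶ N) (p : N ⟶ Y) (hp : j ≫ p = 0)
    (hS : (ShortComplex.mk j p hp).ShortExact) : IsSplitMono j := by
  have := hS.mono_f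
  have hepi : Epi p := hS.epi_g
  have hj : Mono j := this
  let φ : N ⟶ I := Injective.factorThru i j
  have hφ : j ≫ φ = i := Injective.comp_factorThru i j
  have h0 : j ≫ φ ≫ cokernel.π i = 0 := by rw [reassoc_of% hφ, cokernel.condition]
  have : Epi (ShortComplex.mk j p hp).g := hepi
  let g : Y ⟶ cokernel i := hS.exact.desc (φ ≫ cokernel.π i) h0
  have hg : p ≫ g = φ ≫ cokernel.π i := hS.exact.g_desc _ h0
  obtain ⟨h, hh⟩ := hY g
  have h1 : (φ - p ≫ h) ≫ cokernel.π i = 0 := by
    rw [Preadditive.sub_comp, Category.assoc, hh, hg, sub_self]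
  refine IsSplitMono.mk' ⟨Abelian.monoLift i _ h1, ?_⟩
  rw [← cancel_mono i, Category.assoc, Abelian.monoLift_comp, Preadditive.comp_sub, hφ,
    reassoc_of% hp, zero_comp, sub_zero, Category.id_comp]

end

section Grothendieck

variable [IsGrothendieckAbelian.{w} C]

attribute [local instance] IsFiltered.isConnected

set_option backward.defeqAttrib.useBackward true in
set_option backward.isDefEq.respectTransparency false in
/-- AB5: a subobject `Y` of a filtered colimit `colim A_s` is the filtered colimit of the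
preimages `K_s ↪ A_s` of `Y`. -/
lemma exists_colimit_of_mono {J' : Type w} [SmallCategory J'] [IsFiltered J'] (A : J' ⥤ C)
    (c : Cocone A) (hc : IsColimit c) {Y : C} (m : Y ⟶ c.pt) [Mono m] :
    ∃ (K : J' ⥤ C) (κ : K ⟶ A) (ι : K ⟶ (Functor.const J').obj Y),
      (∀ s, Mono (κ.app s)) ∧ Nonempty (IsColimit (Cocone.mk Y ι)) := by
  let τ : A ⟶ (Functor.const J').obj (cokernel m) := c.ι ≫ (Functor.const J').map (cokernel.π m)
  let S : ShortComplex (J' ⥤ C) := ShortComplex.mk (kernel.ι τ) τ (kernel.condition τ)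
  have hS : S.Exact := ShortComplex.exact_kernel τ
  have hκ : ∀ s, Mono ((kernel.ι τ).app s) := fun s =>
    (NatTrans.mono_iff_mono_app (kernel.ι τ)).1 inferInstance s
  let c₁ := colimit.cocone (kernel τ)
  have hc₁ : IsColimit c₁ := colimit.isColimit _
  let f : c₁.pt ⟶ c.pt := hc₁.desc (Cocone.mk c.pt (kernel.ι τ ≫ c.ι))
  have hf : ∀ j, c₁.ι.app j ≫ f = S.f.app j ≫ c.ι.app j := fun j => hc₁.fac _ j
  have hg : ∀ j, c.ι.app j ≫ cokernel.π m = S.g.app j ≫ (constCocone J' (cokernel m)).ι.app j := by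
    intro j
    simp [S, τ]
  have E := colim.exact_mapShortComplex hS hc₁ hc (isColimitConstCocone J' (cokernel m))
    f (cokernel.π m) hf hg
  have hfm : Mono f := colim.map_mono' (kernel.ι τ) hc₁ hc f hf
  have hfπ : f ≫ cokernel.π m = 0 :=
    (colim.mapShortComplex S hc₁ c (constCocone J' (cokernel m)) f (cokernel.π m) hf hg).zero
  -- comparison isomorphism
  let a : c₁.pt ⟶ Y := Abelian.monoLift m f hfπ
  have ha : a ≫ m = f := Abelian.monoLift_comp m f hfπ
  have : Mono (colim.mapShortComplex S hc₁ c (constCocone J' (cokernel m))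
    f (cokernel.π m) hf hg).f := hfm
  let b : Y ⟶ c₁.pt := E.lift m (cokernel.condition m)
  have hb : b ≫ f = m := E.lift_f m (cokernel.condition m)
  have hab : a ≫ b = 𝟙 _ := by rw [← cancel_mono f, Category.assoc, hb, ha, Category.id_comp]
  have hba : b ≫ a = 𝟙 _ := by rw [← cancel_mono m, Category.assoc, ha, hb, Category.id_comp]
  let e : c₁.pt ≅ Y := ⟨a, b, hab, hba⟩
  refine ⟨kernel τ, kernel.ι τ, c₁.ι ≫ (Functor.const J').map a, hκ, ⟨?_⟩⟩
  exact IsColimit.ofIsoColimit hc₁ (Cocone.ext e (fun j => by simp [e]))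

/-- `Q i` is closed under filtered colimits. -/
lemma Q_of_isColimit_filtered [Mono i] {J' : Type w} [SmallCategory J'] [IsFiltered J']
    (A : J' ⥤ C) (hA : ∀ s, Q i (A.obj s)) (c : Cocone A) (hc : IsColimit c) : Q i c.pt := by
  intro Y m hm
  obtain ⟨K, κ, ι, hκ, ⟨hι⟩⟩ := exists_colimit_of_mono A c hc m
  have hK : ∀ s, Good i (K.obj s) := fun s => hA s (κ.app s) (hκ s)
  constructor
  · intro f
    apply hι.hom_ext
    intro s
    dsimp
    rw [comp_zero]
    exact (hK s).1 _
  · intro g
    choose h hh using fun s => (hK s).2 (ι.app s ≫ g)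
    have hnat : ∀ ⦃s s' : J'⦄ (φ : s ⟶ s'), K.map φ ≫ h s' = h s := by
      intro s s' φ
      rw [← sub_eq_zero]
      apply eq_zero_of_comp_π i (hK s).1
      rw [Preadditive.sub_comp, Category.assoc, hh, hh, sub_eq_zero]
      have := ι.naturality φ
      dsimp at this
      rw [Category.comp_id] at this
      rw [← Category.assoc, this]
    have hnat' : ∀ ⦃s s' : J'⦄ (φ : s ⟶ s'),
        K.map φ ≫ h s' = h s ≫ ((Functor.const J').obj I).map φ := by
      intro s s' φ
      dsimp
      rw [hnat φ, Category.comp_id]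
    let cI : Cocone K := Cocone.mk I { app := h, naturality := hnat' }
    refine ⟨hι.desc cI, ?_⟩
    apply hι.hom_ext
    intro s
    have := hι.fac cI s
    dsimp at this ⊢
    rw [reassoc_of% this, hh]

omit [IsGrothendieckAbelian.{w} C] in
lemma Q_biprod [Injective I] {X₁ X₂ : C} (h₁ : Q i X₁) (h₂ : Q i X₂) : Q i (X₁ ⊞ X₂) :=
  Q_of_shortExact i (ShortComplex.Splitting.ofHasBinaryBiproduct X₁ X₂).shortExact h₁ h₂

/-- Auxiliary: closure of `Q i` under coproducts indexed by `α`. -/
def FinCoprodProp (α : Type w) : Prop := ∀ (f : α → C), (∀ a, Q i (f a)) → Q i (∐ f)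

lemma finCoprodProp_of_equiv [Mono i] {α β : Type w} (e : α ≃ β) (ih : FinCoprodProp i α) :
    FinCoprodProp i β := by
  intro f hf
  have h1 := ih (fun a => f (e a)) (fun a => hf _)
  let φ : (∐ fun a => f (e a)) ⟶ ∐ f := Sigma.desc (fun a => Sigma.ι f (e a))
  have : Epi φ := ⟨fun g₁ g₂ hg => by
    apply Sigma.hom_ext
    intro b
    obtain ⟨a, rfl⟩ := e.surjective b
    have := congrArg (fun t => Sigma.ι (fun a => f (e a)) a ≫ t) hg
    simpa [φ] using this⟩
  exact Q_of_epi i φ h1

lemma finCoprodProp_empty : FinCoprodProp i (PEmpty.{w + 1}) := by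
  intro f _
  apply Q_of_isZero
  rw [IsZero.iff_id_eq_zero]
  apply Sigma.hom_ext
  intro b
  exact b.elim

lemma finCoprodProp_option [Mono i] [Injective I] {α : Type w} (ih : FinCoprodProp i α) :
    FinCoprodProp i (Option α) := by
  intro f hf
  have h1 := ih (fun a => f (some a)) (fun a => hf _)
  have h2 := Q_biprod i h1 (hf none)
  let φ : (∐ fun a => f (some a)) ⊞ f none ⟶ ∐ f :=
    biprod.desc (Sigma.desc (fun a => Sigma.ι f (some a))) (Sigma.ι f none)
  have : Epi φ := ⟨fun g₁ g₂ hg => by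
    apply Sigma.hom_ext
    intro b
    cases b with
    | none =>
      have := congrArg (fun t => biprod.inr ≫ t) hg
      simpa [φ] using this
    | some a =>
      have := congrArg (fun t => Sigma.ι (fun a => f (some a)) a ≫ biprod.inl ≫ t) hg
      simpa [φ] using this⟩
  exact Q_of_epi i φ h2

/-- `Q i` is closed under finite coproducts. -/
lemma Q_finite_coprod [Mono i] [Injective I] (α : Type w) [Finite α] : FinCoprodProp i α :=
  Finite.induction_empty_option (P := FinCoprodProp i) (fun e ih => finCoprodProp_of_equiv i e ih)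
    (finCoprodProp_empty i) (fun ih => finCoprodProp_option i ih) α

/-- `Q i` is closed under small coproducts. -/
lemma Q_of_isColimit_discrete [Mono i] [Injective I] {J : Type w} (F : Discrete J ⥤ C)
    (hF : ∀ j, Q i (F.obj j)) (c : Cocone F) (hc : IsColimit c) : Q i c.pt := by
  let cc := CoproductsFromFiniteFiltered.liftToFinsetColimitCocone F
  have h1 : Q i cc.cocone.pt := by
    refine Q_of_isColimit_filtered i (CoproductsFromFiniteFiltered.liftToFinsetObj F) ?_
      (colimit.cocone _) (colimit.isColimit _)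
    intro s
    exact Q_finite_coprod i _ _ (fun a => hF _)
  exact Q_of_mono i (hc.coconePointUniqueUpToIso cc.isColimit).hom h1

end Grothendieck

end Groth.Agent.Lib.Helper62.GabClosed
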