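import Groth.Prelude.Def_W4c5qcohlocdualityLoc
import Groth.Agent.Lib.Helper62.GabClosed

/-!
# Closed objects for the localizing closure (helper62)
-/

set_option autoImplicit false
universe w v u
open CategoryTheory CategoryTheory.Limits

namespace Groth.Agent.Lib.Helper62.GabClosed

open ZeroObject in
/-- The class `Q i` is localizing. -/
theorem isLocalizing_Q {C : Type u} [Category.{v} C] [Abelian C] [IsGrothendieckAbelian.{w} C]
    {M I : C} (i : M ⟶ I) [Mono i] [Injective I] : GabLoc.IsLocalizing.{w} (Q i) where
  isSerreClass :=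
    { exists_zero := ⟨0, isZero_zero C, Q_of_isZero i (isZero_zero C)⟩
      prop_of_mono := fun f _ h => Q_of_mono i f h
      prop_of_epi := fun f _ h => Q_of_epi i f h
      prop_X₂_of_shortExact := fun hS h₁ h₃ => Q_of_shortExact i hS h₁ h₃ }
  isClosedUnderCoproducts _ :=
    ⟨fun _ ⟨h⟩ => Q_of_isColimit_discrete i h.diag h.prop_diag_obj (Cocone.mk _ h.ι) h.isColimit⟩

/-- If `P` is closed under subobjects and `M` is `P`-closed, then `M` is closed for the
localizing closure of `P`. -/
theorem isClosedFor_locClosure {C : Type u} [Category.{v} C] [Abelian C]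
    [IsGrothendieckAbelian.{w} C] (P : ObjectProperty C) [P.IsClosedUnderSubobjects] (M : C)
    (hM : GabLoc.IsClosedFor P M) : GabLoc.IsClosedFor (GabLoc.locClosure.{w} P) M := by
  let i : M ⟶ Injective.under M := Injective.ι M
  have hloc := isLocalizing_Q.{w} i
  have hP : P ≤ Q i := by
    intro X hX Y m hm
    have hY : P Y := P.prop_of_mono m hX
    exact ⟨fun f => hM.1 hY f, lift_of_split i (fun N j p hp hS => hM.2 j p hp hY hS)⟩
  constructor
  · intro Y hY f
    exact (good_self i (hY (Q i) hloc hP)).1 f
  · intro N Y j p hp hY hS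
    exact split_of_lift i (good_self i (hY (Q i) hloc hP)).2 j p hp hS

end Groth.Agent.Lib.Helper62.GabClosed
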