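import Groth.Agent.Lib.Helper62.GabTorsion
import Groth.Agent.Lib.Helper62.SubTransfinite

/-!
# Transfinite filtration characterisation of the localizing closure (helper62)
-/

set_option autoImplicit false
universe w v u
open CategoryTheory CategoryTheory.Limits

namespace Groth.Agent.Lib.Helper62.GabFilt

open Groth.Agent.Lib.Helper62.GabClosed

variable {C : Type u} [Category.{v} C] [Abelian C] [IsGrothendieckAbelian.{w} C]
  (P : ObjectProperty C)

/-! ### Basic facts on `subquotCoprod` -/

lemma subquotCoprod_of_epi {A A' : C} (q : A ⟶ A') [Epi q]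
    (hA : GabLoc.subquotCoprod.{w} P A) : GabLoc.subquotCoprod.{w} P A' := by
  obtain ⟨J, X, hX, B, i, p, hi, hp⟩ := hA
  exact ⟨J, X, hX, B, i, p ≫ q, hi, epi_comp p q⟩

lemma subquotCoprod_of_isZero {A : C} (hA : IsZero A) : GabLoc.subquotCoprod.{w} P A := by
  refine ⟨PEmpty.{w + 1}, fun a => a.elim, fun a => a.elim, ∐ (fun a : PEmpty.{w + 1} => a.elim),
    𝟙 _, 0, inferInstance, ⟨fun g₁ g₂ _ => hA.eq_of_src _ _⟩⟩

lemma subquotCoprod_of_mem {Y Y' B : C} (hY : P Y) (m : Y' ⟶ Y) [Mono m] (p : Y' ⟶ B) [Epi p] :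
    GabLoc.subquotCoprod.{w} P B := by
  refine ⟨PUnit.{w + 1}, fun _ => Y, fun _ => hY, Y',
    m ≫ Sigma.ι (fun _ : PUnit.{w + 1} => Y) PUnit.unit, p, ?_, inferInstance⟩
  have : Mono (Sigma.ι (fun _ : PUnit.{w + 1} => Y) PUnit.unit) := by
    refine ⟨fun g₁ g₂ hg => ?_⟩
    have := congrArg (fun t => t ≫ Sigma.desc (fun _ : PUnit.{w + 1} => 𝟙 Y)) hg
    simpa using this
  exact mono_comp _ _

lemma prop_of_isColimit_small (L : ObjectProperty C) (hL : GabLoc.IsLocalizing.{w} L)
    {K : Type w} [SmallCategory K] (F : K ⥤ C) (hF : ∀ k, L (F.obj k)) (c : Cocone F)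
    (hc : IsColimit c) : L c.pt := by
  have := hL.isSerreClass
  have := hL.isClosedUnderCoproducts K
  have h1 : L (∐ F.obj) := L.prop_colimit (Discrete.functor F.obj) (fun j => hF j.as)
  let φ : (∐ F.obj) ⟶ c.pt := Sigma.desc (fun k => c.ι.app k)
  have : Epi φ := ⟨fun g₁ g₂ hg => hc.hom_ext (fun k => by
    have := congrArg (fun t => Sigma.ι F.obj k ≫ t) hg
    simpa [φ] using this)⟩
  exact L.prop_of_epi φ h1

lemma subquotCoprod_le (L : ObjectProperty C) (hL : GabLoc.IsLocalizing.{w} L) (hPL : P ≤ L) :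
    GabLoc.subquotCoprod.{w} P ≤ L := by
  rintro A ⟨J, X, hX, B, i, p, hi, hp⟩
  have := hL.isSerreClass
  have := hL.isClosedUnderCoproducts J
  have h1 : L (∐ X) := L.prop_colimit (Discrete.functor X) (fun j => hPL _ (hX j.as))
  exact L.prop_of_epi p (L.prop_of_mono i h1)

/-! ### The direction `⇐` -/

open ZeroObject

theorem locClosure_of_transfinite (X : C)
    (h : MorphismProperty.transfiniteCompositions.{w} (GabLoc.monoModSubquot.{w} P)
      (0 : (0 : C) ⟶ X)) : GabLoc.locClosure.{w} P X := by
  rw [MorphismProperty.transfiniteCompositions_iff] at h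
  obtain ⟨J, _, _, _, _, ⟨t⟩⟩ := h
  intro L hL hPL
  have hS := hL.isSerreClass
  have key : ∀ j : J, L (t.F.obj j) := by
    intro j
    induction j using SuccOrder.limitRecOn with
    | isMin j hj =>
      obtain rfl := hj.eq_bot
      exact L.prop_of_iso t.isoBot.symm (L.prop_of_isZero (isZero_zero C))
    | succ j hj ih =>
      obtain ⟨hm, hc⟩ := t.map_mem j hj
      have h3 : L (cokernel (t.F.map (homOfLE (Order.le_succ j)))) :=
        subquotCoprod_le P L hL hPL _ hc
      have hSE : (ShortComplex.mk (t.F.map (homOfLE (Order.le_succ j)))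
          (cokernel.π _) (cokernel.condition _)).ShortExact :=
        { exact := ShortComplex.exact_cokernel _ }
      exact L.prop_X₂_of_shortExact hSE ih h3
    | isSuccLimit j hj ih =>
      exact prop_of_isColimit_small L hL _ (fun k => ih k.1 k.2) _
        (t.F.isColimitOfIsWellOrderContinuous j hj)
  exact prop_of_isColimit_small L hL t.F key _ t.isColimit

/-! ### The direction `⇒` -/

omit [IsGrothendieckAbelian.{w} C] in
lemma locClosure_of_epi {X T : C} (q : X ⟶ T) [Epi q] (hX : GabLoc.locClosure.{w} P X) :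
    GabLoc.locClosure.{w} P T := by
  intro L hL hPL
  have := hL.isSerreClass
  exact L.prop_of_epi q (hX L hL hPL)

/-- A nonzero object of the localizing closure has a nonzero subobject which is a subquotient of
a coproduct of objects of `P` (in fact a subquotient of an object of `P`). -/
lemma exists_sub_of_locClosure {T : C} (hT : GabLoc.locClosure.{w} P T) (hT0 : ¬ IsZero T) :
    ∃ (B : C) (b : B ⟶ T), Mono b ∧ b ≠ 0 ∧ GabLoc.subquotCoprod.{w} P B := by
  by_contra h
  have h' : ∀ (B : C) (b : B ⟶ T), Mono b → GabLoc.subquotCoprod.{w} P B → b = 0 := by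
    intro B b hb hB
    by_contra hb0
    exact h ⟨B, b, hb, hb0, hB⟩
  have hP : P ≤ R T := by
    intro Y hY Y' m hm f
    have := h' (image f) (image.ι f) inferInstance
      (subquotCoprod_of_mem P hY m (factorThruImage f))
    rw [← image.fac f, this, comp_zero]
  have := R_self T (hT (R T) (isLocalizing_R.{w} T) hP) (𝟙 T)
  exact hT0 ((IsZero.iff_id_eq_zero T).2 this)

omit [IsGrothendieckAbelian.{w} C] in
/-- The pullback of `0 ⟶ A₀ ⟶ X ⟶ X/A₀ ⟶ 0` along `b : B ⟶ X/A₀` is exact. -/
lemma pullback_exact {A₀ X B : C} (f : A₀ ⟶ X) [Mono f] (b : B ⟶ cokernel f) :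
    (ShortComplex.mk (pullback.lift f 0 (by simp) : A₀ ⟶ pullback (cokernel.π f) b)
      (pullback.snd (cokernel.π f) b) (pullback.lift_snd _ _ _)).Exact := by
  have hm : Mono (pullback.lift f 0 (by simp) : A₀ ⟶ pullback (cokernel.π f) b) :=
    mono_of_mono_fac (pullback.lift_fst _ _ _)
  apply ShortComplex.exact_of_f_is_kernel
  refine KernelFork.IsLimit.ofι' _ _ (fun {T} t ht => ?_)
  dsimp at t ht
  have h0 : (t ≫ pullback.fst (cokernel.π f) b) ≫ cokernel.π f = 0 := by
    rw [Category.assoc, pullback.condition, reassoc_of% ht, zero_comp]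
  refine ⟨Abelian.monoLift f _ h0, ?_⟩
  dsimp
  apply pullback.hom_ext
  · rw [Category.assoc, pullback.lift_fst, Abelian.monoLift_comp]
  · rw [Category.assoc, pullback.lift_snd, comp_zero, ht]

lemma exists_larger_subobject {X : C} (hX : GabLoc.locClosure.{w} P X) (A : Subobject X)
    (hA : A ≠ ⊤) :
    ∃ (A' : Subobject X) (h : A < A'),
      GabLoc.monoModSubquot.{w} P (Subobject.ofLE A A' h.le) := by
  induction A using Subobject.ind with | _ f
  have hT0 : ¬ IsZero (cokernel f) := by
    intro h0
    have : Epi f := Preadditive.epi_of_isZero_cokernel f h0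
    have : IsIso f := isIso_of_mono_of_epi f
    exact hA ((Subobject.isIso_iff_mk_eq_top f).1 this)
  obtain ⟨B, b, hb, hb0, hB⟩ :=
    exists_sub_of_locClosure P (locClosure_of_epi P (cokernel.π f) hX) hT0
  let a : _ ⟶ pullback (cokernel.π f) b := pullback.lift f 0 (by simp)
  have ha : a ≫ pullback.fst (cokernel.π f) b = f := pullback.lift_fst _ _ _
  have ha' : a ≫ pullback.snd (cokernel.π f) b = 0 := pullback.lift_snd _ _ _
  have hex := pullback_exact f b
  have hfst : Mono (pullback.fst (cokernel.π f) b) := inferInstance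
  have hsnd : Epi (pullback.snd (cokernel.π f) b) := inferInstance
  have hai : ¬ IsIso a := by
    intro hi
    have h1 : pullback.snd (cokernel.π f) b = 0 := by
      rw [← cancel_epi a, ha', comp_zero]
    apply hb0
    rw [← cancel_epi (pullback.snd (cokernel.π f) b), h1, zero_comp, comp_zero]
  have hlt : Subobject.mk f < Subobject.mk (pullback.fst (cokernel.π f) b) :=
    Subobject.mk_lt_mk_of_comm a ha hai
  refine ⟨Subobject.mk (pullback.fst (cokernel.π f) b), hlt, inferInstance, ?_⟩
  -- the cokernel is a quotient of `B`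
  have hcomm : a ≫ (Subobject.underlyingIso (pullback.fst (cokernel.π f) b)).inv =
      (Subobject.underlyingIso f).inv ≫ Subobject.ofLE _ _ hlt.le := by
    rw [← cancel_mono (Subobject.mk (pullback.fst (cokernel.π f) b)).arrow]
    simp [ha]
  let q := (Subobject.underlyingIso (pullback.fst (cokernel.π f) b)).inv ≫
    cokernel.π (Subobject.ofLE _ _ hlt.le)
  have hq : a ≫ q = 0 := by
    dsimp only [q]
    rw [reassoc_of% hcomm, cokernel.condition, comp_zero]
  have : Epi (ShortComplex.mk a (pullback.snd (cokernel.π f) b) ha').g := hsnd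
  let d := hex.desc q hq
  have hd : pullback.snd (cokernel.π f) b ≫ d = q := hex.g_desc q hq
  have hqe : Epi q := epi_comp _ _
  have : Epi d := by
    have : Epi (pullback.snd (cokernel.π f) b ≫ d) := by rw [hd]; exact hqe
    exact epi_of_epi (pullback.snd (cokernel.π f) b) d
  exact subquotCoprod_of_epi P d hB

lemma subquot_congr {X : C} (A A' A'' : Subobject X) (e : A' = A'') (h : A ≤ A') (h' : A ≤ A'') :
    GabLoc.subquotCoprod.{w} P (cokernel (A.ofLE A' h)) →
      GabLoc.subquotCoprod.{w} P (cokernel (A.ofLE A'' h')) := by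
  subst e
  exact id

section

variable {X : C} (hX : GabLoc.locClosure.{w} P X)

open scoped Classical in
/-- A strictly larger subobject with quotient in `subquotCoprod P` (or `⊤`). -/
noncomputable def larger (A : Subobject X) : Subobject X :=
  if hA : A = ⊤ then ⊤ else (exists_larger_subobject P hX A hA).choose

lemma larger_top : larger P hX (⊤ : Subobject X) = ⊤ := dif_pos rfl

lemma lt_larger (A : Subobject X) (hA : A ≠ ⊤) : A < larger P hX A := by
  dsimp only [larger]
  rw [dif_neg hA]
  exact (exists_larger_subobject P hX A hA).choose_spec.choose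

lemma le_larger (A : Subobject X) : A ≤ larger P hX A :=
  SubTransfinite.le_φ (larger P hX) (lt_larger P hX) (larger_top P hX) A

lemma mem_larger (A : Subobject X) :
    GabLoc.monoModSubquot.{w} P (Subobject.ofLE A (larger P hX A) (le_larger P hX A)) := by
  by_cases hA : A = ⊤
  · subst hA
    refine ⟨inferInstance, subquotCoprod_of_isZero P ?_⟩
    have h1 : IsIso (Subobject.ofLE (⊤ : Subobject X) (larger P hX ⊤) (le_larger P hX ⊤)) := by
      have h2 : Subobject.ofLE (⊤ : Subobject X) (larger P hX ⊤) (le_larger P hX ⊤) ≫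
          (larger P hX ⊤).arrow = (⊤ : Subobject X).arrow := Subobject.ofLE_arrow _
      have h3 : IsIso (larger P hX (⊤ : Subobject X)).arrow :=
        (Subobject.isIso_arrow_iff_eq_top _).2 (larger_top P hX)
      have h4 : IsIso (Subobject.ofLE (⊤ : Subobject X) (larger P hX ⊤) (le_larger P hX ⊤) ≫
          (larger P hX ⊤).arrow) := by rw [h2]; infer_instance
      exact IsIso.of_isIso_comp_right _ (larger P hX (⊤ : Subobject X)).arrow
    exact isZero_cokernel_of_epi _
  · have h := (exists_larger_subobject P hX A hA).choose_spec.choose_spec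
    have e : larger P hX A = (exists_larger_subobject P hX A hA).choose := by
      dsimp only [larger]; rw [dif_neg hA]
    exact ⟨inferInstance, subquot_congr P A _ _ e.symm _ _ h.2⟩

end

open ZeroObject in
theorem transfinite_of_locClosure (X : C) (hX : GabLoc.locClosure.{w} P X) :
    MorphismProperty.transfiniteCompositions.{w} (GabLoc.monoModSubquot.{w} P)
      (0 : (0 : C) ⟶ X) := by
  have : Mono (0 : (0 : C) ⟶ X) := ⟨fun g₁ g₂ _ => (isZero_zero C).eq_of_tgt _ _⟩
  obtain ⟨J, i1, i2, i3, i4, ⟨t⟩⟩ :=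
    SubTransfinite.exists_transfiniteCompositionOfShape.{w} (GabLoc.monoModSubquot.{w} P)
      (larger P hX) (lt_larger P hX) (larger_top P hX) (le_larger P hX) (mem_larger P hX)
      (0 : (0 : C) ⟶ X)
  rw [MorphismProperty.transfiniteCompositions_iff]
  exact ⟨J, i1, i3, i2, i4, ⟨t⟩⟩

end Groth.Agent.Lib.Helper62.GabFilt
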