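import Groth.Agent.Lib.Helper62.GabClosed2

/-!
# The localizing class of objects with no nonzero maps from subobjects to `T` (helper62)
-/

set_option autoImplicit false
universe w v u
open CategoryTheory CategoryTheory.Limits

namespace Groth.Agent.Lib.Helper62.GabClosed

variable {C : Type u} [Category.{v} C] [Abelian C] (T : C)

/-- Objects all of whose subobjects have no nonzero map to `T`. -/
def R : ObjectProperty C := fun X => ∀ ⦃Y : C⦄ (m : Y ⟶ X), Mono m → HomZero T Y

lemma R_of_mono {X' X : C} (f : X' ⟶ X) [Mono f] (hX : R T X) : R T X' :=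
  fun _ m _ => hX (m ≫ f) (mono_comp m f)

lemma R_of_isZero {X : C} (hX : IsZero X) : R T X := by
  intro Y m hm
  have hY : IsZero Y := IsZero.of_mono m hX
  exact fun f => hY.eq_of_src _ _

lemma R_self {X : C} (hX : R T X) : HomZero T X := hX (𝟙 X) inferInstance

lemma R_of_epi {X X'' : C} (e : X ⟶ X'') [Epi e] (hX : R T X) : R T X'' := by
  intro Y'' m'' hm'' f
  have hfst : Epi (pullback.fst m'' e) := inferInstance
  have hsnd : Mono (pullback.snd m'' e) := inferInstance
  have := hX (pullback.snd m'' e) inferInstance (pullback.fst m'' e ≫ f)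
  rwa [← cancel_epi (pullback.fst m'' e), comp_zero]

lemma R_of_shortExact {S : ShortComplex C} (hS : S.ShortExact)
    (h₁ : R T S.X₁) (h₃ : R T S.X₃) : R T S.X₂ := by
  intro Y m hm f
  have := hS.mono_f
  let k : pullback m S.f ⟶ Y := pullback.fst m S.f
  have hY' : HomZero T (pullback m S.f) := h₁ (pullback.snd m S.f) inferInstance
  obtain ⟨Im, c, ι, hc, hι, hcι⟩ : ∃ (Im : C) (c : Y ⟶ Im) (ι : Im ⟶ S.X₃),
      Epi c ∧ Mono ι ∧ c ≫ ι = m ≫ S.g :=
    ⟨_, factorThruImage (m ≫ S.g), image.ι (m ≫ S.g), inferInstance, inferInstance,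
      image.fac _⟩
  have hY'' : HomZero T Im := h₃ ι hι
  have h0 : (kernel.ι c ≫ m) ≫ S.g = 0 := by
    rw [Category.assoc, ← hcι, kernel.condition_assoc, zero_comp]
  let ℓ : kernel c ⟶ pullback m S.f :=
    pullback.lift (kernel.ι c) (hS.exact.lift (kernel.ι c ≫ m) h0)
      (by rw [hS.exact.lift_f])
  have hℓ : ℓ ≫ k = kernel.ι c := pullback.lift_fst _ _ _
  have hkf : kernel.ι c ≫ f = 0 := by
    rw [← hℓ, Category.assoc, hY' (k ≫ f), comp_zero]
  rw [← Abelian.comp_epiDesc c f hkf, hY'' (Abelian.epiDesc c f hkf), comp_zero]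

lemma R_biprod {X₁ X₂ : C} (h₁ : R T X₁) (h₂ : R T X₂) : R T (X₁ ⊞ X₂) :=
  R_of_shortExact T (ShortComplex.Splitting.ofHasBinaryBiproduct X₁ X₂).shortExact h₁ h₂

section Grothendieck

variable [IsGrothendieckAbelian.{w} C]

lemma R_of_isColimit_filtered {J' : Type w} [SmallCategory J'] [IsFiltered J']
    (A : J' ⥤ C) (hA : ∀ s, R T (A.obj s)) (c : Cocone A) (hc : IsColimit c) : R T c.pt := by
  intro Y m hm f
  obtain ⟨K, κ, ι, hκ, ⟨hι⟩⟩ := exists_colimit_of_mono A c hc m
  apply hι.hom_ext
  intro s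
  dsimp
  rw [comp_zero]
  exact hA s (κ.app s) (hκ s) _

/-- Auxiliary: closure of `R T` under coproducts indexed by `α`. -/
def FinCoprodPropR (α : Type w) : Prop := ∀ (f : α → C), (∀ a, R T (f a)) → R T (∐ f)

lemma finCoprodPropR_of_equiv {α β : Type w} (e : α ≃ β) (ih : FinCoprodPropR T α) :
    FinCoprodPropR T β := by
  intro f hf
  have h1 := ih (fun a => f (e a)) (fun a => hf _)
  let φ : (∐ fun a => f (e a)) ⟶ ∐ f := Sigma.desc (fun a => Sigma.ι f (e a))
  have : Epi φ := ⟨fun g₁ g₂ hg => by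
    apply Sigma.hom_ext
    intro b
    obtain ⟨a, rfl⟩ := e.surjective b
    have := congrArg (fun t => Sigma.ι (fun a => f (e a)) a ≫ t) hg
    simpa [φ] using this⟩
  exact R_of_epi T φ h1

lemma finCoprodPropR_empty : FinCoprodPropR T (PEmpty.{w + 1}) := by
  intro f _
  apply R_of_isZero
  rw [IsZero.iff_id_eq_zero]
  apply Sigma.hom_ext
  intro b
  exact b.elim

lemma finCoprodPropR_option {α : Type w} (ih : FinCoprodPropR T α) :
    FinCoprodPropR T (Option α) := by
  intro f hf
  have h1 := ih (fun a => f (some a)) (fun a => hf _)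
  have h2 := R_biprod T h1 (hf none)
  let φ : (∐ fun a => f (some a)) ⊞ f none ⟶ ∐ f :=
    biprod.desc (Sigma.desc (fun a => Sigma.ι f (some a))) (Sigma.ι f none)
  have : Epi φ := ⟨fun g₁ g₂ hg => by
    apply Sigma.hom_ext
    intro b
    cases b with
    | none =>
      have := congrArg (fun t => biprod.inr ≫ t) hg
      simpa [φ] using this
    | some a =>
      have := congrArg (fun t => Sigma.ι (fun a => f (some a)) a ≫ biprod.inl ≫ t) hg
      simpa [φ] using this⟩
  exact R_of_epi T φ h2

lemma R_finite_coprod (α : Type w) [Finite α] : FinCoprodPropR T α :=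
  Finite.induction_empty_option (P := FinCoprodPropR T)
    (fun e ih => finCoprodPropR_of_equiv T e ih)
    (finCoprodPropR_empty T) (fun ih => finCoprodPropR_option T ih) α

lemma R_of_isColimit_discrete {J : Type w} (F : Discrete J ⥤ C)
    (hF : ∀ j, R T (F.obj j)) (c : Cocone F) (hc : IsColimit c) : R T c.pt := by
  let cc := CoproductsFromFiniteFiltered.liftToFinsetColimitCocone F
  have h1 : R T cc.cocone.pt := by
    refine R_of_isColimit_filtered T (CoproductsFromFiniteFiltered.liftToFinsetObj F) ?_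
      (colimit.cocone _) (colimit.isColimit _)
    intro s
    exact R_finite_coprod T _ _ (fun a => hF _)
  exact R_of_mono T (hc.coconePointUniqueUpToIso cc.isColimit).hom h1

open ZeroObject in
/-- The class `R T` is localizing. -/
theorem isLocalizing_R : GabLoc.IsLocalizing.{w} (R T) where
  isSerreClass :=
    { exists_zero := ⟨0, isZero_zero C, R_of_isZero T (isZero_zero C)⟩
      prop_of_mono := fun f _ h => R_of_mono T f h
      prop_of_epi := fun f _ h => R_of_epi T f h
      prop_X₂_of_shortExact := fun hS h₁ h₃ => R_of_shortExact T hS h₁ h₃ }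
  isClosedUnderCoproducts _ :=
    ⟨fun _ ⟨h⟩ => R_of_isColimit_discrete T h.diag h.prop_diag_obj (Cocone.mk _ h.ι) h.isColimit⟩

end Grothendieck

end Groth.Agent.Lib.Helper62.GabClosed
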