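import Groth.Agent.Lib.Helper62.GabClosed2
import Mathlib.Order.Shrink
import Mathlib.CategoryTheory.Abelian.GrothendieckCategory.Subobject

/-!
# Indecomposable injectives in a Grothendieck abelian category are uniform (helper62)
-/

set_option autoImplicit false
universe w v u
open CategoryTheory CategoryTheory.Limits

namespace Groth.Agent.Lib.Helper62.GabUniform

variable {C : Type u} [Category.{v} C] [Abelian C] {E : C}

lemma eq_bot_of_arrow_eq_zero (S : Subobject E) (h : S.arrow = 0) : S = ⊥ := by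
  rw [← Subobject.mk_arrow S]
  exact Subobject.mk_eq_bot_iff_zero.2 h

lemma inf_eq_bot_iff_mono (A K : Subobject E) :
    A ⊓ K = ⊥ ↔ Mono (K.arrow ≫ cokernel.π A.arrow) := by
  constructor
  · intro h
    apply Preadditive.mono_of_cancel_zero
    intro T t ht
    have h0 : (t ≫ K.arrow) ≫ cokernel.π A.arrow = 0 := by rw [Category.assoc, ht]
    have hA : A.Factors (t ≫ K.arrow) := by
      rw [← Abelian.monoLift_comp A.arrow _ h0]
      exact Subobject.factors_comp_arrow _
    have hK : K.Factors (t ≫ K.arrow) := Subobject.factors_comp_arrow _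
    have := (Subobject.inf_factors (t ≫ K.arrow)).2 ⟨hA, hK⟩
    rw [h, Subobject.bot_factors_iff_zero] at this
    rw [← cancel_mono K.arrow, this, zero_comp]
  · intro h
    apply eq_bot_of_arrow_eq_zero
    have h1 : (A ⊓ K).arrow = Subobject.ofLE _ _ (inf_le_right : A ⊓ K ≤ K) ≫ K.arrow :=
      (Subobject.ofLE_arrow _).symm
    have h2 : (A ⊓ K).arrow = Subobject.ofLE _ _ (inf_le_left : A ⊓ K ≤ A) ≫ A.arrow :=
      (Subobject.ofLE_arrow _).symm
    have h3 : Subobject.ofLE _ _ (inf_le_right : A ⊓ K ≤ K) ≫ K.arrow ≫ cokernel.π A.arrow = 0 := by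
      rw [← Category.assoc, ← h1, h2, Category.assoc, cokernel.condition, comp_zero]
    have h4 : Subobject.ofLE _ _ (inf_le_right : A ⊓ K ≤ K) = 0 := by
      rw [← cancel_mono (K.arrow ≫ cokernel.π A.arrow), h3, zero_comp]
    rw [h1, h4, zero_comp]

section AB5

variable [IsGrothendieckAbelian.{w} C]

attribute [local instance] IsFiltered.isConnected

set_option backward.defeqAttrib.useBackward true in
set_option backward.isDefEq.respectTransparency false in
lemma mono_iSup_comp {J : Type w} [Preorder J] [IsDirectedOrder J] [Nonempty J]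
    (K : J → Subobject E) (hKm : Monotone K)
    {Z : C} (g : E ⟶ Z) (hg : ∀ j, Mono ((K j).arrow ≫ g)) :
    Mono ((⨆ j, K j).arrow ≫ g) := by
  let F : J ⥤ MonoOver E := (hKm.functor : J ⥤ Subobject E) ⋙ Subobject.representative
  let D : J ⥤ C := F ⋙ MonoOver.forget _ ⋙ Over.forget _
  let f : colimit D ⟶ E :=
    colimit.desc _ (Cocone.mk E
      { app j := (F.obj j).obj.hom
        naturality {j j'} g := by simp [D, MonoOver.forget] })
  have := IsGrothendieckAbelian.mono_of_isColimit_monoOver F (colimit.isColimit _) f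
    (by simp [f, D])
  have h1 := IsGrothendieckAbelian.subobjectMk_of_isColimit_eq_iSup F (colimit.isColimit _) f
    (by simp [f, D])
  have h2 : (⨆ j, Subobject.mk (F.obj j).obj.hom) = ⨆ j, K j := by
    exact iSup_congr (fun j => Subobject.mk_arrow (K j))
  let α : D ⟶ (Functor.const _).obj Z :=
    { app j := (K j).arrow ≫ g
      naturality {j j'} φ := by
        have : D.map φ ≫ (K j').arrow = (K j).arrow := MonoOver.w (F.map φ)
        simp [reassoc_of% this] }
  have : ∀ j, Mono (α.app j) := fun j => hg j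
  have := NatTrans.mono_of_mono_app α
  have hfg : Mono (f ≫ g) :=
    colim.map_mono' α (colimit.isColimit _) (isColimitConstCocone J Z) (f ≫ g) (by
      intro j
      simp [f, α]
      rfl)
  have h3 : Subobject.mk f = ⨆ j, K j := h1.trans h2
  have h4 : (⨆ j, K j).arrow = (Subobject.isoOfEqMk _ f h3.symm).hom ≫ f := by
    simp
  rw [h4, Category.assoc]
  infer_instance

lemma mono_sSup_comp (c : Set (Subobject E)) (hc : IsChain (· ≤ ·) c) (hne : c.Nonempty)
    {Z : C} (g : E ⟶ Z) (hg : ∀ K ∈ c, Mono (K.arrow ≫ g)) :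
    Mono ((sSup c).arrow ≫ g) := by
  let e : ↥c ≃o Shrink.{w} ↥c := orderIsoShrink ↥c
  let K : Shrink.{w} ↥c → Subobject E := fun j => (e.symm j).1
  have hK : ∀ j, K j ∈ c := fun j => (e.symm j).2
  have hKm : Monotone K := fun i j h => e.symm.monotone h
  have hle : ∀ {i j : Shrink.{w} ↥c}, K i ≤ K j → i ≤ j := fun {i j} h => by
    have : e.symm i ≤ e.symm j := h
    simpa using this
  have : Nonempty (Shrink.{w} ↥c) := ⟨e ⟨_, hne.some_mem⟩⟩
  have : IsDirectedOrder (Shrink.{w} ↥c) := ⟨fun i j => by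
    rcases hc.total (hK i) (hK j) with h | h
    · exact ⟨j, hle h, le_rfl⟩
    · exact ⟨i, le_rfl, hle h⟩⟩
  have h2 : (⨆ j, K j) = sSup c := by
    apply le_antisymm
    · apply iSup_le
      intro j
      exact le_sSup (hK j)
    · apply sSup_le
      intro k hk
      refine le_trans ?_ (le_iSup _ (e ⟨k, hk⟩))
      simp [K]
  rw [← h2]
  exact mono_iSup_comp K hKm g (fun j => hg _ (hK j))

lemma inf_sSup_eq_bot (A : Subobject E) (c : Set (Subobject E)) (hc : IsChain (· ≤ ·) c)
    (hne : c.Nonempty) (h : ∀ K ∈ c, A ⊓ K = ⊥) : A ⊓ sSup c = ⊥ := by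
  rw [inf_eq_bot_iff_mono]
  exact mono_sSup_comp c hc hne _ (fun K hK => (inf_eq_bot_iff_mono A K).1 (h K hK))

end AB5

section Uniform

variable [IsGrothendieckAbelian.{w} C]

/-- `K` is an essential extension of `A` inside `E`. -/
def Ess (A K : Subobject E) : Prop := A ≤ K ∧ ∀ B : Subobject E, B ≤ K → B ⊓ A = ⊥ → B = ⊥

lemma ess_self (A : Subobject E) : Ess A A :=
  ⟨le_rfl, fun B hB h => by rw [← h]; exact (inf_eq_left.2 hB).symm⟩

lemma ess_sSup (A : Subobject E) (c : Set (Subobject E)) (hc : IsChain (· ≤ ·) c)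
    (hne : c.Nonempty) (h : ∀ K ∈ c, Ess A K) : Ess A (sSup c) := by
  obtain ⟨K0, hK0⟩ := hne
  refine ⟨(h K0 hK0).1.trans (le_sSup hK0), fun B hB hBA => ?_⟩
  have h1 : B ⊓ sSup c = ⊥ := inf_sSup_eq_bot B c hc ⟨K0, hK0⟩ (fun K hK => by
    apply (h K hK).2 (B ⊓ K) inf_le_right
    apply le_bot_iff.1
    calc (B ⊓ K) ⊓ A ≤ B ⊓ A := inf_le_inf_right _ inf_le_left
      _ = ⊥ := hBA)
  rw [← h1]; exact (inf_eq_left.2 hB).symm

theorem inf_ne_bot_of_indecomposable [Injective E]
    (hind : ∀ (A B : C), Nonempty (E ≅ A ⊞ B) → IsZero A ∨ IsZero B)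
    (I₁ I₂ : Subobject E) (h₁ : I₁ ≠ ⊥) (h₂ : I₂ ≠ ⊥) : I₁ ⊓ I₂ ≠ ⊥ := by
  intro h12
  -- Zorn 1 : a maximal essential extension of `I₁`
  obtain ⟨K', hIK', hK'max⟩ := zorn_le_nonempty₀ {K | Ess I₁ K} (fun c hcs hc y hy =>
    ⟨sSup c, ess_sSup I₁ c hc ⟨y, hy⟩ (fun K hK => hcs hK), fun z hz => le_sSup hz⟩) I₁
      (ess_self I₁)
  have hK'ess : Ess I₁ K' := hK'max.prop
  have h2K' : I₂ ⊓ K' = ⊥ := by
    apply hK'ess.2 _ inf_le_right
    apply le_bot_iff.1
    calc (I₂ ⊓ K') ⊓ I₁ ≤ I₂ ⊓ I₁ := inf_le_inf_right _ inf_le_left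
      _ = I₁ ⊓ I₂ := inf_comm _ _
      _ = ⊥ := h12
  -- Zorn 2 : a maximal complement of `K'` containing `I₂`
  obtain ⟨K, hI₂K, hKmax⟩ := zorn_le_nonempty₀ {K | K ⊓ K' = ⊥} (fun c hcs hc y hy =>
    ⟨sSup c, by
      show sSup c ⊓ K' = ⊥
      rw [inf_comm]
      exact inf_sSup_eq_bot K' c hc ⟨y, hy⟩ (fun K hK => by rw [inf_comm]; exact hcs hK),
     fun z hz => le_sSup hz⟩) I₂ h2K'
  have hKK' : K ⊓ K' = ⊥ := hKmax.prop
  let q := cokernel.π K.arrow
  have hKq : K.arrow ≫ q = 0 := cokernel.condition _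
  have hj : Mono (K'.arrow ≫ q) := (inf_eq_bot_iff_mono K K').1 hKK'
  -- `K' ⟶ E/K` is an essential monomorphism
  have hess : ∀ {W : C} (h : cokernel K.arrow ⟶ W), Mono ((K'.arrow ≫ q) ≫ h) → Mono h := by
    intro W h hm
    have hKL : K ≤ kernelSubobject (q ≫ h) := by
      apply Subobject.le_of_comm
        (factorThruKernelSubobject (q ≫ h) K.arrow (by rw [← Category.assoc, hKq, zero_comp]))
      simp
    have hLK' : kernelSubobject (q ≫ h) ⊓ K' = ⊥ := by
      apply eq_bot_of_arrow_eq_zero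
      have e1 : (kernelSubobject (q ≫ h) ⊓ K').arrow =
          Subobject.ofLE _ _ (inf_le_right : kernelSubobject (q ≫ h) ⊓ K' ≤ K') ≫ K'.arrow :=
        (Subobject.ofLE_arrow _).symm
      have e2 : (kernelSubobject (q ≫ h) ⊓ K').arrow =
          Subobject.ofLE _ _ (inf_le_left : kernelSubobject (q ≫ h) ⊓ K' ≤ _) ≫
            (kernelSubobject (q ≫ h)).arrow :=
        (Subobject.ofLE_arrow _).symm
      have e3 : Subobject.ofLE _ _ (inf_le_right : kernelSubobject (q ≫ h) ⊓ K' ≤ K') ≫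
          (K'.arrow ≫ q) ≫ h = 0 := by
        rw [Category.assoc, ← Category.assoc, ← e1, e2, Category.assoc,
          kernelSubobject_arrow_comp, comp_zero]
      have e4 : Subobject.ofLE _ _ (inf_le_right : kernelSubobject (q ≫ h) ⊓ K' ≤ K') = 0 := by
        rw [← cancel_mono ((K'.arrow ≫ q) ≫ h), e3, zero_comp]
      rw [e1, e4, zero_comp]
    have hLK : kernelSubobject (q ≫ h) ≤ K := hKmax.2 hLK' hKL
    apply Preadditive.mono_of_cancel_zero
    intro T t ht
    have e5 : pullback.snd t q ≫ q ≫ h = 0 := by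
      rw [← Category.assoc, ← pullback.condition, Category.assoc, ht, comp_zero]
    have hf : K.Factors (pullback.snd t q) :=
      Subobject.factors_of_le _ hLK (kernelSubobject_factors _ _ e5)
    have e6 : pullback.snd t q ≫ q = 0 := by
      rw [← Subobject.factorThru_arrow K _ hf, Category.assoc, hKq, comp_zero]
    have e7 : pullback.fst t q ≫ t = 0 := by rw [pullback.condition, e6]
    rw [← cancel_epi (pullback.fst t q), e7, comp_zero]
  let ψ : cokernel K.arrow ⟶ E := Injective.factorThru K'.arrow (K'.arrow ≫ q)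
  have hψ : (K'.arrow ≫ q) ≫ ψ = K'.arrow := Injective.comp_factorThru _ _
  have hψm : Mono ψ := hess ψ (by rw [hψ]; infer_instance)
  have hK'M : K' ≤ Subobject.mk ψ := Subobject.le_mk_of_comm (K'.arrow ≫ q) hψ
  have hM : Ess I₁ (Subobject.mk ψ) := by
    refine ⟨hK'ess.1.trans hK'M, fun B hB hBI => ?_⟩
    have hBK' : B ⊓ K' = ⊥ := by
      apply hK'ess.2 _ inf_le_right
      apply le_bot_iff.1
      calc (B ⊓ K') ⊓ I₁ ≤ B ⊓ I₁ := inf_le_inf_right _ inf_le_left
        _ = ⊥ := hBI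
    let b : (B : C) ⟶ cokernel K.arrow := Subobject.ofLEMk B ψ hB
    have hb : b ≫ ψ = B.arrow := Subobject.ofLEMk_comp hB
    have hbm : Mono b := mono_of_mono_fac hb
    have hcm : Mono (cokernel.π b) := by
      apply hess
      apply Preadditive.mono_of_cancel_zero
      intro T t ht
      have e0 : (t ≫ K'.arrow ≫ q) ≫ cokernel.π b = 0 := by simpa using ht
      have e1 : t ≫ K'.arrow = Abelian.monoLift b _ e0 ≫ B.arrow := by
        rw [← hb, ← Category.assoc, Abelian.monoLift_comp, Category.assoc, hψ]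
      have hfB : B.Factors (t ≫ K'.arrow) := by rw [e1]; exact Subobject.factors_comp_arrow _
      have hfK' : K'.Factors (t ≫ K'.arrow) := Subobject.factors_comp_arrow _
      have := (Subobject.inf_factors (t ≫ K'.arrow)).2 ⟨hfB, hfK'⟩
      rw [hBK', Subobject.bot_factors_iff_zero] at this
      rw [← cancel_mono K'.arrow, this, zero_comp]
    have hb0 : b = 0 := by rw [← cancel_mono (cokernel.π b), cokernel.condition, zero_comp]
    apply eq_bot_of_arrow_eq_zero
    rw [← hb, hb0, zero_comp]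
  have hMK' : Subobject.mk ψ ≤ K' := hK'max.2 hM hK'M
  let ψ' : cokernel K.arrow ⟶ (K' : C) := Subobject.ofMkLE ψ K' hMK'
  have hψ' : ψ' ≫ K'.arrow = ψ := Subobject.ofMkLE_arrow hMK'
  have hr : K'.arrow ≫ (q ≫ ψ') = 𝟙 _ := by
    rw [← cancel_mono K'.arrow, Category.assoc, Category.assoc, hψ', ← Category.assoc, hψ,
      Category.id_comp]
  have : IsSplitMono K'.arrow := ⟨⟨⟨q ≫ ψ', hr⟩⟩⟩
  have hiso : E ≅ (K' : C) ⊞ cokernel K'.arrow :=
    biprod.uniqueUpToIso _ _
      (isBilimitBinaryBiconeOfIsSplitMonoOfCokernel (cokernelIsCokernel K'.arrow))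
  rcases hind _ _ ⟨hiso⟩ with hz | hz
  · apply h₁
    apply le_bot_iff.1
    calc I₁ ≤ K' := hK'ess.1
      _ = ⊥ := eq_bot_of_arrow_eq_zero _ (hz.eq_of_src _ _)
  · have : Epi K'.arrow := Preadditive.epi_of_cokernel_zero (hz.eq_of_tgt _ _)
    have : IsIso K'.arrow := isIso_of_mono_of_epi _
    have hK'top : K' = ⊤ := Subobject.eq_top_of_isIso_arrow K'
    apply h₂
    apply le_bot_iff.1
    calc I₂ ≤ K := hI₂K
      _ = K ⊓ ⊤ := (inf_top_eq _).symm
      _ = ⊥ := by rw [← hK'top]; exact hKK'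

end Uniform

end Groth.Agent.Lib.Helper62.GabUniform
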