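import Mathlib.AlgebraicGeometry.ResidueField
import Mathlib.AlgebraicGeometry.PullbackCarrier
import Mathlib.FieldTheory.IsAlgClosed.AlgebraicClosure
import Mathlib.CategoryTheory.Endomorphism

/-!
Geometric points of schemes and group actions that are transitive on geometric fibres.
-/

namespace Groth.Agent.Lib.Helper62

open CategoryTheory CategoryTheory.Limits AlgebraicGeometry

universe u

/-- Every point of a scheme is the image of a geometric point. -/
theorem exists_geometric_point {Z : Scheme.{u}} (z : Z) :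
    ∃ (Ω : Type u) (_ : Field Ω) (_ : IsAlgClosed Ω) (τ : Spec (CommRingCat.of Ω) ⟶ Z),
      τ (IsLocalRing.closedPoint Ω) = z := by
  refine ⟨AlgebraicClosure (Z.residueField z), inferInstance, inferInstance,
    Spec.map (CommRingCat.ofHom (algebraMap (Z.residueField z)
      (AlgebraicClosure (Z.residueField z)))) ≫ Z.fromSpecResidueField z, ?_⟩
  exact Z.fromSpecResidueField_apply z _

/-- The action of `g` on points. -/
theorem act_mul {X : Scheme.{u}} {G : Type*} [Group G] (ρ : G →* Aut X) (g h : G) (x : X) :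
    (ρ (g * h)).hom x = (ρ g).hom ((ρ h).hom x) := by
  rw [map_mul, Aut.Aut_mul_def, Iso.trans_hom]
  rfl

theorem act_one {X : Scheme.{u}} {G : Type*} [Group G] (ρ : G →* Aut X) (x : X) :
    (ρ 1).hom x = x := by
  rw [map_one]
  rfl

theorem act_inv_act {X : Scheme.{u}} {G : Type*} [Group G] (ρ : G →* Aut X) (g : G) (x : X) :
    (ρ g⁻¹).hom ((ρ g).hom x) = x := by
  rw [← act_mul, inv_mul_cancel, act_one]

theorem act_act_inv {X : Scheme.{u}} {G : Type*} [Group G] (ρ : G →* Aut X) (g : G) (x : X) :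
    (ρ g).hom ((ρ g⁻¹).hom x) = x := by
  rw [← act_mul, mul_inv_cancel, act_one]

/-- If `G` acts transitively on geometric fibres of `q`, it acts transitively on the fibres. -/
theorem point_transitive {X S : Scheme.{u}} (q : X ⟶ S) {G : Type*} [Group G] (ρ : G →* Aut X)
    (htrans : ∀ (Ω : Type u) [Field Ω] [IsAlgClosed Ω] (τ₁ τ₂ : Spec (CommRingCat.of Ω) ⟶ X),
      τ₁ ≫ q = τ₂ ≫ q → ∃ g : G, τ₁ ≫ (ρ g).hom = τ₂) (x y : X) (h : q x = q y) :
    ∃ g : G, (ρ g).hom x = y := by
  obtain ⟨z, hz1, hz2⟩ := Scheme.Pullback.exists_preimage_pullback x y h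
  obtain ⟨Ω, _, _, τ, hτ⟩ := exists_geometric_point z
  obtain ⟨g, hg⟩ := htrans Ω (τ ≫ pullback.fst q q) (τ ≫ pullback.snd q q)
    (by simp [pullback.condition])
  refine ⟨g, ?_⟩
  have := congrArg (fun f : Spec (CommRingCat.of Ω) ⟶ X => f (IsLocalRing.closedPoint Ω)) hg
  simpa [hτ, hz1, hz2] using this

end Groth.Agent.Lib.Helper62
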