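import Mathlib

/-! # Injective objects of a category of complexes are exact at every degree with a predecessor -/

set_option autoImplicit false

open CategoryTheory CategoryTheory.Limits

universe v u

namespace Groth.Agent.Lib.Helper62.InjCplxAcyclic

variable {V : Type u} [Category.{v} V] [Abelian V] {ι : Type*} [DecidableEq ι]
  {c : ComplexShape ι}

open HomologicalComplex

/-- in an injective complex, every generalised cocycle in a degree `j` with a predecessor `i ≠ j`
is a coboundary -/
theorem exists_lift (J : HomologicalComplex V c) [Injective J] {i j : ι} (hij : c.Rel i j)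
    (hne : i ≠ j) {A : V} (z : A ⟶ J.X j) (hz : ∀ k, c.Rel j k → z ≫ J.d j k = 0) :
    ∃ y : A ⟶ J.X i, y ≫ J.d i j = z := by
  let φ : (single V c j).obj A ⟶ J := mkHomFromSingle z hz
  let D := double (𝟙 A) hij
  let ιm : (single V c j).obj A ⟶ D :=
    mkHomFromSingle (doubleXIso₁ (𝟙 A) hij hne).inv (fun k _ => by
      rw [double_d_eq_zero₀ (𝟙 A) hij j k (Ne.symm hne), comp_zero])
  have hmono : Mono ιm := by
    apply HomologicalComplex.mono_of_mono_f
    intro k
    by_cases hk : k = j
    · subst hk
      rw [mkHomFromSingle_f]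
      infer_instance
    · exact (isZero_single_obj_X c j A k hk).mono _
  let ψ : D ⟶ J := Injective.factorThru φ ιm
  have hψ : ιm ≫ ψ = φ := Injective.comp_factorThru φ ιm
  refine ⟨(doubleXIso₀ (𝟙 A) hij).inv ≫ ψ.f i, ?_⟩
  have h1 : ιm.f j ≫ ψ.f j = φ.f j := by
    rw [← HomologicalComplex.comp_f, hψ]
  rw [mkHomFromSingle_f, mkHomFromSingle_f, Category.assoc] at h1
  have h2 : (doubleXIso₁ (𝟙 A) hij hne).inv ≫ ψ.f j = z := by
    rw [← cancel_epi (singleObjXSelf c j A).hom]
    exact h1
  rw [Category.assoc, ψ.comm i j]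
  change _ ≫ (double (𝟙 A) hij).d i j ≫ _ = _
  rw [double_d (𝟙 A) hij hne]
  simp only [Category.assoc, Iso.inv_hom_id_assoc, Category.id_comp]
  exact h2

/-- an injective complex is exact in every degree with a predecessor -/
theorem exactAt_of_injective (J : HomologicalComplex V c) [Injective J] {i j : ι}
    (hij : c.Rel i j) (hne : i ≠ j) : J.ExactAt j := by
  rw [HomologicalComplex.exactAt_iff' J i j (c.next j) (c.prev_eq' hij) rfl,
    ShortComplex.exact_iff_exact_up_to_refinements]
  intro A x₂ hx₂
  obtain ⟨y, hy⟩ := exists_lift J hij hne x₂ (fun k hk => by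
    obtain rfl := c.next_eq' hk
    exact hx₂)
  exact ⟨A, 𝟙 A, inferInstance, y, by rw [Category.id_comp]; exact hy.symm⟩

/-- cochain complexes indexed by `ℕ` -/
theorem isZero_homology_succ {W : Type u} [Category.{v} W] [Abelian W]
    (J : CochainComplex W ℕ) [Injective J] (p : ℕ) : IsZero (J.homology (p + 1)) := by
  rw [← HomologicalComplex.exactAt_iff_isZero_homology]
  exact exactAt_of_injective J (i := p) (j := p + 1) (by simp) (by omega)

end Groth.Agent.Lib.Helper62.InjCplxAcyclic
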