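import Mathlib
import Groth.Agent.Lib.Helper62.DeltaCmp
import Groth.Agent.Lib.Helper62.InjCplxAcyclic

/-! # The right derived functors of `H^0` on cochain complexes indexed by `ℕ` are the `H^p` -/

set_option autoImplicit false

open CategoryTheory CategoryTheory.Limits

universe v u

namespace Groth.Agent.Lib.Helper62.H0Derived

variable (W : Type u) [Category.{v} W] [Abelian W]

/-- the functor `H^0` -/
noncomputable abbrev H0 : CochainComplex W ℕ ⥤ W :=
  HomologicalComplex.homologyFunctor W (ComplexShape.up ℕ) 0

instance : PreservesFiniteLimits (H0 W) := by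
  rw [Functor.preservesFiniteLimits_iff_forall_exact_map_and_mono]
  intro S hS
  refine ⟨hS.homology_exact₂ 0, ?_⟩
  have := hS.mono_f
  exact HomologicalComplex.mono_homologyMap_of_mono_of_not_rel S.f 0 (by simp)

/-- the homology functors as a delta functor -/
noncomputable def homologyData :
    DeltaCmp.DeltaData (fun p => HomologicalComplex.homologyFunctor W (ComplexShape.up ℕ) p) where
  δ S hS p := hS.δ p (p + 1) rfl
  w3 S hS p := hS.comp_δ p (p + 1) rfl
  w1 S hS p := hS.δ_comp p (p + 1) rfl
  ex3 S hS p := hS.homology_exact₃ p (p + 1) rfl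
  ex1 S hS p := hS.homology_exact₁ p (p + 1) rfl
  vanish J _ p := InjCplxAcyclic.isZero_homology_succ J p

variable {W}

theorem nonempty_iso [EnoughInjectives (CochainComplex W ℕ)] (X : CochainComplex W ℕ) (p : ℕ) :
    Nonempty (((H0 W).rightDerived p).obj X ≅ X.homology p) := by
  obtain ⟨e⟩ := DeltaCmp.nonempty_iso_rightDerived (H0 W) (homologyData W) (Iso.refl _) p X
  exact ⟨e.symm⟩

end Groth.Agent.Lib.Helper62.H0Derived
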