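import Mathlib

/-! # The path object `Hom(Δ[1], L)` of a simplicial object in a category with finite limits -/

set_option autoImplicit false
set_option backward.isDefEq.respectTransparency false
set_option backward.isDefEq.respectTransparency.types false

open CategoryTheory CategoryTheory.Limits Opposite Simplicial SimplexCategory

universe v u

namespace Groth.Agent.Lib.Helper62.PathObj

/-! ## chains in `a × [1]` -/

/-- the map to `[1]` with `j` zeros -/
def tau (b : SimplexCategory) (j : ℕ) : b ⟶ ⦋1⦌ :=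
  SimplexCategory.Hom.mk ⟨fun k => if (k : ℕ) < j then 0 else 1, by
    intro k k' h
    have h' : (k : ℕ) ≤ (k' : ℕ) := h
    by_cases h1 : (k' : ℕ) < j
    · have h2 : (k : ℕ) < j := lt_of_le_of_lt h' h1
      simp [h1, h2]
    · simp only [h1, if_false]
      split_ifs <;> decide⟩

lemma tau_apply (b : SimplexCategory) (j : ℕ) (k : Fin (b.len + 1)) :
    (tau b j).toOrderHom k = if (k : ℕ) < j then 0 else 1 := rfl

lemma tau_eq_zero_iff (b : SimplexCategory) (j : ℕ) (k : Fin (b.len + 1)) :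
    (tau b j).toOrderHom k = 0 ↔ (k : ℕ) < j := by
  rw [tau_apply]
  split_ifs with h
  · simp [h]
  · simp [h]

lemma hom_ext_one {b : SimplexCategory} (f g : b ⟶ ⦋1⦌)
    (h : ∀ k, f.toOrderHom k = 0 ↔ g.toOrderHom k = 0) : f = g := by
  apply SimplexCategory.Hom.ext
  ext k : 2
  have h2 : ∀ x : Fin 2, x = 0 ∨ x = 1 := by decide
  rcases h2 (f.toOrderHom k) with h1 | h1 <;> rcases h2 (g.toOrderHom k) with h3 | h3
  · rw [h1, h3]
  · have := (h k).1 h1
    rw [h3] at this
    exact absurd this (by decide)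
  · have := (h k).2 h3
    rw [h1] at this
    exact absurd this (by decide)
  · rw [h1, h3]

lemma comp_tau {b' b : SimplexCategory} (α : b' ⟶ b) (j j' : ℕ)
    (h : ∀ k : Fin (b'.len + 1), ((α.toOrderHom k : Fin (b.len + 1)) : ℕ) < j ↔ (k : ℕ) < j') :
    α ≫ tau b j = tau b' j' := by
  apply hom_ext_one
  intro k
  rw [tau_eq_zero_iff]
  have : (α ≫ tau b j).toOrderHom k = (tau b j).toOrderHom (α.toOrderHom k) := rfl
  rw [this, tau_eq_zero_iff]
  exact h k

/-- the simplex of `a × [1]` attached to a chain: a map to `[a.len + 1]` -/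
def phi {b a : SimplexCategory} (v1 : b ⟶ a) (v2 : b ⟶ ⦋1⦌) : b ⟶ ⦋a.len + 1⦌ :=
  SimplexCategory.Hom.mk ⟨fun k => if v2.toOrderHom k = 0 then (v1.toOrderHom k).castSucc
    else (v1.toOrderHom k).succ, by
    intro k k' h
    have h1 : v1.toOrderHom k ≤ v1.toOrderHom k' := v1.toOrderHom.monotone h
    have h2 : v2.toOrderHom k ≤ v2.toOrderHom k' := v2.toOrderHom.monotone h
    rw [Fin.le_def] at h1
    dsimp only
    by_cases hk' : v2.toOrderHom k' = 0
    · have hk : v2.toOrderHom k = 0 := by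
        rw [hk'] at h2
        exact Fin.le_zero_iff.1 h2
      rw [if_pos hk, if_pos hk', Fin.le_def]
      simpa using h1
    · rw [if_neg hk']
      by_cases hk : v2.toOrderHom k = 0
      · rw [if_pos hk, Fin.le_def]
        simp only [Fin.val_castSucc, Fin.val_succ]
        omega
      · rw [if_neg hk, Fin.le_def]
        simp only [Fin.val_succ]
        omega⟩

lemma phi_apply {b a : SimplexCategory} (v1 : b ⟶ a) (v2 : b ⟶ ⦋1⦌) (k : Fin (b.len + 1)) :
    (phi v1 v2).toOrderHom k = if v2.toOrderHom k = 0 then (v1.toOrderHom k).castSucc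
      else (v1.toOrderHom k).succ := rfl

lemma phi_comp {b' b a : SimplexCategory} (α : b' ⟶ b) (v1 : b ⟶ a) (v2 : b ⟶ ⦋1⦌) :
    phi (α ≫ v1) (α ≫ v2) = α ≫ phi v1 v2 := by
  apply SimplexCategory.Hom.ext
  ext k : 2
  rfl

/-- the index of the shuffle containing a chain -/
noncomputable def idx {b a : SimplexCategory} (v1 : b ⟶ a) (v2 : b ⟶ ⦋1⦌) : Fin (a.len + 1) :=
  (Finset.univ.filter (fun k => v2.toOrderHom k = 0)).sup v1.toOrderHom

lemma idx_ge {b a : SimplexCategory} (v1 : b ⟶ a) (v2 : b ⟶ ⦋1⦌) (k : Fin (b.len + 1))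
    (hk : v2.toOrderHom k = 0) : v1.toOrderHom k ≤ idx v1 v2 :=
  Finset.le_sup (f := v1.toOrderHom) (by simp [hk])

lemma idx_le {b a : SimplexCategory} (v1 : b ⟶ a) (v2 : b ⟶ ⦋1⦌) (k : Fin (b.len + 1))
    (hk : v2.toOrderHom k ≠ 0) : idx v1 v2 ≤ v1.toOrderHom k := by
  apply Finset.sup_le
  intro k' hk'
  simp only [Finset.mem_filter, Finset.mem_univ, true_and] at hk'
  apply v1.toOrderHom.monotone
  by_contra hlt
  push_neg at hlt
  have h2 : v2.toOrderHom k ≤ v2.toOrderHom k' := v2.toOrderHom.monotone (le_of_lt hlt)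
  rw [hk'] at h2
  exact hk (Fin.le_zero_iff.1 h2)


/-! ## the path object -/

variable {E : Type u} [Category.{v} E] [HasFiniteLimits E] (L : SimplicialObject E)

/-- first map of the equalizer diagram -/
noncomputable def PLf (a : SimplexCategory) :
    (∏ᶜ fun _ : Fin (a.len + 1) => L.obj (op ⦋a.len + 1⦌)) ⟶
      ∏ᶜ fun _ : Fin a.len => L.obj (op ⦋a.len⦌) :=
  Pi.lift (fun i => Pi.π _ i.castSucc ≫ L.δ i.castSucc.succ)

/-- second map of the equalizer diagram -/
noncomputable def PLg (a : SimplexCategory) :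
    (∏ᶜ fun _ : Fin (a.len + 1) => L.obj (op ⦋a.len + 1⦌)) ⟶
      ∏ᶜ fun _ : Fin a.len => L.obj (op ⦋a.len⦌) :=
  Pi.lift (fun i => Pi.π _ i.succ ≫ L.δ i.castSucc.succ)

/-- the object of prisms `a × [1] → L` -/
noncomputable def PLobj (a : SimplexCategory) : E := equalizer (PLf L a) (PLg L a)

/-- the `i`-th shuffle -/
noncomputable def π (a : SimplexCategory) (i : Fin (a.len + 1)) :
    PLobj L a ⟶ L.obj (op ⦋a.len + 1⦌) :=
  equalizer.ι (PLf L a) (PLg L a) ≫ Pi.π _ i

lemma cond (a : SimplexCategory) (i : Fin a.len) :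
    π L a i.castSucc ≫ L.δ i.castSucc.succ = π L a i.succ ≫ L.δ i.castSucc.succ := by
  have h := equalizer.condition (PLf L a) (PLg L a)
  have h2 := congrArg (fun f => f ≫ Pi.π _ i) h
  have e1 : PLf L a ≫ Pi.π _ i = Pi.π _ i.castSucc ≫ L.δ i.castSucc.succ :=
    Limits.Pi.lift_π _ _
  have e2 : PLg L a ≫ Pi.π _ i = Pi.π _ i.succ ≫ L.δ i.castSucc.succ :=
    Limits.Pi.lift_π _ _
  simp only [Category.assoc] at h2
  rw [e1, e2] at h2
  unfold π
  simp only [Category.assoc]
  exact h2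

/-- maps into the path object -/
noncomputable def lift (a : SimplexCategory) {W : E}
    (x : Fin (a.len + 1) → (W ⟶ L.obj (op ⦋a.len + 1⦌)))
    (hx : ∀ i : Fin a.len, x i.castSucc ≫ L.δ i.castSucc.succ = x i.succ ≫ L.δ i.castSucc.succ) :
    W ⟶ PLobj L a :=
  equalizer.lift (Pi.lift x) (by
    apply Limits.Pi.hom_ext
    intro i
    have e1 : PLf L a ≫ Pi.π _ i = Pi.π _ i.castSucc ≫ L.δ i.castSucc.succ :=
      Limits.Pi.lift_π _ _
    have e2 : PLg L a ≫ Pi.π _ i = Pi.π _ i.succ ≫ L.δ i.castSucc.succ :=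
      Limits.Pi.lift_π _ _
    rw [Category.assoc, Category.assoc, e1, e2, ← Category.assoc, ← Category.assoc,
      Limits.Pi.lift_π, Limits.Pi.lift_π]
    exact hx i)

@[reassoc]
lemma lift_π (a : SimplexCategory) {W : E}
    (x : Fin (a.len + 1) → (W ⟶ L.obj (op ⦋a.len + 1⦌)))
    (hx : ∀ i : Fin a.len, x i.castSucc ≫ L.δ i.castSucc.succ = x i.succ ≫ L.δ i.castSucc.succ)
    (i : Fin (a.len + 1)) : lift L a x hx ≫ π L a i = x i := by
  unfold lift π
  rw [← Category.assoc, equalizer.lift_ι, Limits.Pi.lift_π]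

lemma hom_ext (a : SimplexCategory) {W : E} (f g : W ⟶ PLobj L a)
    (h : ∀ i, f ≫ π L a i = g ≫ π L a i) : f = g := by
  apply equalizer.hom_ext
  apply Limits.Pi.hom_ext
  intro i
  have := h i
  simpa [π] using this

lemma cond' (a : SimplexCategory) (i i' : Fin (a.len + 1)) (h : (i' : ℕ) = i + 1)
    (q : Fin (a.len + 2)) (hq : (q : ℕ) = i') :
    π L a i ≫ L.δ q = π L a i' ≫ L.δ q := by
  have hi : (i : ℕ) < a.len := by
    have := i'.isLt
    omega
  obtain ⟨j, rfl⟩ : ∃ j : Fin a.len, i = j.castSucc := ⟨⟨i, hi⟩, Fin.ext rfl⟩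
  have e2 : i' = j.succ := Fin.ext (by simpa using h)
  have e3 : q = j.castSucc.succ := Fin.ext (by simp [hq, h])
  subst e2 e3
  exact cond L a j

/-- key lemma: the shuffles agree on simplices avoiding the vertices between them -/
lemma pi_map_eq {a b : SimplexCategory} (i i' : Fin (a.len + 1)) (hii : i ≤ i')
    (χ : b ⟶ ⦋a.len + 1⦌)
    (hχ : ∀ k, ((χ.toOrderHom k : Fin (a.len + 2)) : ℕ) ≤ i ∨ (i' : ℕ) < (χ.toOrderHom k : ℕ)) :
    π L a i ≫ L.map χ.op = π L a i' ≫ L.map χ.op := by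
  obtain ⟨d, hd⟩ : ∃ d : ℕ, (i' : ℕ) = i + d := ⟨i' - i, by
    have : (i : ℕ) ≤ i' := hii
    omega⟩
  induction d generalizing i' with
  | zero =>
    have : i' = i := Fin.ext (by simpa using hd)
    rw [this]
  | succ d ih =>
    have hlt : (i : ℕ) + d < a.len + 1 := by
      have := i'.isLt
      omega
    let i'' : Fin (a.len + 1) := ⟨i + d, hlt⟩
    have h1 : π L a i ≫ L.map χ.op = π L a i'' ≫ L.map χ.op := by
      apply ih i''
      · rw [Fin.le_def]
        simp [i'']
      · intro k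
        rcases hχ k with h | h
        · exact Or.inl h
        · right
          simp only [i'']
          omega
      · rfl
    rw [h1]
    have hmiss : ∀ x, χ.toOrderHom x ≠ i'.castSucc := by
      intro x hx
      have hv : ((χ.toOrderHom x : Fin (a.len + 2)) : ℕ) = i' := by
        rw [hx]
        rfl
      rcases hχ x with h | h <;> omega
    obtain ⟨θ', hθ'⟩ := eq_comp_δ_of_not_surjective' χ i'.castSucc hmiss
    rw [hθ', op_comp, L.map_comp, ← Category.assoc, ← Category.assoc]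
    congr 1
    exact cond' L a i'' i' (by simp only [i'']; omega) i'.castSucc rfl

/-- evaluation of a prism at a chain -/
noncomputable def ev {b a : SimplexCategory} (v1 : b ⟶ a) (v2 : b ⟶ ⦋1⦌) :
    PLobj L a ⟶ L.obj (op b) :=
  π L a (idx v1 v2) ≫ L.map (phi v1 v2).op

lemma ev_spec {b a : SimplexCategory} (v1 : b ⟶ a) (v2 : b ⟶ ⦋1⦌) (i : Fin (a.len + 1))
    (h0 : ∀ k, v2.toOrderHom k = 0 → v1.toOrderHom k ≤ i)
    (h1 : ∀ k, v2.toOrderHom k ≠ 0 → i ≤ v1.toOrderHom k) :
    ev L v1 v2 = π L a i ≫ L.map (phi v1 v2).op := by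
  unfold ev
  rcases le_total (idx v1 v2) i with h | h
  · apply pi_map_eq L _ _ h
    intro k
    rw [phi_apply]
    by_cases hk : v2.toOrderHom k = 0
    · left
      rw [if_pos hk]
      exact idx_ge v1 v2 k hk
    · right
      rw [if_neg hk]
      have := h1 k hk
      rw [Fin.le_def] at this
      simp only [Fin.val_succ]
      omega
  · symm
    apply pi_map_eq L _ _ h
    intro k
    rw [phi_apply]
    by_cases hk : v2.toOrderHom k = 0
    · left
      rw [if_pos hk]
      exact h0 k hk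
    · right
      rw [if_neg hk]
      have := idx_le v1 v2 k hk
      rw [Fin.le_def] at this
      simp only [Fin.val_succ]
      omega

lemma ev_nat {b' b a : SimplexCategory} (α : b' ⟶ b) (v1 : b ⟶ a) (v2 : b ⟶ ⦋1⦌) :
    ev L v1 v2 ≫ L.map α.op = ev L (α ≫ v1) (α ≫ v2) := by
  rw [ev_spec L (α ≫ v1) (α ≫ v2) (idx v1 v2)
    (fun k hk => idx_ge v1 v2 (α.toOrderHom k) hk)
    (fun k hk => idx_le v1 v2 (α.toOrderHom k) hk), phi_comp, op_comp, L.map_comp]
  unfold ev
  rw [Category.assoc]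


/-! ## shuffles and the simplicial structure -/

omit [HasFiniteLimits E] in
lemma ev_congr_dummy : True := trivial

lemma hom_ext_val {b a : SimplexCategory} (f g : b ⟶ a)
    (h : ∀ k, ((f.toOrderHom k : Fin (a.len + 1)) : ℕ) = (g.toOrderHom k : ℕ)) : f = g :=
  SimplexCategory.Hom.ext _ _ (OrderHom.ext _ _ (funext fun k => Fin.ext (h k)))

lemma comp_val {c b a : SimplexCategory} (f : c ⟶ b) (g : b ⟶ a) (k : Fin (c.len + 1)) :
    (f ≫ g).toOrderHom k = g.toOrderHom (f.toOrderHom k) := rfl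

lemma δ_val {n : ℕ} (q : Fin (n + 2)) (k : Fin (n + 1)) :
    (((SimplexCategory.δ q).toOrderHom k : Fin (n + 2)) : ℕ) =
      if (k : ℕ) < q then (k : ℕ) else (k : ℕ) + 1 := by
  have : (SimplexCategory.δ q).toOrderHom k = q.succAbove k := rfl
  rw [this]
  unfold Fin.succAbove
  split_ifs with h1 h2 h2
  · rfl
  · exact absurd (Fin.lt_def.1 h1) (by simpa using h2)
  · exact absurd (Fin.lt_def.2 (by simpa using h2)) h1
  · rfl

lemma σ_val {n : ℕ} (j : Fin (n + 1)) (k : Fin (n + 2)) :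
    (((SimplexCategory.σ j).toOrderHom k : Fin (n + 1)) : ℕ) =
      if (j : ℕ) < k then (k : ℕ) - 1 else (k : ℕ) := by
  have : (SimplexCategory.σ j).toOrderHom k = j.predAbove k := rfl
  rw [this]
  unfold Fin.predAbove
  split_ifs with h1 h2 h2
  · rfl
  · exact absurd (Fin.lt_def.1 h1) (by simpa using h2)
  · exact absurd (Fin.lt_def.2 (by simpa using h2)) h1
  · rfl

/-- first coordinate of the `j`-th shuffle of `a × [1]` -/
def sg (a : SimplexCategory) (j : Fin (a.len + 1)) : ⦋a.len + 1⦌ ⟶ a :=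
  SimplexCategory.Hom.mk j.predAboveOrderHom

lemma sg_mk (n : ℕ) (j : Fin (n + 1)) : sg ⦋n⦌ j = SimplexCategory.σ j := rfl

lemma sg_val (a : SimplexCategory) (j : Fin (a.len + 1)) (k : Fin (a.len + 2)) :
    (((sg a j).toOrderHom k : Fin (a.len + 1)) : ℕ) =
      if (j : ℕ) < k then (k : ℕ) - 1 else (k : ℕ) :=
  σ_val (n := a.len) j k

lemma phi_sg {b a : SimplexCategory} (v1 : b ⟶ a) (v2 : b ⟶ ⦋1⦌) (i : Fin (a.len + 1))
    (h0 : ∀ k, v2.toOrderHom k = 0 → v1.toOrderHom k ≤ i)
    (h1 : ∀ k, v2.toOrderHom k ≠ 0 → i ≤ v1.toOrderHom k) :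
    phi v1 v2 ≫ sg a i = v1 := by
  apply hom_ext_val
  intro k
  rw [comp_val, sg_val, phi_apply]
  by_cases hk : v2.toOrderHom k = 0
  · have := h0 k hk
    rw [Fin.le_def] at this
    rw [if_pos hk]
    simp only [Fin.val_castSucc]
    rw [if_neg (by omega)]
  · have := h1 k hk
    rw [Fin.le_def] at this
    rw [if_neg hk]
    simp only [Fin.val_succ]
    rw [if_pos (by omega)]
    omega

lemma phi_tau {b a : SimplexCategory} (v1 : b ⟶ a) (v2 : b ⟶ ⦋1⦌) (i : Fin (a.len + 1))
    (h0 : ∀ k, v2.toOrderHom k = 0 → v1.toOrderHom k ≤ i)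
    (h1 : ∀ k, v2.toOrderHom k ≠ 0 → i ≤ v1.toOrderHom k) :
    phi v1 v2 ≫ tau ⦋a.len + 1⦌ ((i : ℕ) + 1) = v2 := by
  apply hom_ext_one
  intro k
  rw [comp_val, tau_eq_zero_iff, phi_apply]
  by_cases hk : v2.toOrderHom k = 0
  · have := h0 k hk
    rw [Fin.le_def] at this
    rw [if_pos hk]
    simp only [Fin.val_castSucc]
    constructor
    · intro _
      exact hk
    · intro _
      omega
  · have := h1 k hk
    rw [Fin.le_def] at this
    rw [if_neg hk]
    simp only [Fin.val_succ]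
    constructor
    · intro h
      omega
    · intro h
      exact absurd h hk

lemma phi_sg_tau_id (a : SimplexCategory) (j : Fin (a.len + 1)) :
    phi (sg a j) (tau ⦋a.len + 1⦌ ((j : ℕ) + 1)) = 𝟙 _ := by
  apply hom_ext_val
  intro k
  have e : (SimplexCategory.Hom.toOrderHom (𝟙 ⦋a.len + 1⦌)) k = k := rfl
  rw [e]
  by_cases hk : (k : ℕ) < (j : ℕ) + 1
  · rw [phi_apply, if_pos ((tau_eq_zero_iff _ _ _).2 hk)]
    simp only [Fin.val_castSucc]
    rw [sg_val, if_neg (by omega)]
  · rw [phi_apply, if_neg (fun h => hk ((tau_eq_zero_iff _ _ _).1 h))]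
    simp only [Fin.val_succ]
    rw [sg_val, if_pos (by omega)]
    omega

lemma pi_eq_ev (a : SimplexCategory) (j : Fin (a.len + 1)) :
    π L a j = ev L (sg a j) (tau ⦋a.len + 1⦌ ((j : ℕ) + 1)) := by
  rw [ev_spec L (sg a j) (tau ⦋a.len + 1⦌ ((j : ℕ) + 1)) j, phi_sg_tau_id]
  · erw [L.map_id, Category.comp_id]
  · intro k hk
    rw [tau_eq_zero_iff] at hk
    rw [Fin.le_def, sg_val]
    split_ifs <;> omega
  · intro k hk
    rw [Ne, tau_eq_zero_iff] at hk
    rw [Fin.le_def, sg_val]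
    split_ifs <;> omega

lemma ev_congr {b a : SimplexCategory} {v1 v1' : b ⟶ a} {v2 v2' : b ⟶ ⦋1⦌}
    (h1 : v1 = v1') (h2 : v2 = v2') : ev L v1 v2 = ev L v1' v2' := by
  subst h1 h2
  rfl

lemma δ_sg_castSucc (a : SimplexCategory) (i : Fin a.len) :
    SimplexCategory.δ (n := a.len) i.castSucc.succ ≫ sg a i.castSucc = 𝟙 _ := by
  apply hom_ext_val
  intro k
  rw [comp_val, sg_val, δ_val]
  have e : (SimplexCategory.Hom.toOrderHom (𝟙 ⦋a.len⦌)) k = k := rfl
  rw [e]
  simp only [Fin.val_succ, Fin.val_castSucc]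
  split_ifs <;> omega

lemma δ_sg_succ (a : SimplexCategory) (i : Fin a.len) :
    SimplexCategory.δ (n := a.len) i.castSucc.succ ≫ sg a i.succ = 𝟙 _ := by
  apply hom_ext_val
  intro k
  rw [comp_val, sg_val, δ_val]
  have e : (SimplexCategory.Hom.toOrderHom (𝟙 ⦋a.len⦌)) k = k := rfl
  rw [e]
  simp only [Fin.val_succ, Fin.val_castSucc]
  split_ifs <;> omega

lemma δ_tau (n : ℕ) (q : Fin (n + 2)) (j j' : ℕ)
    (h : ∀ k : ℕ, k < n + 1 → ((if k < (q : ℕ) then k else k + 1) < j ↔ k < j')) :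
    SimplexCategory.δ q ≫ tau ⦋n + 1⦌ j = tau ⦋n⦌ j' := by
  apply comp_tau
  intro k
  rw [δ_val]
  exact h k k.isLt

/-- the action of a simplex map on prisms -/
noncomputable def PLmap {a' a : SimplexCategory} (θ : a' ⟶ a) : PLobj L a ⟶ PLobj L a' :=
  lift L a' (fun j => ev L (sg a' j ≫ θ) (tau ⦋a'.len + 1⦌ ((j : ℕ) + 1))) (by
    intro i
    change _ ≫ L.map (SimplexCategory.δ (n := a'.len) i.castSucc.succ).op =
      _ ≫ L.map (SimplexCategory.δ (n := a'.len) i.castSucc.succ).op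
    rw [ev_nat, ev_nat]
    apply ev_congr
    · rw [← Category.assoc, ← Category.assoc, δ_sg_castSucc, δ_sg_succ]
    · rw [δ_tau a'.len _ _ ((i : ℕ) + 1), δ_tau a'.len _ _ ((i : ℕ) + 1)]
      · intro k hk
        simp only [Fin.val_succ, Fin.val_castSucc]
        split_ifs <;> omega
      · intro k hk
        simp only [Fin.val_succ, Fin.val_castSucc]
        split_ifs <;> omega)

@[reassoc]
lemma PLmap_π {a' a : SimplexCategory} (θ : a' ⟶ a) (j : Fin (a'.len + 1)) :
    PLmap L θ ≫ π L a' j = ev L (sg a' j ≫ θ) (tau ⦋a'.len + 1⦌ ((j : ℕ) + 1)) :=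
  lift_π L a' _ _ j

@[reassoc]
lemma PLmap_ev {b a' a : SimplexCategory} (θ : a' ⟶ a) (v1 : b ⟶ a') (v2 : b ⟶ ⦋1⦌) :
    PLmap L θ ≫ ev L v1 v2 = ev L (v1 ≫ θ) v2 := by
  have h0 : ∀ k, v2.toOrderHom k = 0 → v1.toOrderHom k ≤ idx v1 v2 := idx_ge v1 v2
  have h1 : ∀ k, v2.toOrderHom k ≠ 0 → idx v1 v2 ≤ v1.toOrderHom k := idx_le v1 v2
  unfold ev
  rw [← Category.assoc, PLmap_π, ev_nat]
  rw [← Category.assoc, phi_sg v1 v2 _ h0 h1, phi_tau v1 v2 _ h0 h1]
  rfl

/-- the path object as a simplicial object -/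
noncomputable def PL : SimplicialObject E where
  obj a := PLobj L a.unop
  map θ := PLmap L θ.unop
  map_id a := by
    apply hom_ext
    intro j
    rw [PLmap_π, Category.id_comp]
    erw [Category.comp_id]
    exact (pi_eq_ev L _ j).symm
  map_comp f g := by
    apply hom_ext
    intro j
    rw [Category.assoc, PLmap_π, PLmap_π, PLmap_ev]
    rfl


/-! ## end points and the universal homotopy -/

lemma ev_eq_of {b a : SimplexCategory} (v1 v1' : b ⟶ a) (v2 v2' : b ⟶ ⦋1⦌)
    (h1 : ∀ k, ((v1.toOrderHom k : Fin (a.len + 1)) : ℕ) = (v1'.toOrderHom k : ℕ))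
    (h2 : ∀ k, v2.toOrderHom k = 0 ↔ v2'.toOrderHom k = 0) : ev L v1 v2 = ev L v1' v2' :=
  ev_congr L (hom_ext_val _ _ h1) (hom_ext_one _ _ h2)

lemma id_val (a : SimplexCategory) (k : Fin (a.len + 1)) :
    (SimplexCategory.Hom.toOrderHom (𝟙 a)) k = k := rfl

/-- the bottom end point -/
noncomputable def ebot : PL L ⟶ L where
  app a := ev L (𝟙 a.unop) (tau a.unop (a.unop.len + 1))
  naturality a a' θ := by
    change PLmap L θ.unop ≫ ev L (𝟙 a'.unop) _ = ev L (𝟙 a.unop) _ ≫ L.map θ.unop.op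
    rw [PLmap_ev, ev_nat]
    apply ev_eq_of
    · intro k
      rfl
    · intro k
      rw [comp_val, tau_eq_zero_iff, tau_eq_zero_iff]
      have h1 := k.isLt
      have h2 := (θ.unop.toOrderHom k).isLt
      constructor <;> intro _ <;> omega

/-- the top end point -/
noncomputable def etop : PL L ⟶ L where
  app a := ev L (𝟙 a.unop) (tau a.unop 0)
  naturality a a' θ := by
    change PLmap L θ.unop ≫ ev L (𝟙 a'.unop) _ = ev L (𝟙 a.unop) _ ≫ L.map θ.unop.op
    rw [PLmap_ev, ev_nat]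
    apply ev_eq_of
    · intro k
      rfl
    · intro k
      rw [comp_val, tau_eq_zero_iff, tau_eq_zero_iff]
      constructor <;> intro h <;> omega

lemma ebot_app (a : SimplexCategory) :
    (ebot L).app (op a) = ev L (𝟙 a) (tau a (a.len + 1)) := rfl

lemma etop_app (a : SimplexCategory) :
    (etop L).app (op a) = ev L (𝟙 a) (tau a 0) := rfl

lemma PL_map {a' a : SimplexCategory} (θ : a' ⟶ a) : (PL L).map θ.op = PLmap L θ := rfl

/-- the universal homotopy between the end points -/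
noncomputable def H : SimplicialObject.Homotopy (ebot L) (etop L) where
  h {n} i := π L ⦋n⦌ i
  h_zero_comp_δ_zero n := by
    rw [etop_app, pi_eq_ev]
    change _ ≫ L.map (SimplexCategory.δ 0).op = _
    rw [ev_nat]
    apply ev_eq_of
    · intro k
      have hk := k.isLt
      simp only [comp_val, sg_val, δ_val, id_val, Fin.val_zero]
      split_ifs <;> omega
    · intro k
      have hk := k.isLt
      simp only [comp_val, tau_eq_zero_iff, δ_val, Fin.val_zero]
      split_ifs <;> omega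
  h_last_comp_δ_last n := by
    rw [ebot_app, pi_eq_ev]
    change _ ≫ L.map (SimplexCategory.δ (Fin.last (n + 1))).op = _
    rw [ev_nat]
    apply ev_eq_of
    · intro k
      have hk := k.isLt
      simp only [comp_val, sg_val, δ_val, id_val, Fin.val_last]
      simp only [SimplexCategory.len_mk] at hk ⊢
      split_ifs <;> omega
    · intro k
      have hk := k.isLt
      simp only [comp_val, tau_eq_zero_iff, δ_val, Fin.val_last]
      simp only [SimplexCategory.len_mk] at hk ⊢
      split_ifs <;> omega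
  h_succ_comp_δ_castSucc_of_lt {n} i j hij := by
    have hij' : (i : ℕ) ≤ j := by
      have := Fin.le_def.1 hij
      simpa using this
    change π L ⦋n + 1⦌ j.succ ≫ L.map (SimplexCategory.δ i.castSucc).op =
      PLmap L (SimplexCategory.δ i) ≫ π L ⦋n⦌ j
    rw [PLmap_π, pi_eq_ev, ev_nat]
    apply ev_eq_of
    · intro k
      have hk := k.isLt
      simp only [comp_val, sg_val, δ_val, Fin.val_succ, Fin.val_castSucc]
      simp only [SimplexCategory.len_mk] at hk ⊢
      split_ifs <;> omega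
    · intro k
      have hk := k.isLt
      simp only [comp_val, tau_eq_zero_iff, δ_val, Fin.val_succ, Fin.val_castSucc]
      simp only [SimplexCategory.len_mk] at hk ⊢
      split_ifs <;> omega
  h_succ_comp_δ_castSucc_succ {n} j := (cond L ⦋n + 1⦌ j).symm
  h_castSucc_comp_δ_succ_of_lt {n} i j hji := by
    have hji' : (j : ℕ) < i := by
      have := Fin.lt_def.1 hji
      simpa using this
    change π L ⦋n + 1⦌ j.castSucc ≫ L.map (SimplexCategory.δ i.succ).op =
      PLmap L (SimplexCategory.δ i) ≫ π L ⦋n⦌ j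
    rw [PLmap_π, pi_eq_ev, ev_nat]
    apply ev_eq_of
    · intro k
      have hk := k.isLt
      simp only [comp_val, sg_val, δ_val, Fin.val_succ, Fin.val_castSucc]
      simp only [SimplexCategory.len_mk] at hk ⊢
      split_ifs <;> omega
    · intro k
      have hk := k.isLt
      simp only [comp_val, tau_eq_zero_iff, δ_val, Fin.val_succ, Fin.val_castSucc]
      simp only [SimplexCategory.len_mk] at hk ⊢
      split_ifs <;> omega
  h_comp_σ_castSucc_of_le {n} i j hij := by
    have hij' : (i : ℕ) ≤ j := Fin.le_def.1 hij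
    change π L ⦋n⦌ j ≫ L.map (SimplexCategory.σ i.castSucc).op =
      PLmap L (SimplexCategory.σ i) ≫ π L ⦋n + 1⦌ j.succ
    rw [PLmap_π, pi_eq_ev, ev_nat]
    apply ev_eq_of
    · intro k
      have hk := k.isLt
      simp only [comp_val, sg_val, σ_val, Fin.val_succ, Fin.val_castSucc]
      simp only [SimplexCategory.len_mk] at hk ⊢
      split_ifs <;> omega
    · intro k
      have hk := k.isLt
      simp only [comp_val, tau_eq_zero_iff, σ_val, Fin.val_succ, Fin.val_castSucc]
      simp only [SimplexCategory.len_mk] at hk ⊢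
      split_ifs <;> omega
  h_comp_σ_succ_of_lt {n} i j hji := by
    have hji' : (j : ℕ) ≤ i := Fin.le_def.1 hji
    change π L ⦋n⦌ j ≫ L.map (SimplexCategory.σ i.succ).op =
      PLmap L (SimplexCategory.σ i) ≫ π L ⦋n + 1⦌ j.castSucc
    rw [PLmap_π, pi_eq_ev, ev_nat]
    apply ev_eq_of
    · intro k
      have hk := k.isLt
      simp only [comp_val, sg_val, σ_val, Fin.val_succ, Fin.val_castSucc]
      simp only [SimplexCategory.len_mk] at hk ⊢
      split_ifs <;> omega
    · intro k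
      have hk := k.isLt
      simp only [comp_val, tau_eq_zero_iff, σ_val, Fin.val_succ, Fin.val_castSucc]
      simp only [SimplexCategory.len_mk] at hk ⊢
      split_ifs <;> omega

end Groth.Agent.Lib.Helper62.PathObj
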