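import Mathlib
import Groth.Prelude.Def_Hyper
import Groth.Agent.Lib.Helper62.PathObj
import Groth.Agent.Lib.Helper62.MatchLift
import Groth.Agent.Lib.Helper62.Refine

/-! # `Hom(Δ[1], K) ⟶ K × K` is a relative hypercovering: filling prisms -/

set_option autoImplicit false
set_option backward.isDefEq.respectTransparency false
set_option backward.isDefEq.respectTransparency.types false

open CategoryTheory CategoryTheory.Limits Opposite Simplicial SimplexCategory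

universe v u

namespace Groth.Agent.Lib.Helper62.PathCover

open PathObj CoskZero CoskGen MatchLift Refine

section General

variable {D : Type u} [Category.{v} D] [HasFiniteLimits D]
  [∀ (k : ℕ) (F : (SimplexCategory.Truncated k)ᵒᵖ ⥤ D),
    (SimplexCategory.Truncated.inclusion k).op.HasRightKanExtension F]
  (K : SimplicialObject D) (n : ℕ)

variable {W : D} (y0 : W ⟶ K.obj (op ⦋n + 1⦌)) (c : W ⟶ (R n (PL K)).obj (op ⦋n + 1⦌))

open Classical in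
/-- the boundary prism evaluated at a chain -/
noncomputable def X {b : SimplexCategory} (v1 : b ⟶ ⦋n + 1⦌) (v2 : b ⟶ ⦋1⦌) :
    W ⟶ K.obj (op b) :=
  if h : (image v1).len ≤ n then
    c ≫ cmp n (PL K) (image v1) h (image.ι v1) ≫ ev K (factorThruImage v1) v2
  else y0 ≫ K.map v1.op

lemma X_congr {b : SimplexCategory} {v1 v1' : b ⟶ ⦋n + 1⦌} {v2 v2' : b ⟶ ⦋1⦌}
    (h1 : v1 = v1') (h2 : v2 = v2') : X K n y0 c v1 v2 = X K n y0 c v1' v2' := by
  subst h1 h2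
  rfl

lemma X_c {b a : SimplexCategory} (ha : a.len ≤ n) (θ : a ⟶ ⦋n + 1⦌) (β : b ⟶ a)
    (v2 : b ⟶ ⦋1⦌) :
    X K n y0 c (β ≫ θ) v2 = c ≫ cmp n (PL K) a ha θ ≫ ev K β v2 := by
  have hα : (image (β ≫ θ)).len ≤ n := le_trans (len_image_comp_le θ β) ha
  unfold X
  rw [dif_pos hα]
  have hi : (image θ).len ≤ n := le_trans (len_image_le θ) ha
  have e1 : cmp n (PL K) (image (β ≫ θ)) hα (image.ι (β ≫ θ)) =
      cmp n (PL K) (image θ) hi (image.ι θ) ≫ (PL K).map (κ θ β).op := by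
    rw [cmp_nat n (PL K) (image θ) (image (β ≫ θ)) hi hα (image.ι θ) (κ θ β), κ_ι]
  have e2 : cmp n (PL K) a ha θ =
      cmp n (PL K) (image θ) hi (image.ι θ) ≫ (PL K).map (factorThruImage θ).op := by
    rw [cmp_nat n (PL K) (image θ) a hi ha (image.ι θ) (factorThruImage θ), image.fac]
  rw [e1, e2]
  simp only [Category.assoc]
  congr 2
  rw [PL_map, PL_map, PLmap_ev, PLmap_ev, e_κ]

lemma X_nat {b' b a : SimplexCategory} (ha : a.len ≤ n) (θ : a ⟶ ⦋n + 1⦌) (β : b ⟶ a)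
    (v1 : b ⟶ ⦋n + 1⦌) (hv : v1 = β ≫ θ) (v2 : b ⟶ ⦋1⦌) (α : b' ⟶ b) :
    X K n y0 c v1 v2 ≫ K.map α.op = X K n y0 c (α ≫ v1) (α ≫ v2) := by
  subst hv
  rw [X_c K n y0 c ha θ β v2, ← Category.assoc α β θ, X_c K n y0 c ha θ (α ≫ β) (α ≫ v2)]
  simp only [Category.assoc]
  rw [ev_nat]

lemma X_nat' {b' b : SimplexCategory} (v1 : b ⟶ ⦋n + 1⦌) (k0 : Fin (n + 2))
    (hk0 : ∀ x, v1.toOrderHom x ≠ k0) (v2 : b ⟶ ⦋1⦌) (α : b' ⟶ b) :
    X K n y0 c v1 v2 ≫ K.map α.op = X K n y0 c (α ≫ v1) (α ≫ v2) := by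
  obtain ⟨θ', hθ'⟩ := eq_comp_δ_of_not_surjective' v1 k0 hk0
  exact X_nat K n y0 c (a := ⦋n⦌) le_rfl (SimplexCategory.δ k0) θ' v1 hθ' v2 α

lemma X_restrict {W' : D} (r : W' ⟶ W) {b : SimplexCategory} (v1 : b ⟶ ⦋n + 1⦌)
    (v2 : b ⟶ ⦋1⦌) :
    r ≫ X K n y0 c v1 v2 = X K n (r ≫ y0) (r ≫ c) v1 v2 := by
  unfold X
  split_ifs
  · simp only [Category.assoc]
  · simp only [Category.assoc]

lemma X_bot
    (hy0 : ∀ (a : SimplexCategory) (ha : a.len ≤ n) (θ : a ⟶ ⦋n + 1⦌),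
      y0 ≫ K.map θ.op = c ≫ cmp n (PL K) a ha θ ≫ (ebot K).app (op a))
    {a : SimplexCategory} (ha : a.len ≤ n) (θ : a ⟶ ⦋n + 1⦌) :
    X K n y0 c θ (tau a (a.len + 1)) = y0 ≫ K.map θ.op := by
  have h := X_c K n y0 c ha θ (𝟙 a) (tau a (a.len + 1))
  rw [Category.id_comp] at h
  rw [h, hy0 a ha θ]
  rfl

lemma X_top (y1 : W ⟶ K.obj (op ⦋n + 1⦌))
    (hy1 : ∀ (a : SimplexCategory) (ha : a.len ≤ n) (θ : a ⟶ ⦋n + 1⦌),
      y1 ≫ K.map θ.op = c ≫ cmp n (PL K) a ha θ ≫ (etop K).app (op a))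
    {a : SimplexCategory} (ha : a.len ≤ n) (θ : a ⟶ ⦋n + 1⦌) :
    X K n y0 c θ (tau a 0) = y1 ≫ K.map θ.op := by
  have h := X_c K n y0 c ha θ (𝟙 a) (tau a 0)
  rw [Category.id_comp] at h
  rw [h, hy1 a ha θ]
  rfl

/-- the faces of the interior simplex with `j` zeros -/
noncomputable def bw (j : ℕ) (k : Fin (n + 2)) : W ⟶ K.obj (op ⦋n⦌) :=
  X K n y0 c (SimplexCategory.δ k) (SimplexCategory.δ k ≫ tau ⦋n + 1⦌ j)

lemma compat_bw (j : ℕ) : Compat n K (bw K n y0 c j) := by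
  intro i i' a ρ₁ ρ₂ h
  unfold bw
  rw [X_nat' K n y0 c (SimplexCategory.δ i) i (fun x => Fin.succAbove_ne i x) _ ρ₁,
    X_nat' K n y0 c (SimplexCategory.δ i') i' (fun x => Fin.succAbove_ne i' x) _ ρ₂]
  rw [← Category.assoc ρ₁, ← Category.assoc ρ₂, h]

/-- the faces of the `i`-th shuffle -/
noncomputable def fx (wx : ℕ → (W ⟶ K.obj (op ⦋n + 1⦌))) (i : Fin (n + 2)) (k : Fin (n + 3)) :
    W ⟶ K.obj (op ⦋n + 1⦌) :=
  if (k : ℕ) = i then wx i else if (k : ℕ) = (i : ℕ) + 1 then wx ((i : ℕ) + 1)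
  else X K n y0 c (SimplexCategory.δ k ≫ sg ⦋n + 1⦌ i)
    (SimplexCategory.δ k ≫ tau ⦋n + 2⦌ ((i : ℕ) + 1))

omit [HasFiniteLimits D]
  [∀ (k : ℕ) (F : (SimplexCategory.Truncated k)ᵒᵖ ⥤ D),
    (SimplexCategory.Truncated.inclusion k).op.HasRightKanExtension F] in
lemma δ_sg_id (k : Fin (n + 3)) (i : Fin (n + 2)) (h : (k : ℕ) = i ∨ (k : ℕ) = (i : ℕ) + 1) :
    SimplexCategory.δ k ≫ sg ⦋n + 1⦌ i = 𝟙 _ := by
  apply hom_ext_val
  intro x
  have hx := x.isLt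
  simp only [comp_val, sg_val, δ_val, id_val]
  simp only [SimplexCategory.len_mk] at hx ⊢
  split_ifs <;> omega

omit [HasFiniteLimits D]
  [∀ (k : ℕ) (F : (SimplexCategory.Truncated k)ᵒᵖ ⥤ D),
    (SimplexCategory.Truncated.inclusion k).op.HasRightKanExtension F] in
lemma δ_tau_eq (k : Fin (n + 3)) (i : Fin (n + 2)) (j : ℕ)
    (h : ((k : ℕ) = i ∧ j = i) ∨ ((k : ℕ) = (i : ℕ) + 1 ∧ j = (i : ℕ) + 1)) :
    SimplexCategory.δ k ≫ tau ⦋n + 2⦌ ((i : ℕ) + 1) = tau ⦋n + 1⦌ j := by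
  apply δ_tau
  intro x hx
  split_ifs <;> omega

omit [HasFiniteLimits D]
  [∀ (k : ℕ) (F : (SimplexCategory.Truncated k)ᵒᵖ ⥤ D),
    (SimplexCategory.Truncated.inclusion k).op.HasRightKanExtension F] in
lemma miss (k : Fin (n + 3)) (i : Fin (n + 2)) (h1 : (k : ℕ) ≠ i) (h2 : (k : ℕ) ≠ (i : ℕ) + 1) :
    ∃ k0 : Fin (n + 2), ∀ x, (SimplexCategory.δ k ≫ sg ⦋n + 1⦌ i).toOrderHom x ≠ k0 := by
  have hk := k.isLt
  have hi := i.isLt
  by_cases hlt : (k : ℕ) < i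
  · refine ⟨⟨k, by omega⟩, ?_⟩
    intro x hx
    have h3 := congrArg Fin.val hx
    have hxl := x.isLt
    simp only [comp_val, sg_val, δ_val] at h3
    simp only [SimplexCategory.len_mk] at hxl h3
    split_ifs at h3 <;> omega
  · refine ⟨⟨k - 1, by omega⟩, ?_⟩
    intro x hx
    have h3 := congrArg Fin.val hx
    have hxl := x.isLt
    simp only [comp_val, sg_val, δ_val] at h3
    simp only [SimplexCategory.len_mk] at hxl h3
    split_ifs at h3 <;> omega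

lemma fx_δ (wx : ℕ → (W ⟶ K.obj (op ⦋n + 1⦌)))
    (hw : ∀ j, j ≤ n + 2 → ∀ m : Fin (n + 2), wx j ≫ K.δ m =
      X K n y0 c (SimplexCategory.δ m) (SimplexCategory.δ m ≫ tau ⦋n + 1⦌ j))
    (i : Fin (n + 2)) (k : Fin (n + 3)) (m : Fin (n + 2)) :
    fx K n y0 c wx i k ≫ K.δ m =
      X K n y0 c (SimplexCategory.δ m ≫ SimplexCategory.δ k ≫ sg ⦋n + 1⦌ i)
        (SimplexCategory.δ m ≫ SimplexCategory.δ k ≫ tau ⦋n + 2⦌ ((i : ℕ) + 1)) := by
  have hi := i.isLt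
  unfold fx
  split_ifs with h1 h2
  · rw [hw i (by omega) m]
    apply X_congr
    · rw [δ_sg_id n k i (Or.inl h1)]
      exact (Category.comp_id _).symm
    · rw [δ_tau_eq n k i i (Or.inl ⟨h1, rfl⟩)]
  · rw [hw ((i : ℕ) + 1) (by omega) m]
    apply X_congr
    · rw [δ_sg_id n k i (Or.inr h2)]
      exact (Category.comp_id _).symm
    · rw [δ_tau_eq n k i ((i : ℕ) + 1) (Or.inr ⟨h2, rfl⟩)]
  · obtain ⟨k0, hk0⟩ := miss n k i h1 h2
    exact X_nat' K n y0 c _ k0 hk0 _ (SimplexCategory.δ m)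

lemma compat_fx (wx : ℕ → (W ⟶ K.obj (op ⦋n + 1⦌)))
    (hw : ∀ j, j ≤ n + 2 → ∀ m : Fin (n + 2), wx j ≫ K.δ m =
      X K n y0 c (SimplexCategory.δ m) (SimplexCategory.δ m ≫ tau ⦋n + 1⦌ j))
    (i : Fin (n + 2)) : Compat (n + 1) K (fx K n y0 c wx i) := by
  apply compat_succ K
  intro p q hpq
  rw [fx_δ K n y0 c wx hw, fx_δ K n y0 c wx hw]
  apply X_congr
  · rw [← Category.assoc, ← Category.assoc, SimplexCategory.δ_comp_δ hpq]
  · rw [← Category.assoc, ← Category.assoc, SimplexCategory.δ_comp_δ hpq]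

lemma fx_self (wx : ℕ → (W ⟶ K.obj (op ⦋n + 1⦌))) (i : Fin (n + 2)) (k : Fin (n + 3))
    (h : (k : ℕ) = i) : fx K n y0 c wx i k = wx i := by
  unfold fx
  rw [if_pos h]

lemma fx_succ (wx : ℕ → (W ⟶ K.obj (op ⦋n + 1⦌))) (i : Fin (n + 2)) (k : Fin (n + 3))
    (h : (k : ℕ) = (i : ℕ) + 1) : fx K n y0 c wx i k = wx ((i : ℕ) + 1) := by
  unfold fx
  rw [if_neg (by omega), if_pos h]

lemma fx_restrict {W' : D} (r : W' ⟶ W) (wx : ℕ → (W ⟶ K.obj (op ⦋n + 1⦌))) (i : Fin (n + 2))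
    (k : Fin (n + 3)) :
    r ≫ fx K n y0 c wx i k = fx K n (r ≫ y0) (r ≫ c) (fun j => r ≫ wx j) i k := by
  unfold fx
  split_ifs
  · rfl
  · rfl
  · exact X_restrict K n y0 c r _ _

lemma z_ev (wx : ℕ → (W ⟶ K.obj (op ⦋n + 1⦌)))
    (x : Fin (n + 2) → (W ⟶ K.obj (op ⦋n + 2⦌)))
    (hx : ∀ i k, x i ≫ K.δ k = fx K n y0 c wx i k)
    (z : W ⟶ PLobj K ⦋n + 1⦌) (hzπ : ∀ i, z ≫ π K ⦋n + 1⦌ i = x i)
    {b : SimplexCategory} (v1 : b ⟶ ⦋n + 1⦌) (v2 : b ⟶ ⦋1⦌) (k0 : Fin (n + 2))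
    (hk0 : ∀ t, v1.toOrderHom t ≠ k0) (hz : ∃ t, v2.toOrderHom t = 0) :
    z ≫ ev K v1 v2 = X K n y0 c v1 v2 := by
  classical
  have h0 : ∀ t, v2.toOrderHom t = 0 → v1.toOrderHom t ≤ idx v1 v2 := idx_ge v1 v2
  have h1 : ∀ t, v2.toOrderHom t ≠ 0 → idx v1 v2 ≤ v1.toOrderHom t := idx_le v1 v2
  obtain ⟨t0, ht0⟩ := hz
  have hne : (Finset.univ.filter (fun t => v2.toOrderHom t = 0)).Nonempty :=
    ⟨t0, by simp [ht0]⟩
  obtain ⟨t1, _, ht1⟩ := Finset.exists_mem_eq_sup _ hne v1.toOrderHom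
  have hi : idx v1 v2 = v1.toOrderHom t1 := ht1
  have hk0i : (k0 : ℕ) ≠ (idx v1 v2 : ℕ) := by
    intro h
    apply hk0 t1
    rw [← hi]
    exact (Fin.ext h).symm
  have hk0lt := k0.isLt
  have hilt : ((idx v1 v2 : Fin (n + 2)) : ℕ) < n + 2 := (idx v1 v2).isLt
  let q : Fin (n + 3) := if (k0 : ℕ) < (idx v1 v2 : ℕ) then k0.castSucc else k0.succ
  have hqv : (q : ℕ) = if (k0 : ℕ) < (idx v1 v2 : ℕ) then (k0 : ℕ) else (k0 : ℕ) + 1 := by
    simp only [q]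
    split_ifs <;> simp
  have hq1 : (q : ℕ) ≠ (idx v1 v2 : ℕ) := by
    rw [hqv]
    split_ifs <;> omega
  have hq2 : (q : ℕ) ≠ (idx v1 v2 : ℕ) + 1 := by
    rw [hqv]
    split_ifs <;> omega
  have hqmiss : ∀ t, (phi v1 v2).toOrderHom t ≠ q := by
    intro t ht
    have h3 := congrArg Fin.val ht
    rw [phi_apply, hqv] at h3
    have h4 : ((v1.toOrderHom t : Fin (n + 2)) : ℕ) ≠ k0 := fun h => hk0 t (Fin.ext h)
    by_cases hv : v2.toOrderHom t = 0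
    · rw [if_pos hv] at h3
      simp only [Fin.val_castSucc] at h3
      have h5 := Fin.le_def.1 (h0 t hv)
      split_ifs at h3 <;> omega
    · rw [if_neg hv] at h3
      simp only [Fin.val_succ] at h3
      have h5 := Fin.le_def.1 (h1 t hv)
      split_ifs at h3 <;> omega
  obtain ⟨ρ, hρ⟩ := eq_comp_δ_of_not_surjective' (phi v1 v2) q hqmiss
  unfold ev
  rw [← Category.assoc, hzπ, hρ, op_comp, K.map_comp, ← Category.assoc]
  have e : x (idx v1 v2) ≫ K.map (SimplexCategory.δ q).op = fx K n y0 c wx (idx v1 v2) q :=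
    hx (idx v1 v2) q
  rw [e]
  unfold fx
  rw [if_neg hq1, if_neg hq2]
  obtain ⟨k0', hk0'⟩ := miss n q (idx v1 v2) hq1 hq2
  rw [X_nat' K n y0 c _ k0' hk0' _ ρ]
  apply X_congr
  · rw [← Category.assoc, ← hρ]
    exact phi_sg v1 v2 (idx v1 v2) h0 h1
  · rw [← Category.assoc, ← hρ]
    exact phi_tau v1 v2 (idx v1 v2) h0 h1

theorem fill (y1 : W ⟶ K.obj (op ⦋n + 1⦌)) (wx : ℕ → (W ⟶ K.obj (op ⦋n + 1⦌)))
    (hw0 : wx 0 = y1) (hwl : wx (n + 2) = y0)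
    (x : Fin (n + 2) → (W ⟶ K.obj (op ⦋n + 2⦌)))
    (hx : ∀ i k, x i ≫ K.δ k = fx K n y0 c wx i k) :
    ∃ z : W ⟶ (PL K).obj (op ⦋n + 1⦌), z ≫ (ebot K).app (op ⦋n + 1⦌) = y0 ∧
      z ≫ (etop K).app (op ⦋n + 1⦌) = y1 ∧ z ≫ (η n (PL K)).app (op ⦋n + 1⦌) = c := by
  have hcond : ∀ i : Fin (n + 1),
      x i.castSucc ≫ K.δ i.castSucc.succ = x i.succ ≫ K.δ i.castSucc.succ := by
    intro i
    rw [hx, hx, fx_succ K n y0 c wx i.castSucc i.castSucc.succ (by simp),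
      fx_self K n y0 c wx i.succ i.castSucc.succ (by simp)]
    simp only [Fin.val_succ, Fin.val_castSucc]
  let z : W ⟶ PLobj K ⦋n + 1⦌ := lift K ⦋n + 1⦌ x hcond
  have hzπ : ∀ i, z ≫ π K ⦋n + 1⦌ i = x i := fun i => lift_π K ⦋n + 1⦌ x hcond i
  refine ⟨z, ?_, ?_, ?_⟩
  · rw [← (H K).h_last_comp_δ_last (n + 1)]
    change z ≫ π K ⦋n + 1⦌ (Fin.last (n + 1)) ≫ K.δ (Fin.last (n + 2)) = y0
    rw [← Category.assoc, hzπ, hx, fx_succ K n y0 c wx _ _ (by simp)]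
    simp only [Fin.val_last]
    exact hwl
  · rw [← (H K).h_zero_comp_δ_zero (n + 1)]
    change z ≫ π K ⦋n + 1⦌ 0 ≫ K.δ 0 = y1
    rw [← Category.assoc, hzπ, hx, fx_self K n y0 c wx _ _ (by simp)]
    simp only [Fin.val_zero]
    exact hw0
  · apply hom_ext_cmp n (PL K)
    intro a ha θ
    rw [Category.assoc, η_cmp]
    apply PathObj.hom_ext K a
    intro j
    rw [Category.assoc, Category.assoc]
    erw [PLmap_π K θ j]
    rw [pi_eq_ev K a j, ← X_c K n y0 c ha θ (sg a j) _]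
    obtain ⟨q, θ', hθ'⟩ := exists_factor ha θ
    apply z_ev K n y0 c wx x hx z hzπ _ _ q
    · intro t ht
      rw [hθ'] at ht
      exact Fin.succAbove_ne q _ ht
    · exact ⟨0, (tau_eq_zero_iff _ _ _).2 (by simp)⟩

end General

section Specific

open LLP LLPFin HyperFP HyperH0

variable {C : Type u} [SmallCategory C] [HasPullbacks C] (J : GrothendieckTopology C) (S : C)
  [∀ (n : ℕ) (G : (SimplexCategory.Truncated n)ᵒᵖ ⥤ FormalCoproduct.{u} (Over S)),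
      (SimplexCategory.Truncated.inclusion n).op.HasRightKanExtension G]
  (K : SimplicialObject (FormalCoproduct.{u} (Over S)))
  (hK : ∀ k : ℕ, HasLLP (J.over S) ((η k K).app (op ⦋k + 1⦌)))

include hK in
theorem stepA (n : ℕ) {T : Over S}
    (y0 y1 : (FormalCoproduct.incl (Over S)).obj T ⟶ K.obj (op ⦋n + 1⦌))
    (c : (FormalCoproduct.incl (Over S)).obj T ⟶ (R n (PL K)).obj (op ⦋n + 1⦌))
    (hy0 : ∀ (a : SimplexCategory) (ha : a.len ≤ n) (θ : a ⟶ ⦋n + 1⦌),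
      y0 ≫ K.map θ.op = c ≫ cmp n (PL K) a ha θ ≫ (ebot K).app (op a))
    (hy1 : ∀ (a : SimplexCategory) (ha : a.len ≤ n) (θ : a ⟶ ⦋n + 1⦌),
      y1 ≫ K.map θ.op = c ≫ cmp n (PL K) a ha θ ≫ (etop K).app (op a)) :
    ∃ S1 ∈ (J.over S) T, ∀ ⦃Z' : Over S⦄ (h : Z' ⟶ T), S1.arrows h →
      ∃ wx : ℕ → ((FormalCoproduct.incl (Over S)).obj Z' ⟶ K.obj (op ⦋n + 1⦌)),
        wx 0 = (FormalCoproduct.incl (Over S)).map h ≫ y1 ∧
        wx (n + 2) = (FormalCoproduct.incl (Over S)).map h ≫ y0 ∧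
        ∀ j, j ≤ n + 2 → ∀ m : Fin (n + 2), wx j ≫ K.δ m =
          X K n ((FormalCoproduct.incl (Over S)).map h ≫ y0)
            ((FormalCoproduct.incl (Over S)).map h ≫ c) (SimplexCategory.δ m)
            (SimplexCategory.δ m ≫ tau ⦋n + 1⦌ j) := by
  obtain ⟨S1, hS1, hl1⟩ := llp_finite (J.over S)
    (fun _ : Fin (n + 3) => (η n K).app (op ⦋n + 1⦌)) (fun _ => hK n)
    (fun j => matchLift n (bw K n y0 c (j : ℕ)) (compat_bw K n y0 c (j : ℕ)))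
  refine ⟨S1, hS1, ?_⟩
  intro Z' h hh
  choose m hm using hl1 h hh
  let r := (FormalCoproduct.incl (Over S)).map h
  let wx : ℕ → ((FormalCoproduct.incl (Over S)).obj Z' ⟶ K.obj (op ⦋n + 1⦌)) := fun j =>
    if j = 0 then r ≫ y1 else if hj : j < n + 2 then m ⟨j, by omega⟩ else r ≫ y0
  have hy0' : ∀ (a : SimplexCategory) (ha : a.len ≤ n) (θ : a ⟶ ⦋n + 1⦌),
      (r ≫ y0) ≫ K.map θ.op = (r ≫ c) ≫ cmp n (PL K) a ha θ ≫ (ebot K).app (op a) := by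
    intro a ha θ
    rw [Category.assoc, hy0 a ha θ, Category.assoc]
  have hy1' : ∀ (a : SimplexCategory) (ha : a.len ≤ n) (θ : a ⟶ ⦋n + 1⦌),
      (r ≫ y1) ≫ K.map θ.op = (r ≫ c) ≫ cmp n (PL K) a ha θ ≫ (etop K).app (op a) := by
    intro a ha θ
    rw [Category.assoc, hy1 a ha θ, Category.assoc]
  refine ⟨wx, ?_, ?_, ?_⟩
  · simp only [wx, if_pos]
    rfl
  · simp only [wx]
    rw [if_neg (by omega), dif_neg (by omega)]
  · intro j hj mm
    by_cases h0 : j = 0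
    · subst h0
      have e1 : SimplexCategory.δ mm ≫ tau ⦋n + 1⦌ 0 = tau ⦋n⦌ 0 := by
        apply δ_tau
        intro x hx
        split_ifs <;> omega
      rw [e1, X_top K n (r ≫ y0) (r ≫ c) (r ≫ y1) hy1' (a := ⦋n⦌) le_rfl (SimplexCategory.δ mm)]
      simp only [wx, if_pos]
      rfl
    · by_cases h2 : j < n + 2
      · have hwx : wx j = m ⟨j, by omega⟩ := by
          simp only [wx]
          rw [if_neg h0, dif_pos h2]
        rw [hwx]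
        have e1 := congrArg (fun f => f ≫ cmp n K ⦋n⦌ le_rfl (SimplexCategory.δ mm))
          (hm ⟨j, by omega⟩)
        simp only [Category.assoc] at e1
        rw [matchLift_cmp, η_cmp] at e1
        change _ ≫ K.map (SimplexCategory.δ mm).op = _
        rw [← e1]
        unfold bw
        exact X_restrict K n y0 c r _ _
      · have hj2 : j = n + 2 := by omega
        subst hj2
        have e1 : SimplexCategory.δ mm ≫ tau ⦋n + 1⦌ (n + 2) = tau ⦋n⦌ (n + 1) := by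
          apply δ_tau
          intro x hx
          split_ifs <;> omega
        rw [e1]
        have e2 := X_bot K n (r ≫ y0) (r ≫ c) hy0' (a := ⦋n⦌) le_rfl (SimplexCategory.δ mm)
        simp only [SimplexCategory.len_mk] at e2
        rw [e2]
        have hwx : wx (n + 2) = r ≫ y0 := by
          simp only [wx]
          rw [if_neg (by omega), dif_neg (by omega)]
        rw [hwx]
        rfl

include hK in
theorem stepB (n : ℕ) {T : Over S}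
    (y0 : (FormalCoproduct.incl (Over S)).obj T ⟶ K.obj (op ⦋n + 1⦌))
    (c : (FormalCoproduct.incl (Over S)).obj T ⟶ (R n (PL K)).obj (op ⦋n + 1⦌))
    (wx : ℕ → ((FormalCoproduct.incl (Over S)).obj T ⟶ K.obj (op ⦋n + 1⦌)))
    (hw : ∀ j, j ≤ n + 2 → ∀ m : Fin (n + 2), wx j ≫ K.δ m =
      X K n y0 c (SimplexCategory.δ m) (SimplexCategory.δ m ≫ tau ⦋n + 1⦌ j)) :
    ∃ S2 ∈ (J.over S) T, ∀ ⦃Z' : Over S⦄ (h : Z' ⟶ T), S2.arrows h →
      ∃ x : Fin (n + 2) → ((FormalCoproduct.incl (Over S)).obj Z' ⟶ K.obj (op ⦋n + 2⦌)),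
        ∀ i k, x i ≫ K.δ k =
          (FormalCoproduct.incl (Over S)).map h ≫ fx K n y0 c wx i k := by
  obtain ⟨S2, hS2, hl2⟩ := llp_finite (J.over S)
    (fun _ : Fin (n + 2) => (η (n + 1) K).app (op ⦋n + 2⦌)) (fun _ => hK (n + 1))
    (fun i => matchLift (n + 1) (fx K n y0 c wx i) (compat_fx K n y0 c wx hw i))
  refine ⟨S2, hS2, ?_⟩
  intro Z' h hh
  choose x hx using hl2 h hh
  refine ⟨x, ?_⟩
  intro i k
  have e1 := congrArg (fun f => f ≫ cmp (n + 1) K ⦋n + 1⦌ le_rfl (SimplexCategory.δ k)) (hx i)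
  simp only [Category.assoc] at e1
  rw [matchLift_cmp, η_cmp] at e1
  exact e1.symm

include hK in
theorem llp_gamma_path (KK : SimplicialObject (FormalCoproduct.{u} (Over S))) (p0 p1 : KK ⟶ K)
    (hmono : ∀ (m : SimplexCategoryᵒᵖ) (W : FormalCoproduct.{u} (Over S)) (f g : W ⟶ KK.obj m),
      f ≫ p0.app m = g ≫ p0.app m → f ≫ p1.app m = g ≫ p1.app m → f = g)
    (e : PL K ⟶ KK) (he0 : e ≫ p0 = ebot K) (he1 : e ≫ p1 = etop K) (n : ℕ)
    (Q : FormalCoproduct.{u} (Over S)) (q1 : Q ⟶ KK.obj (op ⦋n + 1⦌))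
    (q2 : Q ⟶ ((SimplicialObject.cosk n).obj (PL K)).obj (op ⦋n + 1⦌))
    (γ : (PL K).obj (op ⦋n + 1⦌) ⟶ Q)
    (sq : IsPullback q1 q2 (((SimplicialObject.coskAdj n).unit.app KK).app (op ⦋n + 1⦌))
      (((SimplicialObject.cosk n).map e).app (op ⦋n + 1⦌)))
    (h1 : γ ≫ q1 = e.app (op ⦋n + 1⦌))
    (h2 : γ ≫ q2 = ((SimplicialObject.coskAdj n).unit.app (PL K)).app (op ⦋n + 1⦌)) :
    HasLLP (J.over S) γ := by
  intro T l
  let y0 := l ≫ q1 ≫ p0.app (op ⦋n + 1⦌)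
  let y1 := l ≫ q1 ≫ p1.app (op ⦋n + 1⦌)
  let c : (FormalCoproduct.incl (Over S)).obj T ⟶ (R n (PL K)).obj (op ⦋n + 1⦌) := l ≫ q2
  have key : ∀ (p : KK ⟶ K) (eb : PL K ⟶ K) (hp : e ≫ p = eb) (a : SimplexCategory)
      (ha : a.len ≤ n) (θ : a ⟶ ⦋n + 1⦌),
      (l ≫ q1 ≫ p.app (op ⦋n + 1⦌)) ≫ K.map θ.op =
        c ≫ cmp n (PL K) a ha θ ≫ eb.app (op a) := by
    intro p eb hp a ha θ
    have e1 : p.app (op ⦋n + 1⦌) ≫ K.map θ.op = KK.map θ.op ≫ p.app (op a) :=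
      (p.naturality θ.op).symm
    have e2 : KK.map θ.op = (η n KK).app (op ⦋n + 1⦌) ≫ cmp n KK a ha θ :=
      (η_cmp n KK a ha θ).symm
    have e3 : ((SimplicialObject.cosk n).map e).app (op ⦋n + 1⦌) ≫ cmp n KK a ha θ =
        cmp n (PL K) a ha θ ≫ e.app (op a) := cosk_map_cmp n e a ha θ
    have e4 : e.app (op a) ≫ p.app (op a) = eb.app (op a) := by
      rw [← NatTrans.comp_app, hp]
    have e5 : q1 ≫ (η n KK).app (op ⦋n + 1⦌) =
        q2 ≫ ((SimplicialObject.cosk n).map e).app (op ⦋n + 1⦌) := sq.w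
    calc (l ≫ q1 ≫ p.app (op ⦋n + 1⦌)) ≫ K.map θ.op
        = l ≫ (q1 ≫ (η n KK).app (op ⦋n + 1⦌)) ≫ cmp n KK a ha θ ≫ p.app (op a) := by
          simp only [Category.assoc]
          rw [e1, e2]
          simp only [Category.assoc]
      _ = l ≫ q2 ≫ (((SimplicialObject.cosk n).map e).app (op ⦋n + 1⦌) ≫ cmp n KK a ha θ) ≫
            p.app (op a) := by
          rw [e5]
          simp only [Category.assoc]
      _ = c ≫ cmp n (PL K) a ha θ ≫ eb.app (op a) := by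
          rw [e3]
          simp only [c, Category.assoc]
          rw [e4]
  have hy0 := key p0 (ebot K) he0
  have hy1 := key p1 (etop K) he1
  obtain ⟨S1, hS1, hA⟩ := stepA J S K hK n y0 y1 c hy0 hy1
  choose wx hwx0 hwxl hw using hA
  have hB := fun (Z' : Over S) (h : Z' ⟶ T) (hh : S1.arrows h) =>
    stepB J S K hK n ((FormalCoproduct.incl (Over S)).map h ≫ y0)
      ((FormalCoproduct.incl (Over S)).map h ≫ c) (wx h hh) (hw h hh)
  choose S2 hS2 hB' using hB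
  refine ⟨Sieve.bind S1.arrows (fun Z' h hh => S2 Z' h hh),
    (J.over S).bind_covering hS1 (fun Z' h hh => hS2 Z' h hh), ?_⟩
  intro Z'' g hg
  obtain ⟨Z', h', h, hh, hh', rfl⟩ := hg
  obtain ⟨x, hx⟩ := hB' Z' h hh h' hh'
  let r := (FormalCoproduct.incl (Over S)).map h
  let r' := (FormalCoproduct.incl (Over S)).map h'
  obtain ⟨z, hz0, hz1, hzc⟩ := fill K n (r' ≫ r ≫ y0) (r' ≫ r ≫ c) (r' ≫ r ≫ y1)
    (fun j => r' ≫ wx h hh j) (by rw [hwx0 h hh]) (by rw [hwxl h hh]) x (by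
      intro i k
      rw [hx i k]
      exact fx_restrict K n _ _ r' _ i k)
  refine ⟨z, ?_⟩
  have hrr : (FormalCoproduct.incl (Over S)).map (h' ≫ h) = r' ≫ r :=
    Functor.map_comp _ _ _
  rw [hrr]
  have hγ1 : (z ≫ γ) ≫ q1 = z ≫ e.app (op ⦋n + 1⦌) := by rw [Category.assoc, h1]
  apply sq.hom_ext
  · rw [hγ1]
    apply hmono
    · rw [Category.assoc z, ← NatTrans.comp_app, he0, hz0]
      simp only [y0, Category.assoc]
    · rw [Category.assoc z, ← NatTrans.comp_app, he1, hz1]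
      simp only [y1, Category.assoc]
  · rw [Category.assoc, Category.assoc, Category.assoc, h2]
    erw [hzc]

include hK in
theorem llp_e0 (KK : SimplicialObject (FormalCoproduct.{u} (Over S))) (p0 p1 : KK ⟶ K)
    (hmono : ∀ (m : SimplexCategoryᵒᵖ) (W : FormalCoproduct.{u} (Over S)) (f g : W ⟶ KK.obj m),
      f ≫ p0.app m = g ≫ p0.app m → f ≫ p1.app m = g ≫ p1.app m → f = g)
    (e : PL K ⟶ KK) (he0 : e ≫ p0 = ebot K) (he1 : e ≫ p1 = etop K) :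
    HasLLP (J.over S) (e.app (op ⦋0⦌)) := by
  intro T l
  let b : Fin 2 → ((FormalCoproduct.incl (Over S)).obj T ⟶ K.obj (op ⦋0⦌)) := fun i =>
    if i = 0 then l ≫ p1.app (op ⦋0⦌) else l ≫ p0.app (op ⦋0⦌)
  obtain ⟨S1, hS1, hl⟩ := hK 0 (matchLift 0 b (compat_zero K b))
  refine ⟨S1, hS1, ?_⟩
  intro Z' h hh
  obtain ⟨w, hw⟩ := hl h hh
  have hwδ : ∀ i : Fin 2, w ≫ K.δ i = (FormalCoproduct.incl (Over S)).map h ≫ b i := by
    intro i
    have e1 := congrArg (fun f => f ≫ cmp 0 K ⦋0⦌ le_rfl (SimplexCategory.δ i)) hw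
    simp only [Category.assoc] at e1
    rw [matchLift_cmp, η_cmp] at e1
    exact e1.symm
  let m : (FormalCoproduct.incl (Over S)).obj Z' ⟶ PLobj K ⦋0⦌ :=
    lift K ⦋0⦌ (fun _ => w) (fun i => Fin.elim0 i)
  have hmπ : ∀ i, m ≫ π K ⦋0⦌ i = w := fun i => lift_π K ⦋0⦌ _ _ i
  refine ⟨m, ?_⟩
  apply hmono
  · rw [Category.assoc, Category.assoc, ← NatTrans.comp_app, he0,
      ← (H K).h_last_comp_δ_last 0]
    change _ = m ≫ π K ⦋0⦌ (Fin.last 0) ≫ K.δ (Fin.last 1)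
    rw [← Category.assoc m, hmπ, hwδ]
    rfl
  · rw [Category.assoc, Category.assoc, ← NatTrans.comp_app, he1,
      ← (H K).h_zero_comp_δ_zero 0]
    change _ = m ≫ π K ⦋0⦌ 0 ≫ K.δ 0
    rw [← Category.assoc m, hmπ, hwδ]
    rfl

end Specific

end Groth.Agent.Lib.Helper62.PathCover
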