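import Mathlib
import Groth.Prelude.Def_Hyper
import Groth.Agent.Lib.Helper62.PathCover

/-! # Hypercoverings are cofiltered up to homotopy (Stacks 01GS) -/

set_option autoImplicit false
set_option backward.isDefEq.respectTransparency false
set_option backward.isDefEq.respectTransparency.types false

open CategoryTheory CategoryTheory.Limits Opposite Simplicial SimplexCategory

universe v u

namespace Groth.Agent.Lib.Helper62.HyperCofilt

open PathObj PathCover CoskZero CoskGen LLP LLPFin HyperFP HyperH0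

lemma prod_mono {D : Type u} [Category.{v} D] [HasFiniteLimits D]
    [HasBinaryProducts (SimplicialObject D)] (L : SimplicialObject D) (m : SimplexCategoryᵒᵖ)
    {W : D} (f g : W ⟶ (L ⨯ L).obj m)
    (h0 : f ≫ (prod.fst : L ⨯ L ⟶ L).app m = g ≫ (prod.fst : L ⨯ L ⟶ L).app m)
    (h1 : f ≫ (prod.snd : L ⨯ L ⟶ L).app m = g ≫ (prod.snd : L ⨯ L ⟶ L).app m) : f = g := by
  have hl := isLimitOfPreserves ((evaluation SimplexCategoryᵒᵖ D).obj m) (prodIsProd L L)
  have hl' := (isLimitMapConeBinaryFanEquiv ((evaluation SimplexCategoryᵒᵖ D).obj m)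
    (prod.fst : L ⨯ L ⟶ L) prod.snd) hl
  exact BinaryFan.IsLimit.hom_ext hl' h0 h1

variable {C : Type u} [SmallCategory C] [HasPullbacks C] (J : GrothendieckTopology C) (S : C)
  [∀ (n : ℕ) (G : (SimplexCategory.Truncated n)ᵒᵖ ⥤ FormalCoproduct.{u} (Over S)),
      (SimplexCategory.Truncated.inclusion n).op.HasRightKanExtension G]

theorem part_b (K L : SimplicialObject (FormalCoproduct.{u} (Over S)))
    (hK : Hyper.IsHypercovering J S K) (hL : Hyper.IsHypercovering J S L) (a b : K ⟶ L) :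
    ∃ (M : SimplicialObject (FormalCoproduct.{u} (Over S))) (c : M ⟶ K),
      Hyper.IsHypercovering J S M ∧ Nonempty (SimplicialObject.Homotopy (c ≫ a) (c ≫ b)) := by
  haveI : HasPullbacks (SimplicialObject (FormalCoproduct.{u} (Over S))) := by
    unfold SimplicialObject
    infer_instance
  haveI : HasBinaryProducts (SimplicialObject (FormalCoproduct.{u} (Over S))) := by
    unfold SimplicialObject
    infer_instance
  obtain ⟨e, he0, he1⟩ : ∃ e : PL L ⟶ L ⨯ L, e ≫ prod.fst = ebot L ∧ e ≫ prod.snd = etop L :=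
    ⟨prod.lift (ebot L) (etop L), prod.lift_fst _ _, prod.lift_snd _ _⟩
  obtain ⟨ab, hab0, hab1⟩ : ∃ ab : K ⟶ L ⨯ L, ab ≫ prod.fst = a ∧ ab ≫ prod.snd = b :=
    ⟨prod.lift a b, prod.lift_fst _ _, prod.lift_snd _ _⟩
  have hLLP : ∀ k : ℕ, HasLLP (J.over S) ((η k L).app (op ⦋k + 1⦌)) :=
    fun k => llp_of_sr _ _ (hL.2 k)
  have hmono : ∀ (m : SimplexCategoryᵒᵖ) (W : FormalCoproduct.{u} (Over S))
      (f g : W ⟶ (L ⨯ L).obj m),
      f ≫ (prod.fst : L ⨯ L ⟶ L).app m = g ≫ (prod.fst : L ⨯ L ⟶ L).app m →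
      f ≫ (prod.snd : L ⨯ L ⟶ L).app m = g ≫ (prod.snd : L ⨯ L ⟶ L).app m → f = g :=
    fun m W f g => prod_mono L m f g
  refine ⟨pullback ab e, pullback.fst ab e, ?_, ?_⟩
  · apply fp_hyper J S ab e _ _ (IsPullback.of_hasPullback ab e) hK
    · exact sr_of_llp _ _ (llp_e0 J S L hLLP (L ⨯ L) prod.fst prod.snd hmono e he0 he1)
    · intro n Q q1 q2 γ sq h1 h2
      exact sr_of_llp _ _ (llp_gamma_path J S L hLLP (L ⨯ L) prod.fst prod.snd hmono e he0 he1
        n Q q1 q2 γ sq h1 h2)
  · have H1 := (H L).precomp (pullback.snd ab e)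
    have e1 : pullback.snd ab e ≫ ebot L = pullback.fst ab e ≫ a := by
      rw [← he0, ← Category.assoc, ← pullback.condition, Category.assoc, hab0]
    have e2 : pullback.snd ab e ≫ etop L = pullback.fst ab e ≫ b := by
      rw [← he1, ← Category.assoc, ← pullback.condition, Category.assoc, hab1]
    rw [e1, e2] at H1
    exact ⟨H1⟩

theorem part_a (K L : SimplicialObject (FormalCoproduct.{u} (Over S)))
    (hK : Hyper.IsHypercovering J S K) (hL : Hyper.IsHypercovering J S L) :
    ∃ (M : SimplicialObject (FormalCoproduct.{u} (Over S))) (_ : M ⟶ K) (_ : M ⟶ L),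
      Hyper.IsHypercovering J S M := by
  haveI : HasBinaryProducts (SimplicialObject (FormalCoproduct.{u} (Over S))) := by
    unfold SimplicialObject
    infer_instance
  haveI : HasTerminal (SimplicialObject (FormalCoproduct.{u} (Over S))) := by
    unfold SimplicialObject
    infer_instance
  refine ⟨K ⨯ L, prod.fst, prod.snd, ?_⟩
  have hT : ∀ m : SimplexCategoryᵒᵖ,
      IsTerminal ((⊤_ (SimplicialObject (FormalCoproduct.{u} (Over S)))).obj m) := fun m =>
    IsTerminal.isTerminalObj ((evaluation SimplexCategoryᵒᵖ (FormalCoproduct.{u} (Over S))).obj m)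
      _ terminalIsTerminal
  apply fp_hyper J S (terminal.from K) (terminal.from L) prod.fst prod.snd
    (IsPullback.of_hasBinaryProduct' K L) hK
  · apply sr_of_llp
    intro T l
    have h0 := hL.1
    refine ⟨(Sieve.overEquiv T).symm (Sieve.pullback T.hom _),
      J.overEquiv_symm_mem_over T _ (J.pullback_stable T.hom h0), ?_⟩
    intro Z' h hh
    rw [Sieve.overEquiv_symm_iff] at hh
    obtain ⟨W, g, e, he, hge⟩ := hh
    obtain ⟨i⟩ := he
    exact ⟨FormalCoproduct.Hom.fromIncl i (Over.homMk g (by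
      rw [hge]
      exact Over.w h)), (hT _).hom_ext _ _⟩
  · intro n Q q1 q2 γ sq h1 h2
    apply sr_of_llp
    intro T l
    obtain ⟨S1, hS1, hl⟩ := llp_of_sr _ _ (hL.2 n) (l ≫ q2)
    refine ⟨S1, hS1, ?_⟩
    intro Z' h hh
    obtain ⟨m, hm⟩ := hl h hh
    refine ⟨m, sq.hom_ext ((hT _).hom_ext _ _) ?_⟩
    rw [Category.assoc, Category.assoc, h2]
    exact hm

end Groth.Agent.Lib.Helper62.HyperCofilt
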