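import Mathlib
import Groth.Prelude.Def_Hyper
import Groth.Agent.Lib.Helper62.CoskGen
import Groth.Agent.Lib.Helper62.HyperFP

/-! # Faces of a hypercovering are coverings; every `K_n` covers `X` -/

set_option autoImplicit false
set_option backward.isDefEq.respectTransparency false
set_option backward.isDefEq.respectTransparency.types false

open CategoryTheory CategoryTheory.Limits Opposite Simplicial SimplexCategory

universe u

namespace Groth.Agent.Lib.Helper62.HyperFaces

open CoskZero CoskGen LLP HyperFP HyperH0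

lemma exists_retraction (n : ℕ) (i : Fin (n + 2)) :
    ∃ s : ⦋n + 1⦌ ⟶ ⦋n⦌, SimplexCategory.δ i ≫ s = 𝟙 _ := by
  induction i using Fin.lastCases with
  | last =>
    refine ⟨SimplexCategory.σ (Fin.last n), ?_⟩
    rw [← Fin.succ_last]
    exact SimplexCategory.δ_comp_σ_succ
  | cast j => exact ⟨SimplexCategory.σ j, SimplexCategory.δ_comp_σ_self⟩

variable {C : Type u} [SmallCategory C] [HasPullbacks C] (J : GrothendieckTopology C) (X : C)
  [∀ (n : ℕ) (G : (SimplexCategory.Truncated n)ᵒᵖ ⥤ FormalCoproduct.{u} (Over X)),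
      (SimplexCategory.Truncated.inclusion n).op.HasRightKanExtension G]

lemma cover_of_llp {A B : FormalCoproduct.{u} (Over X)} (f : A ⟶ B)
    (hf : HasLLP (J.over X) f)
    (hB : Sieve.ofArrows (fun i => (B.obj i).left) (fun i => (B.obj i).hom) ∈ J X) :
    Sieve.ofArrows (fun i => (A.obj i).left) (fun i => (A.obj i).hom) ∈ J X := by
  refine J.transitive hB _ ?_
  intro Y g hg
  obtain ⟨W, g', e, he, hge⟩ := hg
  obtain ⟨i⟩ := he
  let Z : Over X := Over.mk g
  let l : (FormalCoproduct.incl (Over X)).obj Z ⟶ B :=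
    FormalCoproduct.Hom.fromIncl i (Over.homMk g' hge)
  obtain ⟨S, hS, hl⟩ := hf l
  have hS' := (J.mem_over_iff S).1 hS
  refine J.superset_covering ?_ hS'
  intro W' k hk
  rw [Sieve.overEquiv_iff] at hk
  obtain ⟨m, hm⟩ := hl _ hk
  exact mem_ofArrows_of_hom X m

variable (K : SimplicialObject (FormalCoproduct.{u} (Over X)))

theorem llp_face (hK : Hyper.IsHypercovering J X K) (n : ℕ) (i : Fin (n + 2)) :
    HasLLP (J.over X) (K.δ i) := by
  have e : K.δ i = (η n K).app (op ⦋n + 1⦌) ≫ cmp n K ⦋n⦌ le_rfl (SimplexCategory.δ i) :=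
    (η_cmp n K ⦋n⦌ le_rfl (SimplexCategory.δ i)).symm
  rw [e]
  apply llp_comp
  · exact llp_of_sr _ _ (hK.2 n)
  · obtain ⟨s, hs⟩ := exists_retraction n i
    intro T l
    refine ⟨⊤, (J.over X).top_mem T, fun Z' h _ =>
      ⟨((FormalCoproduct.incl (Over X)).map h ≫ l) ≫ K.map s.op ≫ (η n K).app (op ⦋n + 1⦌), ?_⟩⟩
    rw [Category.assoc, Category.assoc, Category.assoc, η_cmp, ← K.map_comp, ← op_comp, hs,
      op_id, K.map_id, Category.comp_id]

theorem faces (hK : Hyper.IsHypercovering J X K) :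
    (∀ n : ℕ, Sieve.ofArrows (fun i => ((K.obj (op ⦋n⦌)).obj i).left)
      (fun i => ((K.obj (op ⦋n⦌)).obj i).hom) ∈ J X) ∧
    ∀ (n : ℕ) (i : Fin (n + 2)), Hyper.IsSRCovering (J.over X) (K.δ i) := by
  refine ⟨?_, fun n i => sr_of_llp _ _ (llp_face J X K hK n i)⟩
  intro n
  induction n with
  | zero => exact hK.1
  | succ n ih => exact cover_of_llp J X (K.δ (0 : Fin (n + 2))) (llp_face J X K hK n 0) ih

end Groth.Agent.Lib.Helper62.HyperFaces
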