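import Mathlib
import Groth.Prelude.Def_Hyper
import Groth.Agent.Lib.Helper62.HyperSiteH0
import Groth.Agent.Lib.Helper62.CechFunctorExact
import Groth.Agent.Lib.Helper62.H0Derived

/-! # `H^0` of the Cech complex of a hypercovering of the final object, naturally: global sections -/

set_option autoImplicit false
set_option backward.isDefEq.respectTransparency false
set_option backward.isDefEq.respectTransparency.types false

open CategoryTheory CategoryTheory.Limits Opposite Simplicial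

universe u

namespace Groth.Agent.Lib.Helper62.HyperGlobal

open HyperSite HyperToSite HyperSiteH0 CechE CechFunctorExact

variable {C : Type u} [SmallCategory C] (J : GrothendieckTopology C)
  (K : SimplicialObject (FormalCoproduct.{u} C))

section props

variable (F : Sheaf J AddCommGrpCat.{u})

theorem ι'_props
    (hK0 : Presheaf.IsLocallySurjective J
      (terminal.from (FormalCoproduct.yoneda.obj (K.obj (op ⦋0⦌)))))
    (hK1 : Presheaf.IsLocallySurjective J
      (prod.lift (FormalCoproduct.yoneda.map (K.δ (1 : Fin 2)))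
        (FormalCoproduct.yoneda.map (K.δ (0 : Fin 2))))) :
    Function.Injective (ι' J F K).hom ∧
    (∀ y, ((E F.obj).map (K.δ 0).op).hom ((ι' J F K).hom y) =
      ((E F.obj).map (K.δ 1).op).hom ((ι' J F K).hom y)) ∧
    (∀ s : (E F.obj).obj (op (K.obj (op ⦋0⦌))),
      ((E F.obj).map (K.δ 0).op).hom s = ((E F.obj).map (K.δ 1).op).hom s →
        ∃ y, (ι' J F K).hom y = s) := by
  refine ⟨?_, ?_, ?_⟩
  · intro t t' h
    apply Concrete.limit_ext
    intro U
    apply sep' J F (covS K U.unop) (covS_mem J K hK0 U.unop)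
    intro V g hg
    obtain ⟨l⟩ := hg
    have e : ∀ t : (limit F.obj : AddCommGrpCat.{u}),
        (F.obj.map g.op).hom ((limit.π F.obj U).hom t) = (limit.π F.obj (op V)).hom t := by
      intro t
      have := limit.w F.obj g.op
      exact congrArg (fun φ => φ.hom t) this
    have e2 := e t
    have e3 := e t'
    refine e2.trans (Eq.trans ?_ e3.symm)
    rw [← val_ι' J F K t l, ← val_ι' J F K t' l, h]
  · intro y
    have h0 := ι'_E_map J F K (K.δ 0)
    have h1 := ι'_E_map J F K (K.δ 1)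
    exact (congrArg (fun φ => φ.hom y) h0).trans (congrArg (fun φ => φ.hom y) h1).symm
  · intro s hs
    have hsh := isSheaf_forget' J F
    have heq : ∀ {Z : C} (a0 a1 : (FormalCoproduct.incl C).obj Z ⟶ K.obj (op ⦋0⦌)),
        ((E F.obj).map a0.op).hom s = ((E F.obj).map a1.op).hom s :=
      fun a0 a1 => equalize' J F K hK1 s hs a0 a1
    have hval : ∀ {V : C} (l l' : (FormalCoproduct.incl C).obj V ⟶ K.obj (op ⦋0⦌)),
        val J F K s l = val J F K s l' := by
      intro V l l'
      unfold val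
      rw [heq l l']
    let x : ∀ U : C, Presieve.FamilyOfElements (F.obj ⋙ forget AddCommGrpCat.{u})
        (covS K U).arrows := fun U V g hg => val J F K s hg.some
    have hx : ∀ U, (x U).Compatible := by
      intro U Y₁ Y₂ Z g₁ g₂ f₁ f₂ h₁ h₂ _
      change (F.obj.map g₁.op).hom (val J F K s h₁.some) =
        (F.obj.map g₂.op).hom (val J F K s h₂.some)
      rw [val_restrict, val_restrict]
      exact hval _ _
    let tU : ∀ U : C, F.obj.obj (op U) := fun U =>
      (hsh _ (covS_mem J K hK0 U)).amalgamate (x U) (hx U)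
    have htU : ∀ (U V : C) (g : V ⟶ U) (l : (FormalCoproduct.incl C).obj V ⟶ K.obj (op ⦋0⦌)),
        (F.obj.map g.op).hom (tU U) = val J F K s l := by
      intro U V g l
      have h1 := (hsh _ (covS_mem J K hK0 U)).valid_glue (hx U) g ⟨l⟩
      refine Eq.trans h1 ?_
      exact hval _ _
    have hnat : ∀ {U U' : C} (w : U' ⟶ U), (F.obj.map w.op).hom (tU U) = tU U' := by
      intro U U' w
      apply sep' J F (covS K U') (covS_mem J K hK0 U')
      intro V g hg
      obtain ⟨l⟩ := hg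
      rw [htU U' V g l]
      have h1 : (F.obj.map g.op).hom ((F.obj.map w.op).hom (tU U)) =
          (F.obj.map (g ≫ w).op).hom (tU U) := by
        rw [op_comp, F.obj.map_comp]
        rfl
      rw [h1, htU U V (g ≫ w) l]
    let sect : (F.obj ⋙ forget AddCommGrpCat.{u}).sections :=
      ⟨fun U => tU U.unop, fun {U U'} w => hnat w.unop⟩
    let hl := isLimitOfPreserves (forget AddCommGrpCat.{u}) (limit.isLimit F.obj)
    let t : (limit F.obj : AddCommGrpCat.{u}) := (Types.isLimitEquivSections hl).symm sect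
    have ht : ∀ U : C, (limit.π F.obj (op U)).hom t = tU U := fun U =>
      Types.isLimitEquivSections_symm_apply hl sect (op U)
    refine ⟨t, ?_⟩
    apply pi_ext
    intro i
    have e1 : (Pi.π (fun i : (K.obj (op ⦋0⦌)).I => F.obj.obj (op ((K.obj (op ⦋0⦌)).obj i))) i).hom
        ((ι' J F K).hom t) = (limit.π F.obj (op ((K.obj (op ⦋0⦌)).obj i))).hom t := by
      have h5 : ι' J F K ≫
          Pi.π (fun i : (K.obj (op ⦋0⦌)).I => F.obj.obj (op ((K.obj (op ⦋0⦌)).obj i))) i =
          limit.π F.obj (op ((K.obj (op ⦋0⦌)).obj i)) := by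
        unfold ι'
        erw [Pi.lift_π]
      exact congrArg (fun φ : (limit F.obj : AddCommGrpCat.{u}) ⟶ _ => φ.hom t) h5
    rw [e1, ht]
    apply sep' J F (covS K _) (covS_mem J K hK0 _)
    intro V g hg
    obtain ⟨l⟩ := hg
    rw [htU _ V g l, hval l (FormalCoproduct.Hom.fromIncl i g)]
    exact πZ_E_map F.obj s i g

end props

section iso

/-- the Cech complex of a sheaf -/
noncomputable abbrev CxY (Y : Sheaf J AddCommGrpCat.{u}) : CochainComplex AddCommGrpCat.{u} ℕ :=
  (Ψ K).obj Y.obj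

theorem exists_hIso (Y : Sheaf J AddCommGrpCat.{u})
    (hK0 : Presheaf.IsLocallySurjective J
      (terminal.from (FormalCoproduct.yoneda.obj (K.obj (op ⦋0⦌)))))
    (hK1 : Presheaf.IsLocallySurjective J
      (prod.lift (FormalCoproduct.yoneda.map (K.δ (1 : Fin 2)))
        (FormalCoproduct.yoneda.map (K.δ (0 : Fin 2))))) :
    ∃ e : limit Y.obj ≅ (CxY J K Y).homology 0,
      e.hom ≫ (CxY J K Y).isoHomologyπ₀.inv ≫ (CxY J K Y).iCycles 0 = ι' J Y K := by
  obtain ⟨hι, w, hex⟩ := ι'_props J K Y hK0 hK1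
  let Kc := CxY J K Y
  have w' : ι' J Y K ≫ Kc.d 0 1 = 0 := by
    rw [d01, Preadditive.comp_sub]
    ext y
    have := w y
    simp only [AddCommGrpCat.hom_sub, AddCommGrpCat.hom_comp, AddMonoidHom.sub_apply,
      AddMonoidHom.comp_apply]
    exact (sub_eq_zero.2 this)
  let S : ShortComplex AddCommGrpCat.{u} := ShortComplex.mk (ι' J Y K) (Kc.d 0 1) w'
  have hmono : Mono S.f := (AddCommGrpCat.mono_iff_injective _).2 hι
  have hex' : S.Exact := by
    rw [ShortComplex.ab_exact_iff]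
    intro s hs
    apply hex s
    have h1 : ((E Y.obj).map (K.δ 0).op - (E Y.obj).map (K.δ 1).op).hom s = 0 := by
      rw [← d01]
      exact hs
    exact sub_eq_zero.1 h1
  have hk := hex'.fIsKernel
  let e1 := IsLimit.conePointUniqueUpToIso hk (Kc.cyclesIsKernel 0 1 (by simp))
  have he1 : e1.hom ≫ Kc.iCycles 0 = ι' J Y K :=
    IsLimit.conePointUniqueUpToIso_hom_comp hk (Kc.cyclesIsKernel 0 1 (by simp))
      WalkingParallelPair.zero
  refine ⟨e1 ≪≫ Kc.isoHomologyπ₀, ?_⟩
  rw [Iso.trans_hom, Category.assoc, Iso.hom_inv_id_assoc]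
  exact he1

lemma ι'_natural {Y Y' : Sheaf J AddCommGrpCat.{u}} (f : Y ⟶ Y') :
    limMap f.hom ≫ ι' J Y' K = ι' J Y K ≫ ((Ψ K).map f.hom).f 0 := by
  apply Limits.Pi.hom_ext
  intro i
  have h : ((Ψ K).map f.hom).f 0 ≫
      Pi.π (fun i : (K.obj (op ⦋0⦌)).I => Y'.obj.obj (op ((K.obj (op ⦋0⦌)).obj i))) i =
      Pi.π (fun i : (K.obj (op ⦋0⦌)).I => Y.obj.obj (op ((K.obj (op ⦋0⦌)).obj i))) i ≫
        f.hom.app (op ((K.obj (op ⦋0⦌)).obj i)) := by
    change Limits.Pi.map (fun i : (K.obj (op ⦋0⦌)).I => f.hom.app (op ((K.obj (op ⦋0⦌)).obj i))) ≫ _ = _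
    rw [Limits.Pi.map_π]
  rw [Category.assoc, Category.assoc, h]
  unfold ι'
  erw [Pi.lift_π, Pi.lift_π_assoc]
  exact limMap_π f.hom (op ((K.obj (op ⦋0⦌)).obj i))

theorem hIso_natural {Y Y' : Sheaf J AddCommGrpCat.{u}} (f : Y ⟶ Y')
    (e : limit Y.obj ≅ (CxY J K Y).homology 0)
    (he : e.hom ≫ (CxY J K Y).isoHomologyπ₀.inv ≫ (CxY J K Y).iCycles 0 = ι' J Y K)
    (e' : limit Y'.obj ≅ (CxY J K Y').homology 0)
    (he' : e'.hom ≫ (CxY J K Y').isoHomologyπ₀.inv ≫ (CxY J K Y').iCycles 0 = ι' J Y' K) :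
    limMap f.hom ≫ e'.hom = e.hom ≫ HomologicalComplex.homologyMap ((Ψ K).map f.hom) 0 := by
  rw [← cancel_mono ((CxY J K Y').isoHomologyπ₀.inv ≫ (CxY J K Y').iCycles 0)]
  rw [Category.assoc, he', Category.assoc, CochainComplex.isoHomologyπ₀_inv_naturality_assoc,
    HomologicalComplex.cyclesMap_i, ι'_natural, ← he]
  simp only [Category.assoc]

end iso

section theta

/-- the integers -/
abbrev Zc : AddCommGrpCat.{u} := AddCommGrpCat.of (ULift.{u} ℤ)

/-- the constant sheaf of integers -/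
noncomputable abbrev ZS : Sheaf J AddCommGrpCat.{u} := (constantSheaf J AddCommGrpCat.{u}).obj Zc

/-- morphisms out of the constant sheaf are global sections -/
noncomputable def gsEquiv (Y : Sheaf J AddCommGrpCat.{u}) :
    (ZS J ⟶ Y) ≃+ (limit Y.obj : AddCommGrpCat.{u}) :=
  ((sheafificationAdjunction J AddCommGrpCat.{u}).homAddEquiv ((Functor.const Cᵒᵖ).obj Zc) Y).trans
    (((constLimAdj (J := Cᵒᵖ) (C := AddCommGrpCat.{u})).homAddEquiv Zc Y.obj).trans
      (AddCommGrpCat.uliftZMultiplesAddEquiv (limit Y.obj)))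

lemma gsEquiv_natural {Y Y' : Sheaf J AddCommGrpCat.{u}} (f : Y ⟶ Y') (φ : ZS J ⟶ Y) :
    gsEquiv J Y' (φ ≫ f) = (limMap f.hom).hom (gsEquiv J Y φ) := by
  change AddCommGrpCat.uliftZMultiplesAddEquiv _
    ((constLimAdj (J := Cᵒᵖ) (C := AddCommGrpCat.{u})).homEquiv _ _
      ((sheafificationAdjunction J AddCommGrpCat.{u}).homEquiv _ _ (φ ≫ f))) = _
  rw [Adjunction.homEquiv_naturality_right, Adjunction.homEquiv_naturality_right]
  rfl

variable (hK0 : Presheaf.IsLocallySurjective J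
      (terminal.from (FormalCoproduct.yoneda.obj (K.obj (op ⦋0⦌)))))
  (hK1 : Presheaf.IsLocallySurjective J
      (prod.lift (FormalCoproduct.yoneda.map (K.δ (1 : Fin 2)))
        (FormalCoproduct.yoneda.map (K.δ (0 : Fin 2)))))

/-- the functor `Y ↦ H^0(K, Y)` -/
noncomputable abbrev HF : Sheaf J AddCommGrpCat.{u} ⥤ AddCommGrpCat.{u} :=
  T K J ⋙ H0Derived.H0 AddCommGrpCat.{u}

/-- `H^0(K, Y)` is `Hom(ℤ, Y)` -/
noncomputable def θ (Y : Sheaf J AddCommGrpCat.{u}) : (HF J K).obj Y ≃+ (ZS J ⟶ Y) :=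
  ((Classical.choose (exists_hIso J K Y hK0 hK1)).symm.addCommGroupIsoToAddEquiv).trans
    (gsEquiv J Y).symm

lemma θ_natural {Y Y' : Sheaf J AddCommGrpCat.{u}} (f : Y ⟶ Y') (x : (HF J K).obj Y) :
    θ J K hK0 hK1 Y' ((HF J K).map f x) = θ J K hK0 hK1 Y x ≫ f := by
  apply (gsEquiv J Y').injective
  rw [gsEquiv_natural]
  have he := Classical.choose_spec (exists_hIso J K Y hK0 hK1)
  have he' := Classical.choose_spec (exists_hIso J K Y' hK0 hK1)
  have h := hIso_natural J K f _ he _ he'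
  have h2 : HomologicalComplex.homologyMap ((Ψ K).map f.hom) 0 ≫
      (Classical.choose (exists_hIso J K Y' hK0 hK1)).inv =
      (Classical.choose (exists_hIso J K Y hK0 hK1)).inv ≫ limMap f.hom := by
    rw [Iso.comp_inv_eq, Category.assoc, h, Iso.inv_hom_id_assoc]
  have h3 := congrArg (fun ψ => ψ.hom x) h2
  unfold θ
  simp only [AddEquiv.trans_apply, AddEquiv.apply_symm_apply]
  exact h3

end theta

end Groth.Agent.Lib.Helper62.HyperGlobal
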