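import Mathlib.CategoryTheory.Abelian.Refinements
import Mathlib.CategoryTheory.Abelian.Subobject
import Mathlib.CategoryTheory.Abelian.Exact
import Mathlib.CategoryTheory.Subobject.Limits
import Mathlib.Algebra.Homology.ShortComplex.ShortExact
import Mathlib.Data.Fintype.Pigeonhole

/-!
# Abstract "cofinite type" theory (helper62)

Setting: an abelian category `𝒜` with an object property `P` ("small objects") closed under
isomorphisms, kernels and cokernels (of maps between `P`-objects), whose `P`-subobjects of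
`P`-objects satisfy the descending chain condition, and which detects zero morphisms.
For `Ind C` and `P = essImage Ind.yoneda` this is verified in `IndCofInd.lean`.
-/

namespace Groth.Agent.Lib.Helper62.IndCofAbs

open CategoryTheory CategoryTheory.Limits

universe v u

variable {𝒜 : Type u} [Category.{v} 𝒜] [Abelian 𝒜]

section basic

lemma comp_nsmul_id {W A : 𝒜} (x : W ⟶ A) (n : ℕ) : x ≫ (n • 𝟙 A) = n • x := by
  rw [Preadditive.comp_nsmul, Category.comp_id]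

lemma nsmul_id_comp {W A : 𝒜} (x : W ⟶ A) (n : ℕ) : (n • 𝟙 W) ≫ x = n • x := by
  rw [Preadditive.nsmul_comp, Category.id_comp]

lemma nsmul_eq_zero_of_dvd {W A : 𝒜} (x : W ⟶ A) {m n : ℕ} (h : m • x = 0) (hd : m ∣ n) :
    n • x = 0 := by
  obtain ⟨c, rfl⟩ := hd
  rw [mul_comm, mul_smul, h, smul_zero]

/-- the `m`-torsion subobject -/
noncomputable abbrev tor (A : 𝒜) (m : ℕ) : 𝒜 := kernel (m • 𝟙 A)

noncomputable abbrev torι (A : 𝒜) (m : ℕ) : tor A m ⟶ A := kernel.ι (m • 𝟙 A)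

lemma torι_nsmul (A : 𝒜) (m : ℕ) : m • torι A m = 0 := by
  rw [← comp_nsmul_id]; exact kernel.condition _

noncomputable def torLift {W A : 𝒜} (x : W ⟶ A) (m : ℕ) (h : m • x = 0) : W ⟶ tor A m :=
  kernel.lift _ x (by rw [comp_nsmul_id]; exact h)

@[reassoc (attr := simp)]
lemma torLift_ι {W A : 𝒜} (x : W ⟶ A) (m : ℕ) (h : m • x = 0) :
    torLift x m h ≫ torι A m = x := kernel.lift_ι _ _ _

lemma nsmul_comp_torι {W A : 𝒜} (m : ℕ) (x : W ⟶ tor A m) : m • (x ≫ torι A m) = 0 := by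
  rw [← Preadditive.comp_nsmul, torι_nsmul, comp_zero]

/-- multiplication by `a` from `m'`-torsion to `m`-torsion -/
noncomputable def torMul (A : 𝒜) (a m' m : ℕ) (h : m' ∣ m * a) : tor A m' ⟶ tor A m :=
  torLift (a • torι A m') m (by
    rw [← mul_smul]; exact nsmul_eq_zero_of_dvd _ (torι_nsmul A m') h)

@[reassoc (attr := simp)]
lemma torMul_ι (A : 𝒜) (a m' m : ℕ) (h : m' ∣ m * a) :
    torMul A a m' m h ≫ torι A m = a • torι A m' := torLift_ι _ _ _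

/-- functoriality of torsion -/
noncomputable def torMap {A B : 𝒜} (f : A ⟶ B) (m : ℕ) : tor A m ⟶ tor B m :=
  torLift (torι A m ≫ f) m (by
    rw [← Preadditive.nsmul_comp, torι_nsmul, zero_comp])

@[reassoc (attr := simp)]
lemma torMap_ι {A B : 𝒜} (f : A ⟶ B) (m : ℕ) :
    torMap f m ≫ torι B m = torι A m ≫ f := torLift_ι _ _ _

end basic

section images

lemma imageSubobject_epi_comp {X' X Y : 𝒜} (e : X' ⟶ X) [Epi e] (f : X ⟶ Y) :
    imageSubobject (e ≫ f) = imageSubobject f := by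
  apply le_antisymm (imageSubobject_comp_le e f)
  have : IsIso (Subobject.ofLE _ _ (imageSubobject_comp_le e f)) := isIso_of_mono_of_epi _
  exact Subobject.le_of_comm (inv (Subobject.ofLE _ _ (imageSubobject_comp_le e f))) (by simp)

/-- refinement form of `imageSubobject u ≤ imageSubobject v` -/
lemma exists_of_imageSubobject_le {X Y Z : 𝒜} {u : X ⟶ Y} {v : Z ⟶ Y}
    (h : imageSubobject u ≤ imageSubobject v) {W : 𝒜} (x : W ⟶ X) :
    ∃ (W' : 𝒜) (σ : W' ⟶ W) (_ : Epi σ) (y : W' ⟶ Z), σ ≫ x ≫ u = y ≫ v := by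
  obtain ⟨W', σ, hσ, y, fac⟩ := surjective_up_to_refinements_of_epi
    (factorThruImageSubobject v) (x ≫ factorThruImageSubobject u ≫ Subobject.ofLE _ _ h)
  refine ⟨W', σ, hσ, y, ?_⟩
  have := fac =≫ (imageSubobject v).arrow
  simpa using this

lemma imageSubobject_le_of_exists {X Y Z : 𝒜} {u : X ⟶ Y} {v : Z ⟶ Y}
    {W' : 𝒜} (σ : W' ⟶ X) [Epi σ] (y : W' ⟶ Z) (h : σ ≫ u = y ≫ v) :
    imageSubobject u ≤ imageSubobject v := by
  rw [← imageSubobject_epi_comp σ u, h]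
  exact imageSubobject_comp_le _ _

end images

variable (P : ObjectProperty 𝒜)

/-- the abstract setup -/
structure Setup : Prop where
  of_iso : ∀ {X Y : 𝒜} (_ : X ≅ Y), P X → P Y
  ker : ∀ {X Y : 𝒜} (f : X ⟶ Y), P X → P Y → P (kernel f)
  coker : ∀ {X Y : 𝒜} (f : X ⟶ Y), P X → P Y → P (cokernel f)
  art : ∀ (Y : 𝒜), P Y → ∀ S : ℕ → Subobject Y, Antitone S →
    (∀ k, P ((S k : Subobject Y) : 𝒜)) → ∃ k₀, ∀ k, k₀ ≤ k → S k = S k₀
  sep : ∀ {A Z : 𝒜} (g : A ⟶ Z), (∀ X, P X → ∀ x : X ⟶ A, x ≫ g = 0) → g = 0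

variable {P}

lemma Setup.image (hP : Setup P) {X Y : 𝒜} (f : X ⟶ Y) (hX : P X) (hY : P Y) :
    P ((imageSubobject f : Subobject Y) : 𝒜) :=
  hP.of_iso (Abelian.imageIsoImage f ≪≫ (imageSubobjectIso f).symm)
    (hP.ker _ hY (hP.coker f hX hY))

/-- `A = A[q^e] + q A`, in refinement form -/
def Gen (q e : ℕ) (A : 𝒜) : Prop :=
  ∀ ⦃W : 𝒜⦄ (x : W ⟶ A), ∃ (W' : 𝒜) (σ : W' ⟶ W) (_ : Epi σ) (x' y : W' ⟶ A),
    σ ≫ x = x' + q • y ∧ q ^ e • x' = 0

section core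

variable (q : ℕ) (A : 𝒜)

/-- chain maps: multiplication by `q^k` from `A[q^(k+1)]` to `A[q^1]` -/
noncomputable def μ (k : ℕ) : tor A (q ^ (k + 1)) ⟶ tor A (q ^ 1) :=
  torMul A (q ^ k) _ _ (by rw [← pow_add, add_comm])

lemma μ_succ (k : ℕ) :
    μ q A (k + 1) =
      torMul A q (q ^ (k + 2)) (q ^ (k + 1)) (by rw [← pow_succ]) ≫ μ q A k := by
  rw [← cancel_mono (torι A (q ^ 1))]
  simp [μ, Preadditive.comp_nsmul, ← mul_smul, pow_succ]

lemma step (k : ℕ) (h : imageSubobject (μ q A k) ≤ imageSubobject (μ q A (k + 1))) {W : 𝒜}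
    (x : W ⟶ A) (hx : q ^ (k + 1) • x = 0) :
    ∃ (W' : 𝒜) (σ : W' ⟶ W) (_ : Epi σ) (x' y : W' ⟶ A),
      σ ≫ x = x' + q • y ∧ q ^ k • x' = 0 ∧ q ^ (k + 2) • y = 0 := by
  obtain ⟨W', σ, hσ, y, fac⟩ := exists_of_imageSubobject_le h (torLift x _ hx)
  have fac' := fac =≫ torι A (q ^ 1)
  simp only [Category.assoc, μ, torMul_ι, Preadditive.comp_nsmul, torLift_ι] at fac'
  refine ⟨W', σ, hσ, σ ≫ x - q • (y ≫ torι A _), y ≫ torι A _, by abel, ?_,
    nsmul_comp_torι _ _⟩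
  rw [smul_sub, fac', ← mul_smul, ← pow_succ, sub_self]

lemma decomp (k₀ : ℕ)
    (h : ∀ k, k₀ ≤ k → imageSubobject (μ q A k) ≤ imageSubobject (μ q A (k + 1))) (j : ℕ)
    {W : 𝒜} (x : W ⟶ A) (hx : q ^ (k₀ + j) • x = 0) :
    ∃ (W' : 𝒜) (σ : W' ⟶ W) (_ : Epi σ) (x' y : W' ⟶ A),
      σ ≫ x = x' + q • y ∧ q ^ k₀ • x' = 0 := by
  induction j generalizing W with
  | zero => exact ⟨W, 𝟙 W, inferInstance, x, 0, by simp, by simpa using hx⟩
  | succ j ih =>
    obtain ⟨W₁, σ₁, hσ₁, x₁, y₁, e₁, hx₁, -⟩ := step q A (k₀ + j) (h _ (by lia)) x hx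
    obtain ⟨W₂, σ₂, hσ₂, x₂, y₂, e₂, hx₂⟩ := ih x₁ hx₁
    refine ⟨W₂, σ₂ ≫ σ₁, epi_comp _ _, x₂, y₂ + σ₂ ≫ y₁, ?_, hx₂⟩
    rw [Category.assoc, e₁, Preadditive.comp_add, e₂, Preadditive.comp_nsmul, smul_add]
    abel

variable {q A}

theorem exists_gen (hP : Setup P) (hA : ∀ k, P (tor A (q ^ k)))
    (hT : ∀ X, P X → ∃ k c : ℕ, q ^ k • 𝟙 X = (q ^ (k + 1) * c) • 𝟙 X) :
    ∃ e, Gen q e A := by
  obtain ⟨k₀, hk₀⟩ := hP.art (tor A (q ^ 1)) (hA 1) (fun k => imageSubobject (μ q A k))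
    (antitone_nat_of_succ_le (fun k => by rw [μ_succ]; exact imageSubobject_comp_le _ _))
    (fun k => hP.image _ (hA _) (hA _))
  have hstab : ∀ k, k₀ ≤ k →
      imageSubobject (μ q A k) ≤ imageSubobject (μ q A (k + 1)) := fun k hk => by
    rw [hk₀ k hk, hk₀ (k + 1) (by lia)]
  refine ⟨k₀, ?_⟩
  have key : ∀ {Z : 𝒜} (g : A ⟶ Z), torι A (q ^ k₀) ≫ g = 0 → q • g = 0 → g = 0 := by
    intro Z g hg₁ hg₂
    apply hP.sep
    intro X hX x
    obtain ⟨k, c, hkc⟩ := hT X hX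
    have hx₁ : q ^ (k₀ + k) • (x - (q * c) • x) = 0 := by
      have h1 : q ^ k • (x - (q * c) • x) = 0 := by
        rw [smul_sub, ← mul_smul, ← mul_assoc, ← pow_succ, ← nsmul_id_comp x (q ^ k),
          ← nsmul_id_comp x (q ^ (k + 1) * c), hkc, sub_self]
      exact nsmul_eq_zero_of_dvd _ h1 (Dvd.intro_left _ (pow_add ..).symm)
    obtain ⟨W', σ, hσ, x', y, e, hx'⟩ := decomp q A k₀ hstab k _ hx₁
    have h2 : (x - (q * c) • x) ≫ g = 0 := by
      rw [← cancel_epi σ, comp_zero, ← Category.assoc, e, Preadditive.add_comp,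
        Preadditive.nsmul_comp, ← Preadditive.comp_nsmul, hg₂, comp_zero, add_zero,
        ← torLift_ι x' _ hx', Category.assoc, hg₁, comp_zero]
    rw [Preadditive.sub_comp, sub_eq_zero] at h2
    rw [h2, Preadditive.nsmul_comp, mul_comm, mul_smul, ← Preadditive.comp_nsmul, hg₂]
    simp
  have hρ : Epi (torι A (q ^ k₀) ≫ cokernel.π (q • 𝟙 A)) := by
    apply Preadditive.epi_of_cancel_zero
    intro Z g hg
    have : cokernel.π (q • 𝟙 A) ≫ g = 0 := key _ (by simpa using hg) (by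
      rw [← nsmul_id_comp, cokernel.condition_assoc, zero_comp])
    exact (cancel_epi (cokernel.π (q • 𝟙 A))).1 (by simpa using this)
  intro W x
  obtain ⟨W₁, σ₁, hσ₁, a, fac⟩ := surjective_up_to_refinements_of_epi
    (torι A (q ^ k₀) ≫ cokernel.π (q • 𝟙 A)) (x ≫ cokernel.π _)
  have hex : (ShortComplex.mk (q • 𝟙 A) (cokernel.π _) (cokernel.condition _)).Exact :=
    ShortComplex.exact_cokernel _
  obtain ⟨W₂, σ₂, hσ₂, y, fac₂⟩ := hex.exact_up_to_refinements (σ₁ ≫ x - a ≫ torι A _) (by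
    simp [Preadditive.sub_comp, fac])
  refine ⟨W₂, σ₂ ≫ σ₁, epi_comp _ _, σ₂ ≫ a ≫ torι A _, y, ?_, ?_⟩
  · dsimp at fac₂
    rw [comp_nsmul_id] at fac₂
    rw [← fac₂]
    simp [Preadditive.comp_sub]
  · rw [← Category.assoc]
    exact nsmul_comp_torι _ _

end core

section consequences

lemma Gen.pow {q e : ℕ} {A : 𝒜} (h : Gen q e A) (j : ℕ) ⦃W : 𝒜⦄ (x : W ⟶ A) :
    ∃ (W' : 𝒜) (σ : W' ⟶ W) (_ : Epi σ) (x' y : W' ⟶ A),
      σ ≫ x = x' + q ^ j • y ∧ q ^ e • x' = 0 := by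
  induction j generalizing W with
  | zero => exact ⟨W, 𝟙 W, inferInstance, 0, x, by simp, by simp⟩
  | succ j ih =>
    obtain ⟨W₁, σ₁, hσ₁, x₁, y₁, e₁, hx₁⟩ := ih x
    obtain ⟨W₂, σ₂, hσ₂, x₂, y₂, e₂, hx₂⟩ := h y₁
    refine ⟨W₂, σ₂ ≫ σ₁, epi_comp _ _, σ₂ ≫ x₁ + q ^ j • x₂, y₂, ?_, ?_⟩
    · rw [Category.assoc, e₁, Preadditive.comp_add, Preadditive.comp_nsmul, e₂, smul_add,
        ← mul_smul, ← pow_succ]
      abel
    · rw [smul_add, ← Preadditive.comp_nsmul, hx₁, comp_zero, zero_add, smul_comm, hx₂,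
        smul_zero]

lemma Gen.image_eq {q e : ℕ} {A : 𝒜} (h : Gen q e A) (n : ℕ) (hn : e ≤ n) :
    imageSubobject (q ^ n • 𝟙 A) = imageSubobject (q ^ e • 𝟙 A) := by
  obtain ⟨j, rfl⟩ := Nat.exists_eq_add_of_le hn
  apply le_antisymm
  · have : q ^ (e + j) • 𝟙 A = (q ^ j • 𝟙 A) ≫ (q ^ e • 𝟙 A) := by
      rw [comp_nsmul_id, ← mul_smul, ← pow_add]
    rw [this]
    exact imageSubobject_comp_le _ _
  · obtain ⟨W', σ, hσ, x', y, e₁, hx'⟩ := h.pow j (𝟙 A)
    rw [Category.comp_id] at e₁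
    exact imageSubobject_le_of_exists σ y (by
      rw [comp_nsmul_id, comp_nsmul_id, e₁, smul_add, hx', zero_add, ← mul_smul, ← pow_add])

lemma Gen.coker (hP : Setup P) {q e : ℕ} {A : 𝒜} (h : Gen q e A) (h₁ : P (tor A (q ^ e)))
    (h₂ : P (tor A (q ^ (e + 1)))) : P (cokernel (q • 𝟙 A)) := by
  let ν : tor A (q ^ (e + 1)) ⟶ tor A (q ^ e) := torMul A q _ _ (by rw [pow_succ])
  let ρ : tor A (q ^ e) ⟶ cokernel (q • 𝟙 A) := torι A _ ≫ cokernel.π _
  have hqπ : ∀ {W : 𝒜} (y : W ⟶ A), (q • y) ≫ cokernel.π (q • 𝟙 A) = 0 := by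
    intro W y
    have : q • y = y ≫ (q • 𝟙 A) := (comp_nsmul_id y q).symm
    rw [this, Category.assoc, cokernel.condition, comp_zero]
  have hρ : Epi ρ := by
    rw [epi_iff_surjective_up_to_refinements]
    intro W z
    obtain ⟨W₁, σ₁, hσ₁, x, fac⟩ :=
      surjective_up_to_refinements_of_epi (cokernel.π (q • 𝟙 A)) z
    obtain ⟨W₂, σ₂, hσ₂, x', y, e₁, hx'⟩ := h x
    refine ⟨W₂, σ₂ ≫ σ₁, epi_comp _ _, torLift x' _ hx', ?_⟩
    rw [Category.assoc, fac, ← Category.assoc, e₁, Preadditive.add_comp, hqπ, add_zero]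
    simp [ρ]
  have zero : ν ≫ ρ = 0 := by
    simp only [ν, ρ, torMul_ι_assoc]
    exact hqπ _
  have hex : (ShortComplex.mk ν ρ zero).Exact := by
    rw [ShortComplex.exact_iff_exact_up_to_refinements]
    intro W x₂ hx₂
    dsimp at x₂ hx₂ ⊢
    have hex' : (ShortComplex.mk (q • 𝟙 A) (cokernel.π _) (cokernel.condition _)).Exact :=
      ShortComplex.exact_cokernel _
    obtain ⟨W', σ, hσ, y, fac⟩ := hex'.exact_up_to_refinements (x₂ ≫ torι A _) (by
      simpa [ρ] using hx₂)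
    dsimp at fac
    rw [comp_nsmul_id] at fac
    have hy : q ^ (e + 1) • y = 0 := by
      rw [pow_succ, mul_smul, ← fac, ← Preadditive.comp_nsmul, ← Preadditive.comp_nsmul,
        torι_nsmul, comp_zero, comp_zero]
    refine ⟨W', σ, hσ, torLift y _ hy, ?_⟩
    rw [← cancel_mono (torι A (q ^ e))]
    simp [ν, fac, Preadditive.comp_nsmul]
  have : Epi (ShortComplex.mk ν ρ zero).g := hρ
  have e' := IsColimit.coconePointUniqueUpToIso (cokernelIsCokernel ν) hex.gIsCokernel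
  exact hP.of_iso e' (hP.coker ν h₂ h₁)

/-- torsion of a quotient -/
theorem tor_quotient (hP : Setup P) {q e : ℕ} (S : ShortComplex 𝒜) (hS : S.ShortExact)
    (h : Gen q e S.X₁)
    (h₁ : P (tor S.X₁ (q ^ e))) (h₁' : P (tor S.X₁ (q ^ (e + 1))))
    (h₂ : P (tor S.X₂ (q ^ e))) (h₂' : P (tor S.X₂ (q ^ (e + 1)))) :
    P (tor S.X₃ q) := by
  have := hS.mono_f
  have := hS.epi_g
  let ie : tor S.X₁ (q ^ e) ⟶ tor S.X₂ (q ^ e) := torMap S.f _
  let ν : tor S.X₂ (q ^ (e + 1)) ⟶ tor S.X₂ (q ^ e) := torMul S.X₂ q _ _ (by rw [pow_succ])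
  let τ : tor S.X₂ (q ^ (e + 1)) ⟶ cokernel ie := ν ≫ cokernel.π ie
  have hT : P (kernel τ) := hP.ker τ h₂' (hP.coker ie h₁ h₂)
  have hj : torMap S.f (q ^ (e + 1)) ≫ τ = 0 := by
    have : torMap S.f (q ^ (e + 1)) ≫ ν =
        torMul S.X₁ q (q ^ (e + 1)) (q ^ e) (by rw [pow_succ]) ≫ ie := by
      rw [← cancel_mono (torι S.X₂ (q ^ e))]
      simp [ν, ie, Preadditive.comp_nsmul, Preadditive.nsmul_comp]
    simp only [τ]
    rw [← Category.assoc, this, Category.assoc, cokernel.condition, comp_zero]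
  let j : tor S.X₁ (q ^ (e + 1)) ⟶ kernel τ := kernel.lift τ (torMap S.f _) hj
  let d : cokernel ie ⟶ S.X₃ := cokernel.desc ie (torι _ _ ≫ S.g) (by simp [ie])
  have hd : torι S.X₂ (q ^ e) ≫ S.g = cokernel.π ie ≫ d := (cokernel.π_desc _ _ _).symm
  have hr : q • (kernel.ι τ ≫ torι S.X₂ (q ^ (e + 1)) ≫ S.g) = 0 := by
    have : q • (kernel.ι τ ≫ torι S.X₂ (q ^ (e + 1)) ≫ S.g) = (kernel.ι τ ≫ τ) ≫ d := by
      simp only [τ, ν, Category.assoc, ← hd, torMul_ι_assoc]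
      simp [Preadditive.comp_nsmul, Preadditive.nsmul_comp]
    rw [this, kernel.condition, zero_comp]
  let r : kernel τ ⟶ tor S.X₃ q := torLift _ q hr
  have hrepi : Epi r := by
    rw [epi_iff_surjective_up_to_refinements]
    intro W x
    obtain ⟨W₁, σ₁, hσ₁, b, fac₁⟩ :=
      surjective_up_to_refinements_of_epi S.g (x ≫ torι S.X₃ q)
    have hb : (q • b) ≫ S.g = 0 := by
      rw [Preadditive.nsmul_comp, ← fac₁, ← Preadditive.comp_nsmul, ← Preadditive.comp_nsmul,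
        torι_nsmul, comp_zero, comp_zero]
    obtain ⟨W₂, σ₂, hσ₂, a', fac₂⟩ := hS.exact.exact_up_to_refinements (q • b) hb
    obtain ⟨W₃, σ₃, hσ₃, a₀, a₁, e₃, ha₀⟩ := h a'
    let b' : W₃ ⟶ S.X₂ := (σ₃ ≫ σ₂) ≫ b - a₁ ≫ S.f
    have hb' : q • b' = a₀ ≫ S.f := by
      simp only [b', smul_sub, ← Preadditive.comp_nsmul, Category.assoc, fac₂]
      rw [← Category.assoc, e₃, Preadditive.add_comp, Preadditive.nsmul_comp,
        Preadditive.comp_nsmul]
      abel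
    have hb'2 : q ^ (e + 1) • b' = 0 := by
      rw [pow_succ, mul_smul, hb', ← Preadditive.nsmul_comp, ha₀, zero_comp]
    have hτ : torLift b' _ hb'2 ≫ τ = 0 := by
      have : torLift b' _ hb'2 ≫ ν = torLift a₀ _ ha₀ ≫ ie := by
        rw [← cancel_mono (torι S.X₂ (q ^ e))]
        simp [ν, ie, Preadditive.comp_nsmul, hb']
      simp only [τ]
      rw [← Category.assoc, this, Category.assoc, cokernel.condition, comp_zero]
    refine ⟨W₃, (σ₃ ≫ σ₂) ≫ σ₁, inferInstance, kernel.lift τ _ hτ, ?_⟩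
    rw [← cancel_mono (torι S.X₃ q)]
    simp [r, b', Preadditive.sub_comp, fac₁]
  have zero : j ≫ r = 0 := by
    rw [← cancel_mono (torι S.X₃ q)]
    simp [j, r]
  have hex : (ShortComplex.mk j r zero).Exact := by
    rw [ShortComplex.exact_iff_exact_up_to_refinements]
    intro W t ht
    dsimp at t ht ⊢
    have hb : (t ≫ kernel.ι τ ≫ torι S.X₂ _) ≫ S.g = 0 := by
      have := ht =≫ torι S.X₃ q
      simpa [r] using this
    obtain ⟨W', σ, hσ, a', fac⟩ := hS.exact.exact_up_to_refinements _ hb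
    have ha' : q ^ (e + 1) • a' = 0 := by
      rw [← cancel_mono S.f, zero_comp, Preadditive.nsmul_comp, ← fac]
      simp only [← Preadditive.comp_nsmul, torι_nsmul, comp_zero]
    refine ⟨W', σ, hσ, torLift a' _ ha', ?_⟩
    rw [← cancel_mono (kernel.ι τ), ← cancel_mono (torι S.X₂ (q ^ (e + 1)))]
    simp [j, fac]
  have : Epi (ShortComplex.mk j r zero).g := hrepi
  have e' := IsColimit.coconePointUniqueUpToIso (cokernelIsCokernel j) hex.gIsCokernel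
  exact hP.of_iso e' (hP.coker j h₁' hT)

end consequences

section torsion

lemma nsmul_mod {G : Type*} [AddCommMonoid G] (x : G) {m : ℕ} (h0 : m • x = 0) (a : ℕ) :
    a • x = (a % m) • x := by
  conv_lhs => rw [← Nat.div_add_mod a m, add_smul, mul_comm, mul_smul, h0, smul_zero, zero_add]

lemma exists_pow_modEq (q m : ℕ) (hm : 0 < m) :
    ∃ k c : ℕ, q ^ k % m = (q ^ (k + 1) * c) % m := by
  obtain ⟨a, b, hab, h⟩ := Finite.exists_ne_map_eq_of_infinite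
    (fun k : ℕ => (⟨q ^ k % m, Nat.mod_lt _ hm⟩ : Fin m))
  simp only [Fin.mk.injEq] at h
  wlog hlt : a < b generalizing a b
  · exact this b a hab.symm h.symm (lt_of_le_of_ne (not_lt.1 hlt) hab.symm)
  refine ⟨a, q ^ (b - a - 1), ?_⟩
  rw [← pow_add, show a + 1 + (b - a - 1) = b by lia]
  exact h

theorem torsion_hyp (q : ℕ) {X : 𝒜} {m : ℕ} (hm : 0 < m) (h0 : m • 𝟙 X = 0) :
    ∃ k c : ℕ, q ^ k • 𝟙 X = (q ^ (k + 1) * c) • 𝟙 X := by
  obtain ⟨k, c, h⟩ := exists_pow_modEq q m hm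
  exact ⟨k, c, by rw [nsmul_mod _ h0, h, ← nsmul_mod _ h0]⟩

end torsion

section closure

noncomputable def torIso {A B : 𝒜} (e : A ≅ B) (m : ℕ) : tor A m ≅ tor B m :=
  kernel.mapIso _ _ e e (by simp [Preadditive.comp_nsmul, Preadditive.nsmul_comp])

lemma tor_kernel (hP : Setup P) {A B : 𝒜} (f : A ⟶ B) (m : ℕ) (hA : P (tor A m))
    (hB : P (tor B m)) : P (tor (kernel f) m) := by
  let φ : tor (kernel f) m ⟶ kernel (torMap f m) :=
    kernel.lift _ (torMap (kernel.ι f) m) (by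
      rw [← cancel_mono (torι B m)]; simp)
  have h1 : (kernel.ι (torMap f m) ≫ torι A m) ≫ f = 0 := by
    rw [Category.assoc, ← torMap_ι, kernel.condition_assoc, zero_comp]
  have h2 : m • kernel.lift f (kernel.ι (torMap f m) ≫ torι A m) h1 = 0 := by
    rw [← cancel_mono (kernel.ι f), Preadditive.nsmul_comp, kernel.lift_ι, zero_comp,
      ← Preadditive.comp_nsmul, torι_nsmul, comp_zero]
  let ψ : kernel (torMap f m) ⟶ tor (kernel f) m := torLift _ m h2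
  refine hP.of_iso ⟨ψ, φ, ?_, ?_⟩ (hP.ker _ hA hB)
  · rw [← cancel_mono (kernel.ι _), ← cancel_mono (torι A m)]
    simp [φ, ψ]
  · rw [← cancel_mono (torι (kernel f) m), ← cancel_mono (kernel.ι f)]
    simp [φ, ψ]

theorem tor_quotient' (hP : Setup P)
    (hT : ∀ (q : ℕ) X, P X → ∃ k c : ℕ, q ^ k • 𝟙 X = (q ^ (k + 1) * c) • 𝟙 X) {q : ℕ}
    (S : ShortComplex 𝒜) (hS : S.ShortExact)
    (h₁ : ∀ k, P (tor S.X₁ (q ^ k))) (h₂ : ∀ k, P (tor S.X₂ (q ^ k))) : P (tor S.X₃ q) := by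
  obtain ⟨e, he⟩ := exists_gen hP h₁ (hT q)
  exact tor_quotient hP S hS he (h₁ _) (h₁ _) (h₂ _) (h₂ _)

theorem tor_cokernel (hP : Setup P)
    (hT : ∀ (q : ℕ) X, P X → ∃ k c : ℕ, q ^ k • 𝟙 X = (q ^ (k + 1) * c) • 𝟙 X) {q : ℕ}
    {A B : 𝒜} (f : A ⟶ B) (hA : ∀ k, P (tor A (q ^ k))) (hB : ∀ k, P (tor B (q ^ k))) :
    P (tor (cokernel f) q) := by
  have hK : ∀ k, P (tor (kernel f) (q ^ k)) := fun k => tor_kernel hP f _ (hA k) (hB k)
  have hS₁ : (ShortComplex.mk (kernel.ι f) (cokernel.π (kernel.ι f))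
      (cokernel.condition _)).ShortExact :=
    ShortComplex.ShortExact.mk' (ShortComplex.exact_cokernel _) inferInstance inferInstance
  have hI : ∀ k, P (tor (Abelian.coimage f) (q ^ k)) := fun k =>
    tor_quotient' hP hT _ hS₁ (fun k' => by rw [← pow_mul]; exact hK _)
      (fun k' => by rw [← pow_mul]; exact hA _)
  have hI' : ∀ k, P (tor (Abelian.image f) (q ^ k)) := fun k =>
    hP.of_iso (torIso (Abelian.coimageIsoImage f) _) (hI k)
  have hS₂ : (ShortComplex.mk (kernel.ι (cokernel.π f)) (cokernel.π f)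
      (kernel.condition _)).ShortExact :=
    ShortComplex.ShortExact.mk' (ShortComplex.exact_kernel _) inferInstance inferInstance
  exact tor_quotient' hP hT _ hS₂ hI' hB

end closure

section mem

/-- `x` lies in the image of `f` -/
def Mem {X A : 𝒜} (f : X ⟶ A) {W : 𝒜} (x : W ⟶ A) : Prop := x ≫ cokernel.π f = 0

variable {X A : 𝒜} {f : X ⟶ A} {W : 𝒜}

lemma Mem.mk {x : W ⟶ A} {W' : 𝒜} (σ : W' ⟶ W) [Epi σ] (y : W' ⟶ X) (h : σ ≫ x = y ≫ f) :
    Mem f x := by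
  unfold Mem
  rw [← cancel_epi σ, ← Category.assoc, h, Category.assoc, cokernel.condition, comp_zero,
    comp_zero]

lemma Mem.exists {x : W ⟶ A} (h : Mem f x) :
    ∃ (W' : 𝒜) (σ : W' ⟶ W) (_ : Epi σ) (y : W' ⟶ X), σ ≫ x = y ≫ f :=
  (ShortComplex.exact_cokernel f).exact_up_to_refinements x h

lemma Mem.comp_self (y : W ⟶ X) : Mem f (y ≫ f) := by
  unfold Mem; rw [Category.assoc, cokernel.condition, comp_zero]

lemma Mem.zero : Mem f (0 : W ⟶ A) := by unfold Mem; rw [zero_comp]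

lemma Mem.add {x₁ x₂ : W ⟶ A} (h₁ : Mem f x₁) (h₂ : Mem f x₂) : Mem f (x₁ + x₂) := by
  unfold Mem at *; rw [Preadditive.add_comp, h₁, h₂, add_zero]

lemma Mem.sub {x₁ x₂ : W ⟶ A} (h₁ : Mem f x₁) (h₂ : Mem f x₂) : Mem f (x₁ - x₂) := by
  unfold Mem at *; rw [Preadditive.sub_comp, h₁, h₂, sub_zero]

lemma Mem.nsmul {x : W ⟶ A} (h : Mem f x) (n : ℕ) : Mem f (n • x) := by
  unfold Mem at *; rw [Preadditive.nsmul_comp, h, smul_zero]

lemma Mem.precomp {x : W ⟶ A} (h : Mem f x) {W₀ : 𝒜} (t : W₀ ⟶ W) : Mem f (t ≫ x) := by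
  unfold Mem at *; rw [Category.assoc, h, comp_zero]

lemma Mem.of_refine {x : W ⟶ A} {W' : 𝒜} (σ : W' ⟶ W) [Epi σ] (h : Mem f (σ ≫ x)) :
    Mem f x := by
  unfold Mem at *
  rw [← cancel_epi σ, comp_zero, ← Category.assoc]
  exact h

lemma Mem.trans {Y : 𝒜} {g : Y ⟶ A} (h₁ : Mem g f) {x : W ⟶ A} (h₂ : Mem f x) : Mem g x := by
  obtain ⟨W', σ, hσ, y, fac⟩ := h₂.exists
  apply Mem.of_refine σ
  rw [fac]
  exact h₁.precomp y

lemma Mem.lift [Mono f] {x : W ⟶ A} (h : Mem f x) : ∃ y : W ⟶ X, y ≫ f = x :=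
  ⟨(ShortComplex.exact_cokernel f).lift x h, (ShortComplex.exact_cokernel f).lift_f x h⟩

lemma mem_iff_le {Y : 𝒜} {g : Y ⟶ A} : Mem g f ↔ imageSubobject f ≤ imageSubobject g := by
  constructor
  · intro h
    obtain ⟨W', σ, hσ, y, fac⟩ := h.exists
    exact imageSubobject_le_of_exists σ y fac
  · intro h
    obtain ⟨W', σ, hσ, y, fac⟩ := exists_of_imageSubobject_le h (𝟙 X)
    rw [Category.id_comp] at fac
    exact Mem.mk σ y fac

lemma subobject_le_iff_mem {S T : Subobject A} : S ≤ T ↔ Mem T.arrow S.arrow := by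
  rw [mem_iff_le, imageSubobject_mono, imageSubobject_mono, Subobject.mk_arrow,
    Subobject.mk_arrow]

/-- membership in the image can be tested on `P`-objects -/
lemma Mem.of_test (hP : Setup P) {Y : 𝒜} {g : Y ⟶ A}
    (h : ∀ X₀, P X₀ → ∀ x₀ : X₀ ⟶ X, Mem g (x₀ ≫ f)) : Mem g f := by
  apply hP.sep
  intro X₀ hX₀ x₀
  have := h X₀ hX₀ x₀
  unfold Mem at this
  rwa [Category.assoc] at this

end mem

end Groth.Agent.Lib.Helper62.IndCofAbs
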