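import Groth.Agent.Lib.Helper62.IndCofAbs

/-!
# Descending chain condition for cofinite-type subobjects (abstract form, helper62)
-/

namespace Groth.Agent.Lib.Helper62.IndCofAbs

open CategoryTheory CategoryTheory.Limits

universe v u

variable {𝒜 : Type u} [Category.{v} 𝒜] [Abelian 𝒜] {P : ObjectProperty 𝒜}

lemma Mem.self {X A : 𝒜} {f : X ⟶ A} : Mem f f := cokernel.condition f

section chain

variable (p : ℕ) {A : 𝒜} (S : ℕ → Subobject A) (e : ℕ → ℕ)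

/-- `p^{e m} S_m → A` -/
noncomputable def δ (m : ℕ) : ((S m : Subobject A) : 𝒜) ⟶ A :=
  (p ^ e m • 𝟙 _) ≫ (S m).arrow

lemma comp_δ {m : ℕ} {W : 𝒜} (s : W ⟶ ((S m : Subobject A) : 𝒜)) :
    s ≫ δ p S e m = p ^ e m • (s ≫ (S m).arrow) := by
  simp [δ, Preadditive.comp_nsmul, Preadditive.nsmul_comp]

lemma mem_arrow_of_mem_δ {m : ℕ} {W : 𝒜} {x : W ⟶ A} (h : Mem (δ p S e m) x) :
    Mem (S m).arrow x :=
  Mem.trans (Mem.comp_self (p ^ e m • 𝟙 _)) h

variable (hS : Antitone S) (he : ∀ m, Gen p (e m) ((S m : Subobject A) : 𝒜))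

include he in
lemma δ_div (m : ℕ) {W : 𝒜} {x : W ⟶ A} (h : Mem (δ p S e m) x) :
    ∃ (W' : 𝒜) (σ : W' ⟶ W) (_ : Epi σ) (x' : W' ⟶ A),
      Mem (δ p S e m) x' ∧ σ ≫ x = p • x' := by
  obtain ⟨W₁, σ₁, hσ₁, y, fac₁⟩ := h.exists
  obtain ⟨W₂, σ₂, hσ₂, y', y'', e₂, hy'⟩ := he m y
  refine ⟨W₂, σ₂ ≫ σ₁, epi_comp _ _, y'' ≫ δ p S e m, Mem.comp_self _, ?_⟩
  rw [Category.assoc, fac₁, ← Category.assoc, e₂, Preadditive.add_comp, comp_δ,
    ← Preadditive.nsmul_comp, hy', zero_comp, zero_add, Preadditive.nsmul_comp]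

include he in
lemma δ_div_pow (m j : ℕ) {W : 𝒜} {x : W ⟶ A} (h : Mem (δ p S e m) x) :
    ∃ (W' : 𝒜) (σ : W' ⟶ W) (_ : Epi σ) (x' : W' ⟶ A),
      Mem (δ p S e m) x' ∧ σ ≫ x = p ^ j • x' := by
  induction j with
  | zero => exact ⟨W, 𝟙 W, inferInstance, x, h, by simp⟩
  | succ j ih =>
    obtain ⟨W₁, σ₁, hσ₁, x₁, hx₁, e₁⟩ := ih
    obtain ⟨W₂, σ₂, hσ₂, x₂, hx₂, e₂⟩ := δ_div p S e he m hx₁
    refine ⟨W₂, σ₂ ≫ σ₁, epi_comp _ _, x₂, hx₂, ?_⟩
    rw [Category.assoc, e₁, Preadditive.comp_nsmul, e₂, ← mul_smul, ← pow_succ]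

include hS he in
lemma δ_mono {m m' : ℕ} (hmm : m ≤ m') {W : 𝒜} {x : W ⟶ A} (h : Mem (δ p S e m') x) :
    Mem (δ p S e m) x := by
  obtain ⟨W₁, σ₁, hσ₁, x', hx', e₁⟩ := δ_div_pow p S e he m' (e m) h
  have h2 : Mem (S m).arrow x' :=
    Mem.trans (subobject_le_iff_mem.1 (hS hmm)) (mem_arrow_of_mem_δ p S e hx')
  obtain ⟨s, hs⟩ := h2.lift
  apply Mem.of_refine σ₁
  rw [e₁, ← hs, ← comp_δ]
  exact Mem.comp_self _

/-- `p^{e m} : S_m[p^{e m + 1}] → A[p]` -/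
noncomputable def κ (m : ℕ) : tor ((S m : Subobject A) : 𝒜) (p ^ (e m + 1)) ⟶ tor A (p ^ 1) :=
  torMul _ (p ^ e m) _ _ (by rw [← pow_add, add_comm]) ≫ torMap (S m).arrow (p ^ 1)

lemma κ_ι (m : ℕ) :
    κ p S e m ≫ torι A (p ^ 1) = p ^ e m • (torι _ _ ≫ (S m).arrow) := by
  simp [κ, Preadditive.nsmul_comp]

lemma mem_κ_iff (m : ℕ) {W : 𝒜} (z : W ⟶ A) (hz : p ^ 1 • z = 0) :
    Mem (κ p S e m) (torLift z _ hz) ↔ Mem (δ p S e m) z := by
  constructor
  · intro h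
    obtain ⟨W', σ, hσ, s, fac⟩ := h.exists
    have := fac =≫ torι A (p ^ 1)
    simp only [Category.assoc, torLift_ι, κ_ι] at this
    exact Mem.mk σ (s ≫ torι _ _) (by
      rw [this, comp_δ, Category.assoc, Preadditive.comp_nsmul])
  · intro h
    obtain ⟨W', σ, hσ, s, fac⟩ := h.exists
    rw [comp_δ] at fac
    have hz' : p • z = 0 := by rwa [pow_one] at hz
    have hs : p ^ (e m + 1) • s = 0 := by
      rw [← cancel_mono (S m).arrow, zero_comp, Preadditive.nsmul_comp, pow_succ, mul_comm,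
        mul_smul, ← fac, ← Preadditive.comp_nsmul, hz', comp_zero]
    refine Mem.mk σ (torLift s _ hs) ?_
    rw [← cancel_mono (torι A (p ^ 1))]
    simp only [Category.assoc, torLift_ι, κ_ι, torLift_ι_assoc, Preadditive.comp_nsmul]
    exact fac

end chain

theorem chain_stab (hP : Setup P) (p : ℕ) (hTp : ∀ X, P X → ∃ k, p ^ k • 𝟙 X = 0) {A : 𝒜}
    (hA : ∀ n, P (tor A (p ^ n))) (S : ℕ → Subobject A) (hS : Antitone S)
    (hSP : ∀ m n, P (tor ((S m : Subobject A) : 𝒜) (p ^ n))) :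
    ∃ N, ∀ m, N ≤ m → S m = S N := by
  have hT : ∀ X, P X → ∃ k c : ℕ, p ^ k • 𝟙 X = (p ^ (k + 1) * c) • 𝟙 X := fun X hX => by
    obtain ⟨k, hk⟩ := hTp X hX
    exact ⟨k, 0, by rw [hk]; simp⟩
  have hgen : ∀ m, ∃ e, Gen p e ((S m : Subobject A) : 𝒜) := fun m =>
    exists_gen hP (hSP m) hT
  choose e he using hgen
  -- the chain of `p`-torsion of the divisible parts
  obtain ⟨m₁, hm₁⟩ := hP.art (tor A (p ^ 1)) (hA 1) (fun m => imageSubobject (κ p S e m))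
    (fun m m' hmm => by
      show imageSubobject (κ p S e m') ≤ imageSubobject (κ p S e m)
      rw [← mem_iff_le]
      have hz : p ^ 1 • (κ p S e m' ≫ torι A (p ^ 1)) = 0 := nsmul_comp_torι _ _
      have h0 : torLift (κ p S e m' ≫ torι A (p ^ 1)) (p ^ 1) hz = κ p S e m' := by
        rw [← cancel_mono (torι A (p ^ 1)), torLift_ι]
      have h1 : Mem (κ p S e m') (torLift (κ p S e m' ≫ torι A (p ^ 1)) (p ^ 1) hz) := by
        rw [h0]; exact Mem.self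
      have h4 := (mem_κ_iff p S e m _ hz).2
        (δ_mono p S e hS he hmm ((mem_κ_iff p S e m' _ hz).1 h1))
      rwa [h0] at h4)
    (fun m => hP.image _ (hSP m _) (hA 1))
  have F6 : ∀ m, m₁ ≤ m → ∀ {W : 𝒜} {x : W ⟶ A},
      Mem (δ p S e m₁) x → Mem (δ p S e m) x := by
    intro m hm
    have IH : ∀ k : ℕ, ∀ {W : 𝒜} (x : W ⟶ A),
        Mem (δ p S e m₁) x → p ^ k • x = 0 → Mem (δ p S e m) x := by
      intro k
      induction k with
      | zero =>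
        intro W x _ hx
        rw [pow_zero, one_smul] at hx
        rw [hx]
        exact Mem.zero
      | succ k ih =>
        intro W x hx hpx
        have h1 : Mem (δ p S e m) (p • x) :=
          ih _ (hx.nsmul p) (by rw [← mul_smul, ← pow_succ]; exact hpx)
        obtain ⟨W', σ, hσ, x', hx', e₁⟩ := δ_div p S e he m h1
        have hz : p ^ 1 • (σ ≫ x - x') = 0 := by
          rw [pow_one, smul_sub, ← Preadditive.comp_nsmul, e₁, sub_self]
        have hz1 : Mem (δ p S e m₁) (σ ≫ x - x') :=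
          (hx.precomp σ).sub (δ_mono p S e hS he hm hx')
        have hz2 := (mem_κ_iff p S e m₁ _ hz).2 hz1
        have hz3 : Mem (κ p S e m) (torLift _ _ hz) :=
          Mem.trans (mem_iff_le.2 (hm₁ m hm).ge) hz2
        have hz4 := (mem_κ_iff p S e m _ hz).1 hz3
        apply Mem.of_refine σ
        have : σ ≫ x = (σ ≫ x - x') + x' := by abel
        rw [this]
        exact hz4.add hx'
    intro W x hx
    refine Mem.trans (Mem.of_test hP ?_) hx
    intro X₀ hX₀ x₀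
    obtain ⟨k, hk⟩ := hTp X₀ hX₀
    exact IH k _ (Mem.comp_self _) (by rw [← nsmul_id_comp, hk, zero_comp])
  have F7 : ∀ m, m₁ ≤ m → ∀ {W : 𝒜} {x : W ⟶ A}, Mem (S m).arrow x →
      ∃ (W' : 𝒜) (σ : W' ⟶ W) (_ : Epi σ) (x' d : W' ⟶ A), σ ≫ x = x' + d ∧
        Mem (S m).arrow x' ∧ p ^ e m₁ • x' = 0 ∧ Mem (δ p S e m) d := by
    intro m hm W x hx
    have h1 : Mem (S m₁).arrow x := Mem.trans (subobject_le_iff_mem.1 (hS hm)) hx
    obtain ⟨s, hs⟩ := h1.lift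
    have h2 : Mem (δ p S e m₁) (p ^ e m₁ • x) := by
      rw [← hs, ← comp_δ]
      exact Mem.comp_self _
    have h3 := F6 m hm h2
    obtain ⟨W', σ, hσ, d, hd, e₂⟩ := δ_div_pow p S e he m (e m₁) h3
    refine ⟨W', σ, hσ, σ ≫ x - d, d, by abel,
      (hx.precomp σ).sub (mem_arrow_of_mem_δ p S e hd), ?_, hd⟩
    rw [smul_sub, ← Preadditive.comp_nsmul, e₂, sub_self]
  obtain ⟨m₂, hm₂⟩ := hP.art (tor A (p ^ e m₁)) (hA (e m₁))
    (fun m => imageSubobject (torMap (S m).arrow (p ^ e m₁)))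
    (fun m m' hmm => by
      have : torMap (S m').arrow (p ^ e m₁) =
          torMap (Subobject.ofLE _ _ (hS hmm)) (p ^ e m₁) ≫ torMap (S m).arrow (p ^ e m₁) := by
        rw [← cancel_mono (torι A (p ^ e m₁))]
        simp
      show imageSubobject _ ≤ imageSubobject _
      rw [this]
      exact imageSubobject_comp_le _ _)
    (fun m => hP.image _ (hSP m _) (hA (e m₁)))
  refine ⟨max m₁ m₂, fun m hm => le_antisymm (hS hm) ?_⟩
  rw [subobject_le_iff_mem]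
  obtain ⟨W', σ, hσ, x', d, e₃, hx', hpx', hd⟩ :=
    F7 (max m₁ m₂) (le_max_left _ _) (Mem.self : Mem (S (max m₁ m₂)).arrow _)
  apply Mem.of_refine σ
  rw [e₃]
  refine Mem.add ?_ (mem_arrow_of_mem_δ p S e
    (F6 m (le_trans (le_max_left _ _) hm) (δ_mono p S e hS he (le_max_left _ _) hd)))
  obtain ⟨s, hs⟩ := hx'.lift
  have hsN : p ^ e m₁ • s = 0 := by
    rw [← cancel_mono (S (max m₁ m₂)).arrow, zero_comp, Preadditive.nsmul_comp, hs, hpx']
  have h1 : Mem (torMap (S (max m₁ m₂)).arrow (p ^ e m₁)) (torLift x' _ hpx') := by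
    have : torLift x' _ hpx' = torLift s _ hsN ≫ torMap (S (max m₁ m₂)).arrow (p ^ e m₁) := by
      rw [← cancel_mono (torι A (p ^ e m₁))]
      simp [hs]
    rw [this]
    exact Mem.comp_self _
  have h2 : Mem (torMap (S m).arrow (p ^ e m₁)) (torLift x' _ hpx') := by
    refine Mem.trans (mem_iff_le.2 ?_) h1
    rw [hm₂ _ (le_max_right m₁ m₂), hm₂ m (le_trans (le_max_right _ _) hm)]
  obtain ⟨W'', σ', hσ', t, fac⟩ := h2.exists
  have := fac =≫ torι A (p ^ e m₁)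
  simp only [Category.assoc, torLift_ι, torMap_ι] at this
  exact Mem.mk σ' (t ≫ torι _ _) (by rw [this, Category.assoc])

end Groth.Agent.Lib.Helper62.IndCofAbs
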