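import Groth.Agent.Lib.Helper62.IndCofAbs

/-!
# Divisible parts (abstract form, helper62)
-/

namespace Groth.Agent.Lib.Helper62.IndCofAbs

open CategoryTheory CategoryTheory.Limits

universe v u

variable {𝒜 : Type u} [Category.{v} 𝒜] [Abelian 𝒜] {P : ObjectProperty 𝒜}

lemma tor_image (hP : Setup P) (A : 𝒜) (a m : ℕ) (h₁ : P (tor A (m * a))) (h₂ : P (tor A m)) :
    P (tor ((imageSubobject (a • 𝟙 A) : Subobject A) : 𝒜) m) := by
  have hfac : factorThruImageSubobject (a • 𝟙 A) ≫ (imageSubobject (a • 𝟙 A)).arrow =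
      a • 𝟙 A := imageSubobject_arrow_comp _
  let lam : tor A (m * a) ⟶ tor A m := torMul A a _ _ (dvd_refl _)
  have he0 : m • (torι A (m * a) ≫ factorThruImageSubobject (a • 𝟙 A)) = 0 := by
    rw [← cancel_mono (imageSubobject (a • 𝟙 A)).arrow, zero_comp, Preadditive.nsmul_comp,
      Category.assoc, hfac, comp_nsmul_id, ← mul_smul, torι_nsmul]
  let ee : tor A (m * a) ⟶ tor ((imageSubobject (a • 𝟙 A) : Subobject A) : 𝒜) m :=
    torLift _ m he0
  let mm : tor ((imageSubobject (a • 𝟙 A) : Subobject A) : 𝒜) m ⟶ tor A m :=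
    torMap (imageSubobject (a • 𝟙 A)).arrow m
  have hmm : Mono mm := mono_of_mono_fac (torMap_ι (imageSubobject (a • 𝟙 A)).arrow m)
  have comm : ee ≫ mm = lam := by
    rw [← cancel_mono (torι A m), Category.assoc, torMap_ι, torLift_ι_assoc, Category.assoc,
      hfac, comp_nsmul_id, torMul_ι]
  have hee : Epi ee := by
    rw [epi_iff_surjective_up_to_refinements]
    intro W x
    obtain ⟨W', σ, hσ, y, fac'⟩ := surjective_up_to_refinements_of_epi
      (factorThruImageSubobject (a • 𝟙 A)) (x ≫ torι _ m)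
    have hy : (m * a) • y = 0 := by
      have h1 : a • y = σ ≫ x ≫ torι _ m ≫ (imageSubobject (a • 𝟙 A)).arrow := by
        have := fac' =≫ (imageSubobject (a • 𝟙 A)).arrow
        simp only [Category.assoc, hfac] at this
        rw [this, comp_nsmul_id]
      rw [mul_smul, h1, ← Preadditive.comp_nsmul, ← Preadditive.comp_nsmul,
        ← Preadditive.nsmul_comp, torι_nsmul, zero_comp, comp_zero, comp_zero]
    refine ⟨W', σ, hσ, torLift y _ hy, ?_⟩
    rw [← cancel_mono (torι _ m)]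
    simp [ee, fac']
  have : StrongEpi ee := strongEpi_of_epi ee
  exact hP.of_iso (imageSubobjectIso lam ≪≫ (image.isoStrongEpiMono ee mm comm).symm)
    (hP.image lam h₁ h₂)

lemma epi_nsmul_image (A : 𝒜) (a b : ℕ)
    (h : imageSubobject (a • 𝟙 A) ≤ imageSubobject ((a * b) • 𝟙 A)) :
    Epi (b • 𝟙 ((imageSubobject (a • 𝟙 A) : Subobject A) : 𝒜)) := by
  have hfac : factorThruImageSubobject (a • 𝟙 A) ≫ (imageSubobject (a • 𝟙 A)).arrow =
      a • 𝟙 A := imageSubobject_arrow_comp _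
  rw [epi_iff_surjective_up_to_refinements]
  intro W x
  obtain ⟨W₁, σ₁, hσ₁, y, fac₁⟩ := surjective_up_to_refinements_of_epi
    (factorThruImageSubobject (a • 𝟙 A)) x
  obtain ⟨W₂, σ₂, hσ₂, z, fac₂⟩ := exists_of_imageSubobject_le h y
  refine ⟨W₂, σ₂ ≫ σ₁, epi_comp _ _, z ≫ factorThruImageSubobject (a • 𝟙 A), ?_⟩
  have hL : σ₂ ≫ σ₁ ≫ x ≫ (imageSubobject (a • 𝟙 A)).arrow = (a * b) • z := by
    rw [reassoc_of% fac₁, hfac, fac₂, comp_nsmul_id]
  have hR : z ≫ factorThruImageSubobject (a • 𝟙 A) ≫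
      (b • 𝟙 ((imageSubobject (a • 𝟙 A) : Subobject A) : 𝒜)) ≫
        (imageSubobject (a • 𝟙 A)).arrow = (a * b) • z := by
    rw [nsmul_id_comp, Preadditive.comp_nsmul, hfac, ← mul_smul, comp_nsmul_id, mul_comm]
  rw [← cancel_mono (imageSubobject (a • 𝟙 A)).arrow]
  simp only [Category.assoc]
  rw [hL, hR]

lemma le_image_of_epi_nsmul {A : 𝒜} (D' : Subobject A) (a : ℕ)
    (h : Epi (a • 𝟙 ((D' : Subobject A) : 𝒜))) : D' ≤ imageSubobject (a • 𝟙 A) := by
  calc D' = imageSubobject D'.arrow := by rw [imageSubobject_mono, Subobject.mk_arrow]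
    _ ≤ imageSubobject (a • 𝟙 A) :=
      imageSubobject_le_of_exists (a • 𝟙 ((D' : Subobject A) : 𝒜)) D'.arrow (by
        rw [nsmul_id_comp, comp_nsmul_id])

lemma epi_pow_nsmul {X : 𝒜} {p : ℕ} (h : Epi (p • 𝟙 X)) (N : ℕ) : Epi (p ^ N • 𝟙 X) := by
  induction N with
  | zero => rw [pow_zero, one_smul]; infer_instance
  | succ N ih =>
    have : p ^ (N + 1) • 𝟙 X = (p ^ N • 𝟙 X) ≫ (p • 𝟙 X) := by
      rw [comp_nsmul_id, ← mul_smul, ← pow_succ']
    rw [this]
    exact epi_comp _ _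

lemma epi_mul_nsmul {X : 𝒜} {a b : ℕ} (ha : Epi (a • 𝟙 X)) (hb : Epi (b • 𝟙 X)) :
    Epi ((a * b) • 𝟙 X) := by
  have : (a * b) • 𝟙 X = (b • 𝟙 X) ≫ (a • 𝟙 X) := by
    rw [comp_nsmul_id, ← mul_smul]
  rw [this]
  exact epi_comp _ _

lemma image_comp_eq_zero {A Q : 𝒜} (q : A ⟶ Q) (a : ℕ) (h : a • 𝟙 Q = 0) :
    (imageSubobject (a • 𝟙 A)).arrow ≫ q = 0 := by
  rw [← cancel_epi (factorThruImageSubobject (a • 𝟙 A)), comp_zero, ← Category.assoc,
    imageSubobject_arrow_comp, nsmul_id_comp, ← comp_nsmul_id, h, comp_zero]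

end Groth.Agent.Lib.Helper62.IndCofAbs
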