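import Mathlib.CategoryTheory.Abelian.Indization
import Mathlib.CategoryTheory.Generator.Indization
import Mathlib.CategoryTheory.Subobject.ArtinianObject
import Mathlib.CategoryTheory.Preadditive.AdditiveFunctor
import Groth.Agent.Lib.Helper62.IndCofAbs

/-!
# The abstract cofinite-type setup holds for `Ind C` (helper62)
-/

namespace Groth.Agent.Lib.Helper62.IndCofInd

open CategoryTheory CategoryTheory.Limits
open Groth.Agent.Lib.Helper62.IndCofAbs

universe v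

variable {C : Type v} [SmallCategory C] [Abelian C]

/-- the property "isomorphic to an object of `C`" -/
abbrev PInd : ObjectProperty (Ind C) := (Ind.yoneda (C := C)).essImage

instance yonedaAdditive : (Ind.yoneda (C := C)).Additive :=
  Functor.additive_of_preserves_binary_products _

lemma pInd_ker {X Y : Ind C} (f : X ⟶ Y) (hX : PInd X) (hY : PInd Y) : PInd (kernel f) := by
  obtain ⟨X₀, ⟨eX⟩⟩ := hX
  obtain ⟨Y₀, ⟨eY⟩⟩ := hY
  obtain ⟨g, hg⟩ := (Ind.yoneda (C := C)).map_surjective (eX.hom ≫ f ≫ eY.inv)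
  exact ⟨kernel g, ⟨PreservesKernel.iso _ g ≪≫ kernel.mapIso _ _ eX eY (by rw [hg]; simp)⟩⟩

lemma pInd_coker {X Y : Ind C} (f : X ⟶ Y) (hX : PInd X) (hY : PInd Y) :
    PInd (cokernel f) := by
  obtain ⟨X₀, ⟨eX⟩⟩ := hX
  obtain ⟨Y₀, ⟨eY⟩⟩ := hY
  obtain ⟨g, hg⟩ := (Ind.yoneda (C := C)).map_surjective (eX.hom ≫ f ≫ eY.inv)
  exact ⟨cokernel g,
    ⟨PreservesCokernel.iso _ g ≪≫ cokernel.mapIso _ _ eX eY (by rw [hg]; simp)⟩⟩

lemma pInd_sep {A Z : Ind C} (g : A ⟶ Z) (h : ∀ X, PInd X → ∀ x : X ⟶ A, x ≫ g = 0) :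
    g = 0 := by
  apply Ind.isSeparating_range_yoneda g 0
  intro G hG x
  obtain ⟨X₀⟩ := hG
  rw [comp_zero]
  exact h _ (Functor.obj_mem_essImage _ _) x

lemma pInd_art (hart : ∀ X : C, IsArtinianObject X) (Y : Ind C) (hY : PInd Y)
    (S : ℕ → Subobject Y) (hS : Antitone S) (hPS : ∀ k, PInd ((S k : Subobject Y) : Ind C)) :
    ∃ k₀, ∀ k, k₀ ≤ k → S k = S k₀ := by
  obtain ⟨Y₀, ⟨eY⟩⟩ := hY
  choose Z eZ using hPS
  have eZ' := fun k => (eZ k).some
  have hm : ∀ k, ∃ m : Z k ⟶ Y₀,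
      (Ind.yoneda (C := C)).map m = (eZ' k).hom ≫ (S k).arrow ≫ eY.inv :=
    fun k => (Ind.yoneda (C := C)).map_surjective _
  choose m hm using hm
  have hmono : ∀ k, Mono (m k) := fun k => by
    have : Mono ((Ind.yoneda (C := C)).map (m k)) := by rw [hm]; infer_instance
    exact Functor.mono_of_mono_map (Ind.yoneda (C := C)) this
  let T : ℕ → Subobject Y₀ := fun k => Subobject.mk (m k)
  have hT : Antitone T := by
    apply antitone_nat_of_succ_le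
    intro k
    have hle := hS (Nat.le_succ k)
    obtain ⟨t, ht⟩ := (Ind.yoneda (C := C)).map_surjective
      ((eZ' (k + 1)).hom ≫ Subobject.ofLE _ _ hle ≫ (eZ' k).inv)
    refine Subobject.mk_le_mk_of_comm t ?_
    apply (Ind.yoneda (C := C)).map_injective
    rw [Functor.map_comp, ht, hm, hm]
    simp
  have := hart Y₀
  obtain ⟨k₀, hk₀⟩ := antitone_chain_condition_of_isArtinianObject
    ⟨fun k => OrderDual.toDual (T k), fun a b hab => hT hab⟩
  refine ⟨k₀, fun k hk => ?_⟩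
  have h1 : T k₀ = T k := congrArg OrderDual.ofDual (hk₀ k hk)
  apply le_antisymm (hS hk)
  have hle : Subobject.mk (m k₀) ≤ Subobject.mk (m k) := h1.le
  let t := Subobject.ofMkLEMk _ _ hle
  have ht : t ≫ m k = m k₀ := Subobject.ofMkLEMk_comp hle
  refine Subobject.le_of_comm ((eZ' k₀).inv ≫ (Ind.yoneda (C := C)).map t ≫ (eZ' k).hom) ?_
  have h2 : (eZ' k).hom ≫ (S k).arrow = (Ind.yoneda (C := C)).map (m k) ≫ eY.hom := by
    rw [hm]; simp
  have h3 : (eZ' k₀).hom ≫ (S k₀).arrow = (Ind.yoneda (C := C)).map (m k₀) ≫ eY.hom := by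
    rw [hm]; simp
  rw [Category.assoc, Category.assoc, h2, ← Functor.map_comp_assoc, ht, ← h3]
  simp

theorem setup (hart : ∀ X : C, IsArtinianObject X) : Setup (PInd (C := C)) where
  of_iso e h := Functor.essImage.ofIso e h
  ker := pInd_ker
  coker := pInd_coker
  art := pInd_art hart
  sep := pInd_sep

lemma nsmul_id_eq_zero_of_iso {X₀ : C} {X : Ind C} (e : (Ind.yoneda (C := C)).obj X₀ ≅ X)
    (m : ℕ) (h0 : m • 𝟙 X₀ = 0) : m • 𝟙 X = 0 := by
  have : m • 𝟙 ((Ind.yoneda (C := C)).obj X₀) = 0 := by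
    rw [← CategoryTheory.Functor.map_id, ← Functor.map_nsmul, h0, Functor.map_zero]
  rw [← cancel_epi e.hom, comp_zero, comp_nsmul_id, ← nsmul_id_comp, this, zero_comp]

lemma pInd_kill_pow {p : ℕ} (htor : ∀ X : C, ∃ n : ℕ, (p ^ n) • 𝟙 X = 0) {X : Ind C}
    (hX : PInd X) : ∃ k : ℕ, p ^ k • 𝟙 X = 0 := by
  obtain ⟨X₀, ⟨e⟩⟩ := hX
  obtain ⟨k, hk⟩ := htor X₀
  exact ⟨k, nsmul_id_eq_zero_of_iso e _ hk⟩

lemma pInd_kill (hkill : ∀ X : C, ∃ m : ℕ, 0 < m ∧ m • 𝟙 X = 0) {X : Ind C} (hX : PInd X) :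
    ∃ m : ℕ, 0 < m ∧ m • 𝟙 X = 0 := by
  obtain ⟨X₀, ⟨e⟩⟩ := hX
  obtain ⟨m, hm, h0⟩ := hkill X₀
  refine ⟨m, hm, ?_⟩
  have : m • 𝟙 ((Ind.yoneda (C := C)).obj X₀) = 0 := by
    rw [← CategoryTheory.Functor.map_id, ← Functor.map_nsmul, h0, Functor.map_zero]
  rw [← cancel_epi e.hom, comp_zero, comp_nsmul_id, ← nsmul_id_comp, this, zero_comp]

end Groth.Agent.Lib.Helper62.IndCofInd
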