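import Groth.Agent.Lib.Helper62.IndCofDiv
import Mathlib.Data.Nat.Factorization.Induction
import Mathlib.RingTheory.Coprime.Lemmas

/-!
# Divisibility lemmas for the Mittag-Leffler row (abstract form, helper62)
-/

namespace Groth.Agent.Lib.Helper62.IndCofAbs

open CategoryTheory CategoryTheory.Limits

universe v u

variable {𝒜 : Type u} [Category.{v} 𝒜] [Abelian 𝒜] {P : ObjectProperty 𝒜}

noncomputable def cokerImageIso {X Y : 𝒜} (f : X ⟶ Y) :
    cokernel f ≅ cokernel (imageSubobject f).arrow :=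
  cokernelIsoOfEq (imageSubobject_arrow_comp f).symm ≪≫
    cokernelEpiComp (factorThruImageSubobject f) (imageSubobject f).arrow

lemma epi_of_coprime {A : 𝒜} (B' : Subobject A) (p M : ℕ) (hcop : Nat.Coprime p M)
    (hdiv : Epi (p • 𝟙 ((B' : Subobject A) : 𝒜))) (hM0 : M • 𝟙 (cokernel B'.arrow) = 0) :
    Epi (p • 𝟙 A) := by
  rw [epi_iff_surjective_up_to_refinements]
  intro W x
  have hmem : Mem B'.arrow (M • x) := by
    unfold Mem
    rw [Preadditive.nsmul_comp, ← comp_nsmul_id, Category.assoc, hM0, comp_zero, comp_zero]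
  obtain ⟨y, hy⟩ := hmem.lift
  obtain ⟨W', σ, hσ, y', fac⟩ :=
    surjective_up_to_refinements_of_epi (p • 𝟙 ((B' : Subobject A) : 𝒜)) y
  rw [comp_nsmul_id] at fac
  obtain ⟨a, b, hab⟩ := Nat.isCoprime_iff_coprime.2 hcop
  refine ⟨W', σ, hσ, a • (σ ≫ x) + b • (y' ≫ B'.arrow), ?_⟩
  have h1 : (M : ℤ) • (σ ≫ x) = (p : ℤ) • (y' ≫ B'.arrow) := by
    rw [natCast_zsmul, natCast_zsmul, ← Preadditive.comp_nsmul, ← hy, ← Category.assoc, fac,
      Preadditive.nsmul_comp]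
  have h2 : (p : ℤ) • (a • (σ ≫ x) + b • (y' ≫ B'.arrow)) = (a * p + b * M) • (σ ≫ x) := by
    rw [smul_add, smul_comm (p : ℤ) b (y' ≫ B'.arrow), ← h1, ← mul_smul, ← mul_smul, ← add_smul,
      mul_comm (p : ℤ) a]
  rw [comp_nsmul_id, ← natCast_zsmul, h2, hab, one_smul]

lemma divisible_of_finite (A : 𝒜) (q e : ℕ) (he : Gen q e A)
    (hq : ∀ r : ℕ, r.Prime → ¬ Epi (r • 𝟙 A) → r ∣ q) (k : ℕ) (hk : 0 < k) :
    Epi (k • 𝟙 ((imageSubobject (q ^ e • 𝟙 A) : Subobject A) : 𝒜)) := by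
  induction k using Nat.recOnMul with
  | zero => exact absurd hk (lt_irrefl 0)
  | one => rw [one_smul]; infer_instance
  | prime r hr =>
    apply epi_nsmul_image
    by_cases hE : Epi (r • 𝟙 A)
    · have : (q ^ e * r) • 𝟙 A = (r • 𝟙 A) ≫ (q ^ e • 𝟙 A) := by
        rw [comp_nsmul_id, ← mul_smul]
      rw [this, imageSubobject_epi_comp]
    · obtain ⟨q'', hq''⟩ := hq r hr hE
      rw [← he.image_eq (e + 1) (by lia)]
      have : q ^ (e + 1) • 𝟙 A = (q'' • 𝟙 A) ≫ ((q ^ e * r) • 𝟙 A) := by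
        rw [comp_nsmul_id, ← mul_smul, pow_succ, mul_assoc, ← hq'']
      rw [this]
      exact imageSubobject_comp_le _ _
  | mul a b iha ihb =>
    have ha : 0 < a := Nat.pos_of_ne_zero (fun h => by simp [h] at hk)
    have hb : 0 < b := Nat.pos_of_ne_zero (fun h => by simp [h] at hk)
    exact epi_mul_nsmul (iha ha) (ihb hb)

end Groth.Agent.Lib.Helper62.IndCofAbs
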