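import Groth.Agent.Lib.Helper62.IndCofML
import Groth.Agent.Lib.Helper62.IndCofChain
import Mathlib.CategoryTheory.Limits.Shapes.Products

/-!
# The largest divisible subobject of a cofinite-type object (abstract form, helper62)
-/

namespace Groth.Agent.Lib.Helper62.IndCofAbs

open CategoryTheory CategoryTheory.Limits

universe v u

variable {𝒜 : Type u} [Category.{v} 𝒜] [Abelian 𝒜] {P : ObjectProperty 𝒜}

lemma nsmul_sub_of_mod {G : Type*} [AddCommGroup G] (y : G) {a b m : ℕ} (h : a % m = b % m) :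
    ∃ z : G, a • y = b • y + m • z := by
  refine ⟨(a / m) • y - (b / m) • y, ?_⟩
  have ha : a • y = m • ((a / m) • y) + (a % m) • y := by
    conv_lhs => rw [← Nat.div_add_mod a m, add_smul, mul_smul]
  have hb : b • y = m • ((b / m) • y) + (b % m) • y := by
    conv_lhs => rw [← Nat.div_add_mod b m, add_smul, mul_smul]
  rw [ha, hb, h, smul_sub]
  abel

lemma mem_image_arrow_iff {X A W : 𝒜} (f : X ⟶ A) (x : W ⟶ A) :
    Mem (imageSubobject f).arrow x ↔ Mem f x := by
  constructor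
  · intro h
    obtain ⟨y, hy⟩ := h.lift
    obtain ⟨W', σ, hσ, w, fac⟩ :=
      surjective_up_to_refinements_of_epi (factorThruImageSubobject f) y
    exact Mem.mk σ w (by rw [← hy, ← Category.assoc, fac, Category.assoc,
      imageSubobject_arrow_comp])
  · intro h
    obtain ⟨W', σ, hσ, y, fac⟩ := h.exists
    exact Mem.mk σ (y ≫ factorThruImageSubobject f) (by
      rw [fac, Category.assoc, imageSubobject_arrow_comp])

lemma mem_all_of_torsion {A : 𝒜} {n : ℕ} {W : 𝒜} (x : W ⟶ A) (hx : n • x = 0)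
    (h : ∀ j, Mem (n ^ j • 𝟙 A) x) (m : ℕ) (hm : 0 < m) : Mem (m • 𝟙 A) x := by
  obtain ⟨j, c, hjc⟩ := exists_pow_modEq n m hm
  obtain ⟨W', σ, hσ, y, fac⟩ := (h j).exists
  rw [comp_nsmul_id] at fac
  obtain ⟨z, hz⟩ := nsmul_sub_of_mod y hjc
  refine Mem.mk σ z ?_
  have h0 : (n ^ (j + 1) * c) • y = 0 := by
    have : (n ^ (j + 1) * c) • y = (c * n) • (n ^ j • y) := by
      rw [← mul_smul]; congr 1; ring
    rw [this, ← fac, mul_smul, ← Preadditive.comp_nsmul, hx, comp_zero, smul_zero]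
  rw [comp_nsmul_id, fac, hz, h0, zero_add]

section maxdiv

variable (A : 𝒜) [HasProduct (fun m : ℕ => cokernel ((m + 1) • 𝟙 A))]

noncomputable def Φ : A ⟶ ∏ᶜ (fun m : ℕ => cokernel ((m + 1) • 𝟙 A)) :=
  Pi.lift (fun _ => cokernel.π _)

/-- `⋂ₘ mA` -/
noncomputable def Dmax : Subobject A := kernelSubobject (Φ A)

lemma mem_Dmax_iff {W : 𝒜} (x : W ⟶ A) :
    Mem (Dmax A).arrow x ↔ ∀ m, 0 < m → Mem (m • 𝟙 A) x := by
  constructor
  · intro h m hm
    obtain ⟨y, hy⟩ := h.lift
    obtain ⟨m', rfl⟩ : ∃ m', m = m' + 1 := ⟨m - 1, by lia⟩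
    have h1 : x ≫ Φ A = 0 := by
      rw [← hy, Category.assoc]
      simp [Dmax]
    have h2 := h1 =≫ Pi.π _ m'
    unfold Mem
    simpa [Φ] using h2
  · intro h
    have h1 : x ≫ Φ A = 0 := by
      apply Pi.hom_ext
      intro m'
      have h2 := h (m' + 1) (by lia)
      unfold Mem at h2
      simpa [Φ] using h2
    exact Mem.mk (𝟙 W) (factorThruKernelSubobject (Φ A) x h1) (by simp [Dmax])

theorem exists_max_divisible (hP : Setup P)
    (hkill : ∀ X, P X → ∃ m : ℕ, 0 < m ∧ m • 𝟙 X = 0) (hA : ∀ n, 0 < n → P (tor A n)) :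
    ∃ D : Subobject A, (∀ k : ℕ, 0 < k → Epi (k • 𝟙 ((D : Subobject A) : 𝒜))) ∧
      (∀ D' : Subobject A, (∀ k : ℕ, 0 < k → Epi (k • 𝟙 ((D' : Subobject A) : 𝒜))) → D' ≤ D) ∧
      (∀ n : ℕ, 0 < n → P (tor ((D : Subobject A) : 𝒜) n)) ∧
      (∀ n : ℕ, 0 < n → P (tor (cokernel D.arrow) n)) := by
  have hT : ∀ (q : ℕ) X, P X → ∃ k c : ℕ, q ^ k • 𝟙 X = (q ^ (k + 1) * c) • 𝟙 X :=
    fun q X hX => by
      obtain ⟨m, hm, h0⟩ := hkill X hX
      exact torsion_hyp q hm h0
  have hgen : ∀ n, 0 < n → ∃ e, Gen n e A := fun n hn =>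
    exists_gen hP (fun k => hA _ (Nat.pow_pos hn)) (hT n)
  have hpow : ∀ n e, Gen n e A → ∀ {W : 𝒜} (x : W ⟶ A), Mem (n ^ e • 𝟙 A) x →
      ∀ j, Mem (n ^ j • 𝟙 A) x := by
    intro n e he W x hx j
    have h1 : Mem (n ^ (max j e) • 𝟙 A) x :=
      Mem.trans (mem_iff_le.2 (he.image_eq _ (le_max_right _ _)).ge) hx
    refine Mem.trans ?_ h1
    have : n ^ (max j e) • 𝟙 A = (n ^ (max j e - j) • 𝟙 A) ≫ (n ^ j • 𝟙 A) := by
      rw [comp_nsmul_id, ← mul_smul, ← pow_add]
      congr 2
      have := le_max_left j e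
      lia
    rw [this]
    exact Mem.comp_self _
  have htorD : ∀ n, 0 < n → ∀ {W : 𝒜} (x : W ⟶ A), n • x = 0 →
      (∀ j, Mem (n ^ j • 𝟙 A) x) → Mem (Dmax A).arrow x := by
    intro n hn W x hx hmem
    rw [mem_Dmax_iff]
    exact fun m hm => mem_all_of_torsion x hx hmem m hm
  have htors : ∀ n : ℕ, 0 < n → P (tor ((Dmax A : Subobject A) : 𝒜) n) := by
    intro n hn
    obtain ⟨e, he⟩ := hgen n hn
    have hDE : Dmax A ≤ imageSubobject (n ^ e • 𝟙 A) := by
      rw [subobject_le_iff_mem, mem_image_arrow_iff]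
      exact (mem_Dmax_iff A _).1 Mem.self _ (Nat.pow_pos hn)
    have hmono : Mono (torMap (Subobject.ofLE _ _ hDE) n) :=
      mono_of_mono_fac (torMap_ι (Subobject.ofLE _ _ hDE) n)
    have hepi : Epi (torMap (Subobject.ofLE _ _ hDE) n) := by
      rw [epi_iff_surjective_up_to_refinements]
      intro W x
      have hx0 : n • (x ≫ torι _ n ≫ (imageSubobject (n ^ e • 𝟙 A)).arrow) = 0 := by
        rw [← Category.assoc, ← Preadditive.nsmul_comp, nsmul_comp_torι, zero_comp]
      have hxm : Mem (n ^ e • 𝟙 A) (x ≫ torι _ n ≫ (imageSubobject (n ^ e • 𝟙 A)).arrow) := by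
        rw [← mem_image_arrow_iff, ← Category.assoc]
        exact Mem.comp_self _
      obtain ⟨y, hy⟩ := (htorD n hn _ hx0 (hpow n e he _ hxm)).lift
      have hy0 : n • y = 0 := by
        rw [← cancel_mono (Dmax A).arrow, zero_comp, Preadditive.nsmul_comp, hy, hx0]
      refine ⟨W, 𝟙 W, inferInstance, torLift y n hy0, ?_⟩
      rw [Category.id_comp, ← cancel_mono (torι _ n),
        ← cancel_mono (imageSubobject (n ^ e • 𝟙 A)).arrow]
      simp only [Category.assoc, torMap_ι, torLift_ι_assoc, Subobject.ofLE_arrow]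
      exact hy.symm
    have : IsIso (torMap (Subobject.ofLE _ _ hDE) n) := isIso_of_mono_of_epi _
    exact hP.of_iso (asIso (torMap (Subobject.ofLE _ _ hDE) n)).symm
      (tor_image hP A (n ^ e) n (hA _ (Nat.mul_pos hn (Nat.pow_pos hn))) (hA n hn))
  refine ⟨Dmax A, ?_, ?_, htors, ?_⟩
  · intro k hk
    induction k using Nat.recOnMul with
    | zero => exact absurd hk (lt_irrefl 0)
    | one => rw [one_smul]; infer_instance
    | prime r hr =>
      apply Preadditive.epi_of_cancel_zero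
      intro Z g hg
      apply hP.sep
      intro X₀ hX₀ x₀
      obtain ⟨M, hM, hM0⟩ := hkill X₀ hX₀
      suffices h : ∃ (W' : 𝒜) (σ : W' ⟶ X₀) (_ : Epi σ)
          (y : W' ⟶ ((Dmax A : Subobject A) : 𝒜)), σ ≫ x₀ = r • y by
        obtain ⟨W', σ, hσ, y, fac⟩ := h
        rw [← cancel_epi σ, comp_zero, ← Category.assoc, fac, ← comp_nsmul_id, Category.assoc,
          hg, comp_zero]
      have hMx : M • x₀ = 0 := by rw [← nsmul_id_comp, hM0, zero_comp]
      by_cases hrM : r ∣ M
      · obtain ⟨M', rfl⟩ := hrM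
        obtain ⟨e, he⟩ := hgen (r * M') hM
        have hx : Mem ((r * M') ^ (e + 1) • 𝟙 A) (x₀ ≫ (Dmax A).arrow) :=
          ((mem_Dmax_iff A _).1 (Mem.comp_self x₀)) _ (Nat.pow_pos hM)
        obtain ⟨W', σ, hσ, w, fac⟩ := hx.exists
        rw [comp_nsmul_id] at fac
        have hy'D : Mem (Dmax A).arrow ((M' * (r * M') ^ e) • w) := by
          apply htorD (r * (r * M')) (Nat.mul_pos hr.pos hM)
          · have : (r * (r * M')) • (M' * (r * M') ^ e) • w =
                (r * M') • ((r * M') ^ (e + 1) • w) := by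
              rw [← mul_smul, ← mul_smul]; congr 1; ring
            rw [this, ← fac, ← Preadditive.comp_nsmul, ← Preadditive.nsmul_comp, hMx,
              zero_comp, comp_zero]
          · intro j
            have h1 : Mem ((r * M') ^ (e + 2 * j) • 𝟙 A) ((r * M') ^ e • w) := by
              refine Mem.trans (mem_iff_le.2 (he.image_eq _ (by lia)).ge) ?_
              have : (r * M') ^ e • w = w ≫ ((r * M') ^ e • 𝟙 A) := (comp_nsmul_id w _).symm
              rw [this]
              exact Mem.comp_self _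
            obtain ⟨W'', σ', hσ', w', fac'⟩ := h1.exists
            rw [comp_nsmul_id] at fac'
            refine Mem.mk σ' ((M' ^ (j + 1) * (r * M') ^ e) • w') ?_
            rw [comp_nsmul_id, ← mul_smul, mul_smul M', Preadditive.comp_nsmul, fac',
              ← mul_smul]
            congr 1
            ring
        obtain ⟨y, hy⟩ := hy'D.lift
        refine ⟨W', σ, hσ, y, ?_⟩
        rw [← cancel_mono (Dmax A).arrow, Category.assoc, fac, Preadditive.nsmul_comp, hy,
          ← mul_smul]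
        congr 1
        ring
      · have hcop : Nat.Coprime r M := (Nat.Prime.coprime_iff_not_dvd hr).2 hrM
        obtain ⟨a, b, hab⟩ := Nat.isCoprime_iff_coprime.2 hcop
        refine ⟨X₀, 𝟙 X₀, inferInstance, a • x₀, ?_⟩
        rw [Category.id_comp]
        have : x₀ = (a * r + b * M) • x₀ := by rw [hab, one_smul]
        conv_lhs => rw [this]
        rw [add_smul, mul_smul, mul_smul, natCast_zsmul, natCast_zsmul, hMx, smul_zero,
          add_zero, smul_comm]
    | mul a b iha ihb =>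
      have ha : 0 < a := Nat.pos_of_ne_zero (fun h => by simp [h] at hk)
      have hb : 0 < b := Nat.pos_of_ne_zero (fun h => by simp [h] at hk)
      exact epi_mul_nsmul (iha ha) (ihb hb)
  · intro D' hD'
    rw [subobject_le_iff_mem, mem_Dmax_iff]
    intro m hm
    rw [mem_iff_le, imageSubobject_mono, Subobject.mk_arrow]
    exact le_image_of_epi_nsmul D' m (hD' m hm)
  · intro n hn
    exact tor_cokernel hP hT (Dmax A).arrow (fun k => htors _ (Nat.pow_pos hn))
      (fun k => hA _ (Nat.pow_pos hn))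

end maxdiv

end Groth.Agent.Lib.Helper62.IndCofAbs
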