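import Mathlib

/-!
Alternating sums of finitely supported `ℤ`-indexed families in an abelian group.
-/

set_option autoImplicit false

namespace Groth.Agent.Lib.Helper62.K0D

section Alt

variable {G : Type*} [AddCommGroup G] {H : Type*} [AddCommGroup H]

/-- The family vanishes outside a bounded interval. -/
def BddSupp (f : ℤ → G) : Prop := ∃ lo hi : ℤ, ∀ i : ℤ, (i < lo ∨ hi < i) → f i = 0

/-- The alternating sum `Σ (-1)^i f i`. -/
noncomputable def alt (f : ℤ → G) : G := ∑ᶠ i : ℤ, (i.negOnePow : ℤ) • f i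

lemma BddSupp.finite_support {f : ℤ → G} (h : BddSupp f) :
    (Function.support fun i : ℤ => (i.negOnePow : ℤ) • f i).Finite := by
  obtain ⟨lo, hi, h⟩ := h
  refine (Set.finite_Icc lo hi).subset (fun i hi' => ?_)
  rw [Function.mem_support] at hi'
  rw [Set.mem_Icc]
  by_contra hcon
  apply hi'
  have : i < lo ∨ hi < i := by omega
  rw [h i this, smul_zero]

lemma BddSupp.add {f g : ℤ → G} (hf : BddSupp f) (hg : BddSupp g) :
    BddSupp (fun i => f i + g i) := by
  obtain ⟨lo, hi, h⟩ := hf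
  obtain ⟨lo', hi', h'⟩ := hg
  refine ⟨min lo lo', max hi hi', fun i hi'' => ?_⟩
  have h1 : i < lo ∨ hi < i := by
    rcases hi'' with h | h
    · exact Or.inl (lt_of_lt_of_le h (min_le_left _ _))
    · exact Or.inr (lt_of_le_of_lt (le_max_left _ _) h)
  have h2 : i < lo' ∨ hi' < i := by
    rcases hi'' with h | h
    · exact Or.inl (lt_of_lt_of_le h (min_le_right _ _))
    · exact Or.inr (lt_of_le_of_lt (le_max_right _ _) h)
  change f i + g i = 0
  rw [h i h1, h' i h2, add_zero]

lemma BddSupp.succ {f : ℤ → G} (hf : BddSupp f) : BddSupp (fun i => f (i + 1)) := by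
  obtain ⟨lo, hi, h⟩ := hf
  exact ⟨lo - 1, hi - 1, fun i hi' => h (i + 1) (by omega)⟩

lemma BddSupp.of_bounds {f : ℤ → G} (lo hi : ℤ) (h : ∀ i : ℤ, (i < lo ∨ hi < i) → f i = 0) :
    BddSupp f := ⟨lo, hi, h⟩

lemma alt_add {f g : ℤ → G} (hf : BddSupp f) (hg : BddSupp g) :
    alt (fun i => f i + g i) = alt f + alt g := by
  unfold alt
  rw [← finsum_add_distrib hf.finite_support hg.finite_support]
  exact finsum_congr (fun i => smul_add _ _ _)

lemma alt_succ (f : ℤ → G) : alt (fun i => f (i + 1)) = - alt f := by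
  unfold alt
  have h1 : ∀ i : ℤ, (i.negOnePow : ℤ) • f (i + 1) = - (((i + 1).negOnePow : ℤ) • f (i + 1)) := by
    intro i
    rw [Int.negOnePow_succ, Units.val_neg, neg_smul, neg_neg]
  rw [finsum_congr h1, finsum_neg_distrib]
  congr 1
  exact finsum_comp_equiv (Equiv.addRight (1 : ℤ)) (f := fun j : ℤ => (j.negOnePow : ℤ) • f j)

lemma alt_congr {f g : ℤ → G} (h : ∀ i, f i = g i) : alt f = alt g := by
  unfold alt
  exact finsum_congr (fun i => by rw [h i])

lemma alt_eq_single (f : ℤ → G) (b : ℤ) (h : ∀ i : ℤ, i ≠ b → f i = 0) :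
    alt f = (b.negOnePow : ℤ) • f b := by
  unfold alt
  exact finsum_eq_single _ b (fun i hi => by rw [h i hi, smul_zero])

lemma alt_eq_zero (f : ℤ → G) (h : ∀ i : ℤ, f i = 0) : alt f = 0 := by
  unfold alt
  rw [finsum_congr (fun i => by rw [h i, smul_zero] : ∀ i : ℤ, (i.negOnePow : ℤ) • f i = 0)]
  exact finsum_zero

lemma map_alt (φ : G →+ H) {f : ℤ → G} (hf : BddSupp f) :
    φ (alt f) = alt (fun i => φ (f i)) := by
  unfold alt
  rw [φ.map_finsum hf.finite_support]
  exact finsum_congr (fun i => map_zsmul φ _ _)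

end Alt

end Groth.Agent.Lib.Helper62.K0D
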