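import Mathlib
import Groth.Prelude.Def_KZero

/-!
`K₀` of finitely generated modules over a principal ideal domain is `ℤ`, generated by `[A]`.
-/

set_option autoImplicit false
universe u

open CategoryTheory CategoryTheory.Limits

namespace Groth.Agent.Lib.Helper62.K0PID

section General

variable {C : Type*} [Category C] [Abelian C] (P : ObjectProperty C)

lemma clSub_eq {X : C} (h : P X) :
    KZero.clSub P X = QuotientAddGroup.mk (FreeAbelianGroup.of ⟨X, h⟩) := dif_pos h

lemma clSub_add (S : ShortComplex C) (hS : S.ShortExact) (h₁ : P S.X₁) (h₂ : P S.X₂)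
    (h₃ : P S.X₃) : KZero.clSub P S.X₂ = KZero.clSub P S.X₁ + KZero.clSub P S.X₃ := by
  rw [clSub_eq P h₁, clSub_eq P h₂, clSub_eq P h₃, ← QuotientAddGroup.mk_add,
    QuotientAddGroup.eq]
  have h : FreeAbelianGroup.of (⟨S.X₂, h₂⟩ : Subtype P) - FreeAbelianGroup.of ⟨S.X₁, h₁⟩ -
      FreeAbelianGroup.of ⟨S.X₃, h₃⟩ ∈ KZero.relSub P :=
    AddSubgroup.subset_closure ⟨S, h₁, h₂, h₃, hS, rfl⟩
  have h' := (KZero.relSub P).neg_mem h
  convert h' using 1
  abel

lemma clSub_zero (Z : C) (hZ : IsZero Z) (hPZ : P Z) : KZero.clSub P Z = 0 := by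
  let S : ShortComplex C := ShortComplex.mk (0 : Z ⟶ Z) (0 : Z ⟶ Z) (by simp)
  have hS : S.ShortExact :=
    { exact := ShortComplex.exact_of_isZero_X₂ _ hZ
      mono_f := ⟨fun _ _ _ => hZ.eq_of_tgt _ _⟩
      epi_g := ⟨fun _ _ _ => hZ.eq_of_src _ _⟩ }
  have h := clSub_add P S hS hPZ hPZ hPZ
  change KZero.clSub P Z = KZero.clSub P Z + KZero.clSub P Z at h
  have : KZero.clSub P Z + 0 = KZero.clSub P Z + KZero.clSub P Z := by rw [add_zero]; exact h
  exact (add_left_cancel this).symm

end General

variable (A : Type u) [CommRing A]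

/-- The property of being a finitely generated module. -/
abbrev Pfin : ObjectProperty (ModuleCat.{u} A) := fun M => Module.Finite A M

variable {A}

/-- Additivity along a surjective linear map. -/
lemma cl_surj {M N : Type u} [AddCommGroup M] [Module A M] [AddCommGroup N] [Module A N]
    (f : M →ₗ[A] N) (hf : Function.Surjective f) [Module.Finite A M] [Module.Finite A N]
    [Module.Finite A (LinearMap.ker f)] :
    KZero.clSub (Pfin A) (ModuleCat.of A M) =
      KZero.clSub (Pfin A) (ModuleCat.of A (LinearMap.ker f)) +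
        KZero.clSub (Pfin A) (ModuleCat.of A N) :=
  clSub_add (Pfin A) f.shortComplexKer (LinearMap.shortExact_shortComplexKer hf)
    (inferInstanceAs (Module.Finite A (LinearMap.ker f)))
    (inferInstanceAs (Module.Finite A M)) (inferInstanceAs (Module.Finite A N))

lemma cl_subsingleton (M : Type u) [AddCommGroup M] [Module A M] [Subsingleton M] :
    KZero.clSub (Pfin A) (ModuleCat.of A M) = 0 :=
  clSub_zero (Pfin A) _ (ModuleCat.isZero_of_subsingleton _)
    (inferInstanceAs (Module.Finite A M))

lemma cl_equiv {M N : Type u} [AddCommGroup M] [Module A M] [AddCommGroup N] [Module A N]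
    (e : M ≃ₗ[A] N) [Module.Finite A M] :
    KZero.clSub (Pfin A) (ModuleCat.of A M) = KZero.clSub (Pfin A) (ModuleCat.of A N) := by
  have : Module.Finite A N := Module.Finite.equiv e
  have hk : Subsingleton (LinearMap.ker (e : M →ₗ[A] N)) := by
    rw [LinearEquiv.ker]
    infer_instance
  have := cl_surj (e : M →ₗ[A] N) e.surjective
  rw [this, cl_subsingleton, zero_add]

section PID

variable [IsDomain A] [IsPrincipalIdealRing A]

lemma cl_ideal (I : Submodule A A) :
    KZero.clSub (Pfin A) (ModuleCat.of A I) ∈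
      AddSubgroup.zmultiples (KZero.clSub (Pfin A) (ModuleCat.of A A)) := by
  obtain ⟨a, rfl⟩ : ∃ a : A, I = Submodule.span A {a} :=
    (IsPrincipalIdealRing.principal (I : Ideal A)).principal
  by_cases ha : a = 0
  · subst ha
    have : Subsingleton (Submodule.span A {(0 : A)}) := by
      rw [Submodule.span_zero_singleton]
      infer_instance
    rw [cl_subsingleton (Submodule.span A {(0 : A)})]
    exact zero_mem _
  · rw [← cl_equiv (LinearEquiv.toSpanNonzeroSingleton A A a ha)]
    exact AddSubgroup.mem_zmultiples _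

lemma cl_cyclic {M : Type u} [AddCommGroup M] [Module A M] [Module.Finite A M] (x : M) :
    KZero.clSub (Pfin A) (ModuleCat.of A (Submodule.span A {x})) ∈
      AddSubgroup.zmultiples (KZero.clSub (Pfin A) (ModuleCat.of A A)) := by
  let g : A →ₗ[A] Submodule.span A {x} :=
    (LinearMap.toSpanSingleton A M x).codRestrict _ (fun r => by
      rw [LinearMap.toSpanSingleton_apply]
      exact Submodule.smul_mem _ _ (Submodule.mem_span_singleton_self x))
  have hg : Function.Surjective g := by
    rintro ⟨y, hy⟩
    obtain ⟨r, rfl⟩ := Submodule.mem_span_singleton.1 hy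
    exact ⟨r, Subtype.ext (by simp [g])⟩
  have h := cl_surj g hg
  have h1 := cl_ideal (LinearMap.ker g)
  have h2 : KZero.clSub (Pfin A) (ModuleCat.of A (Submodule.span A {x})) =
      KZero.clSub (Pfin A) (ModuleCat.of A A) -
        KZero.clSub (Pfin A) (ModuleCat.of A (LinearMap.ker g)) := by
    rw [h]; abel
  rw [h2]
  exact sub_mem (AddSubgroup.mem_zmultiples _) h1

lemma cl_mem_of_span (n : ℕ) : ∀ (M : Type u) [AddCommGroup M] [Module A M] (s : Fin n → M),
    Submodule.span A (Set.range s) = ⊤ →
    KZero.clSub (Pfin A) (ModuleCat.of A M) ∈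
      AddSubgroup.zmultiples (KZero.clSub (Pfin A) (ModuleCat.of A A)) := by
  induction n with
  | zero =>
    intro M _ _ s hs
    have : Subsingleton M := by
      have h0 : (⊤ : Submodule A M) = ⊥ := by
        rw [← hs, Set.range_eq_empty, Submodule.span_empty]
      have h1 : Subsingleton (Submodule A M) := subsingleton_of_bot_eq_top h0.symm
      rwa [Submodule.subsingleton_iff] at h1
    rw [cl_subsingleton M]
    exact zero_mem _
  | succ n ih =>
    intro M _ _ s hs
    have hfin : Module.Finite A M :=
      Module.finite_def.2 (Submodule.fg_def.2 ⟨Set.range s, Set.finite_range s, hs⟩)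
    let N : Submodule A M := Submodule.span A {s 0}
    have h := cl_surj N.mkQ N.mkQ_surjective
    have hker : LinearMap.ker N.mkQ = N := Submodule.ker_mkQ N
    have h1 : KZero.clSub (Pfin A) (ModuleCat.of A (LinearMap.ker N.mkQ)) ∈
        AddSubgroup.zmultiples (KZero.clSub (Pfin A) (ModuleCat.of A A)) := by
      rw [cl_equiv (LinearEquiv.ofEq _ _ hker)]
      exact cl_cyclic (s 0)
    have h2 : KZero.clSub (Pfin A) (ModuleCat.of A (M ⧸ N)) ∈
        AddSubgroup.zmultiples (KZero.clSub (Pfin A) (ModuleCat.of A A)) := by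
      apply ih (M ⧸ N) (fun i => N.mkQ (s i.succ))
      rw [eq_top_iff]
      rintro y -
      obtain ⟨x, rfl⟩ := N.mkQ_surjective y
      have hx : x ∈ Submodule.span A (Set.range s) := by rw [hs]; trivial
      refine Submodule.span_induction (p := fun x _ => N.mkQ x ∈
        Submodule.span A (Set.range fun i : Fin n => N.mkQ (s i.succ))) ?_ ?_ ?_ ?_ hx
      · rintro _ ⟨i, rfl⟩
        refine Fin.cases ?_ (fun j => ?_) i
        · have : N.mkQ (s 0) = 0 := by
            rw [Submodule.mkQ_apply, Submodule.Quotient.mk_eq_zero]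
            exact Submodule.mem_span_singleton_self _
          rw [this]
          exact zero_mem _
        · exact Submodule.subset_span ⟨j, rfl⟩
      · rw [map_zero]; exact zero_mem _
      · intro x y _ _ hx hy
        rw [map_add]; exact add_mem hx hy
      · intro r x _ hx
        rw [map_smul]; exact Submodule.smul_mem _ _ hx
    rw [h]
    exact add_mem h1 h2

lemma cl_mem (M : ModuleCat.{u} A) (hM : Module.Finite A M) :
    KZero.clSub (Pfin A) M ∈
      AddSubgroup.zmultiples (KZero.clSub (Pfin A) (ModuleCat.of A A)) := by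
  obtain ⟨n, s, hs⟩ := Module.Finite.exists_fin (R := A) (M := M)
  exact cl_mem_of_span n M s hs

lemma mem_zmultiples (x : KZero.K0sub (Pfin A)) :
    x ∈ AddSubgroup.zmultiples (KZero.clSub (Pfin A) (ModuleCat.of A A)) := by
  obtain ⟨y, rfl⟩ := QuotientAddGroup.mk_surjective x
  induction y using FreeAbelianGroup.induction_on with
  | zero => exact zero_mem _
  | of M =>
    obtain ⟨M, hM⟩ := M
    rw [← clSub_eq (Pfin A) hM]
    exact cl_mem M hM
  | neg M h => rw [QuotientAddGroup.mk_neg]; exact neg_mem h
  | add x y hx hy => rw [QuotientAddGroup.mk_add]; exact add_mem hx hy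

omit [IsPrincipalIdealRing A] in
lemma finrank_add (S : ShortComplex (ModuleCat.{u} A)) (hS : S.ShortExact)
    (h₂ : Module.Finite A S.X₂) :
    (Module.finrank A S.X₂ : ℤ) = Module.finrank A S.X₁ + Module.finrank A S.X₃ := by
  have e1 : Module.finrank A S.X₁ = Module.finrank A (LinearMap.ker S.g.hom) := by
    rw [← hS.exact.moduleCat_range_eq_ker]
    exact (LinearEquiv.ofInjective S.f.hom hS.moduleCat_injective_f).finrank_eq
  have e3 : Module.finrank A (S.X₂ ⧸ LinearMap.ker S.g.hom) = Module.finrank A S.X₃ :=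
    (LinearMap.quotKerEquivOfSurjective S.g.hom hS.moduleCat_surjective_g).finrank_eq
  have := (LinearMap.ker S.g.hom).finrank_quotient_add_finrank
  rw [e3, ← e1] at this
  rw [← this]
  push_cast
  ring

/-- The rank homomorphism. -/
noncomputable def rk : KZero.K0sub (Pfin A) →+ ℤ :=
  QuotientAddGroup.lift (KZero.relSub (Pfin A))
    (FreeAbelianGroup.lift (fun M : Subtype (Pfin A) => (Module.finrank A M.1 : ℤ))) (by
      refine (AddSubgroup.closure_le _).2 ?_
      rintro x ⟨S, h₁, h₂, h₃, hS, rfl⟩
      rw [SetLike.mem_coe, AddMonoidHom.mem_ker, map_sub, map_sub, FreeAbelianGroup.lift_apply_of,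
        FreeAbelianGroup.lift_apply_of, FreeAbelianGroup.lift_apply_of]
      change (Module.finrank A S.X₂ : ℤ) - Module.finrank A S.X₁ - Module.finrank A S.X₃ = 0
      rw [finrank_add S hS h₂]
      ring)

lemma rk_cl_self : rk (KZero.clSub (Pfin A) (ModuleCat.of A A)) = 1 := by
  rw [clSub_eq (Pfin A) (inferInstanceAs (Module.Finite A A))]
  change (FreeAbelianGroup.lift (fun M : Subtype (Pfin A) => (Module.finrank A M.1 : ℤ)))
    (FreeAbelianGroup.of _) = 1
  rw [FreeAbelianGroup.lift_apply_of]
  change ((Module.finrank A A : ℕ) : ℤ) = 1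
  rw [Module.finrank_self]
  rfl

theorem bijective :
    Function.Bijective (fun k : ℤ => k • KZero.clSub (Pfin A) (ModuleCat.of A A)) := by
  constructor
  · intro k k' h
    have h' := congrArg (rk (A := A)) h
    simpa [rk_cl_self] using h'
  · intro x
    obtain ⟨k, hk⟩ := AddSubgroup.mem_zmultiples_iff.1 (mem_zmultiples x)
    exact ⟨k, hk⟩

end PID

end Groth.Agent.Lib.Helper62.K0PID
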