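import Mathlib
import Groth.Agent.Lib.Helper62.K0PID

/-!
`K₀` of finitely generated modules over a ring with "axes" (retractions onto principal ideal
domains with principal kernel); application to the node `k[x,y]/(xy)`.
-/

set_option autoImplicit false
universe u

open CategoryTheory CategoryTheory.Limits

namespace Groth.Agent.Lib.Helper62.K0Axis

open K0PID

section Rank

variable {B : Type u} [CommRing B] [IsDomain B]

/-- Additivity of the rank over a domain, for modules of finite rank. -/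
lemma finrank_add' (S : ShortComplex (ModuleCat.{u} B)) (hS : S.ShortExact)
    (h₂ : Module.rank B S.X₂ < Cardinal.aleph0) :
    (Module.finrank B S.X₂ : ℤ) = Module.finrank B S.X₁ + Module.finrank B S.X₃ := by
  have e1 : Module.rank B S.X₁ = Module.rank B (LinearMap.ker S.g.hom) := by
    rw [← hS.exact.moduleCat_range_eq_ker]
    exact (LinearEquiv.ofInjective S.f.hom hS.moduleCat_injective_f).rank_eq
  have e2 := LinearMap.rank_eq_of_surjective hS.moduleCat_surjective_g
  rw [← e1] at e2
  have h3 : Module.rank B S.X₃ < Cardinal.aleph0 :=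
    lt_of_le_of_lt (by rw [e2]; exact le_self_add) h₂
  have h1 : Module.rank B S.X₁ < Cardinal.aleph0 :=
    lt_of_le_of_lt (by rw [e2]; exact le_add_self) h₂
  have : Module.finrank B S.X₂ = Module.finrank B S.X₃ + Module.finrank B S.X₁ := by
    unfold Module.finrank
    rw [e2, Cardinal.toNat_add h3 h1]
  rw [this]
  push_cast
  ring

end Rank

/-- An axis of a ring `A`: a retraction `π` of `A` onto a ring `B` (with section `τ`) whose
kernel is generated by `z`, such that `z` is killed by a nonzero element of `B`. -/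
structure Axis (A : Type u) [CommRing A] (B : Type u) [CommRing B] where
  τ : B →+* A
  π : A →+* B
  z : A
  b₀ : B
  πτ : ∀ b, π (τ b) = b
  πz : π z = 0
  hb₀ : b₀ ≠ 0
  hb₀z : τ b₀ * z = 0
  ker : ∀ a, ∃ a', a = τ (π a) + z * a'

section AxisModule

variable {A B : Type u} [CommRing A] [CommRing B] (ax : Axis A B)

section

variable (M : Type u) [AddCommGroup M] [Module A M] [Module B M]
  (hsm : ∀ (b : B) (m : M), b • m = ax.τ b • m)

/-- Multiplication by `z` as a `B`-linear map. -/
def mulZ : M →ₗ[B] M where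
  toFun m := ax.z • m
  map_add' := smul_add _
  map_smul' b m := by
    simp only [RingHom.id_apply, hsm]
    rw [smul_comm]

include hsm in
lemma rank_range_mulZ [IsDomain B] : Module.rank B (LinearMap.range (mulZ ax M hsm)) = 0 := by
  rw [rank_eq_zero_iff]
  rintro ⟨_, m, rfl⟩
  refine ⟨ax.b₀, ax.hb₀, Subtype.ext ?_⟩
  change ax.b₀ • (ax.z • m) = 0
  rw [hsm, smul_smul, ax.hb₀z, zero_smul]

include hsm in
lemma finite_quotient_range_mulZ [Module.Finite A M] :
    Module.Finite B (M ⧸ LinearMap.range (mulZ ax M hsm)) := by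
  obtain ⟨s, hs⟩ := (Module.finite_def (R := A) (M := M)).1 inferInstance
  refine Module.finite_def.2 (Submodule.fg_def.2
    ⟨(LinearMap.range (mulZ ax M hsm)).mkQ '' (s : Set M), (s.finite_toSet).image _, ?_⟩)
  rw [eq_top_iff]
  rintro y -
  obtain ⟨x, rfl⟩ := (LinearMap.range (mulZ ax M hsm)).mkQ_surjective y
  have hx : x ∈ Submodule.span A (s : Set M) := by rw [hs]; trivial
  refine Submodule.span_induction (p := fun x _ => (LinearMap.range (mulZ ax M hsm)).mkQ x ∈
    Submodule.span B ((LinearMap.range (mulZ ax M hsm)).mkQ '' (s : Set M))) ?_ ?_ ?_ ?_ hx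
  · intro x hx
    exact Submodule.subset_span ⟨x, hx, rfl⟩
  · rw [map_zero]; exact zero_mem _
  · intro x y _ _ hx hy
    rw [map_add]; exact add_mem hx hy
  · intro a x _ hx
    obtain ⟨a', ha'⟩ := ax.ker a
    have h1 : a • x = ax.π a • x + mulZ ax M hsm (a' • x) := by
      change a • x = ax.π a • x + ax.z • (a' • x)
      rw [hsm, smul_smul, ← add_smul, ← ha']
    rw [h1, map_add, map_smul]
    have h2 : (LinearMap.range (mulZ ax M hsm)).mkQ (mulZ ax M hsm (a' • x)) = 0 := by
      rw [Submodule.mkQ_apply, Submodule.Quotient.mk_eq_zero]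
      exact LinearMap.mem_range_self _ _
    rw [h2, add_zero]
    exact Submodule.smul_mem _ _ hx

include hsm in
lemma rank_lt_aleph0 [IsDomain B] [Module.Finite A M] : Module.rank B M < Cardinal.aleph0 := by
  have := finite_quotient_range_mulZ ax M hsm
  rw [← Submodule.rank_quotient_add_rank (LinearMap.range (mulZ ax M hsm)),
    rank_range_mulZ ax M hsm, add_zero]
  exact Module.rank_lt_aleph0 B _

end

section RankHom

variable [IsDomain B]

/-- The `B`-rank of an `A`-module. -/
noncomputable def rkB (M : ModuleCat.{u} A) : ℕ :=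
  Module.finrank B ((ModuleCat.restrictScalars.{u} ax.τ).obj M)

lemma rank_restrict_lt (M : ModuleCat.{u} A) (hM : Module.Finite A M) :
    Module.rank B ((ModuleCat.restrictScalars.{u} ax.τ).obj M) < Cardinal.aleph0 := by
  letI : Module B M := Module.compHom M ax.τ
  exact rank_lt_aleph0 ax M (fun _ _ => rfl)

/-- The rank homomorphism attached to an axis. -/
noncomputable def rk : KZero.K0sub (Pfin A) →+ ℤ :=
  QuotientAddGroup.lift (KZero.relSub (Pfin A))
    (FreeAbelianGroup.lift (fun M : Subtype (Pfin A) => (rkB ax M.1 : ℤ))) (by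
      refine (AddSubgroup.closure_le _).2 ?_
      rintro x ⟨S, h₁, h₂, h₃, hS, rfl⟩
      rw [SetLike.mem_coe, AddMonoidHom.mem_ker, map_sub, map_sub, FreeAbelianGroup.lift_apply_of,
        FreeAbelianGroup.lift_apply_of, FreeAbelianGroup.lift_apply_of]
      have := finrank_add' (S.map (ModuleCat.restrictScalars.{u} ax.τ)) (hS.map_of_exact _)
        (rank_restrict_lt ax S.X₂ h₂)
      change (rkB ax S.X₂ : ℤ) - rkB ax S.X₁ - rkB ax S.X₃ = 0
      change (rkB ax S.X₂ : ℤ) = rkB ax S.X₁ + rkB ax S.X₃ at this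
      rw [this]
      ring)

lemma rk_clSub (M : ModuleCat.{u} A) (hM : Module.Finite A M) :
    rk ax (KZero.clSub (Pfin A) M) = rkB ax M := by
  rw [clSub_eq (Pfin A) hM]
  change (FreeAbelianGroup.lift (fun M : Subtype (Pfin A) => (rkB ax M.1 : ℤ)))
    (FreeAbelianGroup.of _) = _
  rw [FreeAbelianGroup.lift_apply_of]

/-- Modules killed by the image of a nonzero element of `B` have rank zero. -/
lemma rkB_eq_zero (M : ModuleCat.{u} A) (b : B) (hb : b ≠ 0) (h : ∀ m : M, ax.τ b • m = 0) :
    rkB ax M = 0 := by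
  apply Module.finrank_eq_zero_of_rank_eq_zero
  rw [rank_eq_zero_iff]
  intro m
  exact ⟨b, hb, h m⟩

/-- The quotient `A ⧸ (z)` has rank one. -/
lemma rkB_quotient_z :
    rkB ax (ModuleCat.of A (A ⧸ Ideal.span {ax.z})) = 1 := by
  let M' := (ModuleCat.restrictScalars.{u} ax.τ).obj (ModuleCat.of A (A ⧸ Ideal.span {ax.z}))
  -- the `B`-linear map `B → A ⧸ (z)`
  let φ : B →ₗ[B] M' :=
    { toFun := fun b => (Ideal.Quotient.mk (Ideal.span {ax.z}) (ax.τ b) : A ⧸ Ideal.span {ax.z})
      map_add' := fun b b' => by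
        simp only [map_add]
        rfl
      map_smul' := fun b b' => by
        change Ideal.Quotient.mk _ (ax.τ (b * b')) =
          ax.τ b • (Ideal.Quotient.mk (Ideal.span {ax.z}) (ax.τ b') : A ⧸ Ideal.span {ax.z})
        rw [map_mul, map_mul]
        rfl }
  have hinj : Function.Injective φ := by
    rw [← LinearMap.ker_eq_bot, LinearMap.ker_eq_bot']
    intro b hb
    have h1 : ax.τ b ∈ Ideal.span {ax.z} := Ideal.Quotient.eq_zero_iff_mem.1 hb
    obtain ⟨c, hc⟩ := Ideal.mem_span_singleton'.1 h1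
    have := congrArg ax.π hc
    rw [map_mul, ax.πz, mul_zero, ax.πτ] at this
    exact this.symm
  have hsurj : Function.Surjective φ := by
    intro y
    obtain ⟨a, rfl⟩ := Ideal.Quotient.mk_surjective y
    refine ⟨ax.π a, ?_⟩
    obtain ⟨a', ha'⟩ := ax.ker a
    change Ideal.Quotient.mk _ (ax.τ (ax.π a)) = Ideal.Quotient.mk _ a
    rw [Ideal.Quotient.eq, Ideal.mem_span_singleton']
    refine ⟨-a', ?_⟩
    linear_combination ha'
  have e : B ≃ₗ[B] M' := LinearEquiv.ofBijective φ ⟨hinj, hsurj⟩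
  change Module.finrank B M' = 1
  rw [← e.finrank_eq, Module.finrank_self]

end RankHom

section Killed

/-- Finiteness is preserved by restriction along the surjection `π`. -/
lemma finite_of_finite_B (N : Type u) [AddCommGroup N] [Module A N] [Module B N]
    (hsm : ∀ (a : A) (n : N), a • n = ax.π a • n) [Module.Finite B N] : Module.Finite A N := by
  obtain ⟨s, hs⟩ := (Module.finite_def (R := B) (M := N)).1 inferInstance
  refine Module.finite_def.2 (Submodule.fg_def.2 ⟨(s : Set N), s.finite_toSet, ?_⟩)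
  rw [eq_top_iff]
  rintro x -
  have hx : x ∈ Submodule.span B (s : Set N) := by rw [hs]; trivial
  refine Submodule.span_induction (p := fun x _ => x ∈ Submodule.span A (s : Set N))
    ?_ ?_ ?_ ?_ hx
  · intro x hx
    exact Submodule.subset_span hx
  · exact zero_mem _
  · intro x y _ _ hx hy
    exact add_mem hx hy
  · intro b x _ hx
    have : b • x = ax.τ b • x := by rw [hsm, ax.πτ]
    rw [this]
    exact Submodule.smul_mem _ _ hx

/-- A finitely generated `A`-module killed by `z` is finitely generated over `B`. -/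
lemma finite_B_of_killed (M : Type u) [AddCommGroup M] [Module A M] [Module B M]
    (hsm : ∀ (b : B) (m : M), b • m = ax.τ b • m) (hz : ∀ m : M, ax.z • m = 0)
    [Module.Finite A M] : Module.Finite B M := by
  obtain ⟨s, hs⟩ := (Module.finite_def (R := A) (M := M)).1 inferInstance
  refine Module.finite_def.2 (Submodule.fg_def.2 ⟨(s : Set M), s.finite_toSet, ?_⟩)
  rw [eq_top_iff]
  rintro x -
  have hx : x ∈ Submodule.span A (s : Set M) := by rw [hs]; trivial
  refine Submodule.span_induction (p := fun x _ => x ∈ Submodule.span B (s : Set M))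
    ?_ ?_ ?_ ?_ hx
  · intro x hx
    exact Submodule.subset_span hx
  · exact zero_mem _
  · intro x y _ _ hx hy
    exact add_mem hx hy
  · intro a x _ hx
    obtain ⟨a', ha'⟩ := ax.ker a
    have : a • x = ax.π a • x := by
      rw [hsm]
      conv_lhs => rw [ha']
      rw [add_smul, mul_smul, hz, add_zero]
    rw [this]
    exact Submodule.smul_mem _ _ hx

lemma finite_restrict_π (N : ModuleCat.{u} B) (hN : Module.Finite B N) :
    Module.Finite A ((ModuleCat.restrictScalars.{u} ax.π).obj N) := by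
  letI : Module A N := Module.compHom N ax.π
  exact finite_of_finite_B ax N (fun _ _ => rfl)

/-- The homomorphism on `K₀` induced by restriction of scalars along `π`. -/
noncomputable def Φ : KZero.K0sub (Pfin B) →+ KZero.K0sub (Pfin A) :=
  QuotientAddGroup.lift (KZero.relSub (Pfin B))
    (FreeAbelianGroup.lift (fun N : Subtype (Pfin B) =>
      KZero.clSub (Pfin A) ((ModuleCat.restrictScalars.{u} ax.π).obj N.1))) (by
      refine (AddSubgroup.closure_le _).2 ?_
      rintro x ⟨S, h₁, h₂, h₃, hS, rfl⟩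
      rw [SetLike.mem_coe, AddMonoidHom.mem_ker, map_sub, map_sub, FreeAbelianGroup.lift_apply_of,
        FreeAbelianGroup.lift_apply_of, FreeAbelianGroup.lift_apply_of]
      have this : KZero.clSub (Pfin A) ((ModuleCat.restrictScalars.{u} ax.π).obj S.X₂) =
          KZero.clSub (Pfin A) ((ModuleCat.restrictScalars.{u} ax.π).obj S.X₁) +
          KZero.clSub (Pfin A) ((ModuleCat.restrictScalars.{u} ax.π).obj S.X₃) :=
        clSub_add (Pfin A) (S.map (ModuleCat.restrictScalars.{u} ax.π))
          (hS.map_of_exact _) (finite_restrict_π ax _ h₁) (finite_restrict_π ax _ h₂)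
          (finite_restrict_π ax _ h₃)
      change KZero.clSub (Pfin A) ((ModuleCat.restrictScalars.{u} ax.π).obj S.X₂) -
        KZero.clSub (Pfin A) ((ModuleCat.restrictScalars.{u} ax.π).obj S.X₁) -
        KZero.clSub (Pfin A) ((ModuleCat.restrictScalars.{u} ax.π).obj S.X₃) = 0
      rw [this]
      abel)

lemma Φ_clSub (N : ModuleCat.{u} B) (hN : Module.Finite B N) :
    Φ ax (KZero.clSub (Pfin B) N) =
      KZero.clSub (Pfin A) ((ModuleCat.restrictScalars.{u} ax.π).obj N) := by
  rw [clSub_eq (Pfin B) hN]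
  change (FreeAbelianGroup.lift (fun N : Subtype (Pfin B) =>
      KZero.clSub (Pfin A) ((ModuleCat.restrictScalars.{u} ax.π).obj N.1)))
    (FreeAbelianGroup.of _) = _
  rw [FreeAbelianGroup.lift_apply_of]

/-- `B`, seen as an `A`-module through `π`, is `A ⧸ (z)`. -/
noncomputable def quotientEquiv :
    (A ⧸ Ideal.span {ax.z}) ≃ₗ[A]
      ((ModuleCat.restrictScalars.{u} ax.π).obj (ModuleCat.of B B)) := by
  let N := (ModuleCat.restrictScalars.{u} ax.π).obj (ModuleCat.of B B)
  let f : A →ₗ[A] N :=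
    { toFun := fun a => (ax.π a : B)
      map_add' := fun a a' => by
        simp only [map_add]
        rfl
      map_smul' := fun a a' => by
        change ax.π (a * a') = ax.π a * ax.π a'
        rw [map_mul] }
  have hsurj : Function.Surjective f := fun b => ⟨ax.τ b, ax.πτ b⟩
  have hker : LinearMap.ker f = Ideal.span {ax.z} := by
    ext a
    rw [LinearMap.mem_ker, Ideal.mem_span_singleton']
    change ax.π a = 0 ↔ _
    constructor
    · intro h
      obtain ⟨a', ha'⟩ := ax.ker a
      refine ⟨a', ?_⟩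
      rw [h, map_zero, zero_add] at ha'
      rw [ha', mul_comm]
    · rintro ⟨c, rfl⟩
      rw [map_mul, ax.πz, mul_zero]
  exact (Submodule.quotEquivOfEq _ _ hker.symm).trans (f.quotKerEquivOfSurjective hsurj)

lemma clSub_restrict_B :
    KZero.clSub (Pfin A) ((ModuleCat.restrictScalars.{u} ax.π).obj (ModuleCat.of B B)) =
      KZero.clSub (Pfin A) (ModuleCat.of A (A ⧸ Ideal.span {ax.z})) :=
  (cl_equiv (quotientEquiv ax)).symm

variable [IsDomain B] [IsPrincipalIdealRing B]

/-- A finitely generated module killed by `z` has its class in `ℤ [A ⧸ (z)]`. -/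
theorem clSub_mem_of_killed (M : ModuleCat.{u} A) (hM : Module.Finite A M)
    (hz : ∀ m : M, ax.z • m = 0) :
    KZero.clSub (Pfin A) M ∈ AddSubgroup.zmultiples
      (KZero.clSub (Pfin A) (ModuleCat.of A (A ⧸ Ideal.span {ax.z}))) := by
  let MB := (ModuleCat.restrictScalars.{u} ax.τ).obj M
  have hMB : Module.Finite B MB := by
    letI : Module B M := Module.compHom M ax.τ
    exact finite_B_of_killed ax M (fun _ _ => rfl) hz
  obtain ⟨k, hk⟩ := AddSubgroup.mem_zmultiples_iff.1
    (K0PID.mem_zmultiples (KZero.clSub (Pfin B) MB))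
  have h1 := congrArg (Φ ax) hk
  rw [map_zsmul, Φ_clSub ax _ (inferInstanceAs (Module.Finite B B)), Φ_clSub ax MB hMB,
    clSub_restrict_B] at h1
  let X := (ModuleCat.restrictScalars.{u} ax.π).obj MB
  let e' : @LinearEquiv A A _ _ (RingHom.id A) (RingHom.id A) _ _ X M _ _ X.isModule M.isModule :=
    @LinearEquiv.mk A A _ _ (RingHom.id A) (RingHom.id A) _ _ X M _ _ X.isModule M.isModule
      (@LinearMap.mk A A _ _ (RingHom.id A) X M _ _ X.isModule M.isModule
        (AddHom.mk (fun m => m) (fun _ _ => rfl)) (fun a m => by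
          obtain ⟨a', ha'⟩ := ax.ker a
          have key : ax.τ (ax.π a) • (show M from m) = a • (show M from m) := by
            conv_rhs => rw [ha']
            rw [add_smul, mul_smul, hz, add_zero]
          exact key))
      (fun m => m) (fun _ => rfl) (fun _ => rfl)
  have hfin : Module.Finite A X := finite_restrict_π ax MB hMB
  have h2 : KZero.clSub (Pfin A) X = KZero.clSub (Pfin A) M :=
    @cl_equiv A _ X M _ X.isModule _ M.isModule e' hfin
  rw [← h2, ← h1]
  exact AddSubgroup.zsmul_mem _ (AddSubgroup.mem_zmultiples _) k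

end Killed

end AxisModule

section TwoAxes

variable {A B₁ B₂ : Type u} [CommRing A] [CommRing B₁] [CommRing B₂]
  [IsDomain B₁] [IsDomain B₂] [IsPrincipalIdealRing B₁] [IsPrincipalIdealRing B₂]
  (ax₁ : Axis A B₁) (ax₂ : Axis A B₂) (hxy : ax₂.z * ax₁.z = 0)

include hxy in
/-- Every class is a combination of `[A ⧸ (x)]` and `[A ⧸ (y)]`. -/
lemma clSub_mem_two (M : ModuleCat.{u} A) (hM : Module.Finite A M) :
    ∃ a b : ℤ, KZero.clSub (Pfin A) M =
      a • KZero.clSub (Pfin A) (ModuleCat.of A (A ⧸ Ideal.span {ax₂.z})) +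
      b • KZero.clSub (Pfin A) (ModuleCat.of A (A ⧸ Ideal.span {ax₁.z})) := by
  let f : M →ₗ[A] M := LinearMap.lsmul A M ax₂.z
  let N : Submodule A M := LinearMap.range f
  have hN : Module.Finite A N := Module.Finite.range f
  have hker : LinearMap.ker N.mkQ = N := Submodule.ker_mkQ N
  have hK : Module.Finite A (LinearMap.ker N.mkQ) :=
    Module.Finite.equiv (LinearEquiv.ofEq _ _ hker).symm
  have h := cl_surj N.mkQ N.mkQ_surjective
  rw [cl_equiv (LinearEquiv.ofEq _ _ hker)] at h
  have h1 : KZero.clSub (Pfin A) (ModuleCat.of A N) ∈ AddSubgroup.zmultiples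
      (KZero.clSub (Pfin A) (ModuleCat.of A (A ⧸ Ideal.span {ax₁.z}))) := by
    apply clSub_mem_of_killed ax₁ (ModuleCat.of A N) hN
    rintro ⟨_, m, rfl⟩
    apply Subtype.ext
    change ax₁.z • (ax₂.z • m) = 0
    rw [smul_smul, mul_comm, hxy, zero_smul]
  have h2 : KZero.clSub (Pfin A) (ModuleCat.of A (M ⧸ N)) ∈ AddSubgroup.zmultiples
      (KZero.clSub (Pfin A) (ModuleCat.of A (A ⧸ Ideal.span {ax₂.z}))) := by
    apply clSub_mem_of_killed ax₂ (ModuleCat.of A (M ⧸ N)) (inferInstanceAs (Module.Finite A (M ⧸ N)))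
    intro y
    obtain ⟨m, rfl⟩ := N.mkQ_surjective y
    change ax₂.z • N.mkQ m = 0
    rw [← map_smul, Submodule.mkQ_apply, Submodule.Quotient.mk_eq_zero]
    exact ⟨m, rfl⟩
  obtain ⟨b, hb⟩ := AddSubgroup.mem_zmultiples_iff.1 h1
  obtain ⟨a, ha⟩ := AddSubgroup.mem_zmultiples_iff.1 h2
  refine ⟨a, b, ?_⟩
  change KZero.clSub (Pfin A) (ModuleCat.of A M) = _
  rw [h, ← hb, ← ha, add_comm]

include hxy in
theorem bijective_two_axes (b₁ : B₁) (hb₁ : b₁ ≠ 0) (h₁ : ax₁.τ b₁ = ax₂.z)
    (b₂ : B₂) (hb₂ : b₂ ≠ 0) (h₂ : ax₂.τ b₂ = ax₁.z) :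
    Function.Bijective (fun p : ℤ × ℤ =>
      p.1 • KZero.clSub (Pfin A) (ModuleCat.of A (A ⧸ Ideal.span {ax₂.z})) +
      p.2 • KZero.clSub (Pfin A) (ModuleCat.of A (A ⧸ Ideal.span {ax₁.z}))) := by
  have r11 : rk ax₁ (KZero.clSub (Pfin A) (ModuleCat.of A (A ⧸ Ideal.span {ax₁.z}))) = 1 := by
    rw [rk_clSub ax₁ _ (inferInstanceAs (Module.Finite A (A ⧸ Ideal.span {ax₁.z}))),
      rkB_quotient_z]
    rfl
  have r22 : rk ax₂ (KZero.clSub (Pfin A) (ModuleCat.of A (A ⧸ Ideal.span {ax₂.z}))) = 1 := by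
    rw [rk_clSub ax₂ _ (inferInstanceAs (Module.Finite A (A ⧸ Ideal.span {ax₂.z}))),
      rkB_quotient_z]
    rfl
  have r12 : rk ax₁ (KZero.clSub (Pfin A) (ModuleCat.of A (A ⧸ Ideal.span {ax₂.z}))) = 0 := by
    rw [rk_clSub ax₁ _ (inferInstanceAs (Module.Finite A (A ⧸ Ideal.span {ax₂.z}))),
      rkB_eq_zero ax₁ _ b₁ hb₁]
    · rfl
    · intro m
      obtain ⟨a, rfl⟩ := Ideal.Quotient.mk_surjective m
      rw [h₁]
      change Ideal.Quotient.mk _ (ax₂.z * a) = 0
      rw [Ideal.Quotient.eq_zero_iff_mem, Ideal.mem_span_singleton']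
      exact ⟨a, mul_comm _ _⟩
  have r21 : rk ax₂ (KZero.clSub (Pfin A) (ModuleCat.of A (A ⧸ Ideal.span {ax₁.z}))) = 0 := by
    rw [rk_clSub ax₂ _ (inferInstanceAs (Module.Finite A (A ⧸ Ideal.span {ax₁.z}))),
      rkB_eq_zero ax₂ _ b₂ hb₂]
    · rfl
    · intro m
      obtain ⟨a, rfl⟩ := Ideal.Quotient.mk_surjective m
      rw [h₂]
      change Ideal.Quotient.mk _ (ax₁.z * a) = 0
      rw [Ideal.Quotient.eq_zero_iff_mem, Ideal.mem_span_singleton']
      exact ⟨a, mul_comm _ _⟩
  constructor
  · rintro ⟨a, b⟩ ⟨a', b'⟩ h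
    dsimp only at h
    have e1 := congrArg (rk ax₁) h
    have e2 := congrArg (rk ax₂) h
    simp only [map_add, map_zsmul, r11, r12, r21, r22, smul_eq_mul, mul_one, mul_zero, zero_add,
      add_zero] at e1 e2
    rw [e1, e2]
  · intro x
    obtain ⟨y, rfl⟩ := QuotientAddGroup.mk_surjective x
    induction y using FreeAbelianGroup.induction_on with
    | zero => exact ⟨(0, 0), by simp⟩
    | of M =>
      obtain ⟨M, hM⟩ := M
      obtain ⟨a, b, hab⟩ := clSub_mem_two ax₁ ax₂ hxy M hM
      refine ⟨(a, b), ?_⟩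
      rw [← clSub_eq (Pfin A) hM, hab]
    | neg M h =>
      obtain ⟨⟨a, b⟩, hab⟩ := h
      refine ⟨(-a, -b), ?_⟩
      rw [QuotientAddGroup.mk_neg, ← hab]
      dsimp only
      rw [neg_smul, neg_smul, neg_add]
    | add x y hx hy =>
      obtain ⟨⟨a, b⟩, hab⟩ := hx
      obtain ⟨⟨a', b'⟩, hab'⟩ := hy
      refine ⟨(a + a', b + b'), ?_⟩
      rw [QuotientAddGroup.mk_add, ← hab, ← hab']
      dsimp only
      rw [add_smul, add_smul]
      abel

end TwoAxes

end Groth.Agent.Lib.Helper62.K0Axis
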