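import Mathlib
import Groth.Agent.Lib.Helper62.K0Axis

/-!
The two axes of the node `k[x,y]/(xy)`.
-/

set_option autoImplicit false
universe u

open CategoryTheory CategoryTheory.Limits

namespace Groth.Agent.Lib.Helper62.K0Node

open K0PID K0Axis

variable (k : Type u) [Field k]

/-- The defining ideal of the node. -/
noncomputable abbrev I : Ideal (MvPolynomial (Fin 2) k) :=
  Ideal.span {(MvPolynomial.X 0 * MvPolynomial.X 1 : MvPolynomial (Fin 2) k)}

/-- The coordinate ring of the node. -/
abbrev A : Type u := MvPolynomial (Fin 2) k ⧸ I k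

/-- The coordinate functions. -/
noncomputable abbrev c (i : Fin 2) : A k := Ideal.Quotient.mk (I k) (MvPolynomial.X i)

variable (i : Fin 2)

/-- The values of the projection onto the `i`-th axis. -/
noncomputable def val : Fin 2 → Polynomial k := fun l => if l = i then Polynomial.X else 0

lemma val_mul : val k i 0 * val k i 1 = 0 := by
  have h : ∀ i : Fin 2, i = 0 ∨ i = 1 := by decide
  unfold val
  rcases h i with rfl | rfl
  · rw [if_neg (by decide : ¬ (1 : Fin 2) = 0), mul_zero]
  · rw [if_neg (by decide : ¬ (0 : Fin 2) = 1), zero_mul]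

/-- The projection onto the `i`-th axis. -/
noncomputable def π : A k →+* Polynomial k :=
  Ideal.Quotient.lift (I k) (MvPolynomial.eval₂Hom Polynomial.C (val k i)) (by
    intro a ha
    obtain ⟨c, rfl⟩ := Ideal.mem_span_singleton'.1 ha
    rw [map_mul, map_mul, MvPolynomial.eval₂Hom_X', MvPolynomial.eval₂Hom_X', val_mul, mul_zero])

/-- The inclusion of the `i`-th axis. -/
noncomputable def τ : Polynomial k →+* A k :=
  Polynomial.eval₂RingHom ((Ideal.Quotient.mk (I k)).comp MvPolynomial.C) (c k i)

lemma π_C (a : k) : π k i (Ideal.Quotient.mk (I k) (MvPolynomial.C a)) = Polynomial.C a := by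
  unfold π
  rw [Ideal.Quotient.lift_mk, MvPolynomial.eval₂Hom_C]

lemma π_c (l : Fin 2) : π k i (c k l) = val k i l := by
  unfold π
  rw [Ideal.Quotient.lift_mk, MvPolynomial.eval₂Hom_X']

lemma τ_C (a : k) : τ k i (Polynomial.C a) = Ideal.Quotient.mk (I k) (MvPolynomial.C a) := by
  unfold τ
  rw [Polynomial.coe_eval₂RingHom, Polynomial.eval₂_C]
  rfl

lemma τ_X : τ k i Polynomial.X = c k i := by
  unfold τ
  rw [Polynomial.coe_eval₂RingHom, Polynomial.eval₂_X]

lemma πτ (b : Polynomial k) : π k i (τ k i b) = b := by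
  have : (π k i).comp (τ k i) = RingHom.id _ := by
    apply Polynomial.ringHom_ext
    · intro a
      rw [RingHom.comp_apply, τ_C, π_C, RingHom.id_apply]
    · rw [RingHom.comp_apply, τ_X, π_c, RingHom.id_apply]
      unfold val
      rw [if_pos rfl]
  exact RingHom.congr_fun this b

variable (j : Fin 2) (hij : i ≠ j)

include hij in
lemma c_mul : c k i * c k j = 0 := by
  have key : ∀ i j : Fin 2, i ≠ j → (i = 0 ∧ j = 1) ∨ (i = 1 ∧ j = 0) := by decide
  rw [← map_mul, Ideal.Quotient.eq_zero_iff_mem, Ideal.mem_span_singleton']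
  rcases key i j hij with ⟨rfl, rfl⟩ | ⟨rfl, rfl⟩
  · exact ⟨1, one_mul _⟩
  · exact ⟨1, by rw [one_mul, mul_comm]⟩

include hij in
lemma ker (a : A k) : ∃ a', a = τ k i (π k i a) + c k j * a' := by
  have : (Ideal.Quotient.mk (Ideal.span {c k j})).comp ((τ k i).comp (π k i)) =
      Ideal.Quotient.mk (Ideal.span {c k j}) := by
    apply Ideal.Quotient.ringHom_ext
    apply MvPolynomial.ringHom_ext
    · intro a
      simp only [RingHom.comp_apply]
      rw [π_C, τ_C]
    · intro l
      simp only [RingHom.comp_apply]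
      have h1 : π k i (Ideal.Quotient.mk (I k) (MvPolynomial.X l)) = val k i l := π_c k i l
      rw [h1]
      unfold val
      by_cases hl : l = i
      · rw [if_pos hl, τ_X, hl]
      · rw [if_neg hl, map_zero, map_zero]
        have key : ∀ i j l : Fin 2, i ≠ j → l ≠ i → l = j := by decide
        rw [key i j l hij hl]
        exact (Ideal.Quotient.eq_zero_iff_mem.2 (Ideal.mem_span_singleton_self _)).symm
  have h2 := RingHom.congr_fun this a
  rw [RingHom.comp_apply, RingHom.comp_apply, Ideal.Quotient.eq, Ideal.mem_span_singleton'] at h2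
  obtain ⟨a', ha'⟩ := h2
  refine ⟨-a', ?_⟩
  linear_combination ha'

/-- The `i`-th axis of the node. -/
noncomputable def axis : Axis (A k) (Polynomial k) where
  τ := τ k i
  π := π k i
  z := c k j
  b₀ := Polynomial.X
  πτ := πτ k i
  πz := by
    rw [π_c]
    unfold val
    rw [if_neg hij.symm]
  hb₀ := Polynomial.X_ne_zero
  hb₀z := by rw [τ_X]; exact c_mul k i j hij
  ker := ker k i j hij

theorem bijective :
    Function.Bijective (fun p : ℤ × ℤ =>
      p.1 • KZero.clSub (Pfin (A k)) (ModuleCat.of (A k) (A k ⧸ Ideal.span {c k 0})) +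
      p.2 • KZero.clSub (Pfin (A k)) (ModuleCat.of (A k) (A k ⧸ Ideal.span {c k 1}))) :=
  bijective_two_axes (axis k 0 1 (by decide)) (axis k 1 0 (by decide))
    (c_mul k 0 1 (by decide)) Polynomial.X Polynomial.X_ne_zero (τ_X k 0)
    Polynomial.X Polynomial.X_ne_zero (τ_X k 1)

end Groth.Agent.Lib.Helper62.K0Node
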