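import Mathlib
import Groth.Agent.Lib.Helper62.K0PID

/-!
The localization sequence `K₀(P) → K₀(A) → K₀(A/P) → 0` for a Serre class `P`.
-/

set_option autoImplicit false
universe v v' u u'

open CategoryTheory CategoryTheory.Limits ZeroObject

namespace Groth.Agent.Lib.Helper62.K0Serre

open K0PID

section Ab

variable {A : Type u} [Category.{v} A] [Abelian A]

lemma cl_add (S : ShortComplex A) (hS : S.ShortExact) :
    KZero.cl S.X₂ = KZero.cl S.X₁ + KZero.cl S.X₃ := by
  unfold KZero.cl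
  rw [← QuotientAddGroup.mk_add, QuotientAddGroup.eq]
  have h : FreeAbelianGroup.of S.X₂ - FreeAbelianGroup.of S.X₁ - FreeAbelianGroup.of S.X₃ ∈
      KZero.relAb A := AddSubgroup.subset_closure ⟨S, hS, rfl⟩
  have h' := (KZero.relAb A).neg_mem h
  convert h' using 1
  abel

lemma cl_zero (Z : A) (hZ : IsZero Z) : KZero.cl Z = 0 := by
  let S : ShortComplex A := ShortComplex.mk (0 : Z ⟶ Z) (0 : Z ⟶ Z) (by simp)
  have hS : S.ShortExact :=
    { exact := ShortComplex.exact_of_isZero_X₂ _ hZ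
      mono_f := ⟨fun _ _ _ => hZ.eq_of_tgt _ _⟩
      epi_g := ⟨fun _ _ _ => hZ.eq_of_src _ _⟩ }
  have h := cl_add S hS
  change KZero.cl Z = KZero.cl Z + KZero.cl Z at h
  have : KZero.cl Z + 0 = KZero.cl Z + KZero.cl Z := by rw [add_zero]; exact h
  exact (add_left_cancel this).symm

lemma cl_iso {X Y : A} (e : X ≅ Y) : KZero.cl X = KZero.cl Y := by
  let S : ShortComplex A := ShortComplex.mk e.hom (0 : Y ⟶ 0) (by simp)
  have hS : S.ShortExact :=
    { exact := (S.exact_iff_epi rfl).2 (inferInstanceAs (Epi e.hom))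
      mono_f := inferInstanceAs (Mono e.hom)
      epi_g := ⟨fun _ _ _ => (isZero_zero A).eq_of_src _ _⟩ }
  have h := cl_add S hS
  change KZero.cl Y = KZero.cl X + KZero.cl (0 : A) at h
  rw [cl_zero _ (isZero_zero A), add_zero] at h
  exact h.symm

lemma cl_biprod (X Y : A) : KZero.cl (X ⊞ Y) = KZero.cl X + KZero.cl Y :=
  cl_add _ (ShortComplex.Splitting.ofHasBinaryBiproduct X Y).shortExact

/-- `[X] + [coker f] = [Y] + [ker f]`. -/
lemma cl_ker_coker {X Y : A} (f : X ⟶ Y) :
    KZero.cl X + KZero.cl (cokernel f) = KZero.cl Y + KZero.cl (kernel f) := by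
  let S₁ : ShortComplex A := ShortComplex.mk (kernel.ι f) (cokernel.π (kernel.ι f)) (by simp)
  have hS₁ : S₁.ShortExact :=
    { exact := ShortComplex.exact_cokernel _
      mono_f := inferInstanceAs (Mono (kernel.ι f))
      epi_g := inferInstanceAs (Epi (cokernel.π (kernel.ι f))) }
  let S₂ : ShortComplex A := ShortComplex.mk (kernel.ι (cokernel.π f)) (cokernel.π f) (by simp)
  have hS₂ : S₂.ShortExact :=
    { exact := ShortComplex.exact_kernel _
      mono_f := inferInstanceAs (Mono (kernel.ι (cokernel.π f)))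
      epi_g := inferInstanceAs (Epi (cokernel.π f)) }
  have h₁ : KZero.cl X = KZero.cl (kernel f) + KZero.cl (Abelian.coimage f) := cl_add S₁ hS₁
  have h₂ : KZero.cl Y = KZero.cl (Abelian.image f) + KZero.cl (cokernel f) := cl_add S₂ hS₂
  have h₃ := cl_iso (Abelian.coimageIsoImage f)
  rw [h₁, h₂, h₃]
  abel

variable (P : ObjectProperty A)

/-- The map `K₀(P) → K₀(A)`. -/
noncomputable def ι : KZero.K0sub P →+ KZero.K0 A :=
  QuotientAddGroup.lift (KZero.relSub P)
    (FreeAbelianGroup.lift (fun X : Subtype P => KZero.cl X.1)) (by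
      refine (AddSubgroup.closure_le _).2 ?_
      rintro x ⟨S, h₁, h₂, h₃, hS, rfl⟩
      rw [SetLike.mem_coe, AddMonoidHom.mem_ker, map_sub, map_sub, FreeAbelianGroup.lift_apply_of,
        FreeAbelianGroup.lift_apply_of, FreeAbelianGroup.lift_apply_of]
      change KZero.cl S.X₂ - KZero.cl S.X₁ - KZero.cl S.X₃ = 0
      rw [cl_add S hS]
      abel)

lemma ι_clSub (X : A) (hX : P X) : ι P (KZero.clSub P X) = KZero.cl X := by
  rw [clSub_eq P hX]
  change (FreeAbelianGroup.lift (fun X : Subtype P => KZero.cl X.1)) (FreeAbelianGroup.of _) = _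
  rw [FreeAbelianGroup.lift_apply_of]

lemma clSub_iso [P.IsClosedUnderIsomorphisms] [P.ContainsZero] {X Y : A} (e : X ≅ Y) (hX : P X) :
    KZero.clSub P X = KZero.clSub P Y := by
  have hY : P Y := P.prop_of_iso e hX
  let S : ShortComplex A := ShortComplex.mk e.hom (0 : Y ⟶ 0) (by simp)
  have hS : S.ShortExact :=
    { exact := (S.exact_iff_epi rfl).2 (inferInstanceAs (Epi e.hom))
      mono_f := inferInstanceAs (Mono e.hom)
      epi_g := ⟨fun _ _ _ => (isZero_zero A).eq_of_src _ _⟩ }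
  have h := clSub_add P S hS hX hY P.prop_zero
  change KZero.clSub P Y = KZero.clSub P X + KZero.clSub P (0 : A) at h
  rw [clSub_zero P _ (isZero_zero A) P.prop_zero, add_zero] at h
  exact h.symm

lemma clSub_biprod (X Y : A) (hX : P X) (hY : P Y) (hXY : P (X ⊞ Y)) :
    KZero.clSub P (X ⊞ Y) = KZero.clSub P X + KZero.clSub P Y :=
  clSub_add P _ (ShortComplex.Splitting.ofHasBinaryBiproduct X Y).shortExact hX hXY hY

end Ab

section Loc

variable {A : Type u} [Category.{v} A] [Abelian A] (P : ObjectProperty A) [P.IsSerreClass]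
  {Q : Type u'} [Category.{v'} Q] [Abelian Q]
  (L : A ⥤ Q) [L.Additive] [PreservesFiniteLimits L] [PreservesFiniteColimits L]

/-- The map `K₀(A) → K₀(Q)`. -/
noncomputable def lam : KZero.K0 A →+ KZero.K0 Q :=
  QuotientAddGroup.lift (KZero.relAb A)
    (FreeAbelianGroup.lift (fun X : A => KZero.cl (L.obj X))) (by
      refine (AddSubgroup.closure_le _).2 ?_
      rintro x ⟨S, hS, rfl⟩
      rw [SetLike.mem_coe, AddMonoidHom.mem_ker, map_sub, map_sub, FreeAbelianGroup.lift_apply_of,
        FreeAbelianGroup.lift_apply_of, FreeAbelianGroup.lift_apply_of]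
      have := cl_add (S.map L) (hS.map_of_exact L)
      change KZero.cl (L.obj S.X₂) = KZero.cl (L.obj S.X₁) + KZero.cl (L.obj S.X₃) at this
      rw [this]
      abel)

lemma lam_cl (X : A) : lam L (KZero.cl X) = KZero.cl (L.obj X) := by
  change (FreeAbelianGroup.lift (fun X : A => KZero.cl (L.obj X))) (FreeAbelianGroup.of _) = _
  rw [FreeAbelianGroup.lift_apply_of]

variable [L.IsLocalization P.isoModSerre]

lemma lam_ι (x : KZero.K0sub P) : lam L (ι P x) = 0 := by
  obtain ⟨y, rfl⟩ := QuotientAddGroup.mk_surjective x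
  induction y using FreeAbelianGroup.induction_on with
  | zero => exact (lam L).map_zero
  | of X =>
    obtain ⟨X, hX⟩ := X
    rw [← clSub_eq P hX, ι_clSub P X hX, lam_cl]
    exact cl_zero _ ((ObjectProperty.SerreClassLocalization.isZero_obj_iff L P X).2 hX)
  | neg X h => rw [QuotientAddGroup.mk_neg, map_neg, map_neg, h, neg_zero]
  | add x y hx hy => rw [QuotientAddGroup.mk_add, map_add, map_add, hx, hy, add_zero]

omit [L.Additive] [PreservesFiniteLimits L] [PreservesFiniteColimits L]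
  [L.IsLocalization P.isoModSerre] in
lemma cl_mem_range (X : A) (hX : P X) : KZero.cl X ∈ (ι P).range :=
  ⟨KZero.clSub P X, ι_clSub P X hX⟩

omit [L.Additive] [PreservesFiniteLimits L] [PreservesFiniteColimits L]
  [L.IsLocalization P.isoModSerre] in
lemma sub_mem_of_W {X Y : A} (f : X ⟶ Y) (hf : P.isoModSerre f) :
    KZero.cl X - KZero.cl Y ∈ (ι P).range := by
  have h := cl_ker_coker f
  have : KZero.cl X - KZero.cl Y = KZero.cl (kernel f) - KZero.cl (cokernel f) := by
    rw [sub_eq_sub_iff_add_eq_add, h]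
    abel
  rw [this]
  exact sub_mem (cl_mem_range P _ hf.1) (cl_mem_range P _ hf.2)

lemma sub_mem_of_iso {X X' : A} (e : L.obj X ≅ L.obj X') :
    KZero.cl X - KZero.cl X' ∈ (ι P).range := by
  obtain ⟨φ, hφ⟩ := Localization.exists_leftFraction L P.isoModSerre e.hom
  have hs : IsIso (L.map φ.s) := Localization.inverts L P.isoModSerre _ φ.hs
  have h1 := φ.map_comp_map_s L (Localization.inverts L P.isoModSerre)
  rw [← hφ] at h1
  have hf : IsIso (L.map φ.f) := by
    rw [← h1]
    infer_instance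
  have hf' : P.isoModSerre φ.f :=
    (ObjectProperty.SerreClassLocalization.isIso_map_iff L P φ.f).1 hf
  have := sub_mem (sub_mem_of_W P φ.f hf') (sub_mem_of_W P φ.s φ.hs)
  convert this using 1
  abel

lemma mk_cl_eq {X X' : A} (e : L.obj X ≅ L.obj X') :
    (QuotientAddGroup.mk (KZero.cl X) : KZero.K0 A ⧸ (ι P).range) =
      QuotientAddGroup.mk (KZero.cl X') := by
  rw [QuotientAddGroup.eq]
  have := sub_mem_of_iso P L e.symm
  convert this using 1
  abel

lemma mk_cl_add (S : ShortComplex Q) (hS : S.ShortExact) (X₁ X₂ X₃ : A)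
    (e₁ : L.obj X₁ ≅ S.X₁) (e₂ : L.obj X₂ ≅ S.X₂) (e₃ : L.obj X₃ ≅ S.X₃) :
    (QuotientAddGroup.mk (KZero.cl X₂) : KZero.K0 A ⧸ (ι P).range) =
      QuotientAddGroup.mk (KZero.cl X₁) + QuotientAddGroup.mk (KZero.cl X₃) := by
  have := Localization.essSurj_mapArrow L P.isoModSerre
  obtain ⟨g, ⟨eg⟩⟩ := this.mem_essImage (Arrow.mk S.g)
  have hw : L.map g.hom ≫ eg.hom.right = eg.hom.left ≫ S.g := eg.hom.w.symm
  have := hS.epi_g
  let eL : L.obj g.left ≅ S.X₂ := Arrow.leftFunc.mapIso eg
  let eR : L.obj g.right ≅ S.X₃ := Arrow.rightFunc.mapIso eg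
  have hw' : L.map g.hom = eL.hom ≫ S.g ≫ eR.inv := by
    rw [← Category.assoc, Iso.eq_comp_inv]
    exact hw
  have hepi : Epi (L.map g.hom) := by
    rw [hw']
    infer_instance
  have hcoker : P (cokernel g.hom) :=
    (ObjectProperty.SerreClassLocalization.epi_map_iff L P g.hom).1 hepi
  -- the kernel
  let eK : L.obj (kernel g.hom) ≅ S.X₁ :=
    PreservesKernel.iso L g.hom ≪≫
      kernel.mapIso (L.map g.hom) S.g eL eR hw ≪≫
      (IsLimit.conePointUniqueUpToIso (kernelIsKernel S.g) hS.fIsKernel)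
  have h := cl_ker_coker g.hom
  have h0 : (QuotientAddGroup.mk (KZero.cl (cokernel g.hom)) : KZero.K0 A ⧸ (ι P).range) = 0 :=
    (QuotientAddGroup.eq_zero_iff _).2 (cl_mem_range P _ hcoker)
  have h' := congrArg (QuotientAddGroup.mk : _ → KZero.K0 A ⧸ (ι P).range) h
  rw [QuotientAddGroup.mk_add, QuotientAddGroup.mk_add, h0, add_zero] at h'
  rw [mk_cl_eq P L (e₂ ≪≫ eL.symm), h', mk_cl_eq P L (e₃ ≪≫ eR.symm),
    mk_cl_eq P L (e₁ ≪≫ eK.symm), add_comm]

/-- The inverse map `K₀(Q) → K₀(A) / K₀(P)`. -/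
noncomputable def θ : KZero.K0 Q →+ KZero.K0 A ⧸ (ι P).range :=
  haveI := Localization.essSurj L P.isoModSerre
  QuotientAddGroup.lift (KZero.relAb Q)
    (FreeAbelianGroup.lift (fun Y : Q =>
      (QuotientAddGroup.mk (KZero.cl (L.objPreimage Y)) : KZero.K0 A ⧸ (ι P).range))) (by
      refine (AddSubgroup.closure_le _).2 ?_
      rintro x ⟨S, hS, rfl⟩
      rw [SetLike.mem_coe, AddMonoidHom.mem_ker, map_sub, map_sub, FreeAbelianGroup.lift_apply_of,
        FreeAbelianGroup.lift_apply_of, FreeAbelianGroup.lift_apply_of]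
      rw [mk_cl_add P L S hS _ _ _ (L.objObjPreimageIso S.X₁) (L.objObjPreimageIso S.X₂)
        (L.objObjPreimageIso S.X₃)]
      abel)

lemma θ_cl (Y : Q) : haveI := Localization.essSurj L P.isoModSerre
    θ P L (KZero.cl Y) = QuotientAddGroup.mk (KZero.cl (L.objPreimage Y)) := by
  haveI := Localization.essSurj L P.isoModSerre
  change (FreeAbelianGroup.lift (fun Y : Q =>
      (QuotientAddGroup.mk (KZero.cl (L.objPreimage Y)) : KZero.K0 A ⧸ (ι P).range)))
    (FreeAbelianGroup.of _) = _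
  rw [FreeAbelianGroup.lift_apply_of]

lemma θ_lam (x : KZero.K0 A) : θ P L (lam L x) = QuotientAddGroup.mk x := by
  haveI := Localization.essSurj L P.isoModSerre
  obtain ⟨y, rfl⟩ := QuotientAddGroup.mk_surjective x
  induction y using FreeAbelianGroup.induction_on with
  | zero => rw [QuotientAddGroup.mk_zero, map_zero, map_zero, QuotientAddGroup.mk_zero]
  | of X =>
    change θ P L (lam L (KZero.cl X)) = QuotientAddGroup.mk (KZero.cl X)
    rw [lam_cl, θ_cl]
    exact mk_cl_eq P L (L.objObjPreimageIso (L.obj X))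
  | neg X h =>
    rw [QuotientAddGroup.mk_neg, map_neg, map_neg, h, QuotientAddGroup.mk_neg]
  | add x y hx hy =>
    rw [QuotientAddGroup.mk_add, map_add, map_add, hx, hy, QuotientAddGroup.mk_add]

theorem ker_lam : (lam L).ker = (ι P).range := by
  ext x
  constructor
  · intro hx
    have h := θ_lam P L x
    rw [(AddMonoidHom.mem_ker).1 hx, map_zero] at h
    exact (QuotientAddGroup.eq_zero_iff _).1 h.symm
  · rintro ⟨y, rfl⟩
    exact lam_ι P L y

include P in
theorem lam_surjective : Function.Surjective (lam L) := by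
  haveI := Localization.essSurj L P.isoModSerre
  intro y
  obtain ⟨z, rfl⟩ := QuotientAddGroup.mk_surjective y
  induction z using FreeAbelianGroup.induction_on with
  | zero => exact ⟨0, map_zero _⟩
  | of Y =>
    refine ⟨KZero.cl (L.objPreimage Y), ?_⟩
    rw [lam_cl]
    exact cl_iso (L.objObjPreimageIso Y)
  | neg Y h =>
    obtain ⟨x, hx⟩ := h
    exact ⟨-x, by rw [map_neg, hx, QuotientAddGroup.mk_neg]⟩
  | add x y hx hy =>
    obtain ⟨x', hx'⟩ := hx
    obtain ⟨y', hy'⟩ := hy
    exact ⟨x' + y', by rw [map_add, hx', hy', QuotientAddGroup.mk_add]⟩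

end Loc

end Groth.Agent.Lib.Helper62.K0Serre
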