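import Mathlib
import Groth.Agent.Lib.Helper62.K0Serre

/-!
The kernel of `K₀(P) → K₀(A)` in terms of 2-periodic complexes.
-/

set_option autoImplicit false
universe v v' u u'

open CategoryTheory CategoryTheory.Limits ZeroObject

namespace Groth.Agent.Lib.Helper62.K0Serre

open K0PID

section Sum

variable {A : Type u} [Category.{v} A] [Abelian A]

/-- The direct sum of two short complexes. -/
noncomputable def sum (S₁ S₂ : ShortComplex A) : ShortComplex A :=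
  ShortComplex.mk (biprod.map S₁.f S₂.f) (biprod.map S₁.g S₂.g) (by
    ext <;> simp)

variable (S₁ S₂ : ShortComplex A)

noncomputable def sumFst : sum S₁ S₂ ⟶ S₁ where
  τ₁ := biprod.fst
  τ₂ := biprod.fst
  τ₃ := biprod.fst
  comm₁₂ := by simp [sum]
  comm₂₃ := by simp [sum]

noncomputable def sumSnd : sum S₁ S₂ ⟶ S₂ where
  τ₁ := biprod.snd
  τ₂ := biprod.snd
  τ₃ := biprod.snd
  comm₁₂ := by simp [sum]
  comm₂₃ := by simp [sum]

noncomputable def sumInl : S₁ ⟶ sum S₁ S₂ where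
  τ₁ := biprod.inl
  τ₂ := biprod.inl
  τ₃ := biprod.inl
  comm₁₂ := by simp [sum]
  comm₂₃ := by simp [sum]

noncomputable def sumInr : S₂ ⟶ sum S₁ S₂ where
  τ₁ := biprod.inr
  τ₂ := biprod.inr
  τ₃ := biprod.inr
  comm₁₂ := by simp [sum]
  comm₂₃ := by simp [sum]

lemma sumInl_sumFst : sumInl S₁ S₂ ≫ sumFst S₁ S₂ = 𝟙 _ := by
  ext
  · exact biprod.inl_fst
  · exact biprod.inl_fst
  · exact biprod.inl_fst

lemma sum_total :
    sumFst S₁ S₂ ≫ sumInl S₁ S₂ + sumSnd S₁ S₂ ≫ sumInr S₁ S₂ = 𝟙 _ := by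
  ext
  · exact biprod.total
  · exact biprod.total
  · exact biprod.total

lemma homologyMap_total :
    ShortComplex.homologyMap (sumFst S₁ S₂) ≫ ShortComplex.homologyMap (sumInl S₁ S₂) +
      ShortComplex.homologyMap (sumSnd S₁ S₂) ≫ ShortComplex.homologyMap (sumInr S₁ S₂) =
        𝟙 _ := by
  rw [← ShortComplex.homologyMap_comp, ← ShortComplex.homologyMap_comp,
    ← ShortComplex.homologyMap_add, sum_total, ShortComplex.homologyMap_id]

variable {S₁ S₂}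

lemma exact_sum (h₁ : S₁.Exact) (h₂ : S₂.Exact) : (sum S₁ S₂).Exact := by
  rw [ShortComplex.exact_iff_isZero_homology, IsZero.iff_id_eq_zero, ← homologyMap_total,
    (S₁.exact_iff_isZero_homology.1 h₁).eq_of_tgt (ShortComplex.homologyMap (sumFst S₁ S₂)) 0,
    (S₂.exact_iff_isZero_homology.1 h₂).eq_of_tgt (ShortComplex.homologyMap (sumSnd S₁ S₂)) 0,
    zero_comp, zero_comp, add_zero]

variable (S₁) in
/-- The homology of a direct sum with an exact complex. -/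
noncomputable def sumHomologyIso (h₂ : S₂.Exact) : (sum S₁ S₂).homology ≅ S₁.homology where
  hom := ShortComplex.homologyMap (sumFst S₁ S₂)
  inv := ShortComplex.homologyMap (sumInl S₁ S₂)
  hom_inv_id := by
    rw [← homologyMap_total,
      (S₂.exact_iff_isZero_homology.1 h₂).eq_of_tgt (ShortComplex.homologyMap (sumSnd S₁ S₂)) 0,
      zero_comp, add_zero]
  inv_hom_id := by
    rw [← ShortComplex.homologyMap_comp, sumInl_sumFst, ShortComplex.homologyMap_id]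

end Sum

section RelPair

variable {A : Type u} [Category.{v} A] [Abelian A]

/-- A pair of objects with maps in both directions forming a 2-periodic exact complex. -/
def RelPair (U V : A) : Prop :=
  ∃ (a : U ⟶ V) (b : V ⟶ U) (hab : a ≫ b = 0) (hba : b ≫ a = 0),
    (ShortComplex.mk a b hab).Exact ∧ (ShortComplex.mk b a hba).Exact

lemma RelPair.symm {U V : A} (h : RelPair U V) : RelPair V U := by
  obtain ⟨a, b, hab, hba, h₁, h₂⟩ := h
  exact ⟨b, a, hba, hab, h₂, h₁⟩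

lemma RelPair.of_iso {U V : A} (e : U ≅ V) : RelPair U V := by
  refine ⟨e.hom, 0, comp_zero, zero_comp, ?_, ?_⟩
  · exact (ShortComplex.exact_iff_epi _ rfl).2 (inferInstanceAs (Epi e.hom))
  · exact (ShortComplex.exact_iff_mono _ rfl).2 (inferInstanceAs (Mono e.hom))

lemma RelPair.iso {U V U' V' : A} (h : RelPair U V) (e : U ≅ U') (e' : V ≅ V') :
    RelPair U' V' := by
  obtain ⟨a, b, hab, hba, h₁, h₂⟩ := h
  refine ⟨e.inv ≫ a ≫ e'.hom, e'.inv ≫ b ≫ e.hom, by simp [reassoc_of% hab],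
    by simp [reassoc_of% hba], ?_, ?_⟩
  · refine (ShortComplex.exact_iff_of_iso ?_).1 h₁
    exact ShortComplex.isoMk e e' e (by simp) (by simp)
  · refine (ShortComplex.exact_iff_of_iso ?_).1 h₂
    exact ShortComplex.isoMk e' e e' (by simp) (by simp)

lemma RelPair.add {U V U' V' : A} (h : RelPair U V) (h' : RelPair U' V') :
    RelPair (U ⊞ U') (V ⊞ V') := by
  obtain ⟨a, b, hab, hba, h₁, h₂⟩ := h
  obtain ⟨a', b', hab', hba', h₁', h₂'⟩ := h'
  refine ⟨biprod.map a a', biprod.map b b', by ext <;> simp [hab, hab'],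
    by ext <;> simp [hba, hba'], ?_, ?_⟩
  · exact exact_sum h₁ h₁'
  · exact exact_sum h₂ h₂'

lemma RelPair.of_shortExact (S : ShortComplex A) (hS : S.ShortExact) :
    RelPair S.X₂ (S.X₁ ⊞ S.X₃) := by
  have := hS.mono_f
  have := hS.epi_g
  refine ⟨S.g ≫ biprod.inr, biprod.fst ≫ S.f, by simp, by simp, ?_, ?_⟩
  · -- `X₂ → X₁ ⊞ X₃ → X₂`
    let S₀ : ShortComplex A := ShortComplex.mk (biprod.inr : S.X₃ ⟶ S.X₁ ⊞ S.X₃) biprod.fst
      (by simp)
    have h₀ : S₀.Exact := ShortComplex.exact_of_f_is_kernel _ (biprod.isKernelFstKernelFork _ _)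
    let S₁ : ShortComplex A := ShortComplex.mk (S.g ≫ biprod.inr : S.X₂ ⟶ S.X₁ ⊞ S.X₃) biprod.fst
      (by simp)
    have h₁ : S₁.Exact := by
      let φ : S₁ ⟶ S₀ :=
        { τ₁ := S.g
          τ₂ := 𝟙 _
          τ₃ := 𝟙 _ }
      have : Epi φ.τ₁ := inferInstanceAs (Epi S.g)
      have : IsIso φ.τ₂ := inferInstanceAs (IsIso (𝟙 _))
      have : Mono φ.τ₃ := inferInstanceAs (Mono (𝟙 _))
      exact (ShortComplex.exact_iff_of_epi_of_isIso_of_mono φ).2 h₀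
    let φ : S₁ ⟶ ShortComplex.mk (S.g ≫ biprod.inr : S.X₂ ⟶ S.X₁ ⊞ S.X₃)
        (biprod.fst ≫ S.f : S.X₁ ⊞ S.X₃ ⟶ S.X₂)
        (show (S.g ≫ biprod.inr) ≫ (biprod.fst ≫ S.f) = 0 by simp) :=
      { τ₁ := 𝟙 _
        τ₂ := 𝟙 _
        τ₃ := S.f }
    have : Epi φ.τ₁ := inferInstanceAs (Epi (𝟙 _))
    have : IsIso φ.τ₂ := inferInstanceAs (IsIso (𝟙 _))
    have : Mono φ.τ₃ := inferInstanceAs (Mono S.f)
    exact (ShortComplex.exact_iff_of_epi_of_isIso_of_mono φ).1 h₁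
  · -- `X₁ ⊞ X₃ → X₂ → X₁ ⊞ X₃`
    let S₁ : ShortComplex A := ShortComplex.mk (biprod.fst ≫ S.f : S.X₁ ⊞ S.X₃ ⟶ S.X₂) S.g
      (by simp)
    have h₁ : S₁.Exact := by
      let φ : S₁ ⟶ S :=
        { τ₁ := biprod.fst
          τ₂ := 𝟙 _
          τ₃ := 𝟙 _ }
      have : Epi φ.τ₁ := inferInstanceAs (Epi (biprod.fst : S.X₁ ⊞ S.X₃ ⟶ S.X₁))
      have : IsIso φ.τ₂ := inferInstanceAs (IsIso (𝟙 _))
      have : Mono φ.τ₃ := inferInstanceAs (Mono (𝟙 _))
      exact (ShortComplex.exact_iff_of_epi_of_isIso_of_mono φ).2 hS.exact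
    let φ : S₁ ⟶ ShortComplex.mk (biprod.fst ≫ S.f : S.X₁ ⊞ S.X₃ ⟶ S.X₂)
        (S.g ≫ biprod.inr : S.X₂ ⟶ S.X₁ ⊞ S.X₃)
        (show (biprod.fst ≫ S.f) ≫ (S.g ≫ biprod.inr) = 0 by simp) :=
      { τ₁ := 𝟙 _
        τ₂ := 𝟙 _
        τ₃ := biprod.inr }
    have : Epi φ.τ₁ := inferInstanceAs (Epi (𝟙 _))
    have : IsIso φ.τ₂ := inferInstanceAs (IsIso (𝟙 _))
    have : Mono φ.τ₃ := inferInstanceAs (Mono (biprod.inr : S.X₃ ⟶ S.X₁ ⊞ S.X₃))
    exact (ShortComplex.exact_iff_of_epi_of_isIso_of_mono φ).1 h₁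

end RelPair

section Periodic

variable {A : Type u} [Category.{v} A] [Abelian A]

/-- `[X₁] + [H] = [ker g] + [ker f]` for a short complex. -/
lemma cl_homology (S : ShortComplex A) :
    KZero.cl S.X₁ + KZero.cl S.homology = KZero.cl (kernel S.g) + KZero.cl (kernel S.f) := by
  have h := cl_ker_coker (kernel.lift S.g S.f S.zero)
  rw [← cl_iso S.homologyIsoCokernelLift] at h
  have e : kernel (kernel.lift S.g S.f S.zero) ≅ kernel S.f :=
    (kernelCompMono (kernel.lift S.g S.f S.zero) (kernel.ι S.g)).symm ≪≫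
      kernelIsoOfEq (kernel.lift_ι _ _ _)
  rw [cl_iso e] at h
  exact h

/-- The two homology objects of a 2-periodic complex have the same class in `K₀`. -/
lemma cl_homology_eq {M : A} (φ ψ : M ⟶ M) (h₁ : φ ≫ ψ = 0) (h₂ : ψ ≫ φ = 0) :
    KZero.cl (ShortComplex.mk φ ψ h₁).homology = KZero.cl (ShortComplex.mk ψ φ h₂).homology := by
  have e₁ := cl_homology (ShortComplex.mk φ ψ h₁)
  have e₂ := cl_homology (ShortComplex.mk ψ φ h₂)
  dsimp only at e₁ e₂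
  have : KZero.cl M + KZero.cl (ShortComplex.mk φ ψ h₁).homology =
      KZero.cl M + KZero.cl (ShortComplex.mk ψ φ h₂).homology := by
    rw [e₁, e₂, add_comm]
  exact add_left_cancel this

/-- Construction of a 2-periodic complex with prescribed homology. -/
lemma exists_complex {U₀ V₀ U V : A} (h : RelPair U V) (θ : U₀ ⊞ U ≅ V₀ ⊞ V) :
    ∃ (M : A) (φ ψ : M ⟶ M) (h₁ : φ ≫ ψ = 0) (h₂ : ψ ≫ φ = 0),
      Nonempty ((ShortComplex.mk φ ψ h₁).homology ≅ V₀) ∧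
      Nonempty ((ShortComplex.mk ψ φ h₂).homology ≅ U₀) := by
  obtain ⟨a, b, hab, hba, hex₁, hex₂⟩ := h
  let S₁ : ShortComplex A := ShortComplex.mk (0 : U₀ ⟶ V₀) (0 : V₀ ⟶ U₀) zero_comp
  let S₂ : ShortComplex A := ShortComplex.mk (0 : V₀ ⟶ U₀) (0 : U₀ ⟶ V₀) zero_comp
  let T₁ : ShortComplex A := ShortComplex.mk a b hab
  let T₂ : ShortComplex A := ShortComplex.mk b a hba
  let a' : U₀ ⊞ U ⟶ V₀ ⊞ V := biprod.map 0 a
  let b' : V₀ ⊞ V ⟶ U₀ ⊞ U := biprod.map 0 b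
  have hab' : a' ≫ b' = 0 := (sum S₁ T₁).zero
  have hba' : b' ≫ a' = 0 := (sum S₂ T₂).zero
  have z₁ : (a' ≫ θ.inv) ≫ (θ.hom ≫ b') = 0 := by
    rw [Category.assoc, Iso.inv_hom_id_assoc, hab']
  have z₂ : (θ.hom ≫ b') ≫ (a' ≫ θ.inv) = 0 := by
    rw [Category.assoc, reassoc_of% hba', zero_comp, comp_zero]
  refine ⟨U₀ ⊞ U, a' ≫ θ.inv, θ.hom ≫ b', z₁, z₂, ⟨?_⟩, ⟨?_⟩⟩
  · let e : ShortComplex.mk _ _ z₁ ≅ sum S₁ T₁ :=
      ShortComplex.isoMk (Iso.refl _) θ (Iso.refl _)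
        (by
          change 𝟙 _ ≫ a' = (a' ≫ θ.inv) ≫ θ.hom
          rw [Category.assoc, Iso.inv_hom_id, Category.comp_id, Category.id_comp])
        (by
          change θ.hom ≫ b' = (θ.hom ≫ b') ≫ 𝟙 _
          rw [Category.comp_id])
    exact ShortComplex.homologyMapIso e ≪≫ sumHomologyIso S₁ hex₁ ≪≫
      (ShortComplex.LeftHomologyData.ofZeros S₁ rfl rfl).homologyIso
  · let e : ShortComplex.mk _ _ z₂ ≅ sum S₂ T₂ :=
      ShortComplex.isoMk θ (Iso.refl _) θ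
        (by
          change θ.hom ≫ b' = (θ.hom ≫ b') ≫ 𝟙 _
          rw [Category.comp_id])
        (by
          change 𝟙 _ ≫ a' = (a' ≫ θ.inv) ≫ θ.hom
          rw [Category.assoc, Iso.inv_hom_id, Category.comp_id, Category.id_comp])
    exact ShortComplex.homologyMapIso e ≪≫ sumHomologyIso S₂ hex₂ ≪≫
      (ShortComplex.LeftHomologyData.ofZeros S₂ rfl rfl).homologyIso

end Periodic

section Heller

variable (A : Type u) [Category.{v} A] [Abelian A]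

/-- Isomorphism classes of objects. -/
def M₀ : Type u := Quotient (isIsomorphicSetoid A)

variable {A}

/-- The isomorphism class of an object. -/
def M₀.mk (X : A) : M₀ A := Quotient.mk _ X

lemma M₀.mk_surjective (x : M₀ A) : ∃ X : A, M₀.mk X = x := Quotient.exists_rep x

lemma M₀.mk_eq_iff {X Y : A} : M₀.mk X = M₀.mk Y ↔ Nonempty (X ≅ Y) :=
  ⟨fun h => Quotient.exact h, fun h => Quotient.sound h⟩

noncomputable instance : Add (M₀ A) where
  add := Quotient.map₂ (fun X Y => X ⊞ Y) (by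
    rintro X X' ⟨e⟩ Y Y' ⟨e'⟩
    exact ⟨biprod.mapIso e e'⟩)

noncomputable instance : Zero (M₀ A) where
  zero := M₀.mk 0

noncomputable instance : AddCommMonoid (M₀ A) where
  add_assoc := by
    rintro ⟨X⟩ ⟨Y⟩ ⟨Z⟩
    exact Quotient.sound ⟨biprod.associator X Y Z⟩
  zero_add := by
    rintro ⟨X⟩
    exact Quotient.sound ⟨(isoZeroBiprod (isZero_zero A)).symm⟩
  add_zero := by
    rintro ⟨X⟩
    exact Quotient.sound ⟨(isoBiprodZero (isZero_zero A)).symm⟩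
  add_comm := by
    rintro ⟨X⟩ ⟨Y⟩
    exact Quotient.sound ⟨biprod.braiding X Y⟩
  nsmul := nsmulRec
  nsmul_zero := fun _ => rfl
  nsmul_succ := fun _ _ => rfl

lemma M₀.mk_add (X Y : A) : M₀.mk X + M₀.mk Y = M₀.mk (X ⊞ Y) := rfl

/-- The relation induced by `RelPair` on isomorphism classes. -/
def R (x y : M₀ A) : Prop := ∃ U V : A, M₀.mk U = x ∧ M₀.mk V = y ∧ RelPair U V

lemma R_mk {U V : A} : R (M₀.mk U) (M₀.mk V) ↔ RelPair U V := by
  constructor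
  · rintro ⟨U', V', hU, hV, h⟩
    obtain ⟨e⟩ := M₀.mk_eq_iff.1 hU
    obtain ⟨e'⟩ := M₀.mk_eq_iff.1 hV
    exact h.iso e e'
  · intro h
    exact ⟨U, V, rfl, rfl, h⟩

lemma R.refl (x : M₀ A) : R x x := by
  obtain ⟨X, rfl⟩ := M₀.mk_surjective x
  exact R_mk.2 (RelPair.of_iso (Iso.refl X))

lemma R.symm {x y : M₀ A} (h : R x y) : R y x := by
  obtain ⟨U, V, rfl, rfl, h⟩ := h
  exact R_mk.2 h.symm

lemma R.add {x y x' y' : M₀ A} (h : R x y) (h' : R x' y') : R (x + x') (y + y') := by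
  obtain ⟨U, V, rfl, rfl, h⟩ := h
  obtain ⟨U', V', rfl, rfl, h'⟩ := h'
  rw [M₀.mk_add, M₀.mk_add]
  exact R_mk.2 (h.add h')

lemma R_of_shortExact (S : ShortComplex A) (hS : S.ShortExact) :
    R (M₀.mk S.X₂) (M₀.mk S.X₁ + M₀.mk S.X₃) := by
  rw [M₀.mk_add]
  exact R_mk.2 (RelPair.of_shortExact S hS)

/-- The stable version of `R`. -/
def Rs (x y : M₀ A) : Prop := ∃ c, R (x + c) (y + c)

variable (A) in
/-- The congruence defined by `Rs`. -/
def con : AddCon (M₀ A) where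
  r := Rs
  iseqv :=
    { refl := fun x => ⟨0, R.refl _⟩
      symm := fun ⟨c, h⟩ => ⟨c, h.symm⟩
      trans := by
        rintro x y z ⟨c, h⟩ ⟨d, h'⟩
        refine ⟨c + y + d, ?_⟩
        have := h.add h'
        have e₁ : x + c + (y + d) = x + (c + y + d) := by abel
        have e₂ : y + c + (z + d) = z + (c + y + d) := by abel
        rwa [e₁, e₂] at this }
  add' := by
    rintro w x y z ⟨c, h⟩ ⟨d, h'⟩
    refine ⟨c + d, ?_⟩
    have := h.add h'
    have e₁ : w + c + (y + d) = w + y + (c + d) := by abel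
    have e₂ : x + c + (z + d) = x + z + (c + d) := by abel
    rwa [e₁, e₂] at this

variable (A) in
/-- The target group. -/
abbrev G : Type u := Algebra.GrothendieckAddGroup (con A).Quotient

/-- The class of an object in `G`. -/
noncomputable def Ψ₀ (X : A) : G A :=
  Algebra.GrothendieckAddGroup.of ((con A).mk' (M₀.mk X))

lemma Ψ₀_add (S : ShortComplex A) (hS : S.ShortExact) : Ψ₀ S.X₂ = Ψ₀ S.X₁ + Ψ₀ S.X₃ := by
  unfold Ψ₀
  rw [← map_add, ← map_add]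
  congr 1
  exact (AddCon.eq _).2 ⟨0, by
    rw [add_zero, add_zero]
    exact R_of_shortExact S hS⟩

variable (A) in
/-- The homomorphism `K₀(A) → G`. -/
noncomputable def Ψ : KZero.K0 A →+ G A :=
  QuotientAddGroup.lift (KZero.relAb A) (FreeAbelianGroup.lift Ψ₀) (by
    refine (AddSubgroup.closure_le _).2 ?_
    rintro x ⟨S, hS, rfl⟩
    rw [SetLike.mem_coe, AddMonoidHom.mem_ker, map_sub, map_sub, FreeAbelianGroup.lift_apply_of,
      FreeAbelianGroup.lift_apply_of, FreeAbelianGroup.lift_apply_of, Ψ₀_add S hS]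
    abel)

lemma Ψ_cl (X : A) : Ψ A (KZero.cl X) = Ψ₀ X := by
  change (FreeAbelianGroup.lift Ψ₀) (FreeAbelianGroup.of _) = _
  rw [FreeAbelianGroup.lift_apply_of]

/-- Heller's criterion: two objects with the same class in `K₀` are stably related. -/
theorem exists_relPair_of_cl_eq {U₀ V₀ : A} (h : KZero.cl U₀ = KZero.cl V₀) :
    ∃ D : A, RelPair (U₀ ⊞ D) (V₀ ⊞ D) := by
  have h' := congrArg (Ψ A) h
  rw [Ψ_cl, Ψ_cl] at h'
  obtain ⟨c, hc⟩ := (AddLocalization.addMonoidOf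
    (⊤ : AddSubmonoid (con A).Quotient)).eq_iff_exists.1 h'
  obtain ⟨w, hw⟩ := AddCon.mk'_surjective (c := con A) c.1
  rw [← hw, ← map_add, ← map_add] at hc
  obtain ⟨d, hd⟩ := (AddCon.eq _).1 hc
  obtain ⟨W, rfl⟩ := M₀.mk_surjective w
  obtain ⟨D, rfl⟩ := M₀.mk_surjective d
  have e₁ : M₀.mk W + M₀.mk U₀ + M₀.mk D = M₀.mk (U₀ ⊞ (W ⊞ D)) := by
    rw [← M₀.mk_add, ← M₀.mk_add]
    abel
  have e₂ : M₀.mk W + M₀.mk V₀ + M₀.mk D = M₀.mk (V₀ ⊞ (W ⊞ D)) := by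
    rw [← M₀.mk_add, ← M₀.mk_add]
    abel
  rw [e₁, e₂] at hd
  exact ⟨W ⊞ D, R_mk.1 hd⟩

end Heller

section Kernel

variable {A : Type u} [Category.{v} A] [Abelian A] (P : ObjectProperty A) [P.IsSerreClass]

/-- Every element of `K₀(P)` is a difference of two classes. -/
lemma exists_diff (x : KZero.K0sub P) :
    ∃ (U₀ V₀ : A) (_ : P U₀) (_ : P V₀), x = KZero.clSub P U₀ - KZero.clSub P V₀ := by
  obtain ⟨y, rfl⟩ := QuotientAddGroup.mk_surjective x
  have h0 : KZero.clSub P (0 : A) = 0 := clSub_zero P _ (isZero_zero A) P.prop_zero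
  induction y using FreeAbelianGroup.induction_on with
  | zero =>
    refine ⟨0, 0, P.prop_zero, P.prop_zero, ?_⟩
    rw [QuotientAddGroup.mk_zero, sub_self]
  | of X =>
    obtain ⟨X, hX⟩ := X
    refine ⟨X, 0, hX, P.prop_zero, ?_⟩
    rw [h0, sub_zero, clSub_eq P hX]
  | neg X h =>
    obtain ⟨U, V, hU, hV, h⟩ := h
    refine ⟨V, U, hV, hU, ?_⟩
    rw [QuotientAddGroup.mk_neg, h, neg_sub]
  | add x y hx hy =>
    obtain ⟨U, V, hU, hV, h⟩ := hx
    obtain ⟨U', V', hU', hV', h'⟩ := hy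
    refine ⟨U ⊞ U', V ⊞ V', P.prop_biprod hU hU', P.prop_biprod hV hV', ?_⟩
    rw [QuotientAddGroup.mk_add, h, h', clSub_biprod P U U' hU hU' (P.prop_biprod hU hU'),
      clSub_biprod P V V' hV hV' (P.prop_biprod hV hV')]
    abel

theorem ι_eq_zero_iff (x : KZero.K0sub P) : ι P x = 0 ↔
    ∃ (M : A) (φ ψ : M ⟶ M) (h₁ : φ ≫ ψ = 0) (h₂ : ψ ≫ φ = 0),
      P (ShortComplex.mk φ ψ h₁).homology ∧ P (ShortComplex.mk ψ φ h₂).homology ∧
      x = KZero.clSub P (ShortComplex.mk φ ψ h₁).homology -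
        KZero.clSub P (ShortComplex.mk ψ φ h₂).homology := by
  constructor
  · intro hx
    obtain ⟨U₀, V₀, hU, hV, rfl⟩ := exists_diff P x
    rw [map_sub, ι_clSub P U₀ hU, ι_clSub P V₀ hV, sub_eq_zero] at hx
    obtain ⟨D, hD⟩ := exists_relPair_of_cl_eq hx
    let θ : V₀ ⊞ (U₀ ⊞ D) ≅ U₀ ⊞ (V₀ ⊞ D) :=
      (biprod.associator V₀ U₀ D).symm ≪≫ biprod.mapIso (biprod.braiding V₀ U₀) (Iso.refl D) ≪≫
        biprod.associator U₀ V₀ D
    obtain ⟨M, φ, ψ, h₁, h₂, ⟨e₁⟩, ⟨e₂⟩⟩ := exists_complex hD θ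
    have p₁ : P (ShortComplex.mk φ ψ h₁).homology := P.prop_of_iso e₁.symm hU
    have p₂ : P (ShortComplex.mk ψ φ h₂).homology := P.prop_of_iso e₂.symm hV
    refine ⟨M, φ, ψ, h₁, h₂, p₁, p₂, ?_⟩
    rw [clSub_iso P e₁ p₁, clSub_iso P e₂ p₂]
  · rintro ⟨M, φ, ψ, h₁, h₂, p₁, p₂, rfl⟩
    rw [map_sub, ι_clSub P _ p₁, ι_clSub P _ p₂, cl_homology_eq φ ψ h₁ h₂, sub_self]

end Kernel

end Groth.Agent.Lib.Helper62.K0Serre
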