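import Groth.Agent.Lib.Helper62.K0Alt
import Groth.Agent.Lib.Helper62.WSerreEquiv
import Groth.Prelude.Def_KZero

/-!
Basic properties of `KZero.K0sub P` for a weak Serre class `P`, and the Euler characteristic of the
cohomology of a bounded object of the derived category.
-/

set_option autoImplicit false
universe w v u

open CategoryTheory CategoryTheory.Limits CategoryTheory.Pretriangulated DerivedCategory
open ZeroObject

namespace Groth.Agent.Lib.Helper62.K0D

section Sub

variable {C : Type u} [Category.{v} C] [Abelian C] (P : ObjectProperty C) [WSerre.IsWeakSerre P]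

omit [WSerre.IsWeakSerre P] in
lemma clSub_eq {X : C} (h : P X) :
    KZero.clSub P X = QuotientAddGroup.mk (FreeAbelianGroup.of ⟨X, h⟩) := dif_pos h

omit [WSerre.IsWeakSerre P] in
lemma clSub_add (S : ShortComplex C) (hS : S.ShortExact) (h₁ : P S.X₁) (h₂ : P S.X₂)
    (h₃ : P S.X₃) : KZero.clSub P S.X₂ = KZero.clSub P S.X₁ + KZero.clSub P S.X₃ := by
  rw [clSub_eq P h₁, clSub_eq P h₂, clSub_eq P h₃, ← QuotientAddGroup.mk_add,
    QuotientAddGroup.eq]
  have h : FreeAbelianGroup.of (⟨S.X₂, h₂⟩ : Subtype P) - FreeAbelianGroup.of ⟨S.X₁, h₁⟩ -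
      FreeAbelianGroup.of ⟨S.X₃, h₃⟩ ∈ KZero.relSub P :=
    AddSubgroup.subset_closure ⟨S, h₁, h₂, h₃, hS, rfl⟩
  have h' := (KZero.relSub P).neg_mem h
  convert h' using 1
  abel

lemma clSub_zero (Z : C) (hZ : IsZero Z) : KZero.clSub P Z = 0 := by
  have hPZ : P Z := P.prop_of_isZero hZ
  let S : ShortComplex C := ShortComplex.mk (0 : Z ⟶ Z) (0 : Z ⟶ Z) (by simp)
  have hS : S.ShortExact :=
    { exact := ShortComplex.exact_of_isZero_X₂ _ hZ
      mono_f := ⟨fun _ _ _ => hZ.eq_of_tgt _ _⟩
      epi_g := ⟨fun _ _ _ => hZ.eq_of_src _ _⟩ }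
  have h := clSub_add P S hS hPZ hPZ hPZ
  change KZero.clSub P Z = KZero.clSub P Z + KZero.clSub P Z at h
  have : KZero.clSub P Z + 0 = KZero.clSub P Z + KZero.clSub P Z := by rw [add_zero]; exact h
  exact (add_left_cancel this).symm

lemma clSub_iso {X Y : C} (e : X ≅ Y) (hX : P X) : KZero.clSub P X = KZero.clSub P Y := by
  have hY : P Y := P.prop_of_iso e hX
  let S : ShortComplex C := ShortComplex.mk e.hom (0 : Y ⟶ (0 : C)) (by simp)
  have hS : S.ShortExact :=
    { exact := (ShortComplex.exact_iff_epi _ rfl).2 (by dsimp [S]; infer_instance)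
      mono_f := by dsimp [S]; infer_instance
      epi_g := ⟨fun _ _ _ => (isZero_zero C).eq_of_src _ _⟩ }
  have h := clSub_add P S hS hX hY (P.prop_of_isZero (isZero_zero C))
  rw [clSub_zero P _ (isZero_zero C), add_zero] at h
  exact h.symm

lemma prop_image {X Y : C} (f : X ⟶ Y) (hX : P X) (hY : P Y) : P (Abelian.image f) :=
  P.prop_kernel _ hY (P.prop_cokernel f hX hY)

/-- For an exact sequence `X₁ ⟶ X₂ ⟶ X₃`, the class of `X₂` is the sum of the classes of the
images of the two maps. -/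
lemma clSub_exact (S : ShortComplex C) (hS : S.Exact) (h₁ : P S.X₁) (h₂ : P S.X₂) (h₃ : P S.X₃) :
    KZero.clSub P S.X₂ =
      KZero.clSub P (Abelian.image S.f) + KZero.clSub P (Abelian.image S.g) := by
  have w : Abelian.image.ι S.f ≫ Abelian.factorThruImage S.g = 0 := by
    rw [← cancel_epi (Abelian.factorThruImage S.f), ← cancel_mono (Abelian.image.ι S.g)]
    simp
  let S' : ShortComplex C :=
    ShortComplex.mk (Abelian.image.ι S.f) (Abelian.factorThruImage S.g) w
  have hS' : S'.ShortExact :=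
    { exact := by
        let S₁ : ShortComplex C := ShortComplex.mk (Abelian.image.ι S.f) S.g (by
          rw [← cancel_epi (Abelian.factorThruImage S.f)]
          simp)
        let φ₁ : S ⟶ S₁ :=
          { τ₁ := Abelian.factorThruImage S.f, τ₂ := 𝟙 _, τ₃ := 𝟙 _
            comm₁₂ := by simp [S₁], comm₂₃ := by simp [S₁] }
        have : Epi φ₁.τ₁ := by dsimp [φ₁]; infer_instance
        have : IsIso φ₁.τ₂ := by dsimp [φ₁]; infer_instance
        have : Mono φ₁.τ₃ := by dsimp [φ₁]; infer_instance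
        have hS₁ : S₁.Exact := (ShortComplex.exact_iff_of_epi_of_isIso_of_mono φ₁).1 hS
        let φ₂ : S' ⟶ S₁ :=
          { τ₁ := 𝟙 _, τ₂ := 𝟙 _, τ₃ := Abelian.image.ι S.g
            comm₁₂ := by simp [S₁, S'], comm₂₃ := by simp [S₁, S'] }
        have : Epi φ₂.τ₁ := by dsimp [φ₂]; infer_instance
        have : IsIso φ₂.τ₂ := by dsimp [φ₂]; infer_instance
        have : Mono φ₂.τ₃ := by dsimp [φ₂]; infer_instance
        exact (ShortComplex.exact_iff_of_epi_of_isIso_of_mono φ₂).2 hS₁
      mono_f := by dsimp [S']; infer_instance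
      epi_g := by dsimp [S']; infer_instance }
  exact clSub_add P S' hS' (prop_image P _ h₁ h₂) h₂ (prop_image P _ h₂ h₃)

end Sub

end Groth.Agent.Lib.Helper62.K0D
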