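import Groth.Agent.Lib.Helper62.K0Derived

/-!
`K₀(A) ≅ K₀(D^b(A))` for an abelian category `A`.
-/

set_option autoImplicit false
universe w v u

open CategoryTheory CategoryTheory.Limits CategoryTheory.Pretriangulated DerivedCategory
open ZeroObject

namespace Groth.Agent.Lib.Helper62.K0D

section Top

variable (A : Type u) [Category.{v} A] [Abelian A]

lemma cl_add (S : ShortComplex A) (hS : S.ShortExact) :
    KZero.cl S.X₂ = KZero.cl S.X₁ + KZero.cl S.X₃ := by
  unfold KZero.cl
  rw [← QuotientAddGroup.mk_add, QuotientAddGroup.eq]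
  have h : FreeAbelianGroup.of S.X₂ - FreeAbelianGroup.of S.X₁ -
      FreeAbelianGroup.of S.X₃ ∈ KZero.relAb A :=
    AddSubgroup.subset_closure ⟨S, hS, rfl⟩
  have h' := (KZero.relAb A).neg_mem h
  convert h' using 1
  abel

/-- `K₀(A) ⟶ K₀(⊤)`. -/
noncomputable def toTop : KZero.K0 A →+ KZero.K0sub (⊤ : ObjectProperty A) :=
  QuotientAddGroup.lift (KZero.relAb A)
    (FreeAbelianGroup.lift (fun X : A => KZero.clSub (⊤ : ObjectProperty A) X))
    (by
      unfold KZero.relAb
      rw [AddSubgroup.closure_le]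
      rintro x ⟨S, hS, rfl⟩
      rw [SetLike.mem_coe, AddMonoidHom.mem_ker, map_sub, map_sub,
        FreeAbelianGroup.lift_apply_of, FreeAbelianGroup.lift_apply_of,
        FreeAbelianGroup.lift_apply_of,
        clSub_add (⊤ : ObjectProperty A) S hS trivial trivial trivial]
      abel)

/-- `K₀(⊤) ⟶ K₀(A)`. -/
noncomputable def ofTop : KZero.K0sub (⊤ : ObjectProperty A) →+ KZero.K0 A :=
  QuotientAddGroup.lift (KZero.relSub (⊤ : ObjectProperty A))
    (FreeAbelianGroup.lift (fun X : Subtype (⊤ : ObjectProperty A) => KZero.cl X.1))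
    (by
      unfold KZero.relSub
      rw [AddSubgroup.closure_le]
      rintro x ⟨S, h₁, h₂, h₃, hS, rfl⟩
      rw [SetLike.mem_coe, AddMonoidHom.mem_ker, map_sub, map_sub,
        FreeAbelianGroup.lift_apply_of, FreeAbelianGroup.lift_apply_of,
        FreeAbelianGroup.lift_apply_of]
      change KZero.cl S.X₂ - KZero.cl S.X₁ - KZero.cl S.X₃ = 0
      rw [cl_add A S hS]
      abel)

lemma toTop_cl (X : A) : toTop A (KZero.cl X) = KZero.clSub (⊤ : ObjectProperty A) X := by
  unfold toTop KZero.cl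
  rw [QuotientAddGroup.lift_mk, FreeAbelianGroup.lift_apply_of]

lemma ofTop_clSub (X : A) : ofTop A (KZero.clSub (⊤ : ObjectProperty A) X) = KZero.cl X := by
  rw [clSub_eq (⊤ : ObjectProperty A) (X := X) trivial]
  unfold ofTop
  rw [QuotientAddGroup.lift_mk, FreeAbelianGroup.lift_apply_of]

/-- `K₀(A) ≃ K₀(⊤)`. -/
noncomputable def topEquiv : KZero.K0 A ≃+ KZero.K0sub (⊤ : ObjectProperty A) :=
  AddMonoidHom.toAddEquiv (toTop A) (ofTop A)
    (by
      apply QuotientAddGroup.addMonoidHom_ext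
      apply FreeAbelianGroup.lift_ext
      intro X
      change ofTop A (toTop A (KZero.cl X)) = KZero.cl X
      rw [toTop_cl, ofTop_clSub])
    (by
      apply QuotientAddGroup.addMonoidHom_ext
      apply FreeAbelianGroup.lift_ext
      rintro ⟨X, hX⟩
      change toTop A (ofTop A (QuotientAddGroup.mk (FreeAbelianGroup.of ⟨X, hX⟩))) =
        QuotientAddGroup.mk (FreeAbelianGroup.of ⟨X, hX⟩)
      rw [← clSub_eq (⊤ : ObjectProperty A) hX, ofTop_clSub, toTop_cl])

lemma topEquiv_cl (X : A) :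
    topEquiv A (KZero.cl X) = KZero.clSub (⊤ : ObjectProperty A) X := toTop_cl A X

variable [HasDerivedCategory.{w} A]

instance : WSerre.IsWeakSerre (⊤ : ObjectProperty A) where
  exists_zero := ⟨0, isZero_zero A, trivial⟩
  kernels_le := fun _ _ => trivial
  cokernels_le := fun _ _ => trivial
  prop_X₂_of_shortExact := fun _ _ _ => trivial

lemma qP_top_eq :
    (fun X : DerivedCategory A => ∃ a b : ℤ, X.IsGE a ∧ X.IsLE b) =
      QP (⊤ : ObjectProperty A) := by
  funext X
  exact propext ⟨fun h => ⟨fun _ => trivial, h⟩, fun h => h.2⟩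

theorem k0_bounded_derived :
    ∃ φ : KZero.K0 A ≃+ KZero.K0tr (fun X : DerivedCategory A => ∃ a b : ℤ, X.IsGE a ∧ X.IsLE b),
      ∀ X : A, φ (KZero.cl X) =
        KZero.clTr (fun X : DerivedCategory A => ∃ a b : ℤ, X.IsGE a ∧ X.IsLE b)
          ((DerivedCategory.singleFunctor A 0).obj X) := by
  rw [qP_top_eq A]
  refine ⟨(topEquiv A).trans (k0Equiv (⊤ : ObjectProperty A)), fun X => ?_⟩
  rw [AddEquiv.trans_apply, topEquiv_cl, k0Equiv_clSub _ X trivial]

end Top

end Groth.Agent.Lib.Helper62.K0D
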