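import Mathlib
import Groth.Prelude.Def_KZero
import Groth.Prelude.Def_DCoh2
import Groth.Agent.Lib.Helper62.K0Derived

/-!
# `K₀` of a triangulated subcategory transports along a fully faithful triangulated functor
-/

set_option autoImplicit false

universe u v₁ v₂ u₁ u₂

open CategoryTheory CategoryTheory.Limits AlgebraicGeometry Pretriangulated

attribute [local instance] HasDerivedCategory.standard

namespace Groth.Agent.Lib.Helper62.K0TrK1

open Groth.Agent.Lib.Helper62.K0D

open ZeroObject in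
theorem exists_k0tr_equiv {D : Type u₁} [Category.{v₁} D] [Preadditive D] [HasZeroObject D]
    [HasShift D ℤ] [∀ n : ℤ, (shiftFunctor D n).Additive] [Pretriangulated D]
    {D' : Type u₂} [Category.{v₂} D'] [Preadditive D'] [HasZeroObject D'] [HasShift D' ℤ]
    [∀ n : ℤ, (shiftFunctor D' n).Additive] [Pretriangulated D']
    (Φ : D ⥤ D') [Φ.CommShift ℤ] [Φ.IsTriangulated] [Φ.Full] [Φ.Faithful]
    (P : ObjectProperty D) (P' : ObjectProperty D')
    (hP : ∀ K : D, P K ↔ P' (Φ.obj K))
    (hiso : ∀ {K' L' : D'}, (K' ≅ L') → P' K' → P' L')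
    (hess : ∀ K' : D', P' K' → ∃ K : D, Nonempty (Φ.obj K ≅ K'))
    (h0 : P' (0 : D')) :
    ∃ ψ : KZero.K0tr P ≃+ KZero.K0tr P',
      ∀ K : D, P K → ψ (KZero.clTr P K) = KZero.clTr P' (Φ.obj K) := by
  classical
  have hP0 : P (0 : D) := (hP 0).2 (hiso Φ.mapZeroObject.symm h0)
  -- forward
  let fwd : KZero.K0tr P →+ KZero.K0tr P' :=
    QuotientAddGroup.lift (KZero.relTr P)
      (FreeAbelianGroup.lift (fun K : Subtype P => KZero.clTr P' (Φ.obj K.1)))
      (by
        unfold KZero.relTr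
        rw [AddSubgroup.closure_le]
        rintro x ⟨T, h₁, h₂, h₃, hT, rfl⟩
        rw [SetLike.mem_coe, AddMonoidHom.mem_ker, map_sub, map_sub,
          FreeAbelianGroup.lift_apply_of, FreeAbelianGroup.lift_apply_of,
          FreeAbelianGroup.lift_apply_of]
        have h := clTr_triangle P' _ (Φ.map_distinguished T hT)
          ((hP _).1 h₁) ((hP _).1 h₂) ((hP _).1 h₃)
        change KZero.clTr P' (Φ.obj T.obj₂) =
          KZero.clTr P' (Φ.obj T.obj₁) + KZero.clTr P' (Φ.obj T.obj₃) at h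
        rw [h]
        abel)
  have hfwd : ∀ (K : D) (hK : P K), fwd (KZero.clTr P K) = KZero.clTr P' (Φ.obj K) := by
    intro K hK
    rw [clTr_eq P hK]
    change QuotientAddGroup.lift _ _ _ _ = _
    rw [QuotientAddGroup.lift_mk, FreeAbelianGroup.lift_apply_of]
  -- choice of preimages
  choose sel hsel using hess
  have esel : ∀ (K' : D') (h' : P' K'), Φ.obj (sel K' h') ≅ K' := fun K' h' => (hsel K' h').some
  have hPsel : ∀ (K' : D') (h' : P' K'), P (sel K' h') := fun K' h' =>
    (hP _).2 (hiso (esel K' h').symm h')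
  -- backward
  let bwd : KZero.K0tr P' →+ KZero.K0tr P :=
    QuotientAddGroup.lift (KZero.relTr P')
      (FreeAbelianGroup.lift (fun K' : Subtype P' => KZero.clTr P (sel K'.1 K'.2)))
      (by
        unfold KZero.relTr
        rw [AddSubgroup.closure_le]
        rintro x ⟨T', h₁, h₂, h₃, hT', rfl⟩
        rw [SetLike.mem_coe, AddMonoidHom.mem_ker, map_sub, map_sub,
          FreeAbelianGroup.lift_apply_of, FreeAbelianGroup.lift_apply_of,
          FreeAbelianGroup.lift_apply_of]
        let e₁ := esel _ h₁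
        let e₂ := esel _ h₂
        let e₃ := esel _ h₃
        let f : sel _ h₁ ⟶ sel _ h₂ := Φ.preimage (e₁.hom ≫ T'.mor₁ ≫ e₂.inv)
        obtain ⟨C, g, k, hTd⟩ := distinguished_cocone_triangle f
        have hΦ := Φ.map_distinguished _ hTd
        have comm : (Φ.mapTriangle.obj (Triangle.mk f g k)).mor₁ ≫ e₂.hom = e₁.hom ≫ T'.mor₁ := by
          change Φ.map f ≫ e₂.hom = e₁.hom ≫ T'.mor₁
          rw [Functor.map_preimage]
          simp
        let eT := isoTriangleOfIso₁₂ _ _ hΦ hT' e₁ e₂ comm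
        let e₃' : Φ.obj C ≅ T'.obj₃ := Triangle.π₃.mapIso eT
        have hC' : P' (Φ.obj C) := hiso e₃'.symm h₃
        have hC : P C := (hP _).2 hC'
        let eC : C ≅ sel _ h₃ := Φ.preimageIso (e₃' ≪≫ e₃.symm)
        have h := clTr_triangle P _ hTd (hPsel _ h₁) (hPsel _ h₂) hC
        change KZero.clTr P (sel _ h₂) = KZero.clTr P (sel _ h₁) + KZero.clTr P C at h
        rw [h, clTr_iso P hP0 eC hC (hPsel _ h₃)]
        abel)
  have hbwd : ∀ (K' : D') (h' : P' K'), bwd (KZero.clTr P' K') = KZero.clTr P (sel K' h') := by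
    intro K' h'
    rw [clTr_eq P' h']
    change QuotientAddGroup.lift _ _ _ _ = _
    rw [QuotientAddGroup.lift_mk, FreeAbelianGroup.lift_apply_of]
  have h1 : bwd.comp fwd = AddMonoidHom.id _ := by
    apply QuotientAddGroup.addMonoidHom_ext
    apply FreeAbelianGroup.lift_ext
    rintro ⟨K, hK⟩
    change bwd (fwd (QuotientAddGroup.mk (FreeAbelianGroup.of ⟨K, hK⟩))) =
      QuotientAddGroup.mk (FreeAbelianGroup.of ⟨K, hK⟩)
    rw [← clTr_eq P hK, hfwd K hK, hbwd _ ((hP K).1 hK)]
    exact clTr_iso P hP0 (Φ.preimageIso (esel _ ((hP K).1 hK))) (hPsel _ _) hK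
  have h2 : fwd.comp bwd = AddMonoidHom.id _ := by
    apply QuotientAddGroup.addMonoidHom_ext
    apply FreeAbelianGroup.lift_ext
    rintro ⟨K', h'⟩
    change fwd (bwd (QuotientAddGroup.mk (FreeAbelianGroup.of ⟨K', h'⟩))) =
      QuotientAddGroup.mk (FreeAbelianGroup.of ⟨K', h'⟩)
    rw [← clTr_eq P' h', hbwd K' h', hfwd _ (hPsel K' h')]
    exact clTr_iso P' h0 (esel K' h') ((hP _).1 (hPsel K' h')) h'
  exact ⟨AddMonoidHom.toAddEquiv fwd bwd h1 h2, fun K hK => hfwd K hK⟩

end Groth.Agent.Lib.Helper62.K0TrK1
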