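import Mathlib

/-!
Lifting a homological complex along a fully faithful additive functor when all its terms are in
the essential image.
-/

set_option autoImplicit false
universe v v' u u'

open CategoryTheory CategoryTheory.Limits ZeroObject

namespace Groth.Agent.Lib.Helper62.LiftComplex

variable {C : Type u} [Category.{v} C] [Preadditive C] {D : Type u'} [Category.{v'} D]
  [Preadditive D] (F : C ⥤ D) [F.Additive] [F.Full] [F.Faithful]
  {ι : Type*} {c : ComplexShape ι}

/-- The lifted complex. -/
noncomputable def lift (L : HomologicalComplex D c) (h : ∀ i, F.essImage (L.X i)) :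
    HomologicalComplex C c where
  X i := (h i).witness
  d i j := F.preimage ((h i).getIso.hom ≫ L.d i j ≫ (h j).getIso.inv)
  shape i j hij := F.map_injective (by
    rw [F.map_preimage, L.shape i j hij, zero_comp, comp_zero, F.map_zero])
  d_comp_d' i j k _ _ := F.map_injective (by
    rw [F.map_comp, F.map_preimage, F.map_preimage, F.map_zero]
    simp)

/-- The lifted complex maps to the original one. -/
noncomputable def liftIso (L : HomologicalComplex D c) (h : ∀ i, F.essImage (L.X i)) :
    (F.mapHomologicalComplex c).obj (lift F L h) ≅ L :=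
  HomologicalComplex.Hom.isoOfComponents (fun i => (h i).getIso) (fun i j _ => by
    change (h i).getIso.hom ≫ L.d i j =
      F.map (F.preimage ((h i).getIso.hom ≫ L.d i j ≫ (h j).getIso.inv)) ≫ (h j).getIso.hom
    rw [F.map_preimage]
    simp)

lemma essImage_of_isZero [HasZeroObject C] {X : D} (hX : IsZero X) : F.essImage X :=
  ⟨(0 : C), ⟨(F.map_isZero (isZero_zero C)).iso hX⟩⟩

omit [F.Full] in
lemma isZero_of_isZero_obj {X : C} (hX : IsZero (F.obj X)) : IsZero X := by
  rw [IsZero.iff_id_eq_zero]
  apply F.map_injective
  rw [F.map_id, F.map_zero]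
  exact hX.eq_of_src _ _

end Groth.Agent.Lib.Helper62.LiftComplex
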