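import Groth.Agent.Lib.Helper17.HomLift
import Mathlib.CategoryTheory.Localization.CalculusOfFractions
import Mathlib.CategoryTheory.Localization.Construction

/-!
# Strongly cartesian arrows in a localisation with right calculus of fractions (helper62)

`E` a category, `W` a class of morphisms with right calculus of fractions, `G : E ⥤ D` inverting `W`,
`P : W.Localization ⥤ D` the induced functor.  `isStronglyCartesian_Q_map`: criterion for `Q f` to be strongly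
cartesian for `P` in terms of `E`.
-/

set_option autoImplicit false
set_option backward.isDefEq.respectTransparency false
set_option backward.isDefEq.respectTransparency.types false
universe v₁ v₂ u₁ u₂
open CategoryTheory CategoryTheory.Functor

namespace Groth.Agent.Lib.Helper62.LocCart

open Groth.Agent.Lib.Helper17 Localization.Construction

variable {E : Type u₁} [Category.{v₁} E] {D : Type u₂} [Category.{v₂} D]
  (W : MorphismProperty E) (G : E ⥤ D) (hG : W.IsInvertedBy G)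

theorem lift_Q_map {X Y : E} (m : X ⟶ Y) : (lift G hG).map (W.Q.map m) = G.map m := by
  have h := Functor.congr_hom (fac G hG) m
  simpa only [Functor.comp_map, eqToHom_refl, Category.comp_id, Category.id_comp] using h

theorem isHomLift_Q_map {X Y : E} (m : X ⟶ Y) :
    (lift G hG).IsHomLift (G.map m) (W.Q.map m) :=
  hl_of_eq (p := lift G hG) (a := W.Q.obj X) (b := W.Q.obj Y) (lift_Q_map W G hG m).symm

theorem lift_map_eq {X Y : E} {g : G.obj X ⟶ G.obj Y} {χ : W.Q.obj X ⟶ W.Q.obj Y}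
    (h : (lift G hG).IsHomLift g χ) : (lift G hG).map χ = g :=
  (hl_eq (p := lift G hG) (a := W.Q.obj X) (b := W.Q.obj Y) h).symm

variable [W.HasRightCalculusOfFractions]

/-- two morphisms of the localisation have a common denominator -/
theorem exists_common {Z Y : E} (χ₁ χ₂ : W.Q.obj Z ⟶ W.Q.obj Y) :
    ∃ (Z' : E) (s : Z' ⟶ Z) (_ : W s) (k₁ k₂ : Z' ⟶ Y),
      W.Q.map s ≫ χ₁ = W.Q.map k₁ ∧ W.Q.map s ≫ χ₂ = W.Q.map k₂ := by
  obtain ⟨φ₁, h₁⟩ := Localization.exists_rightFraction W.Q W χ₁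
  obtain ⟨φ₂, h₂⟩ := Localization.exists_rightFraction W.Q W χ₂
  obtain ⟨ψ, hψ⟩ := (MorphismProperty.LeftFraction.mk φ₁.s φ₂.s φ₂.hs).exists_rightFraction
  dsimp at hψ
  refine ⟨ψ.X', ψ.s ≫ φ₁.s, W.comp_mem _ _ ψ.hs φ₁.hs, ψ.s ≫ φ₁.f, ψ.f ≫ φ₂.f, ?_, ?_⟩
  · rw [h₁, Functor.map_comp, Category.assoc, MorphismProperty.RightFraction.map_s_comp_map,
      Functor.map_comp]
  · rw [hψ, h₂, Functor.map_comp, Category.assoc, MorphismProperty.RightFraction.map_s_comp_map,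
      Functor.map_comp]

/-- criterion for `Q f` to be strongly cartesian over `G f` -/
theorem isStronglyCartesian_Q_map {Y X : E} (f : Y ⟶ X)
    (H1 : ∀ (Z : E) (h : Z ⟶ X) (g : G.obj Z ⟶ G.obj Y), g ≫ G.map f = G.map h →
      ∃ (Z' : E) (t : Z' ⟶ Z) (_ : W t) (k : Z' ⟶ Y), k ≫ f = t ≫ h ∧ G.map k = G.map t ≫ g)
    (H2 : ∀ (Z : E) (k₁ k₂ : Z ⟶ Y), G.map k₁ = G.map k₂ → k₁ ≫ f = k₂ ≫ f →
      ∃ (Z' : E) (r : Z' ⟶ Z) (_ : W r), r ≫ k₁ = r ≫ k₂) :
    (lift G hG).IsStronglyCartesian (G.map f) (W.Q.map f) := by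
  have hlift := isHomLift_Q_map W G hG f
  refine ⟨?_⟩
  intro a' g φ' hφ'
  obtain ⟨Z, rfl⟩ := (objEquiv W).surjective a'
  change G.obj Z ⟶ G.obj Y at g
  change W.Q.obj Z ⟶ W.Q.obj X at φ'
  have hPφ' : (lift G hG).map φ' = g ≫ G.map f := lift_map_eq W G hG hφ'
  obtain ⟨ρ, hρ⟩ := Localization.exists_rightFraction W.Q W φ'
  have hρ' : W.Q.map ρ.s ≫ φ' = W.Q.map ρ.f := by
    rw [hρ, MorphismProperty.RightFraction.map_s_comp_map]
  have e1 : (G.map ρ.s ≫ g) ≫ G.map f = G.map ρ.f := by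
    rw [Category.assoc, ← hPφ', ← lift_Q_map W G hG ρ.s, ← Functor.map_comp, hρ', lift_Q_map]
  obtain ⟨Z', t, ht, k, hk1, hk2⟩ := H1 ρ.X' ρ.f (G.map ρ.s ≫ g) e1
  have hts : W (t ≫ ρ.s) := W.comp_mem _ _ ht ρ.hs
  have : IsIso (W.Q.map (t ≫ ρ.s)) := Localization.inverts W.Q W _ hts
  have : IsIso (G.map (t ≫ ρ.s)) := hG _ hts
  have key : ∀ χ : W.Q.obj Z ⟶ W.Q.obj Y, (lift G hG).IsHomLift g χ → χ ≫ W.Q.map f = φ' →
      ∀ χ' : W.Q.obj Z ⟶ W.Q.obj Y, (lift G hG).IsHomLift g χ' → χ' ≫ W.Q.map f = φ' →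
      χ' = χ := by
    intro χ hχ1 hχ2 χ' hχ'1 hχ'2
    obtain ⟨Z₁, s, hs, k₁, k₂, hk₁, hk₂⟩ := exists_common W χ' χ
    have hG12 : G.map k₁ = G.map k₂ := by
      rw [← lift_Q_map W G hG k₁, ← lift_Q_map W G hG k₂, ← hk₁, ← hk₂, Functor.map_comp,
        Functor.map_comp, lift_map_eq W G hG hχ1, lift_map_eq W G hG hχ'1]
    have hQ : W.Q.map (k₁ ≫ f) = W.Q.map (k₂ ≫ f) := by
      rw [Functor.map_comp, Functor.map_comp, ← hk₁, ← hk₂, Category.assoc, Category.assoc,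
        hχ2, hχ'2]
    obtain ⟨Z₂, r, hr, hr'⟩ := (MorphismProperty.map_eq_iff_precomp W.Q W _ _).1 hQ
    obtain ⟨Z₃, r', hr'W, hr''⟩ := H2 Z₂ (r ≫ k₁) (r ≫ k₂)
      (by rw [Functor.map_comp, Functor.map_comp, hG12])
      (by rw [Category.assoc, Category.assoc, hr'])
    have hrr : W (r' ≫ r) := W.comp_mem _ _ hr'W hr
    have : IsIso (W.Q.map (r' ≫ r)) := Localization.inverts W.Q W _ hrr
    have : IsIso (W.Q.map s) := Localization.inverts W.Q W _ hs
    have hQk : W.Q.map k₁ = W.Q.map k₂ := by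
      rw [← cancel_epi (W.Q.map (r' ≫ r)), ← Functor.map_comp, ← Functor.map_comp,
        Category.assoc, Category.assoc, hr'']
    rw [← cancel_epi (W.Q.map s), hk₁, hk₂, hQk]
  have hχ2 : (inv (W.Q.map (t ≫ ρ.s)) ≫ W.Q.map k) ≫ W.Q.map f = φ' := by
    rw [Category.assoc, ← Functor.map_comp, hk1, IsIso.inv_comp_eq, Functor.map_comp,
      Functor.map_comp, Category.assoc, hρ']
  have hχ1 : (lift G hG).IsHomLift g (inv (W.Q.map (t ≫ ρ.s)) ≫ W.Q.map k) := by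
    apply hl_of_eq (p := lift G hG) (a := W.Q.obj Z) (b := W.Q.obj Y)
    have h3 : (lift G hG).map (W.Q.map (t ≫ ρ.s)) ≫
        (lift G hG).map (inv (W.Q.map (t ≫ ρ.s)) ≫ W.Q.map k) = G.map (t ≫ ρ.s) ≫ g := by
      rw [← Functor.map_comp, IsIso.hom_inv_id_assoc, lift_Q_map, hk2, Functor.map_comp,
        Category.assoc]
    rw [lift_Q_map] at h3
    exact ((cancel_epi (G.map (t ≫ ρ.s))).1 h3).symm
  exact ⟨inv (W.Q.map (t ≫ ρ.s)) ≫ W.Q.map k, ⟨hχ1, hχ2⟩,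
    fun χ' hχ' => key _ hχ1 hχ2 χ' hχ'.1 hχ'.2⟩

end Groth.Agent.Lib.Helper62.LocCart
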