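import Mathlib
import Groth.Agent.Lib.Helper62.MatchLift
import Groth.Agent.Lib.Helper62.CoskW

/-! # Lifting compatible boundaries to the coskeleton, weak limit hypotheses -/

set_option autoImplicit false
set_option backward.isDefEq.respectTransparency false
set_option backward.isDefEq.respectTransparency.types false

open CategoryTheory CategoryTheory.Limits Opposite Simplicial SimplexCategory CategoryTheory.Functor

universe v u

namespace Groth.Agent.Lib.Helper62.MatchLiftW

open CoskW MatchLift

variable {D : Type u} [Category.{v} D]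
  [∀ (n : ℕ) (Y : SimplexCategoryᵒᵖ), HasLimitsOfShape (StructuredArrow Y (CoskW.L n)) D] (k : ℕ)
  [∀ (F : (SimplexCategory.Truncated k)ᵒᵖ ⥤ D),
    (SimplexCategory.Truncated.inclusion k).op.HasRightKanExtension F]
  (K : SimplicialObject D)

/-- chosen index -/
noncomputable def idx (j : StructuredArrow (op ⦋k + 1⦌) (L k)) : Fin (k + 2) :=
  (MatchLift.exists_factor j.right.unop.property j.hom.unop).choose

/-- chosen factorization -/
noncomputable def fac (j : StructuredArrow (op ⦋k + 1⦌) (L k)) : j.right.unop.obj ⟶ ⦋k⦌ :=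
  (MatchLift.exists_factor j.right.unop.property j.hom.unop).choose_spec.choose

lemma fac_spec (j : StructuredArrow (op ⦋k + 1⦌) (L k)) :
    j.hom.unop = fac k j ≫ SimplexCategory.δ (idx k j) :=
  (MatchLift.exists_factor j.right.unop.property j.hom.unop).choose_spec.choose_spec

variable {K} in
/-- the cone attached to a compatible boundary -/
noncomputable def cone {W : D} (b : Fin (k + 2) → (W ⟶ K.obj (op ⦋k⦌))) (hb : Compat k K b) :
    Cone (StructuredArrow.proj (op ⦋k + 1⦌) (L k) ⋙ T k K) where
  pt := W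
  π :=
    { app := fun j => b (idx k j) ≫ K.map (fac k j).op
      naturality := fun j j' φ => by
        change 𝟙 _ ≫ (b (idx k j') ≫ K.map (fac k j').op) =
          (b (idx k j) ≫ K.map (fac k j).op) ≫ K.map (φ.right.unop.hom).op
        rw [Category.id_comp, Category.assoc, ← K.map_comp, ← op_comp]
        apply hb
        rw [← fac_spec, Category.assoc, ← fac_spec]
        have h2 := StructuredArrow.w φ
        rw [← h2]
        rfl }

variable {K} in
/-- the lift of a compatible boundary to the coskeleton -/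
noncomputable def matchLift {W : D} (b : Fin (k + 2) → (W ⟶ K.obj (op ⦋k⦌)))
    (hb : Compat k K b) : W ⟶ (R k K).obj (op ⦋k + 1⦌) :=
  IsLimit.lift (show IsLimit ((RightExtension.mk (R k K) (ε k K)).coneAt (op ⦋k + 1⦌)) from
    hB k K (op ⦋k + 1⦌)) (cone k b hb)

variable {K} in
lemma matchLift_cmp {W : D} (b : Fin (k + 2) → (W ⟶ K.obj (op ⦋k⦌)))
    (hb : Compat k K b) (i : Fin (k + 2)) :
    matchLift k b hb ≫ cmp k K ⦋k⦌ le_rfl (SimplexCategory.δ i) = b i := by
  have h := IsLimit.fac (show IsLimit ((RightExtension.mk (R k K) (ε k K)).coneAt (op ⦋k + 1⦌))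
    from hB k K (op ⦋k + 1⦌)) (cone k b hb) (mkJ k ⦋k⦌ le_rfl (SimplexCategory.δ i))
  have h' : matchLift k b hb ≫ cmp k K ⦋k⦌ le_rfl (SimplexCategory.δ i) =
      b (idx k (mkJ k ⦋k⦌ le_rfl (SimplexCategory.δ i))) ≫
        K.map (fac k (mkJ k ⦋k⦌ le_rfl (SimplexCategory.δ i))).op := h
  rw [h']
  have h2 := hb (idx k (mkJ k ⦋k⦌ le_rfl (SimplexCategory.δ i))) i ⦋k⦌
    (fac k (mkJ k ⦋k⦌ le_rfl (SimplexCategory.δ i))) (𝟙 _)
    (by
      rw [← fac_spec, Category.id_comp]
      rfl)
  rw [h2]
  erw [K.map_id, Category.comp_id]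


end Groth.Agent.Lib.Helper62.MatchLiftW
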