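import Mathlib
import Groth.Prelude.Def_CohTop
import Groth.Agent.Lib.Helper62.CTAug
import Groth.Agent.Lib.Helper62.CechFunctorExact

/-! # The full (ordered) Cech complex of a finite family vanishes in degrees `≥` the cardinality -/

set_option autoImplicit false
set_option backward.isDefEq.respectTransparency false
set_option backward.isDefEq.respectTransparency.types false

open CategoryTheory CategoryTheory.Limits Opposite Simplicial SimplexCategory TopologicalSpace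

universe u

namespace Groth.Agent.Lib.Helper62.OrdCech

open CechChase HomCech CTCech CTAug CechFunctorExact

variable {X : TopCat.{u}} {ι : Type u} (U : ι → Opens X)

/-- the open attached to a tuple of indices -/
noncomputable abbrev Uσ {q : ℕ} (σ : Fin (q + 1) → ι) : Opens X := ((Kc U).obj (op ⦋q⦌)).obj σ

lemma Uσ_le {q : ℕ} (σ : Fin (q + 1) → ι) (k : Fin (q + 1)) : Uσ U σ ≤ U (σ k) :=
  (Pi.π (U ∘ σ) k).le

lemma le_Uσ {q : ℕ} (σ : Fin (q + 1) → ι) {T : Opens X} (h : ∀ k, T ≤ U (σ k)) : T ≤ Uσ U σ :=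
  (Pi.lift (fun k => homOfLE (h k)) : T ⟶ ∏ᶜ (U ∘ σ)).le

lemma face_le {q : ℕ} (σ : Fin (q + 2) → ι) (j : Fin (q + 2)) :
    Uσ U σ ≤ Uσ U (σ ∘ j.succAbove) :=
  le_Uσ U _ (fun k => Uσ_le U σ (j.succAbove k))

lemma face_f {q : ℕ} (σ : Fin (q + 2) → ι) (j : Fin (q + 2)) :
    ((Kc U).δ j).f σ = σ ∘ j.succAbove := rfl

variable {U}
variable {Q : (Opens X)ᵒᵖ ⥤ AddCommGrpCat.{u}}

lemma comp_sub {q : ℕ} (x y : (Cx (Kc U) Q).X q) (σ : Fin (q + 1) → ι) :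
    comp (Kc U) Q (x - y) σ = comp (Kc U) Q x σ - comp (Kc U) Q y σ := by
  unfold comp
  rw [map_sub]

lemma thin' {q : ℕ} (c : (Cx (Kc U) Q).X q) (σ₁ σ₂ : Fin (q + 1) → ι) (h : σ₁ = σ₂)
    {T : Opens X} (f₁ : T ⟶ Uσ U σ₁) (f₂ : T ⟶ Uσ U σ₂) :
    (Q.map f₁.op).hom (comp (Kc U) Q c σ₁) = (Q.map f₂.op).hom (comp (Kc U) Q c σ₂) := by
  subst h
  rw [Subsingleton.elim f₁ f₂]

/-- the component of a cochain, restricted to a smaller open -/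
noncomputable def ev {q : ℕ} (c : (Cx (Kc U) Q).X q) (σ : Fin (q + 1) → ι) (T : Opens X)
    (h : T ≤ Uσ U σ) : Q.obj (op T) :=
  (Q.map (homOfLE h).op).hom (comp (Kc U) Q c σ)

lemma ev_congr {q : ℕ} (c : (Cx (Kc U) Q).X q) (σ₁ σ₂ : Fin (q + 1) → ι) (hσ : σ₁ = σ₂)
    (T : Opens X) (h₁ : T ≤ Uσ U σ₁) (h₂ : T ≤ Uσ U σ₂) : ev c σ₁ T h₁ = ev c σ₂ T h₂ := by
  subst hσ
  rfl

lemma ev_self {q : ℕ} (c : (Cx (Kc U) Q).X q) (σ : Fin (q + 1) → ι) :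
    ev c σ (Uσ U σ) le_rfl = comp (Kc U) Q c σ := by
  unfold ev
  have h : homOfLE (le_refl (Uσ U σ)) = 𝟙 _ := Subsingleton.elim _ _
  rw [h, op_id, Q.map_id]
  rfl

lemma res_ev {q : ℕ} (c : (Cx (Kc U) Q).X q) (σ : Fin (q + 1) → ι) (T T' : Opens X)
    (h : T ≤ Uσ U σ) (h' : T' ≤ T) :
    (Q.map (homOfLE h').op).hom (ev c σ T h) = ev c σ T' (h'.trans h) :=
  map_map_thin Q _ _ _ _

lemma ev_zero {q : ℕ} (σ : Fin (q + 1) → ι) (T : Opens X) (h : T ≤ Uσ U σ) :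
    ev (0 : (Cx (Kc U) Q).X q) σ T h = 0 := by
  unfold ev
  rw [comp_zero', map_zero]

lemma ev_add {q : ℕ} (c c' : (Cx (Kc U) Q).X q) (σ : Fin (q + 1) → ι) (T : Opens X)
    (h : T ≤ Uσ U σ) : ev (c + c') σ T h = ev c σ T h + ev c' σ T h := by
  unfold ev
  rw [comp_add, map_add]

lemma ev_sub {q : ℕ} (c c' : (Cx (Kc U) Q).X q) (σ : Fin (q + 1) → ι) (T : Opens X)
    (h : T ≤ Uσ U σ) : ev (c - c') σ T h = ev c σ T h - ev c' σ T h := by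
  unfold ev
  rw [comp_sub, map_sub]

lemma ev_eq_zero {q : ℕ} (c : (Cx (Kc U) Q).X q) (σ : Fin (q + 1) → ι) (T : Opens X)
    (h : T ≤ Uσ U σ) (hc : comp (Kc U) Q c σ = 0) : ev c σ T h = 0 := by
  unfold ev
  rw [hc, map_zero]

lemma ev_d {q : ℕ} (c : (Cx (Kc U) Q).X q) (σ : Fin (q + 2) → ι) (T : Opens X)
    (h : T ≤ Uσ U σ) :
    ev (((Cx (Kc U) Q).d q (q + 1)).hom c) σ T h =
      ∑ j : Fin (q + 2), (-1 : ℤ) ^ (j : ℕ) •
        ev c (σ ∘ j.succAbove) T (h.trans (face_le U σ j)) := by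
  unfold ev
  rw [comp_cech_d, map_sum]
  apply Finset.sum_congr rfl
  intro j _
  rw [map_zsmul]
  congr 1
  have e1 := map_map_thin Q (homOfLE h) (((Kc U).δ j).φ σ)
    (homOfLE h ≫ ((Kc U).δ j).φ σ) (comp (Kc U) Q c (((Kc U).δ j).f σ))
  refine e1.trans ?_
  exact thin' c _ _ (face_f U σ j) _ _


lemma d_d_apply {q : ℕ} (b : (Cx (Kc U) Q).X q) :
    ((Cx (Kc U) Q).d (q + 1) (q + 2)).hom (((Cx (Kc U) Q).d q (q + 1)).hom b) = 0 := by
  have h := congrArg (fun ψ => ψ.hom b) ((Cx (Kc U) Q).d_comp_d q (q + 1) (q + 2))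
  exact h

section PW

variable (P : (Opens X)ᵒᵖ ⥤ AddCommGrpCat.{u}) (W : Opens X)

/-- intersecting with a fixed open -/
abbrev infW : Opens X ⥤ Opens X where
  obj T := T ⊓ W
  map f := homOfLE (inf_le_inf_right W f.le)
  map_id _ := Subsingleton.elim _ _
  map_comp _ _ := Subsingleton.elim _ _

/-- the presheaf `T ↦ P(T ∩ W)` -/
abbrev PW : (Opens X)ᵒᵖ ⥤ AddCommGrpCat.{u} := (infW W).op ⋙ P

/-- restriction from `T` to `T ∩ W` -/
def toPW : P ⟶ PW P W where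
  app T := P.map (homOfLE (inf_le_left : T.unop ⊓ W ≤ T.unop)).op
  naturality T T' f := by
    change P.map f ≫ P.map _ = P.map _ ≫ P.map _
    rw [← P.map_comp, ← P.map_comp]
    congr 1

variable {P W}

/-- the component of a cochain of `PW`, restricted to a smaller open -/
noncomputable def evW {q : ℕ} (c : (Cx (Kc U) (PW P W)).X q) (σ : Fin (q + 1) → ι) (T : Opens X)
    (h : T ≤ Uσ U σ ⊓ W) : P.obj (op T) :=
  (P.map (homOfLE h).op).hom (comp (Kc U) (PW P W) c σ)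

lemma evW_congr {q : ℕ} (c : (Cx (Kc U) (PW P W)).X q) (σ₁ σ₂ : Fin (q + 1) → ι) (hσ : σ₁ = σ₂)
    (T : Opens X) (h₁ : T ≤ Uσ U σ₁ ⊓ W) (h₂ : T ≤ Uσ U σ₂ ⊓ W) :
    evW c σ₁ T h₁ = evW c σ₂ T h₂ := by
  subst hσ
  rfl

lemma evW_self {q : ℕ} (c : (Cx (Kc U) (PW P W)).X q) (σ : Fin (q + 1) → ι) :
    evW c σ (Uσ U σ ⊓ W) le_rfl = comp (Kc U) (PW P W) c σ := by
  unfold evW
  have h : homOfLE (le_refl (Uσ U σ ⊓ W)) = 𝟙 _ := Subsingleton.elim _ _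
  rw [h, op_id, P.map_id]
  rfl

lemma res_evW {q : ℕ} (c : (Cx (Kc U) (PW P W)).X q) (σ : Fin (q + 1) → ι) (T T' : Opens X)
    (h : T ≤ Uσ U σ ⊓ W) (h' : T' ≤ T) :
    (P.map (homOfLE h').op).hom (evW c σ T h) = evW c σ T' (h'.trans h) :=
  map_map_thin P _ _ _ _

lemma evW_eq_zero {q : ℕ} (c : (Cx (Kc U) (PW P W)).X q) (σ : Fin (q + 1) → ι) (T : Opens X)
    (h : T ≤ Uσ U σ ⊓ W) (hc : comp (Kc U) (PW P W) c σ = 0) : evW c σ T h = 0 := by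
  unfold evW
  rw [hc, map_zero]

lemma evW_d {q : ℕ} (c : (Cx (Kc U) (PW P W)).X q) (σ : Fin (q + 2) → ι) (T : Opens X)
    (h : T ≤ Uσ U σ ⊓ W) :
    evW (((Cx (Kc U) (PW P W)).d q (q + 1)).hom c) σ T h =
      ∑ j : Fin (q + 2), (-1 : ℤ) ^ (j : ℕ) •
        evW c (σ ∘ j.succAbove) T (h.trans (inf_le_inf_right W (face_le U σ j))) := by
  unfold evW
  rw [← ev_self (((Cx (Kc U) (PW P W)).d q (q + 1)).hom c) σ, ev_d, map_sum]
  apply Finset.sum_congr rfl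
  intro j _
  rw [map_zsmul]
  congr 1
  exact map_map_thin P _ _ _ _

variable (P) in
lemma cons_le {q : ℕ} (i₀ : ι) (τ : Fin (q + 1) → ι) :
    Uσ U τ ⊓ U i₀ ≤ Uσ U (Fin.cons i₀ τ : Fin (q + 2) → ι) ⊓ U i₀ :=
  le_inf (le_Uσ U _ (fun k => by
    refine Fin.cases ?_ (fun k' => ?_) k
    · rw [Fin.cons_zero]
      exact inf_le_right
    · rw [Fin.cons_succ]
      exact inf_le_left.trans (Uσ_le U τ k'))) inf_le_right

/-- the cone contraction -/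
noncomputable def hW (i₀ : ι) {q : ℕ} (c : (Cx (Kc U) (PW P (U i₀))).X (q + 1)) :
    (Cx (Kc U) (PW P (U i₀))).X q :=
  mkc (fun (τ : Fin (q + 1) → ι) =>
    (evW c (Fin.cons i₀ τ : Fin (q + 2) → ι) (Uσ U τ ⊓ U i₀) (cons_le i₀ τ) :
      (PW P (U i₀)).obj (op (Uσ U τ))))

lemma evW_hW (i₀ : ι) {q : ℕ} (c : (Cx (Kc U) (PW P (U i₀))).X (q + 1)) (τ : Fin (q + 1) → ι)
    (T : Opens X) (h : T ≤ Uσ U τ ⊓ U i₀) :
    evW (hW i₀ c) τ T h =
      evW c (Fin.cons i₀ τ : Fin (q + 2) → ι) T (h.trans (cons_le i₀ τ)) := by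
  have h1 : comp (Kc U) (PW P (U i₀)) (hW i₀ c) τ =
      evW c (Fin.cons i₀ τ : Fin (q + 2) → ι) (Uσ U τ ⊓ U i₀) (cons_le i₀ τ) := by
    unfold hW
    exact comp_mkc (K := Kc U) (P := PW P (U i₀)) _ τ
  have h2 : evW (hW i₀ c) τ T h = (P.map (homOfLE h).op).hom
      (evW c (Fin.cons i₀ τ : Fin (q + 2) → ι) (Uσ U τ ⊓ U i₀) (cons_le i₀ τ)) := by
    unfold evW at h1 ⊢
    rw [h1]
  rw [h2]
  exact res_evW c _ _ _ _ h

lemma cons_comp_zero {q : ℕ} (i₀ : ι) (σ : Fin (q + 2) → ι) :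
    (Fin.cons i₀ σ : Fin (q + 3) → ι) ∘ (0 : Fin (q + 3)).succAbove = σ := by
  funext k
  simp [Fin.succAbove_zero]

lemma cons_comp_succ {q : ℕ} (i₀ : ι) (σ : Fin (q + 2) → ι) (j : Fin (q + 2)) :
    (Fin.cons i₀ σ : Fin (q + 3) → ι) ∘ j.succ.succAbove =
      (Fin.cons i₀ (σ ∘ j.succAbove) : Fin (q + 2) → ι) := by
  funext k
  refine Fin.cases ?_ (fun k' => ?_) k
  · simp
  · simp

theorem homotopy_id (i₀ : ι) {q : ℕ} (c : (Cx (Kc U) (PW P (U i₀))).X (q + 1))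
    (σ : Fin (q + 2) → ι) (T : Opens X) (h : T ≤ Uσ U σ ⊓ U i₀) :
    evW c σ T h =
      evW (((Cx (Kc U) (PW P (U i₀))).d q (q + 1)).hom (hW i₀ c)) σ T h +
      evW (((Cx (Kc U) (PW P (U i₀))).d (q + 1) (q + 2)).hom c)
        (Fin.cons i₀ σ : Fin (q + 3) → ι) T (h.trans (cons_le i₀ σ)) := by
  have hY : ∀ j : Fin (q + 2),
      evW (hW i₀ c) (σ ∘ j.succAbove) T
        (h.trans (inf_le_inf_right (U i₀) (face_le U σ j))) =
      evW c (Fin.cons i₀ (σ ∘ j.succAbove) : Fin (q + 2) → ι) T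
        ((h.trans (inf_le_inf_right (U i₀) (face_le U σ j))).trans (cons_le i₀ _)) :=
    fun j => evW_hW i₀ c _ T _
  have hZ : ∀ j : Fin (q + 2),
      evW c ((Fin.cons i₀ σ : Fin (q + 3) → ι) ∘ j.succ.succAbove) T
        ((h.trans (cons_le i₀ σ)).trans (inf_le_inf_right (U i₀) (face_le U _ j.succ))) =
      evW c (Fin.cons i₀ (σ ∘ j.succAbove) : Fin (q + 2) → ι) T
        ((h.trans (inf_le_inf_right (U i₀) (face_le U σ j))).trans (cons_le i₀ _)) :=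
    fun j => evW_congr c _ _ (cons_comp_succ i₀ σ j) T _ _
  have h0 : evW c ((Fin.cons i₀ σ : Fin (q + 3) → ι) ∘ (0 : Fin (q + 3)).succAbove) T
        ((h.trans (cons_le i₀ σ)).trans (inf_le_inf_right (U i₀) (face_le U _ 0))) =
      evW c σ T h :=
    evW_congr c _ _ (cons_comp_zero i₀ σ) T _ _
  have e1 := evW_d (hW i₀ c) σ T h
  have e2 := evW_d c (Fin.cons i₀ σ : Fin (q + 3) → ι) T (h.trans (cons_le i₀ σ))
  rw [Fin.sum_univ_succ] at e2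
  rw [e1, e2]
  simp only [hY, hZ, h0, Fin.val_zero, pow_zero, one_smul, Fin.val_succ, pow_succ, mul_neg,
    mul_one, neg_smul, Finset.sum_neg_distrib]
  abel

end PW

end Groth.Agent.Lib.Helper62.OrdCech
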