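import Mathlib
import Groth.Agent.Lib.Helper62.OrdCech

/-! # The full (ordered) Cech complex of a finite family vanishes in degrees `≥` the cardinality:
the induction -/

set_option autoImplicit false
set_option backward.isDefEq.respectTransparency false
set_option backward.isDefEq.respectTransparency.types false

open CategoryTheory CategoryTheory.Limits Opposite Simplicial SimplexCategory TopologicalSpace

universe u

namespace Groth.Agent.Lib.Helper62.OrdCech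

open CechChase HomCech CTCech CTAug CechFunctorExact

variable {X : TopCat.{u}} {ι : Type u} {U : ι → Opens X}
  (P : (Opens X)ᵒᵖ ⥤ AddCommGrpCat.{u})

lemma le_infW_of_mem (i₀ : ι) {q : ℕ} (τ : Fin (q + 1) → ι) (h : ∃ k, τ k = i₀) :
    Uσ U τ ≤ Uσ U τ ⊓ U i₀ := by
  obtain ⟨k, hk⟩ := h
  exact le_inf le_rfl (hk ▸ Uσ_le U τ k)

open Classical in
/-- extension by zero of a cochain of `PW` to the tuples containing `i₀` -/
noncomputable def ext0 (i₀ : ι) {q : ℕ} (b : (Cx (Kc U) (PW P (U i₀))).X q) :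
    (Cx (Kc U) P).X q :=
  mkc (fun (τ : Fin (q + 1) → ι) =>
    (if h : ∃ k, τ k = i₀ then
      (P.map (homOfLE (le_infW_of_mem (U := U) i₀ τ h)).op).hom
        (comp (Kc U) (PW P (U i₀)) b τ)
    else 0 : P.obj (op (Uσ U τ))))

variable {P}

lemma ev_ext0_mem (i₀ : ι) {q : ℕ} (b : (Cx (Kc U) (PW P (U i₀))).X q) (τ : Fin (q + 1) → ι)
    (h : ∃ k, τ k = i₀) (T : Opens X) (hT : T ≤ Uσ U τ) :
    ev (ext0 P i₀ b) τ T hT = evW b τ T (hT.trans (le_infW_of_mem i₀ τ h)) := by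
  have h1 : comp (Kc U) P (ext0 P i₀ b) τ =
      (P.map (homOfLE (le_infW_of_mem (U := U) i₀ τ h)).op).hom
        (comp (Kc U) (PW P (U i₀)) b τ) := by
    unfold ext0
    refine (comp_mkc (K := Kc U) (P := P) _ τ).trans ?_
    exact dif_pos h
  unfold ev evW
  rw [h1]
  exact map_map_thin P _ _ _ _

lemma ev_ext0_not_mem (i₀ : ι) {q : ℕ} (b : (Cx (Kc U) (PW P (U i₀))).X q)
    (τ : Fin (q + 1) → ι) (h : ¬ ∃ k, τ k = i₀) (T : Opens X) (hT : T ≤ Uσ U τ) :
    ev (ext0 P i₀ b) τ T hT = 0 := by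
  have h1 : comp (Kc U) P (ext0 P i₀ b) τ = 0 := by
    unfold ext0
    refine (comp_mkc (K := Kc U) (P := P) _ τ).trans ?_
    exact dif_neg h
  exact ev_eq_zero _ _ _ _ h1

lemma comp_d_ext0_mem (i₀ : ι) {q : ℕ} (b : (Cx (Kc U) (PW P (U i₀))).X q)
    (σ : Fin (q + 2) → ι) (hσ : ∃ k, σ k = i₀)
    (hb : ∀ j : Fin (q + 2), (¬ ∃ k, (σ ∘ j.succAbove) k = i₀) →
      comp (Kc U) (PW P (U i₀)) b (σ ∘ j.succAbove) = 0) :
    comp (Kc U) P (((Cx (Kc U) P).d q (q + 1)).hom (ext0 P i₀ b)) σ =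
      evW (((Cx (Kc U) (PW P (U i₀))).d q (q + 1)).hom b) σ (Uσ U σ)
        (le_infW_of_mem i₀ σ hσ) := by
  rw [← ev_self, ev_d, evW_d]
  apply Finset.sum_congr rfl
  intro j _
  congr 1
  by_cases hj : ∃ k, (σ ∘ j.succAbove) k = i₀
  · exact ev_ext0_mem i₀ b _ hj _ _
  · rw [ev_ext0_not_mem i₀ b _ hj, evW_eq_zero _ _ _ _ (hb j hj)]

lemma comp_d_ext0_not_mem (i₀ : ι) {q : ℕ} (b : (Cx (Kc U) (PW P (U i₀))).X q)
    (σ : Fin (q + 2) → ι) (hσ : ¬ ∃ k, σ k = i₀) :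
    comp (Kc U) P (((Cx (Kc U) P).d q (q + 1)).hom (ext0 P i₀ b)) σ = 0 := by
  rw [← ev_self, ev_d]
  apply Finset.sum_eq_zero
  intro j _
  rw [ev_ext0_not_mem i₀ b (σ ∘ j.succAbove) (fun ⟨k, hk⟩ => hσ ⟨j.succAbove k, hk⟩), smul_zero]

variable (U) in
/-- the inductive claim: cocycles on `A`-tuples in degree `≥ |A|` are coboundaries on `A`-tuples -/
def Good (A : Finset ι) : Prop :=
  ∀ (P : (Opens X)ᵒᵖ ⥤ AddCommGrpCat.{u}) (q : ℕ), A.card ≤ q + 1 →
    ∀ c : (Cx (Kc U) P).X (q + 1),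
      (∀ σ : Fin (q + 3) → ι, (∀ k, σ k ∈ A) →
        comp (Kc U) P (((Cx (Kc U) P).d (q + 1) (q + 2)).hom c) σ = 0) →
      ∃ b : (Cx (Kc U) P).X q, ∀ σ : Fin (q + 2) → ι, (∀ k, σ k ∈ A) →
        comp (Kc U) P c σ = comp (Kc U) P (((Cx (Kc U) P).d q (q + 1)).hom b) σ

lemma step3 (A' : Finset ι) (IH : Good U A') (P' : (Opens X)ᵒᵖ ⥤ AddCommGrpCat.{u}) (q : ℕ)
    (hcard' : A'.card ≤ q) (b' : (Cx (Kc U) P').X q)
    (hb' : ∀ σ : Fin (q + 2) → ι, (∀ k, σ k ∈ A') →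
      comp (Kc U) P' (((Cx (Kc U) P').d q (q + 1)).hom b') σ = 0) :
    ∃ b'' : (Cx (Kc U) P').X q,
      (∀ τ : Fin (q + 1) → ι, (∀ k, τ k ∈ A') → comp (Kc U) P' b'' τ = 0) ∧
      ((Cx (Kc U) P').d q (q + 1)).hom b'' = ((Cx (Kc U) P').d q (q + 1)).hom b' := by
  cases q with
  | zero =>
    have hA' : A' = ∅ := Finset.card_eq_zero.1 (by omega)
    refine ⟨b', fun τ hτ => ?_, rfl⟩
    have := hτ 0
    rw [hA'] at this
    exact absurd this (Finset.notMem_empty _)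
  | succ q₀ =>
    obtain ⟨e, he⟩ := IH P' q₀ (by omega) b' hb'
    refine ⟨b' - ((Cx (Kc U) P').d q₀ (q₀ + 1)).hom e, fun τ hτ => ?_, ?_⟩
    · rw [comp_sub, he τ hτ, sub_self]
    · rw [map_sub, d_d_apply, sub_zero]

theorem good_all [DecidableEq ι] (A : Finset ι) : Good U A := by
  induction A using Finset.induction_on with
  | empty =>
    intro P q _ c _
    refine ⟨0, fun σ hσ => ?_⟩
    exact absurd (hσ 0) (Finset.notMem_empty _)
  | insert i₀ A' hi₀ IH =>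
    intro P q hcard c hc
    have hcard' : A'.card ≤ q := by
      rw [Finset.card_insert_of_notMem hi₀] at hcard
      omega
    -- step 1
    obtain ⟨b₁, hb₁⟩ := IH P q (by omega) c
      (fun σ hσ => hc σ (fun k => Finset.mem_insert_of_mem (hσ k)))
    obtain ⟨c₁, hc₁⟩ : ∃ c₁, c₁ = c - ((Cx (Kc U) P).d q (q + 1)).hom b₁ := ⟨_, rfl⟩
    have ha : ∀ σ : Fin (q + 2) → ι, (∀ k, σ k ∈ A') → comp (Kc U) P c₁ σ = 0 := by
      intro σ hσ
      rw [hc₁, comp_sub, hb₁ σ hσ, sub_self]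
    have hdc₁ : ((Cx (Kc U) P).d (q + 1) (q + 2)).hom c₁ =
        ((Cx (Kc U) P).d (q + 1) (q + 2)).hom c := by
      rw [hc₁, map_sub, d_d_apply, sub_zero]
    -- step 2
    obtain ⟨c', hc'⟩ : ∃ c', c' = ((Mp (Kc U) (toPW P (U i₀))).f (q + 1)).hom c₁ := ⟨_, rfl⟩
    have hc'comp : ∀ σ : Fin (q + 2) → ι, comp (Kc U) (PW P (U i₀)) c' σ =
        ((toPW P (U i₀)).app (op (Uσ U σ))).hom (comp (Kc U) P c₁ σ) := by
      intro σ
      rw [hc']
      exact comp_Mp (K := Kc U) (toPW P (U i₀)) (q + 1) c₁ σ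
    have ha' : ∀ σ : Fin (q + 2) → ι, (∀ k, σ k ∈ A') →
        comp (Kc U) (PW P (U i₀)) c' σ = 0 := by
      intro σ hσ
      rw [hc'comp, ha σ hσ, map_zero]
    have hdc' : ((Cx (Kc U) (PW P (U i₀))).d (q + 1) (q + 2)).hom c' =
        ((Mp (Kc U) (toPW P (U i₀))).f (q + 2)).hom
          (((Cx (Kc U) P).d (q + 1) (q + 2)).hom c₁) := by
      rw [hc']
      exact (Mp_d (toPW P (U i₀)) (q + 1) c₁).symm
    have hb' : ∀ σ : Fin (q + 3) → ι, (∀ k, σ k ∈ insert i₀ A') →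
        comp (Kc U) (PW P (U i₀))
          (((Cx (Kc U) (PW P (U i₀))).d (q + 1) (q + 2)).hom c') σ = 0 := by
      intro σ hσ
      rw [hdc']
      refine (comp_Mp (K := Kc U) (toPW P (U i₀)) (q + 2) _ σ).trans ?_
      rw [hdc₁, hc σ hσ, map_zero]
    have hcd : ∀ σ : Fin (q + 2) → ι, (∀ k, σ k ∈ insert i₀ A') →
        comp (Kc U) (PW P (U i₀)) c' σ =
          comp (Kc U) (PW P (U i₀))
            (((Cx (Kc U) (PW P (U i₀))).d q (q + 1)).hom (hW i₀ c')) σ := by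
      intro σ hσ
      have h := homotopy_id i₀ c' σ (Uσ U σ ⊓ U i₀) le_rfl
      have hcons : ∀ k, (Fin.cons i₀ σ : Fin (q + 3) → ι) k ∈ insert i₀ A' := by
        intro k
        refine Fin.cases ?_ (fun k' => ?_) k
        · rw [Fin.cons_zero]
          exact Finset.mem_insert_self _ _
        · rw [Fin.cons_succ]
          exact hσ k'
      rw [evW_self, evW_self, evW_eq_zero _ _ _ _ (hb' _ hcons), add_zero] at h
      exact h
    -- step 3
    obtain ⟨b'', hb''0, hb''d⟩ := step3 A' IH (PW P (U i₀)) q hcard' (hW i₀ c')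
      (fun σ hσ => by
        rw [← hcd σ (fun k => Finset.mem_insert_of_mem (hσ k))]
        exact ha' σ hσ)
    -- step 4
    refine ⟨b₁ + ext0 P i₀ b'', fun σ hσ => ?_⟩
    have hc_eq : c = c₁ + ((Cx (Kc U) P).d q (q + 1)).hom b₁ := by
      rw [hc₁]
      abel
    have key : comp (Kc U) P c₁ σ =
        comp (Kc U) P (((Cx (Kc U) P).d q (q + 1)).hom (ext0 P i₀ b'')) σ := by
      by_cases hi : ∃ k, σ k = i₀
      · rw [comp_d_ext0_mem i₀ b'' σ hi (fun j hj => hb''0 _ (fun k => by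
          have h1 := hσ (j.succAbove k)
          exact Finset.mem_of_mem_insert_of_ne h1 (fun h2 => hj ⟨k, h2⟩))), hb''d]
        unfold evW
        rw [← hcd σ hσ, hc'comp]
        have e := map_map_thin P (homOfLE (le_infW_of_mem (U := U) i₀ σ hi))
          (homOfLE (inf_le_left : Uσ U σ ⊓ U i₀ ≤ Uσ U σ)) (𝟙 _) (comp (Kc U) P c₁ σ)
        refine Eq.trans ?_ e.symm
        rw [op_id, P.map_id]
        rfl
      · rw [comp_d_ext0_not_mem i₀ b'' σ hi]
        exact ha σ (fun k => Finset.mem_of_mem_insert_of_ne (hσ k) (fun h2 => hi ⟨k, h2⟩))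
    have e1 : comp (Kc U) P c σ = comp (Kc U) P c₁ σ +
        comp (Kc U) P (((Cx (Kc U) P).d q (q + 1)).hom b₁) σ := by
      rw [hc_eq, comp_add]
    have e2 : comp (Kc U) P (((Cx (Kc U) P).d q (q + 1)).hom (b₁ + ext0 P i₀ b'')) σ =
        comp (Kc U) P (((Cx (Kc U) P).d q (q + 1)).hom b₁) σ +
        comp (Kc U) P (((Cx (Kc U) P).d q (q + 1)).hom (ext0 P i₀ b'')) σ := by
      rw [map_add, comp_add]
    rw [e1, e2, key]
    exact add_comm _ _

theorem exactAt [Finite ι] (q : ℕ) (hq : Nat.card ι ≤ q + 1) : ExactAt (Kc U) P q := by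
  classical
  haveI := Fintype.ofFinite ι
  intro s hs
  obtain ⟨b, hb⟩ := good_all (U := U) Finset.univ P q (by
    rw [Finset.card_univ, ← Nat.card_eq_fintype_card]
    exact hq) s (fun σ _ => by
      rw [hs]
      exact comp_zero' (Kc U) P σ)
  exact ⟨b, cx_ext _ _ (fun σ => (hb σ (fun k => Finset.mem_univ _)).symm)⟩

theorem isZero_of_isEmpty [IsEmpty ι] (q : ℕ) : IsZero ((Cx (Kc U) P).homology q) := by
  have hX : IsZero ((Cx (Kc U) P).X q) := by
    haveI : Subsingleton ((Cx (Kc U) P).X q) :=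
      ⟨fun x y => cx_ext x y (fun (σ : Fin (q + 1) → ι) => (IsEmpty.false (σ 0)).elim)⟩
    exact AddCommGrpCat.isZero_of_subsingleton _
  exact (HomologicalComplex.exactAt_iff_isZero_homology _ _).1
    (ShortComplex.exact_of_isZero_X₂ _ hX)

theorem main [Finite ι] (q : ℕ) (hq : Nat.card ι ≤ q) :
    IsZero (CohTop.cechH P U q) := by
  cases q with
  | zero =>
    have h0 : Nat.card ι = 0 := by omega
    haveI : IsEmpty ι := by
      rcases Nat.card_eq_zero.1 h0 with h | h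
      · exact h
      · exact absurd ‹Finite ι› (not_finite_iff_infinite.2 h)
    exact isZero_of_isEmpty (U := U) (P := P) 0
  | succ q' =>
    exact (exactAt_iff (Kc U) P q').2 (exactAt (U := U) (P := P) q' hq)

end Groth.Agent.Lib.Helper62.OrdCech
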