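import Groth.Agent.Lib.Helper62.PCohDerived
import Groth.Agent.Lib.Helper62.SigmaGE

/-!
Pseudo-coherence of complexes with cohomology bounded above whose top cohomology is of finite type.
-/

universe w v u

open CategoryTheory Limits HomologicalComplex

namespace Groth.Agent.Lib.Helper62

section

variable {C : Type u} [Category.{v} C] [Abelian C]
  {P : ObjectProperty C} [P.IsClosedUnderIsomorphisms] [P.ContainsZero]

omit [P.IsClosedUnderIsomorphisms] [P.ContainsZero] in
/-- Quasi-liftability lets us lift an epimorphism `P₀ ↠ H^n(F₀)` to a map into the cycles. -/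
theorem exists_lift_cycles (hql : PCoh.IsQuasiLiftable P) (n : ℤ) (F₀ : CochainComplex C ℤ)
    (hft : PCoh.IsOfFiniteType P (F₀.homology n)) :
    ∃ (P₁ : C) (z : P₁ ⟶ F₀.cycles n), P P₁ ∧ Epi (z ≫ F₀.homologyπ n) := by
  obtain ⟨P₀, π, hP₀, hπ⟩ := hft
  have h1 : Epi (pullback.snd (F₀.homologyπ n) π) := inferInstance
  obtain ⟨P₁, v, hP₁, hv⟩ := hql _ _ (pullback.snd (F₀.homologyπ n) π) h1 hP₀
  refine ⟨P₁, v ≫ pullback.fst _ _, hP₁, ?_⟩
  rw [Category.assoc, pullback.condition, ← Category.assoc]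
  infer_instance

/-- A complex acyclic in degrees `> n` with `H^n` of finite type receives a quasi-isomorphism from
a strictly `n`-pseudo-coherent complex. -/
theorem exists_strictPC_of_finiteType (hql : PCoh.IsQuasiLiftable P) (n : ℤ)
    (F₀ : CochainComplex C ℤ) (hac : ∀ i : ℤ, n < i → IsZero (F₀.homology i))
    (hft : PCoh.IsOfFiniteType P (F₀.homology n)) :
    ∃ (E' : CochainComplex C ℤ) (u' : E' ⟶ F₀), PCoh.IsStrictPC P n E' ∧ QuasiIso u' := by
  obtain ⟨P₁, z, hP₁, hz⟩ := exists_lift_cycles hql n F₀ hft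
  have hepi := epi_homologyMap_mkHomFromSingle n z hz
  set â := mkHomFromSingle (c := ComplexShape.up ℤ) (z ≫ F₀.iCycles n)
    (fun l _ => by rw [Category.assoc, iCycles_d, comp_zero]) with hâ
  let S₀ : CochainComplex C ℤ := (single C (ComplexShape.up ℤ) n).obj P₁
  have hiso : ∀ i : ℤ, n < i → IsIso (homologyMap â i) := by
    intro i hi
    have h1 : IsZero (S₀.homology i) := by
      rw [← exactAt_iff_isZero_homology]
      exact ExactAt.of_isZero (isZero_single_obj_X _ _ _ _ (by omega))
    exact ⟨0, h1.eq_of_src _ _, (hac i hi).eq_of_src _ _⟩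
  obtain ⟨E', v, u', hvu, hu', hvmono, hviso⟩ := exists_factor n â hiso hepi
  refine ⟨E', u', ⟨⟨n, fun i hi => ?_⟩, fun i hi => ?_⟩, hu'⟩
  · have := hviso i (by omega)
    exact IsZero.of_iso (isZero_single_obj_X _ _ _ _ (by omega)) (asIso (v.f i)).symm
  · have := hviso i hi
    refine P.prop_of_iso (asIso (v.f i)) ?_
    by_cases hin : i = n
    · subst hin
      exact P.prop_of_iso (singleObjXSelf (ComplexShape.up ℤ) i P₁).symm hP₁
    · exact P.prop_of_isZero (isZero_single_obj_X _ _ _ _ hin)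

end

end Groth.Agent.Lib.Helper62
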