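import Groth.Agent.Lib.Helper62.PCohStep
import Groth.Agent.S5603

/-!
Pseudo-coherence of direct summands and of objects with vanishing cohomology in high degrees.
-/

universe w v u

open CategoryTheory Limits HomologicalComplex DerivedCategory Pretriangulated

namespace Groth.Agent.Lib.Helper62

variable {C : Type u} [Category.{v} C] [Abelian C] [HasDerivedCategory.{w} C]
  {P : ObjectProperty C} [P.IsClosedUnderIsomorphisms] [P.ContainsZero]
  (hsum : ∀ X Y : C, P X → P Y → P (X ⨯ Y))
  (hqs : PCoh.IsQuasiStableUnderKernels P) (hql : PCoh.IsQuasiLiftable P)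

include hsum hqs hql

/-- An object of `D(C)` acyclic in degrees `≥ n` is `n`-pseudo-coherent. -/
theorem isNPC_of_acyclic (n : ℤ) (F : DerivedCategory C)
    (hac : ∀ i : ℤ, n ≤ i → IsZero ((DerivedCategory.homologyFunctor C i).obj F)) :
    IsNPC P n F :=
  (Groth.Agent.S5603.result P hsum hqs hql n F (fun i hi => hac i (by omega))).2
    ⟨_, 𝟙 _, P.prop_of_isZero (hac n le_rfl), inferInstance⟩

omit hsum hqs hql [P.IsClosedUnderIsomorphisms] [P.ContainsZero] in
/-- The cohomology of an `n`-pseudo-coherent object is bounded above. -/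
theorem exists_bound_of_isNPC (n : ℤ) (F : DerivedCategory C) (h : IsNPC P n F) :
    ∃ b : ℤ, ∀ i : ℤ, b < i → IsZero ((DerivedCategory.homologyFunctor C i).obj F) := by
  obtain ⟨E, ⟨⟨b, hb⟩, _⟩, ⟨e⟩⟩ := h
  refine ⟨b, fun i hi => ?_⟩
  have h1 : IsZero (E.homology i) :=
    (exactAt_iff_isZero_homology _ _).1 (ExactAt.of_isZero (hb i hi))
  exact h1.of_iso ((DerivedCategory.homologyFunctor C i).mapIso e.symm ≪≫ homologyQIso E i)

/-- In `K ⊞ L`, if `K` is `(n+1)`-pseudo-coherent and the sum is `n`-pseudo-coherent, then `L` is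
`n`-pseudo-coherent. -/
theorem isNPC_snd_of_biprod (n : ℤ) (K L : DerivedCategory C) (hK : IsNPC P (n + 1) K)
    (hKL : IsNPC P n (K ⊞ L)) : IsNPC P n L :=
  isNPC_obj₃ hsum hqs hql n (binaryBiproductTriangle K L) (binaryBiproductTriangle_distinguished K L)
    hK hKL

/-- Direct summands of `n`-pseudo-coherent objects are `n`-pseudo-coherent. -/
theorem isNPC_of_biprod (n : ℤ) (K L : DerivedCategory C) (hKL : IsNPC P n (K ⊞ L)) :
    IsNPC P n K ∧ IsNPC P n L := by
  obtain ⟨b, hb⟩ := exists_bound_of_isNPC n _ hKL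
  have hbK : ∀ i : ℤ, b < i → IsZero ((DerivedCategory.homologyFunctor C i).obj K) := by
    intro i hi
    have h1 : 𝟙 ((DerivedCategory.homologyFunctor C i).obj K) =
        (DerivedCategory.homologyFunctor C i).map (biprod.inl : K ⟶ K ⊞ L) ≫
          (DerivedCategory.homologyFunctor C i).map biprod.fst := by
      rw [← CategoryTheory.Functor.map_comp, biprod.inl_fst, CategoryTheory.Functor.map_id]
    rw [IsZero.iff_id_eq_zero, h1,
      (hb i hi).eq_of_tgt ((DerivedCategory.homologyFunctor C i).map biprod.inl) 0, zero_comp]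
  have hbL : ∀ i : ℤ, b < i → IsZero ((DerivedCategory.homologyFunctor C i).obj L) := by
    intro i hi
    have h1 : 𝟙 ((DerivedCategory.homologyFunctor C i).obj L) =
        (DerivedCategory.homologyFunctor C i).map (biprod.inr : L ⟶ K ⊞ L) ≫
          (DerivedCategory.homologyFunctor C i).map biprod.snd := by
      rw [← CategoryTheory.Functor.map_comp, biprod.inr_snd, CategoryTheory.Functor.map_id]
    rw [IsZero.iff_id_eq_zero, h1,
      (hb i hi).eq_of_tgt ((DerivedCategory.homologyFunctor C i).map biprod.inr) 0, zero_comp]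
  have hLK : ∀ m : ℤ, IsNPC P m (K ⊞ L) → IsNPC P m (L ⊞ K) := fun m h =>
    h.of_iso (biprod.braiding K L)
  have key : ∀ d : ℕ, n ≤ b + 1 - d → IsNPC P (b + 1 - d) K ∧ IsNPC P (b + 1 - d) L := by
    intro d
    induction d with
    | zero =>
      intro _
      exact ⟨isNPC_of_acyclic hsum hqs hql _ K (fun i hi => hbK i (by push_cast at hi; omega)),
        isNPC_of_acyclic hsum hqs hql _ L (fun i hi => hbL i (by push_cast at hi; omega))⟩
    | succ d ih =>
      intro hd
      obtain ⟨h1, h2⟩ := ih (by push_cast at hd ⊢; omega)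
      have e : b + 1 - (d : ℤ) = (b + 1 - ((d + 1 : ℕ) : ℤ)) + 1 := by push_cast; omega
      rw [e] at h1 h2
      have h3 : IsNPC P (b + 1 - ((d + 1 : ℕ) : ℤ)) (K ⊞ L) := hKL.of_le hd
      exact ⟨isNPC_snd_of_biprod hsum hqs hql _ L K h2 (hLK _ h3),
        isNPC_snd_of_biprod hsum hqs hql _ K L h1 h3⟩
  by_cases hnb : n ≤ b + 1
  · have := key (b + 1 - n).toNat (by omega)
    have e : b + 1 - ((b + 1 - n).toNat : ℤ) = n := by omega
    rwa [e] at this
  · exact ⟨isNPC_of_acyclic hsum hqs hql n K (fun i hi => hbK i (by omega)),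
      isNPC_of_acyclic hsum hqs hql n L (fun i hi => hbL i (by omega))⟩

/-- Direct sums of `n`-pseudo-coherent objects are `n`-pseudo-coherent. -/
theorem isNPC_biprod (n : ℤ) (K L : DerivedCategory C) (hK : IsNPC P n K) (hL : IsNPC P n L) :
    IsNPC P n (K ⊞ L) :=
  isNPC_obj₂ hsum hqs hql n (binaryBiproductTriangle K L) (binaryBiproductTriangle_distinguished K L)
    hK hL

end Groth.Agent.Lib.Helper62
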