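import Groth.Agent.Lib.Helper62.PCohLimit
import Groth.Agent.Lib.Helper62.PCohSummand

/-!
Strictly pseudo-coherent representatives (all terms in `C₀`) of pseudo-coherent objects, and the
calculus of fractions with such representatives.
-/

universe w v u

open CategoryTheory Limits HomologicalComplex DerivedCategory

namespace Groth.Agent.Lib.Helper62

variable {C : Type u} [Category.{v} C] [Abelian C] [HasDerivedCategory.{w} C]
  {P : ObjectProperty C} [P.IsClosedUnderIsomorphisms] [P.ContainsZero]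
  (hsum : ∀ X Y : C, P X → P Y → P (X ⨯ Y))
  (hqs : PCoh.IsQuasiStableUnderKernels P) (hql : PCoh.IsQuasiLiftable P)

include hsum hqs hql

open ZeroObject in
/-- A pseudo-coherent complex acyclic in degrees `≥ m` receives a quasi-isomorphism from a strictly
pseudo-coherent complex vanishing in degrees `≥ m`. -/
theorem exists_strictPCAll_le (m : ℤ) (F₀ : CochainComplex C ℤ) (hF : PCoh.IsPC P (Q.obj F₀))
    (hac : ∀ i : ℤ, m ≤ i → IsZero (F₀.homology i)) :
    ∃ (E' : CochainComplex C ℤ) (u' : E' ⟶ F₀), PCoh.IsStrictPCAll P E' ∧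
      (∀ i : ℤ, m ≤ i → IsZero (E'.X i)) ∧ QuasiIso u' := by
  have hZX : ∀ i : ℤ, IsZero ((0 : CochainComplex C ℤ).X i) := fun i =>
    (HomologicalComplex.eval C (ComplexShape.up ℤ) i).map_isZero (isZero_zero _)
  have hZ : PCoh.IsStrictPCAll P (0 : CochainComplex C ℤ) :=
    ⟨⟨0, fun i _ => hZX i⟩, fun i => P.prop_of_isZero (hZX i)⟩
  have hZh : ∀ i : ℤ, IsZero ((0 : CochainComplex C ℤ).homology i) := fun i =>
    (HomologicalComplex.homologyFunctor C (ComplexShape.up ℤ) i).map_isZero (isZero_zero _)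
  obtain ⟨E', v, u', hvu, hE', hu', hvm, hvi⟩ :=
    exists_factor_pcAll hsum hqs hql m 0 F₀ hZ hF (0 : (0 : CochainComplex C ℤ) ⟶ F₀)
      (fun j hj => ⟨0, (hZh j).eq_of_src _ _, (hac j (by omega)).eq_of_src _ _⟩)
      ((hac m le_rfl).epi _)
  refine ⟨E', u', hE', fun i hi => ?_, hu'⟩
  have := hvi i hi
  exact IsZero.of_iso (hZX i) (asIso (v.f i)).symm

/-- A pseudo-coherent complex receives a quasi-isomorphism from a strictly pseudo-coherent complex. -/
theorem exists_strictPCAll (F₀ : CochainComplex C ℤ) (hF : PCoh.IsPC P (Q.obj F₀)) :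
    ∃ (E' : CochainComplex C ℤ) (u' : E' ⟶ F₀), PCoh.IsStrictPCAll P E' ∧ QuasiIso u' := by
  obtain ⟨b, hb⟩ := exists_bound_of_isNPC 0 _ (hF 0)
  obtain ⟨E', u', hE', _, hu'⟩ := exists_strictPCAll_le hsum hqs hql (b + 1) F₀ hF
    (fun i hi => (hb i (by omega)).of_iso (homologyQIso F₀ i).symm)
  exact ⟨E', u', hE', hu'⟩

omit hsum hqs hql [P.IsClosedUnderIsomorphisms] [P.ContainsZero] in
theorem isPC_Q_of_strictAll (E : CochainComplex C ℤ) (hE : PCoh.IsStrictPCAll P E) :
    PCoh.IsPC P (Q.obj E) := fun _ => ⟨E, ⟨hE.1, fun i _ => hE.2 i⟩, ⟨Iso.refl _⟩⟩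

omit hsum hqs hql [P.IsClosedUnderIsomorphisms] [P.ContainsZero] in
theorem isPC_of_iso {F F' : DerivedCategory C} (e : F ≅ F') (hF : PCoh.IsPC P F) :
    PCoh.IsPC P F' := fun n => IsNPC.of_iso (show IsNPC P n F from hF n) e

/-- A morphism in `D(C)` out of a strictly pseudo-coherent complex is represented by a chain map
after replacing the source by a quasi-isomorphic strictly pseudo-coherent complex. -/
theorem exists_lift_hom_all (A₀ B₀ : CochainComplex C ℤ) (hA : PCoh.IsStrictPCAll P A₀)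
    (α : Q.obj A₀ ⟶ Q.obj B₀) :
    ∃ (A₂ : CochainComplex C ℤ) (s : A₂ ⟶ A₀) (f : A₂ ⟶ B₀), PCoh.IsStrictPCAll P A₂ ∧
      QuasiIso s ∧ Q.map s ≫ α = Q.map f := by
  obtain ⟨X', s', hs', g, hα⟩ := right_fac α
  have hs'q : QuasiIso s' := (isIso_Q_map_iff_quasiIso C s').1 hs'
  have hX' : PCoh.IsPC P (Q.obj X') :=
    isPC_of_iso (asIso (Q.map s')).symm (isPC_Q_of_strictAll A₀ hA)
  obtain ⟨A₂, v, hA₂, hv⟩ := exists_strictPCAll hsum hqs hql X' hX'
  refine ⟨A₂, v ≫ s', v ≫ g, hA₂, inferInstance, ?_⟩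
  rw [hα, Functor.map_comp, Functor.map_comp, Category.assoc, IsIso.hom_inv_id_assoc]

/-- Two chain maps out of a strictly pseudo-coherent complex which agree in `D(C)` become homotopic
after precomposition with a quasi-isomorphism from a strictly pseudo-coherent complex. -/
theorem exists_homotopy_all (A₀ B₀ : CochainComplex C ℤ) (hA : PCoh.IsStrictPCAll P A₀)
    (f g : A₀ ⟶ B₀) (hfg : Q.map f = Q.map g) :
    ∃ (A₂ : CochainComplex C ℤ) (s : A₂ ⟶ A₀), PCoh.IsStrictPCAll P A₂ ∧ QuasiIso s ∧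
      Nonempty (Homotopy (s ≫ f) (s ≫ g)) := by
  have h1 : Qh.map ((HomotopyCategory.quotient C (ComplexShape.up ℤ)).map f) =
      Qh.map ((HomotopyCategory.quotient C (ComplexShape.up ℤ)).map g) := hfg
  rw [MorphismProperty.map_eq_iff_precomp Qh (HomotopyCategory.quasiIso C (ComplexShape.up ℤ))] at h1
  obtain ⟨X, s, hs, hsfg⟩ := h1
  obtain ⟨X', rfl⟩ := HomotopyCategory.quotient_obj_surjective X
  obtain ⟨s', rfl⟩ := (HomotopyCategory.quotient _ _).map_surjective s
  have hs'q : QuasiIso s' := (HomotopyCategory.quotient_map_mem_quasiIso_iff s').1 hs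
  have hs'i : IsIso (Q.map s') := (isIso_Q_map_iff_quasiIso C s').2 hs'q
  have hX' : PCoh.IsPC P (Q.obj X') :=
    isPC_of_iso (asIso (Q.map s')).symm (isPC_Q_of_strictAll A₀ hA)
  obtain ⟨A₂, v, hA₂, hv⟩ := exists_strictPCAll hsum hqs hql X' hX'
  have h2 : Homotopy (s' ≫ f) (s' ≫ g) := HomotopyCategory.homotopyOfEq _ _ (by
    rw [Functor.map_comp, Functor.map_comp]; exact hsfg)
  refine ⟨A₂, v ≫ s', hA₂, inferInstance, ⟨?_⟩⟩
  have h3 := h2.compLeft v
  exact (Homotopy.ofEq (Category.assoc _ _ _)).trans (h3.trans (Homotopy.ofEq (Category.assoc _ _ _).symm))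

end Groth.Agent.Lib.Helper62
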