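import Groth.Agent.Lib.Helper62.SigmaGE
import Mathlib.Algebra.Homology.DerivedCategory.Basic

/-!
Conversion of a `ℤ`-indexed cochain complex into an `ℕ`-indexed chain complex (`K_j = G^{-j}`), and
acyclicity of the mapping cone of a quasi-isomorphism (helper62).
-/

universe w v u

open CategoryTheory Limits HomologicalComplex

namespace Groth.Agent.Lib.Helper62.PCohChain

variable {C : Type u} [Category.{v} C] [Abelian C]

/-- The chain complex `K_j = G^{-j}`. -/
noncomputable def chainOfCochain (G : CochainComplex C ℤ) : ChainComplex C ℕ :=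
  ChainComplex.of (fun j => G.X (-(j : ℤ))) (fun j => G.d (-((j + 1 : ℕ) : ℤ)) (-(j : ℤ)))
    (fun _ => G.d_comp_d _ _ _)

lemma chainOfCochain_d (G : CochainComplex C ℤ) (j : ℕ) :
    (chainOfCochain G).d (j + 1) j = G.d (-((j + 1 : ℕ) : ℤ)) (-(j : ℤ)) := by
  unfold chainOfCochain
  exact ChainComplex.of_d (fun j : ℕ => G.X (-(j : ℤ)))
    (fun j : ℕ => G.d (-((j + 1 : ℕ) : ℤ)) (-(j : ℤ))) j

lemma exact_of_eq_maps {X₁ X₂ X₃ : C} (f f' : X₁ ⟶ X₂) (g g' : X₂ ⟶ X₃) (w : f ≫ g = 0)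
    (w' : f' ≫ g' = 0) (hf : f = f') (hg : g = g') (h : (ShortComplex.mk f g w).Exact) :
    (ShortComplex.mk f' g' w').Exact := by
  subst hf hg
  exact h

lemma chainOfCochain_exactAt_succ (G : CochainComplex C ℤ) (k : ℕ)
    (h : G.ExactAt (-((k + 1 : ℕ) : ℤ))) : (chainOfCochain G).ExactAt (k + 1) := by
  rw [(chainOfCochain G).exactAt_iff' (k + 1 + 1) (k + 1) k (by simp) (by simp)]
  rw [G.exactAt_iff' (-((k + 1 + 1 : ℕ) : ℤ)) (-((k + 1 : ℕ) : ℤ)) (-(k : ℤ))
    (by simp only [CochainComplex.prev]; omega)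
    (by simp only [CochainComplex.next]; omega)] at h
  exact exact_of_eq_maps _ _ _ _ _ _ (chainOfCochain_d G (k + 1)).symm
    (chainOfCochain_d G k).symm h

lemma chainOfCochain_exactAt_zero (G : CochainComplex C ℤ)
    (h : G.ExactAt (-((0 : ℕ) : ℤ))) (h1 : IsZero (G.X (-((0 : ℕ) : ℤ) + 1))) :
    (chainOfCochain G).ExactAt 0 := by
  rw [(chainOfCochain G).exactAt_iff' 1 0 0 (by simp) (by simp)]
  rw [G.exactAt_iff' (-((0 + 1 : ℕ) : ℤ)) (-((0 : ℕ) : ℤ)) (-((0 : ℕ) : ℤ) + 1)
    (by simp only [CochainComplex.prev]; omega)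
    (by simp only [CochainComplex.next])] at h
  have h0 : G.d (-((0 : ℕ) : ℤ)) (-((0 : ℕ) : ℤ) + 1) = 0 := h1.eq_of_tgt _ _
  have hepi : Epi (G.d (-((0 + 1 : ℕ) : ℤ)) (-((0 : ℕ) : ℤ))) := by
    have := (ShortComplex.exact_iff_epi _ (by exact h0)).1 h
    exact this
  have hepi' : Epi ((chainOfCochain G).d 1 0) := by
    rw [show (chainOfCochain G).d 1 0 = _ from chainOfCochain_d G 0]
    exact hepi
  exact (ShortComplex.exact_iff_epi _ ((chainOfCochain G).shape 0 0 (by simp))).2 hepi'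

section Derived

variable [HasDerivedCategory.{w} C]

open DerivedCategory Pretriangulated

lemma exactAt_mappingCone_of_quasiIso {K L : CochainComplex C ℤ} (f : K ⟶ L) [QuasiIso f] (i : ℤ) :
    (CochainComplex.mappingCone f).ExactAt i := by
  have hT := mappingCone_triangle_distinguished f
  have hf : IsIso (Q.map f) := (isIso_Q_map_iff_quasiIso C f).2 inferInstance
  have h3 : IsZero (Q.obj (CochainComplex.mappingCone f)) :=
    (Triangle.isZero₃_iff_isIso₁ _ hT).2 hf
  rw [exactAt_iff_isZero_homology]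
  exact ((DerivedCategory.homologyFunctor C i).map_isZero h3).of_iso
    ((homologyFunctorFactors C i).app _).symm

end Derived

end Groth.Agent.Lib.Helper62.PCohChain
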