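import Groth.Agent.Lib.Helper62.PCohSummand
import Mathlib.Algebra.Homology.DerivedCategory.SingleTriangle
import Mathlib.Algebra.Homology.DerivedCategory.FullyFaithful
import Mathlib.Algebra.Homology.DerivedCategory.TStructure

/-!
Pseudo-coherent objects of an abelian category (objects `X` with `X[0]` pseudo-coherent): finite
type, kernels of epimorphisms, long exact sequences.
-/

universe w v u

open CategoryTheory Limits HomologicalComplex DerivedCategory Pretriangulated

namespace Groth.Agent.Lib.Helper62

section Cycles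

variable {C : Type u} [Category.{v} C] [Abelian C] {ι : Type*} {c : ComplexShape ι}

theorem epi_toCycles_of_exactAt (K : HomologicalComplex C c) (i j : ι) (hij : c.Rel i j)
    (h : K.ExactAt j) : Epi (K.toCycles i j) := by
  obtain rfl := c.prev_eq' hij
  have h' : (K.sc j).Exact := h
  have e : K.toCycles (c.prev j) j = (K.sc j).toCycles := by
    rw [← cancel_mono (K.iCycles j), toCycles_i]
    exact (K.sc j).toCycles_i.symm
  rw [e]
  exact h'.epi_toCycles

/-- The short complex `0 → Z^i → K^i → Z^j → 0`. -/
noncomputable abbrev cyclesSC (K : HomologicalComplex C c) (i j : ι) : ShortComplex C :=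
  ShortComplex.mk (K.iCycles i) (K.toCycles i j) (by
    rw [← cancel_mono (K.iCycles j), Category.assoc, toCycles_i, iCycles_d, zero_comp])

theorem cyclesSC_shortExact (K : HomologicalComplex C c) (i j : ι) (hij : c.Rel i j)
    (h : K.ExactAt j) : (cyclesSC K i j).ShortExact := by
  have hepi : Epi (K.toCycles i j) := epi_toCycles_of_exactAt K i j hij h
  refine
    { exact := ?_
      mono_f := inferInstanceAs (Mono (K.iCycles i))
      epi_g := hepi }
  apply ShortComplex.exact_of_f_is_kernel
  have : Mono (cyclesSC K i j).f := inferInstanceAs (Mono (K.iCycles i))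
  refine KernelFork.IsLimit.ofι' _ _ (fun {A} k hk => ?_)
  have hk0 : k ≫ K.toCycles i j = 0 := hk
  have hk' : k ≫ K.d i j = 0 := by
    rw [← toCycles_i, ← Category.assoc, hk0, zero_comp]
  exact ⟨K.liftCycles k j (c.next_eq' hij) hk', K.liftCycles_i _ _ _ _⟩

end Cycles

variable {C : Type u} [Category.{v} C] [Abelian C] [HasDerivedCategory.{w} C]
  {P : ObjectProperty C} [P.IsClosedUnderIsomorphisms] [P.ContainsZero]

/-- The cohomology of an object placed in degree `0`. -/
theorem isZero_homology_single (X : C) (i : ℤ) (hi : i ≠ 0) :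
    IsZero ((DerivedCategory.homologyFunctor C i).obj ((DerivedCategory.singleFunctor C 0).obj X)) := by
  rcases lt_or_gt_of_ne hi with h | h
  · exact isZero_of_isGE _ 0 i h
  · exact isZero_of_isLE _ 0 i h

variable (hsum : ∀ X Y : C, P X → P Y → P (X ⨯ Y))
  (hqs : PCoh.IsQuasiStableUnderKernels P) (hql : PCoh.IsQuasiLiftable P)

include hsum hqs hql

/-- If `X[0]` is `0`-pseudo-coherent then `X` is of finite type. -/
theorem finiteType_of_isNPC_single (X : C)
    (h : IsNPC P 0 ((DerivedCategory.singleFunctor C 0).obj X)) : PCoh.IsOfFiniteType P X := by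
  obtain ⟨P₀, π, hP₀, hπ⟩ := (Groth.Agent.S5603.result P hsum hqs hql 0 _
    (fun i hi => isZero_homology_single X i (by omega))).1 h
  exact ⟨P₀, π ≫ ((singleFunctorCompHomologyFunctorIso C 0).app X).hom, hP₀, inferInstance⟩

/-- Zero objects are pseudo-coherent. -/
theorem isPC_single_of_isZero (X : C) (hX : IsZero X) :
    PCoh.IsPC P ((DerivedCategory.singleFunctor C 0).obj X) := by
  intro n
  have h0 : IsZero ((DerivedCategory.singleFunctor C 0).obj X) :=
    (DerivedCategory.singleFunctor C 0).map_isZero hX
  exact isNPC_of_acyclic hsum hqs hql n _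
    (fun i _ => (DerivedCategory.homologyFunctor C i).map_isZero h0)

/-- The kernel of an epimorphism of pseudo-coherent objects is pseudo-coherent. -/
theorem isPC_single_X₁ {S : ShortComplex C} (hS : S.ShortExact)
    (h₂ : PCoh.IsPC P ((DerivedCategory.singleFunctor C 0).obj S.X₂))
    (h₃ : PCoh.IsPC P ((DerivedCategory.singleFunctor C 0).obj S.X₃)) :
    PCoh.IsPC P ((DerivedCategory.singleFunctor C 0).obj S.X₁) := by
  intro n
  have h := isNPC_obj₁ hsum hqs hql (n - 1) hS.singleTriangle hS.singleTriangle_distinguished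
    (by rw [sub_add_cancel]; exact h₂ n) (h₃ (n - 1))
  rw [sub_add_cancel] at h
  exact h

/-- In an exact bounded `ℕ`-indexed cochain complex whose terms in degrees `≥ 1` are
pseudo-coherent, the term in degree `0` is pseudo-coherent. -/
theorem isPC_single_X_zero (K : CochainComplex C ℕ) (hex : ∀ i : ℕ, K.ExactAt i)
    (hb : ∃ n : ℕ, ∀ i : ℕ, n < i → IsZero (K.X i))
    (hK : ∀ i : ℕ, 1 ≤ i → PCoh.IsPC P ((DerivedCategory.singleFunctor C 0).obj (K.X i))) :
    PCoh.IsPC P ((DerivedCategory.singleFunctor C 0).obj (K.X 0)) := by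
  obtain ⟨N, hN⟩ := hb
  have key : ∀ d : ℕ, d ≤ N →
      PCoh.IsPC P ((DerivedCategory.singleFunctor C 0).obj (K.cycles (N + 1 - d))) := by
    intro d
    induction d with
    | zero =>
      intro _
      exact isPC_single_of_isZero hsum hqs hql _
        (IsZero.of_mono (K.iCycles (N + 1 - 0)) (hN _ (by omega)))
    | succ d ih =>
      intro hd
      have hrel : (ComplexShape.up ℕ).Rel (N + 1 - (d + 1)) (N + 1 - d) := by
        change N + 1 - (d + 1) + 1 = N + 1 - d
        omega
      have hS := cyclesSC_shortExact K (N + 1 - (d + 1)) (N + 1 - d) hrel (hex _)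
      exact isPC_single_X₁ hsum hqs hql hS (hK _ (by omega)) (ih (by omega))
  have h1 := key N le_rfl
  have e1 : N + 1 - N = 1 := by omega
  rw [e1] at h1
  have hmono : Mono (K.d 0 1) := by
    have h0 := (K.exactAt_iff' 0 0 1 (by simp) (by simp)).1 (hex 0)
    exact (ShortComplex.exact_iff_mono _ (K.shape 0 0 (by simp))).1 h0
  have hm : Mono (K.toCycles 0 1) := by
    have : Mono (K.toCycles 0 1 ≫ K.iCycles 1) := by rw [toCycles_i]; exact hmono
    exact mono_of_mono _ (K.iCycles 1)
  have he : Epi (K.toCycles 0 1) := epi_toCycles_of_exactAt K 0 1 rfl (hex 1)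
  have hi : IsIso (K.toCycles 0 1) := isIso_of_mono_of_epi _
  intro n
  exact IsNPC.of_iso (show IsNPC P n _ from h1 n)
    ((DerivedCategory.singleFunctor C 0).mapIso (asIso (K.toCycles 0 1))).symm

end Groth.Agent.Lib.Helper62
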