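import Groth.Agent.Lib.Helper62.PCohTrunc
import Groth.Agent.Lib.Helper62.PCohObj

/-!
The coherent case of pseudo-coherence (SGA 6 I 3.5-style criterion): when every object of `C₀` is
`C₀`-coherent, `n`-pseudo-coherence of a bounded above object of `D(C)` is detected on its
cohomology objects.
-/

universe w v u

open CategoryTheory Limits HomologicalComplex DerivedCategory Pretriangulated

namespace Groth.Agent.Lib.Helper62

section Abelian

variable {C : Type u} [Category.{v} C] [Abelian C] {P : ObjectProperty C}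

/-- Morphisms from objects of `C₀` into `M` have kernels of `C₀`-finite type. -/
def HasFTKernels (P : ObjectProperty C) (M : C) : Prop :=
  ∀ (E : C) (u : E ⟶ M), P E → PCoh.IsOfFiniteType P (kernel u)

omit [Abelian C] in
theorem isOfFiniteType_of_epi {X Y : C} (f : X ⟶ Y) [Epi f] (h : PCoh.IsOfFiniteType P X) :
    PCoh.IsOfFiniteType P Y := by
  obtain ⟨E, π, hE, hπ⟩ := h
  exact ⟨E, π ≫ f, hE, epi_comp _ _⟩

omit [Abelian C] in
theorem isOfFiniteType_of_prop {X : C} (h : P X) : PCoh.IsOfFiniteType P X :=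
  ⟨X, 𝟙 X, h, inferInstance⟩

theorem hasFTKernels_of_mono {M N : C} (i : M ⟶ N) [Mono i] (h : HasFTKernels P N) :
    HasFTKernels P M := by
  intro E u hE
  have h1 := h E (u ≫ i) hE
  exact isOfFiniteType_of_epi (kernelCompMono u i).hom h1

/-- Quotients of objects with finite type kernels by finite type subobjects have finite type
kernels. -/
theorem hasFTKernels_of_exact [P.IsClosedUnderIsomorphisms]
    (hsum : ∀ X Y : C, P X → P Y → P (X ⨯ Y)) (hql : PCoh.IsQuasiLiftable P)
    {S : ShortComplex C} (hS : S.Exact) [Epi S.g] (h₁ : PCoh.IsOfFiniteType P S.X₁)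
    (h₂ : HasFTKernels P S.X₂) : HasFTKernels P S.X₃ := by
  intro E' u hE'
  obtain ⟨E₁, π₁, hE₁, hπ₁⟩ := h₁
  -- lift `u` to `S.X₂` after covering `E'`
  have hfst : Epi (pullback.fst u S.g) := inferInstance
  obtain ⟨E'', v, hE'', hv⟩ := hql _ _ (pullback.fst u S.g) hfst hE'
  let p : E'' ⟶ E' := v ≫ pullback.fst u S.g
  let q : E'' ⟶ S.X₂ := v ≫ pullback.snd u S.g
  have hpq : q ≫ S.g = p ≫ u := by
    simp only [p, q, Category.assoc, pullback.condition]
  let ψ : E'' ⊞ E₁ ⟶ S.X₂ := biprod.desc q (π₁ ≫ S.f)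
  have hK : PCoh.IsOfFiniteType P (kernel ψ) :=
    h₂ _ ψ (P.prop_of_iso (biprod.isoProd _ _).symm (hsum _ _ hE'' hE₁))
  have hι : kernel.ι ψ ≫ biprod.fst ≫ q = - (kernel.ι ψ ≫ biprod.snd ≫ π₁ ≫ S.f) := by
    have h1 : ψ = biprod.fst ≫ q + biprod.snd ≫ π₁ ≫ S.f := by
      ext <;> simp [ψ]
    have h0 : kernel.ι ψ ≫ (biprod.fst ≫ q + biprod.snd ≫ π₁ ≫ S.f) = 0 := by
      rw [← h1]
      exact kernel.condition ψ
    rw [Preadditive.comp_add] at h0
    exact eq_neg_of_add_eq_zero_left h0
  have hzero : (kernel.ι ψ ≫ biprod.fst ≫ p) ≫ u = 0 := by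
    have h2 : (kernel.ι ψ ≫ biprod.fst ≫ p) ≫ u = (kernel.ι ψ ≫ biprod.fst ≫ q) ≫ S.g := by
      simp only [Category.assoc, hpq]
    rw [h2, hι]
    simp
  let θ : kernel ψ ⟶ kernel u := kernel.lift u (kernel.ι ψ ≫ biprod.fst ≫ p) hzero
  have hθ : Epi θ := by
    rw [epi_iff_surjective_up_to_refinements]
    intro A a
    obtain ⟨A₁, π, hπ, x₁, hx₁⟩ :=
      (epi_iff_surjective_up_to_refinements p).1 hv (a ≫ kernel.ι u)
    have hx₁g : (x₁ ≫ q) ≫ S.g = 0 := by
      rw [Category.assoc, hpq, ← Category.assoc, ← hx₁]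
      simp
    obtain ⟨A₂, π₂, hπ₂, m', hm'⟩ := hS.exact_up_to_refinements (x₁ ≫ q) hx₁g
    obtain ⟨A₃, π₃, hπ₃, y, hy⟩ :=
      (epi_iff_surjective_up_to_refinements π₁).1 hπ₁ m'
    have hlift : biprod.lift (π₃ ≫ π₂ ≫ x₁) (-y) ≫ ψ = 0 := by
      simp only [ψ, biprod.lift_desc, Preadditive.neg_comp, Category.assoc]
      rw [← Category.assoc y, ← hy, Category.assoc, ← hm']
      simp
    refine ⟨A₃, π₃ ≫ π₂ ≫ π, epi_comp' hπ₃ (epi_comp' hπ₂ hπ), kernel.lift ψ _ hlift, ?_⟩
    rw [← cancel_mono (kernel.ι u)]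
    simp only [θ, Category.assoc, kernel.lift_ι, kernel.lift_ι_assoc, biprod.lift_fst_assoc]
    rw [hx₁]
  exact isOfFiniteType_of_epi θ hK

/-- The homology of a short complex whose middle term has finite type kernels and whose left term
is of finite type has finite type kernels. -/
theorem hasFTKernels_homology [P.IsClosedUnderIsomorphisms]
    (hsum : ∀ X Y : C, P X → P Y → P (X ⨯ Y)) (hql : PCoh.IsQuasiLiftable P)
    (S : ShortComplex C) (h₁ : PCoh.IsOfFiniteType P S.X₁) (h₂ : HasFTKernels P S.X₂) :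
    HasFTKernels P S.homology := by
  let S' : ShortComplex C := ShortComplex.mk S.toCycles S.homologyπ S.toCycles_comp_homologyπ
  have hS' : S'.Exact := S'.exact_of_g_is_cokernel S.homologyIsCokernel
  have : Epi S'.g := by dsimp [S']; infer_instance
  exact hasFTKernels_of_exact hsum hql hS' h₁ (hasFTKernels_of_mono S.iCycles h₂)

/-- The homology of a short complex is of finite type if the kernel of `g` is. -/
theorem isOfFiniteType_homology (S : ShortComplex C)
    (h : PCoh.IsOfFiniteType P (kernel S.g)) : PCoh.IsOfFiniteType P S.homology := by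
  have h1 : PCoh.IsOfFiniteType P S.cycles := isOfFiniteType_of_epi S.cyclesIsoKernel.inv h
  exact isOfFiniteType_of_epi S.homologyπ h1

end Abelian

section Derived

variable {C : Type u} [Category.{v} C] [Abelian C]
  {P : ObjectProperty C} [P.IsClosedUnderIsomorphisms] [P.ContainsZero]

omit [P.IsClosedUnderIsomorphisms] [P.ContainsZero] in
/-- If kernels of morphisms between objects of `C₀` are of finite type, then `C₀` is quasi-stable
under kernels of epimorphisms. -/
theorem isQuasiStable_of_coherent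
    (hcoh : ∀ (X E : C) (u : E ⟶ X), P X → P E → PCoh.IsOfFiniteType P (kernel u)) :
    PCoh.IsQuasiStableUnderKernels P := by
  intro K hex _ hK
  have hmono : Mono (K.d 0 1) := by
    have h0 := (K.exactAt_iff' 0 0 1 (by simp) (by simp)).1 (hex 0)
    exact (ShortComplex.exact_iff_mono _ (K.shape 0 0 (by simp))).1 h0
  have hm : Mono (K.toCycles 0 1) := by
    have : Mono (K.toCycles 0 1 ≫ K.iCycles 1) := by rw [toCycles_i]; exact hmono
    exact mono_of_mono _ (K.iCycles 1)
  have he : Epi (K.toCycles 0 1) := epi_toCycles_of_exactAt K 0 1 rfl (hex 1)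
  have hi : IsIso (K.toCycles 0 1) := isIso_of_mono_of_epi _
  have h1 : PCoh.IsOfFiniteType P (kernel (K.d 1 2)) :=
    hcoh _ _ _ (hK 2 (by omega)) (hK 1 le_rfl)
  let e : kernel (K.d 1 2) ≅ K.cycles 1 :=
    IsLimit.conePointUniqueUpToIso (kernelIsKernel (K.d 1 2)) (K.cyclesIsKernel 1 2 (by simp))
  have h2 : PCoh.IsOfFiniteType P (K.cycles 1) := isOfFiniteType_of_epi e.hom h1
  exact isOfFiniteType_of_epi (inv (K.toCycles 0 1)) h2

variable [HasDerivedCategory.{w} C]

omit [P.ContainsZero] in
/-- An object of `C₀` placed in degree `0` is `n`-pseudo-coherent for every `n`. -/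
theorem isNPC_single_of_prop (n : ℤ) (X : C) (hX : P X) [P.ContainsZero] :
    IsNPC P n ((DerivedCategory.singleFunctor C 0).obj X) := by
  refine ⟨(CochainComplex.singleFunctor C 0).obj X, ⟨⟨0, fun i hi => ?_⟩, fun i _ => ?_⟩,
    ⟨((singleFunctorIsoCompQ C 0).app X).symm⟩⟩
  · exact isZero_single_obj_X _ _ _ _ (by omega)
  · by_cases hi : i = 0
    · subst hi
      exact P.prop_of_iso (singleObjXSelf (ComplexShape.up ℤ) 0 X).symm hX
    · exact P.prop_of_isZero (isZero_single_obj_X _ _ _ _ hi)

variable (hsum : ∀ X Y : C, P X → P Y → P (X ⨯ Y)) (hql : PCoh.IsQuasiLiftable P)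
  (hcoh : ∀ (X E : C) (u : E ⟶ X), P X → P E → PCoh.IsOfFiniteType P (kernel u))

include hsum hql hcoh

/-- A `C₀`-coherent object placed in degree `0` is `(-k)`-pseudo-coherent for every `k`. -/
theorem isNPC_single_of_coherent (k : ℕ) : ∀ (M : C), PCoh.IsOfFiniteType P M →
    HasFTKernels P M → IsNPC P (-(k : ℤ)) ((DerivedCategory.singleFunctor C 0).obj M) := by
  have hqs := isQuasiStable_of_coherent hcoh
  induction k with
  | zero =>
    intro M hft _
    have h := (Groth.Agent.S5603.result P hsum hqs hql 0 _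
      (fun i hi => isZero_homology_single M i (by omega))).2
      (isOfFiniteType_of_epi ((singleFunctorCompHomologyFunctorIso C 0).app M).inv hft)
    exact IsNPC.of_le (by simp) (show IsNPC P 0 _ from h)
  | succ k ih =>
    intro M hft hM
    obtain ⟨P₀, π, hP₀, hπ⟩ := hft
    let S : ShortComplex C := ShortComplex.mk (kernel.ι π) π (kernel.condition π)
    have hS : S.ShortExact :=
      { exact := S.exact_of_f_is_kernel (kernelIsKernel π)
        mono_f := by dsimp [S]; infer_instance
        epi_g := hπ }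
    have hK₁ : PCoh.IsOfFiniteType P (kernel π) := hM _ π hP₀
    have hK₂ : HasFTKernels P (kernel π) :=
      hasFTKernels_of_mono (kernel.ι π) (fun E u hE => hcoh _ _ u hP₀ hE)
    have h₁ := ih (kernel π) hK₁ hK₂
    have h := isNPC_obj₃ hsum hqs hql (-((k + 1 : ℕ) : ℤ)) hS.singleTriangle
      hS.singleTriangle_distinguished
      (IsNPC.of_le (by push_cast; omega) h₁) (isNPC_single_of_prop _ P₀ hP₀)
    exact h

/-- A `C₀`-coherent object placed in degree `0` is pseudo-coherent. -/
theorem isPC_single_of_coherent (M : C) (hft : PCoh.IsOfFiniteType P M)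
    (hM : HasFTKernels P M) : PCoh.IsPC P ((DerivedCategory.singleFunctor C 0).obj M) := by
  intro n
  obtain ⟨k, hk⟩ : ∃ k : ℕ, -(k : ℤ) ≤ n := ⟨n.natAbs, by omega⟩
  exact IsNPC.of_le hk (isNPC_single_of_coherent hsum hql hcoh k M hft hM)

/-- The coherent case: for a bounded above object of `D(C)`, `n`-pseudo-coherence is equivalent to
`H^n` being of finite type and `H^i` being coherent for `i > n`. -/
theorem isNPC_iff_coherent_homology (n : ℤ) (F : DerivedCategory C) (b : ℤ)
    (hb : ∀ i : ℤ, b < i → IsZero ((DerivedCategory.homologyFunctor C i).obj F)) :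
    IsNPC P n F ↔
      (PCoh.IsOfFiniteType P ((DerivedCategory.homologyFunctor C n).obj F) ∧
        ∀ i : ℤ, n < i → (PCoh.IsOfFiniteType P ((DerivedCategory.homologyFunctor C i).obj F) ∧
          HasFTKernels P ((DerivedCategory.homologyFunctor C i).obj F))) := by
  have hqs := isQuasiStable_of_coherent hcoh
  constructor
  · rintro ⟨E, ⟨_, hE⟩, ⟨e⟩⟩
    have he : ∀ i : ℤ, E.homology i ≅ (DerivedCategory.homologyFunctor C i).obj F := fun i =>
      ((DerivedCategory.homologyFunctorFactors C i).app E).symm ≪≫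
        (DerivedCategory.homologyFunctor C i).mapIso e
    have hft : ∀ i : ℤ, n ≤ i → PCoh.IsOfFiniteType P (E.homology i) := by
      intro i hi
      refine isOfFiniteType_homology (E.sc i) (hcoh _ _ _ ?_ (hE i hi))
      have h1 : (ComplexShape.up ℤ).next i = i + 1 := CochainComplex.next ℤ i
      change P (E.X ((ComplexShape.up ℤ).next i))
      rw [h1]
      exact hE _ (by omega)
    refine ⟨isOfFiniteType_of_epi (he n).hom (hft n le_rfl), fun i hi => ⟨?_, ?_⟩⟩
    · exact isOfFiniteType_of_epi (he i).hom (hft i hi.le)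
    · refine hasFTKernels_of_mono (he i).inv ?_
      refine hasFTKernels_homology hsum hql (E.sc i) (isOfFiniteType_of_prop ?_)
        (fun E' u hE' => hcoh _ _ u (hE i hi.le) hE')
      have h1 : (ComplexShape.up ℤ).prev i = i - 1 := CochainComplex.prev ℤ i
      change P (E.X ((ComplexShape.up ℤ).prev i))
      rw [h1]
      exact hE _ (by omega)
  · rintro ⟨hn, hi⟩
    obtain ⟨d, hd⟩ : ∃ d : ℕ, b < n + d := ⟨(b - n).toNat + 1, by omega⟩
    refine isNPC_of_homology hsum hqs hql n d F b hd hb (fun i hi' => ?_)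
    rcases eq_or_lt_of_le hi' with rfl | hlt
    · have h := (Groth.Agent.S5603.result P hsum hqs hql 0 _
        (fun i hi => isZero_homology_single _ i (by omega))).2
        (isOfFiniteType_of_epi ((singleFunctorCompHomologyFunctorIso C 0).app _).inv hn)
      exact IsNPC.of_le (by omega) (show IsNPC P 0 _ from h)
    · exact isPC_single_of_coherent hsum hql hcoh _ (hi i hlt).1 (hi i hlt).2 (n - i)

end Derived

end Groth.Agent.Lib.Helper62
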