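import Groth.Agent.Lib.Helper62.PCohStep

/-!
Comparison of the cokernel of `monofy u` with the mapping cone of `u`, and the one-step enlargement
lemma phrased with the mapping cone (SGA 6 I 2.?).
-/

universe w v u

open CategoryTheory Limits HomologicalComplex DerivedCategory Pretriangulated

namespace Groth.Agent.Lib.Helper62

section

variable {C : Type u} [Category.{v} C] [Abelian C] [HasDerivedCategory.{w} C]

open CochainComplex

/-- The cokernel of `monofy u` is isomorphic in `D(C)` to the mapping cone of `u`. -/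
noncomputable def qCokernelMonofyIso {E F : CochainComplex C ℤ} (u : E ⟶ F) :
    Q.obj (cokernel (monofy u)) ≅ Q.obj (mappingCone u) := by
  have hT₁ := triangleOfSES_distinguished (cokS_shortExact (monofy u))
  have hT₂ : Q.mapTriangle.obj (mappingCone.triangle u) ∈ distTriang _ :=
    mappingCone_triangle_distinguished u
  have qF : QuasiIso (biprod.snd : mappingCone (𝟙 E) ⊞ F ⟶ F) := quasiIso_biprod_snd E F
  have hsndi : IsIso (Q.map (biprod.snd : mappingCone (𝟙 E) ⊞ F ⟶ F)) :=
    (isIso_Q_map_iff_quasiIso C _).2 qF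
  exact Triangle.π₃.mapIso (isoTriangleOfIso₁₂ _ _ hT₁ hT₂ (Iso.refl _)
    (@asIso _ _ _ _ (Q.map (biprod.snd : mappingCone (𝟙 E) ⊞ F ⟶ F)) hsndi) (by
      change Q.map (monofy u) ≫ Q.map biprod.snd = 𝟙 _ ≫ Q.map u
      rw [← Functor.map_comp, monofy_snd, Category.id_comp]))

/-- The cohomology of the cokernel of `monofy u` is that of the mapping cone of `u`. -/
noncomputable def homologyCokernelMonofyIso {E F : CochainComplex C ℤ} (u : E ⟶ F) (i : ℤ) :
    (cokernel (monofy u)).homology i ≅ (mappingCone u).homology i :=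
  (homologyQIso _ i).symm ≪≫ (DerivedCategory.homologyFunctor C i).mapIso (qCokernelMonofyIso u) ≪≫
    homologyQIso _ i

end

section

variable {C : Type u} [Category.{v} C] [Abelian C]
  {P : ObjectProperty C} [P.IsClosedUnderIsomorphisms]

open CochainComplex

set_option maxHeartbeats 800000 in
/-- One step (SGA 6 I 2.?): if `u` is a `k`-quasi-isomorphism and `H^{k-1}` of its mapping cone is of
finite type, then after adding an object of `C₀` to `E` in degree `k - 1`, `u` becomes a
`(k-1)`-quasi-isomorphism. -/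
theorem cone_step (hql : PCoh.IsQuasiLiftable P) (k : ℤ) (E F : CochainComplex C ℤ) (u : E ⟶ F)
    (hiso : ∀ i : ℤ, k < i → IsIso (homologyMap u i)) (hepi : Epi (homologyMap u k))
    (hcone : PCoh.IsOfFiniteType P ((mappingCone u).homology (k - 1))) :
    ∃ (E' : CochainComplex C ℤ) (v : E ⟶ E') (u' : E' ⟶ F), v ≫ u' = u ∧ (∀ i : ℤ, Mono (v.f i)) ∧
      (∀ i : ℤ, i ≠ k - 1 → IsIso (v.f i)) ∧ P (cokernel (v.f (k - 1))) ∧
      (∀ i : ℤ, k - 1 < i → IsIso (homologyMap u' i)) ∧ Epi (homologyMap u' (k - 1)) := by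
  let _ : HasDerivedCategory.{max u v} C := HasDerivedCategory.standard C
  let g := monofy u
  have qF : QuasiIso (biprod.snd : mappingCone (𝟙 E) ⊞ F ⟶ F) := quasiIso_biprod_snd E F
  have hisoG : ∀ j : ℤ, k < j → IsIso (homologyMap g j) := fun j hj =>
    isIso_homologyMap_of_fac g biprod.snd u (monofy_snd u) j (hiso j hj)
  have hepiG : Epi (homologyMap g k) :=
    epi_homologyMap_of_fac g biprod.snd u (monofy_snd u) k hepi
  have hft : PCoh.IsOfFiniteType P ((cokernel g).homology (k - 1)) := by
    obtain ⟨P₀, π, hP₀, hπ⟩ := hcone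
    exact ⟨P₀, π ≫ (homologyCokernelMonofyIso u (k - 1)).inv, hP₀, inferInstance⟩
  obtain ⟨P₁, z, hP₁, hz⟩ := exists_lift_cycles hql (k - 1) (cokernel g) hft
  obtain ⟨E', ι, g', hιg', hιmono, hιiso, -, hg'iso, hg'epi, q, w, hses⟩ :=
    pull_step k g hisoG hepiG z hz
  have hqi : ∀ j, IsIso (homologyMap (biprod.snd : mappingCone (𝟙 E) ⊞ F ⟶ F) j) := fun j => by
    rw [← quasiIsoAt_iff_isIso_homologyMap]; infer_instance
  refine ⟨E', ι, g' ≫ biprod.snd, ?_, hιmono, hιiso, ?_, ?_, ?_⟩
  · rw [← Category.assoc, hιg']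
    exact monofy_snd u
  · have := hses.epi_g
    exact P.prop_of_iso (IsColimit.coconePointUniqueUpToIso hses.exact.gIsCokernel
      (colimit.isColimit (parallelPair (ι.f (k - 1)) 0))) hP₁
  · intro j hj
    have := hg'iso j hj
    have := hqi j
    rw [homologyMap_comp]
    infer_instance
  · have := hqi (k - 1)
    rw [homologyMap_comp]
    infer_instance

end

end Groth.Agent.Lib.Helper62
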