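import Groth.Agent.Lib.Helper62.PCohResolve
import Groth.Agent.S5601
import Mathlib.Algebra.Homology.DerivedCategory.Fractions
import Mathlib.Algebra.Homology.DerivedCategory.HomologySequence

/-!
Pseudo-coherence in the derived category of an abelian category: lifting objects and morphisms to
strictly pseudo-coherent complexes, and the two-out-of-three property for distinguished triangles.
-/

universe w v u

open CategoryTheory Limits HomologicalComplex DerivedCategory Pretriangulated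

namespace Groth.Agent.Lib.Helper62

variable {C : Type u} [Category.{v} C] [Abelian C] [HasDerivedCategory.{w} C]
  (P : ObjectProperty C) [P.IsClosedUnderIsomorphisms] [P.ContainsZero]

/-- `F` is `n`-pseudo-coherent: isomorphic in `D(C)` to a strictly `n`-pseudo-coherent complex. -/
def IsNPC (n : ℤ) (F : DerivedCategory C) : Prop :=
  ∃ E : CochainComplex C ℤ, PCoh.IsStrictPC P n E ∧ Nonempty (Q.obj E ≅ F)

variable {P}

omit [P.IsClosedUnderIsomorphisms] [P.ContainsZero] in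
theorem IsNPC.of_iso {n : ℤ} {F F' : DerivedCategory C} (h : IsNPC P n F) (e : F ≅ F') :
    IsNPC P n F' := by
  obtain ⟨E, hE, ⟨e'⟩⟩ := h
  exact ⟨E, hE, ⟨e' ≪≫ e⟩⟩

omit [P.IsClosedUnderIsomorphisms] [P.ContainsZero] in
theorem IsNPC.of_le {n n' : ℤ} (hnn' : n ≤ n') {F : DerivedCategory C} (h : IsNPC P n F) :
    IsNPC P n' F := by
  obtain ⟨E, ⟨hb, hP⟩, e⟩ := h
  exact ⟨E, ⟨hb, fun i hi => hP i (by omega)⟩, e⟩

variable (hsum : ∀ X Y : C, P X → P Y → P (X ⨯ Y))
  (hqs : PCoh.IsQuasiStableUnderKernels P) (hql : PCoh.IsQuasiLiftable P)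

include hsum hqs hql

/-- A morphism in `D(C)` out of a strictly `n`-pseudo-coherent complex is represented by a chain map
after replacing the source by a quasi-isomorphic strictly `n`-pseudo-coherent complex. -/
theorem exists_lift_hom (n : ℤ) (A₀ B₀ : CochainComplex C ℤ) (hA : PCoh.IsStrictPC P n A₀)
    (α : Q.obj A₀ ⟶ Q.obj B₀) :
    ∃ (A₂ : CochainComplex C ℤ) (s : A₂ ⟶ A₀) (f : A₂ ⟶ B₀), PCoh.IsStrictPC P n A₂ ∧ QuasiIso s ∧
      Q.map s ≫ α = Q.map f := by
  obtain ⟨X', s', hs', g, hα⟩ := right_fac α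
  have hs'q : QuasiIso s' := (isIso_Q_map_iff_quasiIso C s').1 hs'
  obtain ⟨A₂, v, hA₂, hv⟩ := resolve P hsum hqs hql n X' A₀ hA s' hs'q
  refine ⟨A₂, v ≫ s', v ≫ g, hA₂, inferInstance, ?_⟩
  rw [hα, Functor.map_comp, Functor.map_comp, Category.assoc, IsIso.hom_inv_id_assoc]

/-- If the image of the complex `F₀` in `D(C)` is `n`-pseudo-coherent, then `F₀` receives a
quasi-isomorphism from a strictly `n`-pseudo-coherent complex. -/
theorem exists_quasiIso_of_isNPC (n : ℤ) (F₀ : CochainComplex C ℤ) (h : IsNPC P n (Q.obj F₀)) :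
    ∃ (E : CochainComplex C ℤ) (v : E ⟶ F₀), PCoh.IsStrictPC P n E ∧ QuasiIso v := by
  obtain ⟨E₀, hE₀, ⟨e⟩⟩ := h
  obtain ⟨A₂, s, f, hA₂, hs, hf⟩ := exists_lift_hom hsum hqs hql n E₀ F₀ hE₀ e.hom
  refine ⟨A₂, f, hA₂, ?_⟩
  rw [← isIso_Q_map_iff_quasiIso, ← hf]
  have : IsIso (Q.map s) := (isIso_Q_map_iff_quasiIso C s).2 hs
  infer_instance

omit hsum hqs hql [HasDerivedCategory C] [P.ContainsZero] in
theorem isStrictPC_mappingCone (n : ℤ) {A B : CochainComplex C ℤ} (f : A ⟶ B)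
    (hsum : ∀ X Y : C, P X → P Y → P (X ⨯ Y))
    (hA : PCoh.IsStrictPC P (n + 1) A) (hB : PCoh.IsStrictPC P n B) :
    PCoh.IsStrictPC P n (CochainComplex.mappingCone f) := by
  obtain ⟨⟨a, ha⟩, hAP⟩ := hA
  obtain ⟨⟨b, hb⟩, hBP⟩ := hB
  refine ⟨⟨max a b, fun i hi => ?_⟩, fun i hi => ?_⟩
  · rw [CochainComplex.mappingCone.isZero_X_iff]
    exact ⟨ha _ (by have := le_max_left a b; omega), hb _ (by have := le_max_right a b; omega)⟩
  · have h1 : P (A.X (i + 1) ⊞ B.X i) :=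
      P.prop_of_iso (biprod.isoProd _ _).symm (hsum _ _ (hAP _ (by omega)) (hBP _ hi))
    exact P.prop_of_iso (homotopyCofiber.XIsoBiprod f i (i + 1) rfl).symm h1

/-- In a distinguished triangle, if the first vertex is `(n+1)`-pseudo-coherent and the second is
`n`-pseudo-coherent, the third is `n`-pseudo-coherent. -/
theorem isNPC_obj₃ (n : ℤ) (T : Triangle (DerivedCategory C)) (hT : T ∈ distTriang _)
    (h₁ : IsNPC P (n + 1) T.obj₁) (h₂ : IsNPC P n T.obj₂) : IsNPC P n T.obj₃ := by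
  obtain ⟨A₀, hA₀, ⟨eA⟩⟩ := h₁
  obtain ⟨B₀, hB₀, ⟨eB⟩⟩ := h₂
  obtain ⟨A₂, s, f, hA₂, hs, hf⟩ :=
    exists_lift_hom hsum hqs hql (n + 1) A₀ B₀ hA₀ (eA.hom ≫ T.mor₁ ≫ eB.inv)
  have hsi : IsIso (Q.map s) := (isIso_Q_map_iff_quasiIso C s).2 hs
  let T' := Q.mapTriangle.obj (CochainComplex.mappingCone.triangle f)
  have hT' : T' ∈ distTriang _ := mappingCone_triangle_distinguished f
  let e := isoTriangleOfIso₁₂ T' T hT' hT (@asIso _ _ _ _ (Q.map s) hsi ≪≫ eA) eB (by
    change Q.map f ≫ eB.hom = (Q.map s ≫ eA.hom) ≫ T.mor₁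
    rw [← hf]
    simp)
  exact ⟨CochainComplex.mappingCone f, isStrictPC_mappingCone n f hsum hA₂ hB₀,
    ⟨Triangle.π₃.mapIso e⟩⟩

/-- In a distinguished triangle, if the second vertex is `(n+1)`-pseudo-coherent and the third is
`n`-pseudo-coherent, the first is `(n+1)`-pseudo-coherent. -/
theorem isNPC_obj₁ (n : ℤ) (T : Triangle (DerivedCategory C)) (hT : T ∈ distTriang _)
    (h₂ : IsNPC P (n + 1) T.obj₂) (h₃ : IsNPC P n T.obj₃) : IsNPC P (n + 1) T.obj₁ := by
  have h := isNPC_obj₃ hsum hqs hql n T.rotate (rot_of_distTriang _ hT) h₂ h₃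
  have h' := Groth.Agent.S5601.result P hsum hqs hql n _ h (-1)
  have e : n - (-1) = n + 1 := by omega
  rw [e] at h'
  exact IsNPC.of_iso (show IsNPC P (n + 1) _ from h')
    ((shiftEquiv (DerivedCategory C) (1 : ℤ)).unitIso.symm.app T.obj₁)

/-- In a distinguished triangle, if the first and third vertices are `n`-pseudo-coherent, so is the
second. -/
theorem isNPC_obj₂ (n : ℤ) (T : Triangle (DerivedCategory C)) (hT : T ∈ distTriang _)
    (h₁ : IsNPC P n T.obj₁) (h₃ : IsNPC P n T.obj₃) : IsNPC P n T.obj₂ := by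
  have h' := Groth.Agent.S5601.result P hsum hqs hql n _ h₃ (-1)
  have e : n - (-1) = n + 1 := by omega
  rw [e] at h'
  exact isNPC_obj₃ hsum hqs hql n T.invRotate (inv_rot_of_distTriang _ hT) h' h₁

end Groth.Agent.Lib.Helper62
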