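import Groth.Agent.Lib.Helper62.PCohObj

/-!
Dévissage: a bounded above complex whose terms (placed in their degrees) are `n`-pseudo-coherent is
`n`-pseudo-coherent.
-/

universe w v u

open CategoryTheory Limits HomologicalComplex DerivedCategory Pretriangulated

namespace Groth.Agent.Lib.Helper62

section Trunc

variable {C : Type u} [Category.{v} C] [Abelian C]

instance mono_sigmaGEι (n : ℤ) (E : CochainComplex C ℤ) : Mono (sigmaGEι n E) :=
  mono_of_mono_f _ (fun _ => inferInstance)

theorem isZero_cokernel_sigmaGEι_X (n : ℤ) (E : CochainComplex C ℤ) (i : ℤ) (hi : n ≤ i) :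
    IsZero ((cokernel (sigmaGEι n E)).X i) := by
  have hS := (cokS_shortExact (sigmaGEι n E)).map_of_exact (eval C (ComplexShape.up ℤ) i)
  have h1 : IsIso ((sigmaGEι n E).f i) := isIso_sigmaGEι_f n E i hi
  have h2 : (cokernel.π (sigmaGEι n E)).f i = 0 := by
    have h3 : (sigmaGEι n E).f i ≫ (cokernel.π (sigmaGEι n E)).f i = 0 := by
      rw [← comp_f, cokernel.condition, zero_f]
    rwa [← cancel_epi ((sigmaGEι n E).f i), comp_zero]
  have h4 : Epi ((cokernel.π (sigmaGEι n E)).f i) := hS.epi_g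
  rw [IsZero.iff_id_eq_zero, ← cancel_epi ((cokernel.π (sigmaGEι n E)).f i), h2, zero_comp,
    comp_zero]

theorem isIso_cokernel_π_sigmaGEι_f (n : ℤ) (E : CochainComplex C ℤ) (i : ℤ) (hi : i < n) :
    IsIso ((cokernel.π (sigmaGEι n E)).f i) := by
  have hS := (cokS_shortExact (sigmaGEι n E)).map_of_exact (eval C (ComplexShape.up ℤ) i)
  have h1 : Epi ((cokernel.π (sigmaGEι n E)).f i) := hS.epi_g
  have h2 : Mono ((cokernel.π (sigmaGEι n E)).f i) :=
    hS.exact.mono_g ((isZero_sigmaGE_X n E i hi).eq_of_src _ _)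
  exact isIso_of_mono_of_epi _

end Trunc

section PC

variable {C : Type u} [Category.{v} C] [Abelian C] [HasDerivedCategory.{w} C]
  {P : ObjectProperty C} [P.IsClosedUnderIsomorphisms] [P.ContainsZero]

omit [P.IsClosedUnderIsomorphisms] [P.ContainsZero] in
/-- A complex concentrated in degree `a` is `n`-pseudo-coherent if its term is (in degree `a`). -/
theorem isNPC_Q_of_concentrated (n a : ℤ) (K : CochainComplex C ℤ)
    (hK : ∀ i : ℤ, i ≠ a → IsZero (K.X i))
    (h : IsNPC P n ((DerivedCategory.singleFunctor C a).obj (K.X a))) : IsNPC P n (Q.obj K) := by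
  have : K.IsStrictlyGE a := (K.isStrictlyGE_iff a).2 (fun i hi => hK i (by omega))
  have : K.IsStrictlyLE a := (K.isStrictlyLE_iff a).2 (fun i hi => hK i (by omega))
  obtain ⟨M, ⟨e⟩⟩ := K.exists_iso_single a
  let eM : K.X a ≅ M :=
    (eval C (ComplexShape.up ℤ) a).mapIso e ≪≫ singleObjXSelf (ComplexShape.up ℤ) a M
  exact h.of_iso ((DerivedCategory.singleFunctor C a).mapIso eM ≪≫
    (singleFunctorIsoCompQ C a).app M ≪≫ (Q.mapIso e).symm)

variable (hsum : ∀ X Y : C, P X → P Y → P (X ⨯ Y))
  (hqs : PCoh.IsQuasiStableUnderKernels P) (hql : PCoh.IsQuasiLiftable P)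

include hsum hqs hql

/-- `X[-i]` is `n`-pseudo-coherent if `X[0]` is `(n - i)`-pseudo-coherent. -/
theorem isNPC_single_of_zero (n i : ℤ) (X : C)
    (h : IsNPC P (n - i) ((DerivedCategory.singleFunctor C 0).obj X)) :
    IsNPC P n ((DerivedCategory.singleFunctor C i).obj X) := by
  have h' := Groth.Agent.S5601.result P hsum hqs hql (n - i) _ h (-i)
  have e : n - i - (-i) = n := by omega
  rw [e] at h'
  exact IsNPC.of_iso (show IsNPC P n _ from h')
    (((DerivedCategory.singleFunctors C).shiftIso (-i) i 0 (by omega)).app X)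

/-- `X[0]` is `(n - i)`-pseudo-coherent if `X[-i]` is `n`-pseudo-coherent. -/
theorem isNPC_zero_of_single (n i : ℤ) (X : C)
    (h : IsNPC P n ((DerivedCategory.singleFunctor C i).obj X)) :
    IsNPC P (n - i) ((DerivedCategory.singleFunctor C 0).obj X) := by
  have h' := Groth.Agent.S5601.result P hsum hqs hql n _ h i
  exact IsNPC.of_iso (show IsNPC P (n - i) _ from h')
    (((DerivedCategory.singleFunctors C).shiftIso i 0 i (by omega)).app X)

/-- Dévissage for bounded complexes. -/
theorem isNPC_Q_of_bounded (n : ℤ) (d : ℕ) : ∀ (a b : ℤ) (G : CochainComplex C ℤ), b < a + d →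
    (∀ i : ℤ, i < a → IsZero (G.X i)) → (∀ i : ℤ, b < i → IsZero (G.X i)) →
    (∀ i : ℤ, a ≤ i → i ≤ b → IsNPC P n ((DerivedCategory.singleFunctor C i).obj (G.X i))) →
    IsNPC P n (Q.obj G) := by
  induction d with
  | zero =>
    intro a b G hab hlo hhi _
    refine ⟨G, ⟨⟨b, hhi⟩, fun i _ => P.prop_of_isZero ?_⟩, ⟨Iso.refl _⟩⟩
    by_cases hi : i < a
    · exact hlo i hi
    · exact hhi i (by push_cast at hab; omega)
  | succ d ih =>
    intro a b G hab hlo hhi hG
    by_cases hab' : b < a + d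
    · exact ih a b G hab' hlo hhi hG
    · have hale : a ≤ b := by omega
      let G' := sigmaGE (a + 1) G
      have hSE := cokS_shortExact (sigmaGEι (a + 1) G)
      have h₁ : IsNPC P n (Q.obj G') := by
        refine ih (a + 1) b G' (by push_cast at hab; omega)
          (fun i hi => isZero_sigmaGE_X (a + 1) G i hi)
          (fun i hi => IsZero.of_mono_eq_zero ((sigmaGEι (a + 1) G).f i) ((hhi i hi).eq_of_tgt _ _))
          (fun i hi hi' => ?_)
        exact (hG i (by omega) hi').of_iso
          ((DerivedCategory.singleFunctor C i).mapIso (sigmaGEXIso (a + 1) G i hi).symm)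
      have h₃ : IsNPC P n (Q.obj (cokernel (sigmaGEι (a + 1) G))) := by
        have hiso := isIso_cokernel_π_sigmaGEι_f (a + 1) G a (by omega)
        refine isNPC_Q_of_concentrated n a _ (fun i hi => ?_) ?_
        · by_cases hi' : i < a
          · have := isIso_cokernel_π_sigmaGEι_f (a + 1) G i (by omega)
            exact (hlo i hi').of_iso (asIso ((cokernel.π (sigmaGEι (a + 1) G)).f i)).symm
          · exact isZero_cokernel_sigmaGEι_X (a + 1) G i (by omega)
        · exact (hG a le_rfl hale).of_iso ((DerivedCategory.singleFunctor C a).mapIso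
            (asIso ((cokernel.π (sigmaGEι (a + 1) G)).f a)))
      exact isNPC_obj₂ hsum hqs hql n (triangleOfSES hSE) (triangleOfSES_distinguished hSE) h₁ h₃

/-- Dévissage: a bounded above complex whose terms `F^i`, `i ≥ n`, are `n`-pseudo-coherent when placed
in degree `i` is `n`-pseudo-coherent. -/
theorem isNPC_Q_of_terms (n b : ℤ) (F : CochainComplex C ℤ) (hb : ∀ i : ℤ, b < i → IsZero (F.X i))
    (hF : ∀ i : ℤ, n ≤ i → IsNPC P n ((DerivedCategory.singleFunctor C i).obj (F.X i))) :
    IsNPC P n (Q.obj F) := by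
  have hSE := cokS_shortExact (sigmaGEι n F)
  have h₁ : IsNPC P n (Q.obj (sigmaGE n F)) := by
    refine isNPC_Q_of_bounded hsum hqs hql n (b + 1 - n).toNat n b _ (by omega)
      (fun i hi => isZero_sigmaGE_X n F i hi)
      (fun i hi => IsZero.of_mono_eq_zero ((sigmaGEι n F).f i) ((hb i hi).eq_of_tgt _ _))
      (fun i hi _ => ?_)
    exact (hF i hi).of_iso
      ((DerivedCategory.singleFunctor C i).mapIso (sigmaGEXIso n F i hi).symm)
  have h₃ : IsNPC P n (Q.obj (cokernel (sigmaGEι n F))) :=
    ⟨_, ⟨⟨n, fun i hi => isZero_cokernel_sigmaGEι_X n F i (by omega)⟩,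
      fun i hi => P.prop_of_isZero (isZero_cokernel_sigmaGEι_X n F i hi)⟩, ⟨Iso.refl _⟩⟩
  exact isNPC_obj₂ hsum hqs hql n (triangleOfSES hSE) (triangleOfSES_distinguished hSE) h₁ h₃

end PC

end Groth.Agent.Lib.Helper62
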