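import Groth.Agent.Lib.Helper62.PCohDev

/-!
General dévissage for bounded complexes with respect to a property of objects of `D(C)` which is
stable under isomorphisms and extensions, and application to triangulated functors.
-/

universe w v u w' v' u'

open CategoryTheory Limits HomologicalComplex DerivedCategory Pretriangulated

namespace Groth.Agent.Lib.Helper62

section Dev

variable {C : Type u} [Category.{v} C] [Abelian C] [HasDerivedCategory.{w} C]

/-- A complex concentrated in degree `a` is isomorphic in `D(C)` to its term placed in degree `a`. -/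
theorem nonempty_Q_iso_single_of_concentrated (a : ℤ) (K : CochainComplex C ℤ)
    (hK : ∀ i : ℤ, i ≠ a → IsZero (K.X i)) :
    Nonempty (Q.obj K ≅ (DerivedCategory.singleFunctor C a).obj (K.X a)) := by
  have : K.IsStrictlyGE a := (K.isStrictlyGE_iff a).2 (fun i hi => hK i (by omega))
  have : K.IsStrictlyLE a := (K.isStrictlyLE_iff a).2 (fun i hi => hK i (by omega))
  obtain ⟨M, ⟨e⟩⟩ := K.exists_iso_single a
  let eM : K.X a ≅ M :=
    (eval C (ComplexShape.up ℤ) a).mapIso e ≪≫ singleObjXSelf (ComplexShape.up ℤ) a M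
  exact ⟨((DerivedCategory.singleFunctor C a).mapIso eM ≪≫
    (singleFunctorIsoCompQ C a).app M ≪≫ (Q.mapIso e).symm).symm⟩

omit [HasDerivedCategory C] in
theorem isZero_of_isZero_X (K : CochainComplex C ℤ) (hK : ∀ i : ℤ, IsZero (K.X i)) : IsZero K := by
  rw [IsZero.iff_id_eq_zero]
  ext i
  exact (hK i).eq_of_src _ _

/-- Dévissage for bounded complexes, for a general property `Φ` of objects of `D(C)`. -/
theorem devissage_bounded (Φ : DerivedCategory C → Prop)
    (hΦiso : ∀ X Y : DerivedCategory C, (X ≅ Y) → Φ X → Φ Y)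
    (hΦ₂ : ∀ T : Triangle (DerivedCategory C), T ∈ distTriang _ → Φ T.obj₁ → Φ T.obj₃ → Φ T.obj₂)
    (hΦ0 : ∀ X : DerivedCategory C, IsZero X → Φ X) (d : ℕ) :
    ∀ (a b : ℤ) (G : CochainComplex C ℤ), b < a + d →
    (∀ i : ℤ, i < a → IsZero (G.X i)) → (∀ i : ℤ, b < i → IsZero (G.X i)) →
    (∀ i : ℤ, a ≤ i → i ≤ b → Φ ((DerivedCategory.singleFunctor C i).obj (G.X i))) →
    Φ (Q.obj G) := by
  induction d with
  | zero =>
    intro a b G hab hlo hhi _
    refine hΦ0 _ (Q.map_isZero (isZero_of_isZero_X G (fun i => ?_)))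
    by_cases hi : i < a
    · exact hlo i hi
    · exact hhi i (by push_cast at hab; omega)
  | succ d ih =>
    intro a b G hab hlo hhi hG
    by_cases hab' : b < a + d
    · exact ih a b G hab' hlo hhi hG
    · have hale : a ≤ b := by omega
      let G' := sigmaGE (a + 1) G
      have hSE := cokS_shortExact (sigmaGEι (a + 1) G)
      have h₁ : Φ (Q.obj G') := by
        refine ih (a + 1) b G' (by push_cast at hab; omega)
          (fun i hi => isZero_sigmaGE_X (a + 1) G i hi)
          (fun i hi => IsZero.of_mono_eq_zero ((sigmaGEι (a + 1) G).f i) ((hhi i hi).eq_of_tgt _ _))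
          (fun i hi hi' => ?_)
        exact hΦiso _ _ ((DerivedCategory.singleFunctor C i).mapIso
          (sigmaGEXIso (a + 1) G i hi).symm) (hG i (by omega) hi')
      have h₃ : Φ (Q.obj (cokernel (sigmaGEι (a + 1) G))) := by
        have hiso := isIso_cokernel_π_sigmaGEι_f (a + 1) G a (by omega)
        obtain ⟨e⟩ := nonempty_Q_iso_single_of_concentrated a (cokernel (sigmaGEι (a + 1) G))
          (fun i hi => by
            by_cases hi' : i < a
            · have := isIso_cokernel_π_sigmaGEι_f (a + 1) G i (by omega)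
              exact (hlo i hi').of_iso (asIso ((cokernel.π (sigmaGEι (a + 1) G)).f i)).symm
            · exact isZero_cokernel_sigmaGEι_X (a + 1) G i (by omega))
        exact hΦiso _ _ ((DerivedCategory.singleFunctor C a).mapIso
            (asIso ((cokernel.π (sigmaGEι (a + 1) G)).f a)) ≪≫ e.symm) (hG a le_rfl hale)
      exact hΦ₂ (triangleOfSES hSE) (triangleOfSES_distinguished hSE) h₁ h₃

/-- Shift and vanishing of cohomology. -/
theorem isZero_homology_shift_iff (X : DerivedCategory C) (n a a' : ℤ) (h : n + a = a') :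
    IsZero ((DerivedCategory.homologyFunctor C a).obj (X⟦n⟧)) ↔
      IsZero ((DerivedCategory.homologyFunctor C a').obj X) :=
  (((DerivedCategory.homologyFunctor C 0).shiftIso n a a' h).app X).isZero_iff

end Dev

section Fun

variable {C : Type u} [Category.{v} C] [Abelian C] [HasDerivedCategory.{w} C]
  {P : ObjectProperty C} [P.IsClosedUnderIsomorphisms] [P.ContainsZero]
  (hsum : ∀ X Y : C, P X → P Y → P (X ⨯ Y))
  (hqs : PCoh.IsQuasiStableUnderKernels P) (hql : PCoh.IsQuasiLiftable P)
  {C' : Type u'} [Category.{v'} C'] [Abelian C'] [HasDerivedCategory.{w'} C']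
  {P' : ObjectProperty C'} [P'.IsClosedUnderIsomorphisms] [P'.ContainsZero]
  (hsum' : ∀ X Y : C', P' X → P' Y → P' (X ⨯ Y))
  (hqs' : PCoh.IsQuasiStableUnderKernels P') (hql' : PCoh.IsQuasiLiftable P')
  (u : DerivedCategory C ⥤ DerivedCategory C') [u.CommShift ℤ] [u.IsTriangulated] (a b : ℤ)

omit [P.IsClosedUnderIsomorphisms] [P.ContainsZero] [P'.IsClosedUnderIsomorphisms]
  [P'.ContainsZero] [u.IsTriangulated] in
/-- Way-out right: the cohomological amplitude bound for `u`. -/
theorem isZero_homology_map_of_bound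
    (hii : ∀ F : DerivedCategory C,
      (∀ i : ℤ, 0 < i → IsZero ((DerivedCategory.homologyFunctor C i).obj F)) →
      ∀ i : ℤ, b < i → IsZero ((DerivedCategory.homologyFunctor C' i).obj (u.obj F)))
    (F : DerivedCategory C) (n : ℤ)
    (hac : ∀ i : ℤ, n < i → IsZero ((DerivedCategory.homologyFunctor C i).obj F)) :
    ∀ i : ℤ, n + b < i → IsZero ((DerivedCategory.homologyFunctor C' i).obj (u.obj F)) := by
  intro i hi
  have h1 := hii (F⟦n⟧) (fun j hj =>
    (isZero_homology_shift_iff F n j (n + j) rfl).2 (hac _ (by omega))) (i - n) (by omega)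
  have h2 : IsZero ((DerivedCategory.homologyFunctor C' (i - n)).obj ((u.obj F)⟦n⟧)) :=
    h1.of_iso ((DerivedCategory.homologyFunctor C' (i - n)).mapIso
      ((u.commShiftIso n).app F).symm)
  exact (isZero_homology_shift_iff (u.obj F) n (i - n) i (by omega)).1 h2

include hsum hqs hql hsum' hqs' hql'

set_option maxHeartbeats 800000 in
/-- SGA 6 I 2.?: behaviour of pseudo-coherence under a triangulated functor of finite amplitude. -/
theorem isNPC_map_of_bound
    (hi : ∀ E : C, P E → IsNPC P' a (u.obj ((DerivedCategory.singleFunctor C 0).obj E)))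
    (hii : ∀ F : DerivedCategory C,
      (∀ i : ℤ, 0 < i → IsZero ((DerivedCategory.homologyFunctor C i).obj F)) →
      ∀ i : ℤ, b < i → IsZero ((DerivedCategory.homologyFunctor C' i).obj (u.obj F)))
    (m n : ℤ) (F : DerivedCategory C) (hF : IsNPC P m F)
    (hac : ∀ i : ℤ, n < i → IsZero ((DerivedCategory.homologyFunctor C i).obj F)) :
    IsNPC P' (max (m + b) (n + a)) (u.obj F) := by
  have hacu := isZero_homology_map_of_bound u b hii
  by_cases hmn : n < m
  · exact (isNPC_of_acyclic hsum' hqs' hql' (m + b) (u.obj F)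
      (fun i hi' => hacu F n hac i (by omega))).of_le (le_max_left _ _)
  · obtain ⟨E₀, hE₀, ⟨e₀⟩⟩ := hF
    obtain ⟨E, u₀, hE, hEz, hu₀⟩ := exists_strictPC_le hsum hqs hql m (n + 1) E₀ hE₀
      (fun i hi' => (hac i (by omega)).of_iso ((homologyQIso E₀ i).symm ≪≫
        (DerivedCategory.homologyFunctor C i).mapIso e₀))
    have hu₀i : IsIso (Q.map u₀) := (isIso_Q_map_iff_quasiIso C u₀).2 hu₀
    let eF : Q.obj E ≅ F := asIso (Q.map u₀) ≪≫ e₀
    let N := max (m + b) (n + a)
    let Φ : DerivedCategory C → Prop := fun X => IsNPC P' (n + a) (u.obj X)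
    have hSE := cokS_shortExact (sigmaGEι m E)
    have hT := u.map_distinguished _ (triangleOfSES_distinguished hSE)
    -- the bounded part
    have h₁ : IsNPC P' (n + a) (u.obj (Q.obj (sigmaGE m E))) := by
      refine devissage_bounded Φ (fun X Y e h => IsNPC.of_iso h (u.mapIso e))
        (fun T hT h1 h3 => isNPC_obj₂ hsum' hqs' hql' (n + a) _ (u.map_distinguished T hT) h1 h3)
        (fun X hX => isNPC_of_acyclic hsum' hqs' hql' (n + a) _
          (fun i _ => (DerivedCategory.homologyFunctor C' i).map_isZero (u.map_isZero hX)))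
        (n + 1 - m).toNat m n (sigmaGE m E) (by omega)
        (fun i hi' => isZero_sigmaGE_X m E i hi')
        (fun i hi' => IsZero.of_mono_eq_zero ((sigmaGEι m E).f i)
          ((hEz i (by omega)).eq_of_tgt _ _))
        (fun i hi' hi'' => ?_)
      have hPi : P ((sigmaGE m E).X i) :=
        P.prop_of_iso (sigmaGEXIso m E i hi').symm (hE.2 i hi')
      have h1 := Groth.Agent.S5601.result P' hsum' hqs' hql' a _ (hi _ hPi) (-i)
      have h2 : IsNPC P' (a - (-i)) (u.obj ((DerivedCategory.singleFunctor C i).obj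
          ((sigmaGE m E).X i))) :=
        IsNPC.of_iso (show IsNPC P' (a - (-i)) _ from h1)
          (((u.commShiftIso (-i)).app _).symm ≪≫ u.mapIso
            (((DerivedCategory.singleFunctors C).shiftIso (-i) i 0 (by omega)).app _))
      exact h2.of_le (by omega)
    -- the part in degrees `< m`
    have h₃ : IsNPC P' (m + b) (u.obj (Q.obj (cokernel (sigmaGEι m E)))) := by
      refine isNPC_of_acyclic hsum' hqs' hql' (m + b) _ (fun i hi' => ?_)
      refine hacu _ (m - 1) (fun j hj => ?_) i (by omega)
      have h4 : IsZero ((cokernel (sigmaGEι m E)).homology j) :=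
        (exactAt_iff_isZero_homology _ _).1
          (ExactAt.of_isZero (isZero_cokernel_sigmaGEι_X m E j (by omega)))
      exact h4.of_iso (homologyQIso _ j)
    have h₂ := isNPC_obj₂ hsum' hqs' hql' N _ hT (h₁.of_le (le_max_right _ _))
      (h₃.of_le (le_max_left _ _))
    exact IsNPC.of_iso h₂ (u.mapIso eF)

end Fun

end Groth.Agent.Lib.Helper62
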