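import Groth.Agent.Lib.Helper62.PCohStep
import Groth.Agent.Lib.Helper62.SeqColimit

/-!
Strictly pseudo-coherent resolutions (all terms in `C₀`) of pseudo-coherent complexes, built as the
colimit of a sequence of one-step enlargements.
-/

universe w v u

open CategoryTheory Limits HomologicalComplex DerivedCategory

namespace Groth.Agent.Lib.Helper62

variable {C : Type u} [Category.{v} C] [Abelian C] [HasDerivedCategory.{w} C]
  (P : ObjectProperty C) [P.IsClosedUnderIsomorphisms] [P.ContainsZero]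

/-- A stage of the construction: a strictly pseudo-coherent complex with an `(n - k)`-quasi-isomorphism
to `F₀`. -/
structure PCStage (n b : ℤ) (F₀ : CochainComplex C ℤ) (k : ℕ) where
  /-- the complex -/
  T : CochainComplex C ℤ
  /-- the map to `F₀` -/
  τ : T ⟶ F₀
  hb : ∀ j : ℤ, b < j → IsZero (T.X j)
  hP : ∀ j : ℤ, P (T.X j)
  hiso : ∀ j : ℤ, n - k < j → IsIso (homologyMap τ j)
  hepi : Epi (homologyMap τ (n - k))

variable {P}
variable (hsum : ∀ X Y : C, P X → P Y → P (X ⨯ Y))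
  (hqs : PCoh.IsQuasiStableUnderKernels P) (hql : PCoh.IsQuasiLiftable P)

include hsum hqs hql

theorem PCStage.exists_next {n b : ℤ} (hnb : n ≤ b) {F₀ : CochainComplex C ℤ}
    (hF : PCoh.IsPC P (Q.obj F₀)) {k : ℕ} (S : PCStage P n b F₀ k) :
    ∃ (S' : PCStage P n b F₀ (k + 1)) (φ : S.T ⟶ S'.T), φ ≫ S'.τ = S.τ ∧
      (∀ j : ℤ, Mono (φ.f j)) ∧ (∀ j : ℤ, n - k ≤ j → IsIso (φ.f j)) := by
  have hS : PCoh.IsStrictPC P (n - k - 1) S.T := ⟨⟨b, S.hb⟩, fun j _ => S.hP j⟩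
  obtain ⟨E', v, u', hvu, hE', hvm, hvi, hu'iso, hu'epi⟩ :=
    pc_step hsum hqs hql (n - k - 1) (n - k) (by omega) S.T F₀ hS (hF _) S.τ S.hiso S.hepi
  have e : n - ((k + 1 : ℕ) : ℤ) = n - k - 1 := by push_cast; omega
  refine ⟨{ T := E', τ := u', hb := fun j hj => ?_, hP := fun j => ?_, hiso := ?_, hepi := ?_ },
    v, hvu, hvm, fun j hj => hvi j (by omega)⟩
  · have := hvi j (by omega)
    exact (S.hb j hj).of_iso (asIso (v.f j)).symm
  · by_cases hj : n - k - 1 ≤ j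
    · exact hE'.2 j hj
    · have := hvi j (by omega)
      exact P.prop_of_iso (asIso (v.f j)) (S.hP j)
  · rw [e]; exact hu'iso
  · rw [e]; exact hu'epi

/-- The sequence of stages. -/
noncomputable def PCStage.seq {n b : ℤ} (hnb : n ≤ b) {F₀ : CochainComplex C ℤ}
    (hF : PCoh.IsPC P (Q.obj F₀)) (S₀ : PCStage P n b F₀ 0) : ∀ k : ℕ, PCStage P n b F₀ k
  | 0 => S₀
  | k + 1 => (PCStage.exists_next hsum hqs hql hnb hF (PCStage.seq hnb hF S₀ k)).choose

/-- The transition maps. -/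
noncomputable def PCStage.seqMap {n b : ℤ} (hnb : n ≤ b) {F₀ : CochainComplex C ℤ}
    (hF : PCoh.IsPC P (Q.obj F₀)) (S₀ : PCStage P n b F₀ 0) (k : ℕ) :
    (PCStage.seq hsum hqs hql hnb hF S₀ k).T ⟶ (PCStage.seq hsum hqs hql hnb hF S₀ (k + 1)).T :=
  (PCStage.exists_next hsum hqs hql hnb hF (PCStage.seq hsum hqs hql hnb hF S₀ k)).choose_spec.choose

theorem PCStage.seqMap_spec {n b : ℤ} (hnb : n ≤ b) {F₀ : CochainComplex C ℤ}
    (hF : PCoh.IsPC P (Q.obj F₀)) (S₀ : PCStage P n b F₀ 0) (k : ℕ) :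
    PCStage.seqMap hsum hqs hql hnb hF S₀ k ≫ (PCStage.seq hsum hqs hql hnb hF S₀ (k + 1)).τ =
        (PCStage.seq hsum hqs hql hnb hF S₀ k).τ ∧
      (∀ j : ℤ, Mono ((PCStage.seqMap hsum hqs hql hnb hF S₀ k).f j)) ∧
      (∀ j : ℤ, n - k ≤ j → IsIso ((PCStage.seqMap hsum hqs hql hnb hF S₀ k).f j)) :=
  (PCStage.exists_next hsum hqs hql hnb hF
    (PCStage.seq hsum hqs hql hnb hF S₀ k)).choose_spec.choose_spec

/-- Factorisation of an `n`-quasi-isomorphism from a strictly pseudo-coherent complex to a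
pseudo-coherent complex through a quasi-isomorphism from a strictly pseudo-coherent complex. -/
theorem exists_factor_pcAll (n : ℤ) (E F : CochainComplex C ℤ) (hE : PCoh.IsStrictPCAll P E)
    (hF : PCoh.IsPC P (Q.obj F)) (u : E ⟶ F)
    (hiso : ∀ j : ℤ, n < j → IsIso (homologyMap u j)) (hepi : Epi (homologyMap u n)) :
    ∃ (E' : CochainComplex C ℤ) (v : E ⟶ E') (u' : E' ⟶ F), v ≫ u' = u ∧
      PCoh.IsStrictPCAll P E' ∧ QuasiIso u' ∧ (∀ j : ℤ, Mono (v.f j)) ∧
      (∀ j : ℤ, n ≤ j → IsIso (v.f j)) := by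
  obtain ⟨⟨b₀, hb₀⟩, hEP⟩ := hE
  let b : ℤ := max b₀ n
  have hnb : n ≤ b := le_max_right _ _
  let S₀ : PCStage P n b F 0 :=
    { T := E
      τ := u
      hb := fun j hj => hb₀ j (by have := le_max_left b₀ n; omega)
      hP := hEP
      hiso := fun j hj => hiso j (by simpa using hj)
      hepi := by
        have e : n - ((0 : ℕ) : ℤ) = n := by simp
        rw [e]
        exact hepi }
  let S := PCStage.seq hsum hqs hql hnb hF S₀
  let φ := PCStage.seqMap hsum hqs hql hnb hF S₀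
  have hφ := PCStage.seqMap_spec hsum hqs hql hnb hF S₀
  obtain ⟨T', v, u', hvu, hu', hvm, hvi, hterm⟩ :=
    exists_seq_colimit n (fun k => (S k).T) φ F (fun k => (S k).τ) (fun k => (hφ k).1)
      (fun k j hj => (hφ k).2.2 j hj) (fun k j => (hφ k).2.1 j) (fun k j hj => (S k).hiso j hj)
  refine ⟨T', v, u', hvu, ⟨⟨b, fun j hj => ?_⟩, fun j => ?_⟩, hu', hvm, hvi⟩
  · obtain ⟨k, ⟨e⟩⟩ := hterm j
    exact ((S k).hb j hj).of_iso e.symm
  · obtain ⟨k, ⟨e⟩⟩ := hterm j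
    exact P.prop_of_iso e ((S k).hP j)

end Groth.Agent.Lib.Helper62
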