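import Groth.Agent.Lib.Helper62.CplxFactor
import Groth.Agent.S5602
import Mathlib.Algebra.Homology.HomologicalComplexBiprod
import Mathlib.Algebra.Homology.SingleHomology
import Groth.Prelude.Def_PCoh

/-!
Resolution lemma for strictly pseudo-coherent complexes over an abelian category with a
quasi-liftable and quasi-stable class of objects.
-/

universe w v u

open CategoryTheory Limits HomologicalComplex

namespace Groth.Agent.Lib.Helper62

variable {C : Type u} [Category.{v} C] [Abelian C]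

section FourLemmas

open ComposableArrows Abelian HomologicalComplex.HomologySequence

variable {S₁ S₂ : ShortComplex (CochainComplex C ℤ)} (φ : S₁ ⟶ S₂)
  (hS₁ : S₁.ShortExact) (hS₂ : S₂.ShortExact)

include hS₁ hS₂

theorem mono_homologyMap_τ₂ (i j : ℤ) (hij : i + 1 = j)
    (h₁ : Epi (homologyMap φ.τ₃ i)) (h₂ : Mono (homologyMap φ.τ₁ j))
    (h₃ : Mono (homologyMap φ.τ₃ j)) : Mono (homologyMap φ.τ₂ j) := by
  have hij' : (ComplexShape.up ℤ).Rel i j := hij
  apply mono_of_epi_of_mono_of_mono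
    ((δ₀Functor ⋙ δ₀Functor).map (mapComposableArrows₅ φ hS₁ hS₂ i j hij'))
  · exact (composableArrows₅_exact hS₁ i j hij').δ₀.δ₀
  · exact (composableArrows₅_exact hS₂ i j hij').δ₀.δ₀
  · exact h₁
  · exact h₂
  · exact h₃

theorem epi_homologyMap_τ₂ (i j : ℤ) (hij : i + 1 = j)
    (h₁ : Epi (homologyMap φ.τ₁ i)) (h₂ : Epi (homologyMap φ.τ₃ i))
    (h₃ : Mono (homologyMap φ.τ₁ j)) : Epi (homologyMap φ.τ₂ i) := by
  have hij' : (ComplexShape.up ℤ).Rel i j := hij
  apply epi_of_epi_of_epi_of_mono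
    ((δlastFunctor ⋙ δlastFunctor).map (mapComposableArrows₅ φ hS₁ hS₂ i j hij'))
  · exact (composableArrows₅_exact hS₁ i j hij').δlast.δlast
  · exact (composableArrows₅_exact hS₂ i j hij').δlast.δlast
  · exact h₁
  · exact h₂
  · exact h₃

end FourLemmas


theorem isIso_of_splitting {A B N D : C} {i : A ⟶ B} {p : B ⟶ N} (hip : i ≫ p = 0)
    (hS : (ShortComplex.mk i p hip).Exact) [Epi p]
    (s : B ⟶ D) (σ : D ⟶ B) (r : B ⟶ A) (h1 : σ ≫ s = 𝟙 D) (h2 : i ≫ s = 0)
    (h3 : r ≫ i + s ≫ σ = 𝟙 B) : IsIso (σ ≫ p) := by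
  have : Epi (ShortComplex.mk i p hip).g := inferInstanceAs (Epi p)
  let t : N ⟶ D := hS.desc s h2
  have ht : p ≫ t = s := hS.g_desc s h2
  refine ⟨t, ?_, ?_⟩
  · rw [Category.assoc, ht, h1]
  · rw [← cancel_epi p, ← Category.assoc, ← Category.assoc, ht, Category.comp_id]
    have h4 : s ≫ σ = 𝟙 B - r ≫ i := by rw [← h3]; abel
    rw [h4, Preadditive.sub_comp, Category.id_comp, Category.assoc, hip, comp_zero, sub_zero]

section Monofy

open CochainComplex

variable {G X : CochainComplex C ℤ} (f : G ⟶ X)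

/-- Replace `f : G ⟶ X` by the mono `(inr, f) : G ⟶ cone(𝟙 G) ⊞ X`. -/
noncomputable def monofy : G ⟶ mappingCone (𝟙 G) ⊞ X := biprod.lift (mappingCone.inr (𝟙 G)) f

@[reassoc (attr := simp)]
lemma monofy_snd : monofy f ≫ biprod.snd = f := biprod.lift_snd _ _

@[reassoc (attr := simp)]
lemma monofy_fst : monofy f ≫ biprod.fst = mappingCone.inr (𝟙 G) := biprod.lift_fst _ _

instance mono_monofy : Mono (monofy f) := by
  have := mono_mappingCone_inr (𝟙 G)
  exact mono_of_mono_fac (monofy_fst f)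

variable (G X) in
theorem quasiIso_biprod_snd : QuasiIso (biprod.snd : mappingCone (𝟙 G) ⊞ X ⟶ X) := by
  let S : ShortComplex (CochainComplex C ℤ) :=
    ShortComplex.mk (biprod.inl : mappingCone (𝟙 G) ⟶ mappingCone (𝟙 G) ⊞ X)
      (biprod.snd : mappingCone (𝟙 G) ⊞ X ⟶ X) (by simp)
  have hS : S.ShortExact :=
    (ShortComplex.Splitting.ofHasBinaryBiproduct (mappingCone (𝟙 G)) X).shortExact
  exact quasiIso_g_of_acyclic_X₁ hS (acyclic_mappingCone_id G)

theorem isIso_cokernel_monofy_X (j : ℤ) :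
    IsIso (biprod.desc ((biprod.inr : X ⟶ mappingCone (𝟙 G) ⊞ X).f j)
      ((mappingCone.inl (𝟙 G)).v (j + 1) j (add_neg_cancel_right j 1) ≫
        (biprod.inl : mappingCone (𝟙 G) ⟶ mappingCone (𝟙 G) ⊞ X).f j) ≫
      (cokernel.π (monofy f)).f j : X.X j ⊞ G.X (j + 1) ⟶ (cokernel (monofy f)).X j) := by
  let S : ShortComplex (CochainComplex C ℤ) :=
    ShortComplex.mk (monofy f) (cokernel.π (monofy f)) (cokernel.condition _)
  have hS : S.ShortExact :=
    { exact := ShortComplex.exact_cokernel _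
      mono_f := inferInstanceAs (Mono (monofy f))
      epi_g := inferInstanceAs (Epi (cokernel.π (monofy f))) }
  have hj := (hS.map_of_exact (eval C (ComplexShape.up ℤ) j))
  have hip : (monofy f).f j ≫ (cokernel.π (monofy f)).f j = 0 := by
    rw [← comp_f, cokernel.condition, zero_f]
  have hex : (ShortComplex.mk _ _ hip).Exact := hj.exact
  have hepi : Epi ((cokernel.π (monofy f)).f j) := hj.epi_g
  let r : (mappingCone (𝟙 G) ⊞ X).X j ⟶ G.X j :=
    (biprod.fst : mappingCone (𝟙 G) ⊞ X ⟶ _).f j ≫ (mappingCone.snd (𝟙 G)).v j j (add_zero j)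
  let s : (mappingCone (𝟙 G) ⊞ X).X j ⟶ X.X j ⊞ G.X (j + 1) :=
    biprod.lift ((biprod.snd : mappingCone (𝟙 G) ⊞ X ⟶ X).f j - r ≫ f.f j)
      ((biprod.fst : mappingCone (𝟙 G) ⊞ X ⟶ _).f j ≫ (mappingCone.fst (𝟙 G)).1.v j (j + 1) rfl)
  refine isIso_of_splitting hip hex s _ r ?_ ?_ ?_
  · apply biprod.hom_ext'
    · apply biprod.hom_ext <;> simp [s, r]
    · apply biprod.hom_ext <;> simp [s, r]
  · apply biprod.hom_ext <;> simp [s, r, monofy]
  · apply biprodX_ext_to
    · simp [s, r, monofy]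
      rw [← Preadditive.comp_add, add_comm, mappingCone.id_X (𝟙 G) j (j + 1) rfl, Category.comp_id]
    · simp [s, r, monofy]

theorem prop_cokernel_monofy_X (P : ObjectProperty C) [P.IsClosedUnderIsomorphisms]
    (hsum : ∀ X Y : C, P X → P Y → P (X ⨯ Y)) (j : ℤ) (h1 : P (X.X j)) (h2 : P (G.X (j + 1))) :
    P ((cokernel (monofy f)).X j) := by
  have := isIso_cokernel_monofy_X f j
  have h3 : P (X.X j ⊞ G.X (j + 1)) :=
    P.prop_of_iso (biprod.isoProd _ _).symm (hsum _ _ h1 h2)
  exact P.prop_of_iso (asIso (biprod.desc ((biprod.inr : X ⟶ mappingCone (𝟙 G) ⊞ X).f j)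
      ((mappingCone.inl (𝟙 G)).v (j + 1) j (add_neg_cancel_right j 1) ≫
        (biprod.inl : mappingCone (𝟙 G) ⟶ mappingCone (𝟙 G) ⊞ X).f j) ≫
      (cokernel.π (monofy f)).f j)) h3

theorem isZero_cokernel_monofy_X (j : ℤ) (h1 : IsZero (X.X j)) (h2 : IsZero (G.X (j + 1))) :
    IsZero ((cokernel (monofy f)).X j) := by
  have := isIso_cokernel_monofy_X f j
  have h3 : IsZero (X.X j ⊞ G.X (j + 1)) := (biprod_isZero_iff _ _).2 ⟨h1, h2⟩
  exact h3.of_iso (asIso (biprod.desc ((biprod.inr : X ⟶ mappingCone (𝟙 G) ⊞ X).f j)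
      ((mappingCone.inl (𝟙 G)).v (j + 1) j (add_neg_cancel_right j 1) ≫
        (biprod.inl : mappingCone (𝟙 G) ⟶ mappingCone (𝟙 G) ⊞ X).f j) ≫
      (cokernel.π (monofy f)).f j)).symm

end Monofy

theorem exactAt_cokernel_of_mono (m : ℤ) {G Y : CochainComplex C ℤ} (g : G ⟶ Y) [Mono g]
    (hiso : ∀ j : ℤ, m < j → IsIso (homologyMap g j)) (hepi : Epi (homologyMap g m))
    (j : ℤ) (hj : m ≤ j) : (cokernel g).ExactAt j := by
  let S : ShortComplex (CochainComplex C ℤ) := ShortComplex.mk g (cokernel.π g) (cokernel.condition g)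
  have hS : S.ShortExact :=
    { exact := ShortComplex.exact_cokernel g
      mono_f := inferInstanceAs (Mono g)
      epi_g := inferInstanceAs (Epi (cokernel.π g)) }
  refine hS.exactAt_X₃ j ?_ ?_
  · rcases hj.eq_or_lt with h | h
    · subst h; exact hepi
    · have := hiso j h
      change Epi (homologyMap g j)
      infer_instance
  · intro k hjk
    have hk : m < k := by
      have : j + 1 = k := hjk
      omega
    have := hiso k hk
    change Mono (homologyMap g k)
    infer_instance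

theorem isIso_homologyMap_of_fac {A B D : CochainComplex C ℤ} (g : A ⟶ B) (q : B ⟶ D) (w : A ⟶ D)
    (h : g ≫ q = w) [QuasiIso q] (j : ℤ) (hw : IsIso (homologyMap w j)) :
    IsIso (homologyMap g j) := by
  have hq : IsIso (homologyMap q j) := by
    rw [← quasiIsoAt_iff_isIso_homologyMap]; infer_instance
  have h1 : IsIso (homologyMap g j ≫ homologyMap q j) := by
    rw [← homologyMap_comp, h]; exact hw
  exact IsIso.of_isIso_comp_right _ (homologyMap q j)

theorem epi_homologyMap_of_fac {A B D : CochainComplex C ℤ} (g : A ⟶ B) (q : B ⟶ D) (w : A ⟶ D)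
    (h : g ≫ q = w) [QuasiIso q] (j : ℤ) (hw : Epi (homologyMap w j)) :
    Epi (homologyMap g j) := by
  have hq : IsIso (homologyMap q j) := by
    rw [← quasiIsoAt_iff_isIso_homologyMap]; infer_instance
  have h1 : homologyMap g j = homologyMap w j ≫ inv (homologyMap q j) := by
    rw [← h, homologyMap_comp, Category.assoc, IsIso.hom_inv_id, Category.comp_id]
  rw [h1]
  infer_instance

/-- A map from a single complex into the cycles which is epi onto homology. -/
theorem epi_homologyMap_mkHomFromSingle {N : CochainComplex C ℤ} (k : ℤ) {P₀ : C}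
    (z : P₀ ⟶ N.cycles k) (hz : Epi (z ≫ N.homologyπ k)) :
    Epi (homologyMap (mkHomFromSingle (c := ComplexShape.up ℤ) (z ≫ N.iCycles k)
      (fun l _ => by rw [Category.assoc, iCycles_d, comp_zero])) k) := by
  set â := mkHomFromSingle (c := ComplexShape.up ℤ) (z ≫ N.iCycles k)
    (fun l _ => by rw [Category.assoc, iCycles_d, comp_zero]) with hâ
  let S₀ : CochainComplex C ℤ := (single C (ComplexShape.up ℤ) k).obj P₀
  have h1 : cyclesMap â k = S₀.iCycles k ≫ (singleObjXSelf (ComplexShape.up ℤ) k P₀).hom ≫ z := by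
    rw [← cancel_mono (N.iCycles k), cyclesMap_i, Category.assoc, Category.assoc, hâ,
      mkHomFromSingle_f]
  have h2 : IsIso (S₀.iCycles k) :=
    S₀.isIso_iCycles k (k + 1) (by simp) (by
      apply IsZero.eq_of_tgt
      exact isZero_single_obj_X _ _ _ _ (by omega))
  have h3 : S₀.homologyπ k ≫ homologyMap â k =
      (S₀.iCycles k ≫ (singleObjXSelf (ComplexShape.up ℤ) k P₀).hom) ≫ (z ≫ N.homologyπ k) := by
    rw [homologyπ_naturality, h1]
    simp only [Category.assoc]
  have h4 : Epi (S₀.homologyπ k ≫ homologyMap â k) := by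
    rw [h3]
    infer_instance
  exact epi_of_epi (S₀.homologyπ k) _

section Pull

variable {G Y S₀ : CochainComplex C ℤ} (g : G ⟶ Y) [Mono g] (â : S₀ ⟶ cokernel g)

/-- The cokernel sequence of a mono. -/
noncomputable abbrev cokS : ShortComplex (CochainComplex C ℤ) :=
  ShortComplex.mk g (cokernel.π g) (cokernel.condition g)

theorem cokS_shortExact : (cokS g).ShortExact :=
  { exact := ShortComplex.exact_cokernel g
    mono_f := inferInstanceAs (Mono g)
    epi_g := inferInstanceAs (Epi (cokernel.π g)) }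

/-- The inclusion of `G` in the pullback of `Y ⟶ Y / G` along `â`. -/
noncomputable def pullι : G ⟶ pullback (cokernel.π g) â := pullback.lift g 0 (by simp)

omit [Mono g] in
@[reassoc (attr := simp)]
lemma pullι_fst : pullι g â ≫ pullback.fst _ _ = g := pullback.lift_fst _ _ _

omit [Mono g] in
@[reassoc (attr := simp)]
lemma pullι_snd : pullι g â ≫ pullback.snd _ _ = 0 := pullback.lift_snd _ _ _

/-- The sequence `0 → G → Y ×_{Y/G} S₀ → S₀ → 0`. -/
noncomputable abbrev pullS : ShortComplex (CochainComplex C ℤ) :=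
  ShortComplex.mk (pullι g â) (pullback.snd _ _) (pullι_snd g â)

theorem pullS_shortExact : (pullS g â).ShortExact := by
  have hmono : Mono (pullι g â) := mono_of_mono_fac (pullι_fst g â)
  refine
    { exact := ?_
      mono_f := hmono
      epi_g := inferInstanceAs (Epi (pullback.snd (cokernel.π g) â)) }
  apply ShortComplex.exact_of_f_is_kernel
  have : Mono (pullS g â).f := hmono
  refine KernelFork.IsLimit.ofι' _ _ (fun {A} k hk => ?_)
  have hk0 : k ≫ pullback.snd (cokernel.π g) â = 0 := hk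
  have hk' : (k ≫ pullback.fst (cokernel.π g) â) ≫ (cokS g).g = 0 := by
    change (k ≫ pullback.fst (cokernel.π g) â) ≫ cokernel.π g = 0
    rw [Category.assoc, pullback.condition, ← Category.assoc, hk0, zero_comp]
  have := (cokS_shortExact g).mono_f
  refine ⟨(cokS_shortExact g).exact.lift (k ≫ pullback.fst _ _) hk', ?_⟩
  apply pullback.hom_ext
  · change (_ ≫ pullι g â) ≫ _ = _
    rw [Category.assoc, pullι_fst]
    exact (cokS_shortExact g).exact.lift_f _ _
  · change (_ ≫ pullι g â) ≫ _ = _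
    rw [Category.assoc, pullι_snd, comp_zero]
    exact hk0.symm

/-- The morphism of short exact sequences `(𝟙, fst, â)`. -/
noncomputable def pullMap : pullS g â ⟶ cokS g where
  τ₁ := 𝟙 G
  τ₂ := pullback.fst _ _
  τ₃ := â
  comm₁₂ := by
    change 𝟙 G ≫ g = pullι g â ≫ pullback.fst _ _
    rw [pullι_fst, Category.id_comp]
  comm₂₃ := pullback.condition

end Pull

section Step

open CochainComplex

variable (P : ObjectProperty C) [P.IsClosedUnderIsomorphisms]

set_option maxHeartbeats 1600000 in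
/-- One step of the downward induction: add one term in degree `m - 1`. -/
theorem resolve_step (hsum : ∀ X Y : C, P X → P Y → P (X ⨯ Y))
    (hqs : PCoh.IsQuasiStableUnderKernels P) (hql : PCoh.IsQuasiLiftable P)
    (n b : ℤ) {E F : CochainComplex C ℤ} (hFb : ∀ i : ℤ, b < i → IsZero (F.X i))
    (hFP : ∀ i : ℤ, n ≤ i → P (F.X i)) (u : E ⟶ F) [QuasiIso u]
    (m : ℤ) (hnm : n < m) (hmb : m ≤ b + 1)
    (G : CochainComplex C ℤ) (w : G ⟶ E)
    (hGP : ∀ j : ℤ, P (G.X j)) (hG0 : ∀ j : ℤ, j < m → IsZero (G.X j))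
    (hGb : ∀ j : ℤ, b < j → IsZero (G.X j))
    (hiso : ∀ j : ℤ, m < j → IsIso (homologyMap w j)) (hepi : Epi (homologyMap w m)) :
    ∃ (G' : CochainComplex C ℤ) (w' : G' ⟶ E), (∀ j : ℤ, P (G'.X j)) ∧
      (∀ j : ℤ, j < m - 1 → IsZero (G'.X j)) ∧ (∀ j : ℤ, b < j → IsZero (G'.X j)) ∧
      (∀ j : ℤ, m - 1 < j → IsIso (homologyMap w' j)) ∧ Epi (homologyMap w' (m - 1)) := by
  let gE := monofy w
  let gF := monofy (w ≫ u)
  have qE : QuasiIso (biprod.snd : mappingCone (𝟙 G) ⊞ E ⟶ E) := quasiIso_biprod_snd G E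
  have qF : QuasiIso (biprod.snd : mappingCone (𝟙 G) ⊞ F ⟶ F) := quasiIso_biprod_snd G F
  let ũ : mappingCone (𝟙 G) ⊞ E ⟶ mappingCone (𝟙 G) ⊞ F := biprod.map (𝟙 _) u
  have hũ1 : ũ ≫ biprod.snd = biprod.snd ≫ u := biprod.map_snd _ _
  have hũq : QuasiIso ũ := by
    have : QuasiIso (ũ ≫ biprod.snd) := by rw [hũ1]; infer_instance
    exact quasiIso_of_comp_right ũ biprod.snd
  have hgEF : gE ≫ ũ = gF := by
    apply biprod.hom_ext <;> simp [gE, gF, ũ, monofy]
  have hui : ∀ j, IsIso (homologyMap u j) := fun j => by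
    rw [← quasiIsoAt_iff_isIso_homologyMap]; infer_instance
  have hisoE : ∀ j : ℤ, m < j → IsIso (homologyMap gE j) := fun j hj =>
    isIso_homologyMap_of_fac gE biprod.snd w (monofy_snd w) j (hiso j hj)
  have hepiE : Epi (homologyMap gE m) :=
    epi_homologyMap_of_fac gE biprod.snd w (monofy_snd w) m hepi
  have hisoF : ∀ j : ℤ, m < j → IsIso (homologyMap gF j) := fun j hj => by
    apply isIso_homologyMap_of_fac gF biprod.snd (w ≫ u) (monofy_snd _) j
    rw [homologyMap_comp]
    have := hiso j hj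
    have := hui j
    infer_instance
  have hepiF : Epi (homologyMap gF m) := by
    apply epi_homologyMap_of_fac gF biprod.snd (w ≫ u) (monofy_snd _) m
    rw [homologyMap_comp]
    have := hui m
    infer_instance
  let N : CochainComplex C ℤ := cokernel gE
  let NF : CochainComplex C ℤ := cokernel gF
  have hcomm : gE ≫ ũ = 𝟙 G ≫ gF := by rw [Category.id_comp, hgEF]
  let ν : N ⟶ NF := cokernel.map gE gF (𝟙 G) ũ hcomm
  let φ : cokS gE ⟶ cokS gF :=
    { τ₁ := 𝟙 G
      τ₂ := ũ
      τ₃ := ν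
      comm₁₂ := hcomm.symm
      comm₂₃ := (cokernel.π_desc _ _ _).symm }
  have hν : QuasiIso ν :=
    HomologySequence.quasiIso_τ₃ φ (cokS_shortExact gE) (cokS_shortExact gF)
      (by change QuasiIso (𝟙 G); infer_instance) hũq
  have hNFpc : PCoh.IsStrictPC P (m - 1) NF :=
    ⟨⟨b, fun i hi => isZero_cokernel_monofy_X _ i (hFb i hi) (hGb (i + 1) (by omega))⟩,
      fun i hi => prop_cokernel_monofy_X _ P hsum i (hFP i (by omega)) (hGP (i + 1))⟩
  have hNFac : ∀ i : ℤ, m - 1 < i → IsZero (NF.homology i) := fun i hi =>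
    (exactAt_iff_isZero_homology _ _).1 (exactAt_cokernel_of_mono m gF hisoF hepiF i (by omega))
  obtain ⟨P₁, π₁, hP₁, hπ₁⟩ := Groth.Agent.S5602.result P hqs (m - 1) NF hNFpc hNFac
  have hNex : ∀ j : ℤ, m ≤ j → N.ExactAt j := exactAt_cokernel_of_mono m gE hisoE hepiE
  have hνi : IsIso (homologyMap ν (m - 1)) := by
    rw [← quasiIsoAt_iff_isIso_homologyMap]; infer_instance
  let ρ : N.cycles (m - 1) ⟶ NF.homology (m - 1) := N.homologyπ (m - 1) ≫ homologyMap ν (m - 1)
  have hρ : Epi ρ := epi_comp _ _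
  obtain ⟨P₀, y, hP₀, hy⟩ := hql (pullback ρ π₁) P₁ (pullback.snd ρ π₁) inferInstance hP₁
  let z : P₀ ⟶ N.cycles (m - 1) := y ≫ pullback.fst ρ π₁
  have hz : Epi (z ≫ N.homologyπ (m - 1)) := by
    have h1 : (z ≫ N.homologyπ (m - 1)) ≫ homologyMap ν (m - 1) =
        (y ≫ pullback.snd ρ π₁) ≫ π₁ := by
      change ((y ≫ pullback.fst ρ π₁) ≫ N.homologyπ (m - 1)) ≫ homologyMap ν (m - 1) = _
      rw [Category.assoc, Category.assoc, Category.assoc]
      change y ≫ pullback.fst ρ π₁ ≫ ρ = _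
      rw [pullback.condition]
    have h2 : Epi ((z ≫ N.homologyπ (m - 1)) ≫ homologyMap ν (m - 1)) := by
      rw [h1]; exact epi_comp _ _
    have h3 : ∀ {A B D : C} (f : A ⟶ B) (g : B ⟶ D) [IsIso g], f = (f ≫ g) ≫ inv g := by
      intros; simp
    rw [h3 (z ≫ N.homologyπ (m - 1)) (homologyMap ν (m - 1))]
    infer_instance
  let S₀ : CochainComplex C ℤ := (single C (ComplexShape.up ℤ) (m - 1)).obj P₀
  let â : S₀ ⟶ N := mkHomFromSingle (c := ComplexShape.up ℤ) (z ≫ N.iCycles (m - 1))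
      (fun l _ => by rw [Category.assoc, iCycles_d, comp_zero])
  have hâ : Epi (homologyMap â (m - 1)) := epi_homologyMap_mkHomFromSingle (m - 1) z hz
  have hâepi : ∀ j : ℤ, m - 1 ≤ j → Epi (homologyMap â j) := by
    intro j hj
    rcases hj.eq_or_lt with h | h
    · subst h; exact hâ
    · exact ((exactAt_iff_isZero_homology _ _).1 (hNex j (by omega))).epi _
  have hâmono : ∀ j : ℤ, m ≤ j → Mono (homologyMap â j) := by
    intro j hj
    exact (isZero_single_obj_homology (c := ComplexShape.up ℤ) (m - 1) P₀ j (by omega)).mono _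
  let G' : CochainComplex C ℤ := pullback (cokernel.π gE) â
  have hS' : (pullS gE â).ShortExact := pullS_shortExact gE â
  have hSE : (cokS gE).ShortExact := cokS_shortExact gE
  let ψ : pullS gE â ⟶ cokS gE := pullMap gE â
  have hid : ∀ j : ℤ, IsIso (homologyMap (𝟙 G) j) := fun j => by
    rw [homologyMap_id]; infer_instance
  have hfstmono : ∀ j : ℤ, m ≤ j → Mono (homologyMap (pullback.fst (cokernel.π gE) â) j) := by
    intro j hj
    have := hid j
    exact mono_homologyMap_τ₂ ψ hS' hSE (j - 1) j (by omega) (hâepi (j - 1) (by omega))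
      (by change Mono (homologyMap (𝟙 G) j); infer_instance) (hâmono j hj)
  have hfstepi : ∀ j : ℤ, m - 1 ≤ j → Epi (homologyMap (pullback.fst (cokernel.π gE) â) j) := by
    intro j hj
    have := hid j
    have := hid (j + 1)
    exact epi_homologyMap_τ₂ ψ hS' hSE j (j + 1) rfl
      (by change Epi (homologyMap (𝟙 G) j); infer_instance) (hâepi j hj)
      (by change Mono (homologyMap (𝟙 G) (j + 1)); infer_instance)
  let w' : G' ⟶ E := pullback.fst _ _ ≫ biprod.snd
  have hqi : ∀ j, IsIso (homologyMap (biprod.snd : mappingCone (𝟙 G) ⊞ E ⟶ E) j) := fun j => by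
    rw [← quasiIsoAt_iff_isIso_homologyMap]; infer_instance
  -- the terms of `G'`
  have hdeg : ∀ j : ℤ, ((pullS gE â).map (eval C (ComplexShape.up ℤ) j)).ShortExact := fun j =>
    hS'.map_of_exact (eval C (ComplexShape.up ℤ) j)
  have hterm1 : ∀ j : ℤ, j ≠ m - 1 → IsIso ((pullι gE â).f j) := by
    intro j hj
    have h1 : Mono ((pullι gE â).f j) := (hdeg j).mono_f
    have h2 : Epi ((pullι gE â).f j) :=
      (hdeg j).exact.epi_f ((isZero_single_obj_X (ComplexShape.up ℤ) (m - 1) P₀ j hj).eq_of_tgt _ _)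
    exact isIso_of_mono_of_epi _
  have hterm2 : IsIso ((pullback.snd (cokernel.π gE) â).f (m - 1)) := by
    have h1 : Epi ((pullback.snd (cokernel.π gE) â).f (m - 1)) := (hdeg (m - 1)).epi_g
    have h2 : Mono ((pullback.snd (cokernel.π gE) â).f (m - 1)) :=
      (hdeg (m - 1)).exact.mono_g ((hG0 (m - 1) (by omega)).eq_of_src _ _)
    exact isIso_of_mono_of_epi _
  refine ⟨G', w', ?_, ?_, ?_, ?_, ?_⟩
  · intro j
    by_cases hj : j = m - 1
    · subst hj
      have := hterm2
      exact P.prop_of_iso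
        (asIso ((pullback.snd (cokernel.π gE) â).f (m - 1)) ≪≫
          singleObjXSelf (ComplexShape.up ℤ) (m - 1) P₀).symm hP₀
    · have := hterm1 j hj
      exact P.prop_of_iso (asIso ((pullι gE â).f j)) (hGP j)
  · intro j hj
    have := hterm1 j (by omega)
    exact (hG0 j (by omega)).of_iso (asIso ((pullι gE â).f j)).symm
  · intro j hj
    have := hterm1 j (by omega)
    exact (hGb j hj).of_iso (asIso ((pullι gE â).f j)).symm
  · intro j hj
    have h1 := hfstmono j (by omega)
    have h2 := hfstepi j (by omega)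
    have h3 : IsIso (homologyMap (pullback.fst (cokernel.π gE) â) j) := isIso_of_mono_of_epi _
    have := hqi j
    change IsIso (homologyMap (pullback.fst (cokernel.π gE) â ≫ biprod.snd) j)
    rw [homologyMap_comp]
    infer_instance
  · have h2 := hfstepi (m - 1) le_rfl
    have := hqi (m - 1)
    change Epi (homologyMap (pullback.fst (cokernel.π gE) â ≫ biprod.snd) (m - 1))
    rw [homologyMap_comp]
    infer_instance

open ZeroObject in
set_option maxHeartbeats 800000 in
/-- The resolution lemma: a complex quasi-isomorphic to a strictly `n`-pseudo-coherent one receives a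
quasi-isomorphism from a strictly `n`-pseudo-coherent complex. -/
theorem resolve [P.ContainsZero] (hsum : ∀ X Y : C, P X → P Y → P (X ⨯ Y))
    (hqs : PCoh.IsQuasiStableUnderKernels P) (hql : PCoh.IsQuasiLiftable P)
    (n : ℤ) (E F : CochainComplex C ℤ) (hF : PCoh.IsStrictPC P n F) (u : E ⟶ F) (hu : QuasiIso u) :
    ∃ (F' : CochainComplex C ℤ) (v : F' ⟶ E), PCoh.IsStrictPC P n F' ∧ QuasiIso v := by
  obtain ⟨⟨b₀, hb₀⟩, hFP⟩ := hF
  let b : ℤ := max b₀ (n - 1)
  have hbb : b₀ ≤ b := le_max_left _ _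
  have hbn : n - 1 ≤ b := le_max_right _ _
  have hFb : ∀ i : ℤ, b < i → IsZero (F.X i) := fun i hi => hb₀ i (by omega)
  have hui : ∀ j, IsIso (homologyMap u j) := fun j => by
    rw [← quasiIsoAt_iff_isIso_homologyMap]; infer_instance
  have hEz : ∀ j : ℤ, b < j → IsZero (E.homology j) := by
    intro j hj
    have h1 : IsZero (F.homology j) :=
      (exactAt_iff_isZero_homology _ _).1 (ExactAt.of_isZero (hFb j hj))
    have := hui j
    exact h1.of_iso (asIso (homologyMap u j))
  have key : ∀ k : ℕ, n ≤ b + 1 - k →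
      ∃ (G : CochainComplex C ℤ) (w : G ⟶ E), (∀ j : ℤ, P (G.X j)) ∧
        (∀ j : ℤ, j < b + 1 - k → IsZero (G.X j)) ∧ (∀ j : ℤ, b < j → IsZero (G.X j)) ∧
        (∀ j : ℤ, b + 1 - k < j → IsIso (homologyMap w j)) ∧ Epi (homologyMap w (b + 1 - k)) := by
    intro k
    induction k with
    | zero =>
      intro _
      have hz : ∀ j : ℤ, IsZero ((0 : CochainComplex C ℤ).X j) := fun j =>
        (eval C (ComplexShape.up ℤ) j).map_isZero (isZero_zero _)
      have hzh : ∀ j : ℤ, IsZero ((0 : CochainComplex C ℤ).homology j) := fun j =>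
        (exactAt_iff_isZero_homology _ _).1 (ExactAt.of_isZero (hz j))
      refine ⟨0, 0, fun j => P.prop_of_isZero (hz j), fun j _ => hz j, fun j _ => hz j, ?_, ?_⟩
      · intro j hj
        have h1 := hzh j
        have h2 := hEz j (by push_cast at hj; omega)
        exact ⟨0, h1.eq_of_src _ _, h2.eq_of_src _ _⟩
      · exact (hEz _ (by push_cast; omega)).epi _
    | succ k ih =>
      intro hk
      obtain ⟨G, w, h1, h2, h3, h4, h5⟩ := ih (by push_cast at hk ⊢; omega)
      have := resolve_step P hsum hqs hql n b hFb hFP u (b + 1 - k) (by push_cast at hk; omega)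
        (by omega) G w h1 h2 h3 h4 h5
      have e : b + 1 - (k : ℤ) - 1 = b + 1 - ((k + 1 : ℕ) : ℤ) := by push_cast; omega
      rw [e] at this
      exact this
  obtain ⟨G, w, h1, h2, h3, h4, h5⟩ := key (b + 1 - n).toNat (by
    rw [Int.toNat_of_nonneg (by omega)]; omega)
  have e : b + 1 - ((b + 1 - n).toNat : ℤ) = n := by
    rw [Int.toNat_of_nonneg (by omega)]; omega
  rw [e] at h2 h4 h5
  obtain ⟨E', v, u', _, hqu', _, hviso⟩ := exists_factor n w h4 h5
  refine ⟨E', u', ⟨⟨b, fun i hi => ?_⟩, fun i hi => ?_⟩, hqu'⟩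
  · have := hviso i (by omega)
    exact (h3 i hi).of_iso (asIso (v.f i)).symm
  · have := hviso i hi
    exact P.prop_of_iso (asIso (v.f i)) (h1 i)

end Step

end Groth.Agent.Lib.Helper62
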