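import Groth.Agent.Lib.Helper62.PCohFinite
import Mathlib.Algebra.Homology.DerivedCategory.ShortExact

/-!
Factorisation of `i`-quasi-isomorphisms between pseudo-coherent complexes (SGA 6 I 2.?): the
general step adding one term, and the resulting factorisation lemma.
-/

universe w v u

open CategoryTheory Limits HomologicalComplex

namespace Groth.Agent.Lib.Helper62

section General

variable {C : Type u} [Category.{v} C] [Abelian C]

open CochainComplex

set_option maxHeartbeats 1600000 in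
/-- The general step: given a monomorphism `g : E ⟶ Y` which is a `k`-quasi-isomorphism and a map
`z` from `P₀` to the `(k-1)`-cycles of the cokernel which is epi onto cohomology, enlarge `E` in
degree `k - 1` by `P₀` to get a `(k-1)`-quasi-isomorphism. -/
theorem pull_step (k : ℤ) {E Y : CochainComplex C ℤ} (g : E ⟶ Y) [Mono g]
    (hiso : ∀ j : ℤ, k < j → IsIso (homologyMap g j)) (hepi : Epi (homologyMap g k))
    {P₀ : C} (z : P₀ ⟶ (cokernel g).cycles (k - 1))
    (hz : Epi (z ≫ (cokernel g).homologyπ (k - 1))) :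
    ∃ (E' : CochainComplex C ℤ) (ι : E ⟶ E') (g' : E' ⟶ Y), ι ≫ g' = g ∧
      (∀ j : ℤ, Mono (ι.f j)) ∧ (∀ j : ℤ, j ≠ k - 1 → IsIso (ι.f j)) ∧
      (∀ r : Y.X (k - 1) ⟶ E.X (k - 1), g.f (k - 1) ≫ r = 𝟙 _ →
        Nonempty (E'.X (k - 1) ≅ E.X (k - 1) ⊞ P₀)) ∧
      (∀ j : ℤ, k - 1 < j → IsIso (homologyMap g' j)) ∧ Epi (homologyMap g' (k - 1)) ∧
      (∃ (q : E'.X (k - 1) ⟶ P₀) (w : ι.f (k - 1) ≫ q = 0),
        (ShortComplex.mk (ι.f (k - 1)) q w).ShortExact) := by
  let N : CochainComplex C ℤ := cokernel g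
  have hNex : ∀ j : ℤ, k ≤ j → N.ExactAt j := exactAt_cokernel_of_mono k g hiso hepi
  let S₀ : CochainComplex C ℤ := (single C (ComplexShape.up ℤ) (k - 1)).obj P₀
  let â : S₀ ⟶ N := mkHomFromSingle (c := ComplexShape.up ℤ) (z ≫ N.iCycles (k - 1))
      (fun l _ => by rw [Category.assoc, iCycles_d, comp_zero])
  have hâ : Epi (homologyMap â (k - 1)) := epi_homologyMap_mkHomFromSingle (k - 1) z hz
  have hâepi : ∀ j : ℤ, k - 1 ≤ j → Epi (homologyMap â j) := by
    intro j hj
    rcases hj.eq_or_lt with h | h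
    · subst h; exact hâ
    · exact ((exactAt_iff_isZero_homology _ _).1 (hNex j (by omega))).epi _
  have hâmono : ∀ j : ℤ, k ≤ j → Mono (homologyMap â j) := by
    intro j hj
    exact (isZero_single_obj_homology (c := ComplexShape.up ℤ) (k - 1) P₀ j (by omega)).mono _
  let E' : CochainComplex C ℤ := pullback (cokernel.π g) â
  have hS' : (pullS g â).ShortExact := pullS_shortExact g â
  have hSE : (cokS g).ShortExact := cokS_shortExact g
  let ψ : pullS g â ⟶ cokS g := pullMap g â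
  have hid : ∀ j : ℤ, IsIso (homologyMap (𝟙 E) j) := fun j => by
    rw [homologyMap_id]; infer_instance
  have hfstmono : ∀ j : ℤ, k ≤ j → Mono (homologyMap (pullback.fst (cokernel.π g) â) j) := by
    intro j hj
    have := hid j
    exact mono_homologyMap_τ₂ ψ hS' hSE (j - 1) j (by omega) (hâepi (j - 1) (by omega))
      (by change Mono (homologyMap (𝟙 E) j); infer_instance) (hâmono j hj)
  have hfstepi : ∀ j : ℤ, k - 1 ≤ j → Epi (homologyMap (pullback.fst (cokernel.π g) â) j) := by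
    intro j hj
    have := hid j
    have := hid (j + 1)
    exact epi_homologyMap_τ₂ ψ hS' hSE j (j + 1) rfl
      (by change Epi (homologyMap (𝟙 E) j); infer_instance) (hâepi j hj)
      (by change Mono (homologyMap (𝟙 E) (j + 1)); infer_instance)
  have hdeg : ∀ j : ℤ, ((pullS g â).map (eval C (ComplexShape.up ℤ) j)).ShortExact := fun j =>
    hS'.map_of_exact (eval C (ComplexShape.up ℤ) j)
  have hmono : ∀ j : ℤ, Mono ((pullι g â).f j) := fun j => (hdeg j).mono_f
  have hterm1 : ∀ j : ℤ, j ≠ k - 1 → IsIso ((pullι g â).f j) := by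
    intro j hj
    have h1 : Mono ((pullι g â).f j) := hmono j
    have h2 : Epi ((pullι g â).f j) :=
      (hdeg j).exact.epi_f ((isZero_single_obj_X (ComplexShape.up ℤ) (k - 1) P₀ j hj).eq_of_tgt _ _)
    exact isIso_of_mono_of_epi _
  refine ⟨E', pullι g â, pullback.fst _ _, pullι_fst g â, hmono, hterm1, ?_, ?_, ?_, ?_⟩
  · intro r hr
    have hr' : ((pullS g â).map (eval C (ComplexShape.up ℤ) (k - 1))).f ≫
        ((pullback.fst (cokernel.π g) â).f (k - 1) ≫ r) = 𝟙 _ := by
      change (pullι g â).f (k - 1) ≫ ((pullback.fst (cokernel.π g) â).f (k - 1) ≫ r) = 𝟙 _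
      rw [← Category.assoc, ← comp_f, pullι_fst, hr]
    let spl := ShortComplex.Splitting.ofExactOfRetraction _ (hdeg (k - 1)).exact _ hr'
      (hdeg (k - 1)).epi_g
    let e1 : E'.X (k - 1) ≅ E.X (k - 1) ⊞ S₀.X (k - 1) := spl.isoBinaryBiproduct
    exact ⟨e1 ≪≫ biprod.mapIso (Iso.refl _) (singleObjXSelf (ComplexShape.up ℤ) (k - 1) P₀)⟩
  · intro j hj
    have h1 := hfstmono j (by omega)
    have h2 := hfstepi j (by omega)
    exact isIso_of_mono_of_epi _
  · exact hfstepi (k - 1) le_rfl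
  · have hw : (pullι g â).f (k - 1) ≫ ((pullback.snd (cokernel.π g) â).f (k - 1) ≫
        (singleObjXSelf (ComplexShape.up ℤ) (k - 1) P₀).hom) = 0 := by
      rw [← Category.assoc, ← comp_f, pullι_snd, zero_f, zero_comp]
    refine ⟨(pullback.snd (cokernel.π g) â).f (k - 1) ≫
      (singleObjXSelf (ComplexShape.up ℤ) (k - 1) P₀).hom, hw, ?_⟩
    let e : (pullS g â).map (eval C (ComplexShape.up ℤ) (k - 1)) ≅ ShortComplex.mk _ _ hw :=
      ShortComplex.isoMk (Iso.refl _) (Iso.refl _)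
        (singleObjXSelf (ComplexShape.up ℤ) (k - 1) P₀)
        ((Category.id_comp _).trans (Category.comp_id _).symm) (Category.id_comp _)
    exact ShortComplex.shortExact_of_iso e (hdeg (k - 1))

end General

section PC

variable {C : Type u} [Category.{v} C] [Abelian C] [HasDerivedCategory.{w} C]
  {P : ObjectProperty C} [P.IsClosedUnderIsomorphisms] [P.ContainsZero]

open DerivedCategory CochainComplex

/-- The cohomology objects of `Q.obj K`. -/
noncomputable def homologyQIso (K : CochainComplex C ℤ) (i : ℤ) :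
    (DerivedCategory.homologyFunctor C i).obj (Q.obj K) ≅ K.homology i :=
  (homologyFunctorFactors C i).app K

omit [P.ContainsZero] in
/-- If the complex `N` is `m`-pseudo-coherent in `D(C)` and acyclic in degrees `> m`, then
`H^m(N)` is of finite type. -/
theorem finiteType_homology_of_isNPC (hqs : PCoh.IsQuasiStableUnderKernels P) (m : ℤ)
    (N : CochainComplex C ℤ) (h : IsNPC P m (Q.obj N))
    (hac : ∀ i : ℤ, m < i → IsZero (N.homology i)) : PCoh.IsOfFiniteType P (N.homology m) := by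
  obtain ⟨E₀, hE₀, ⟨e⟩⟩ := h
  have he : ∀ i : ℤ, E₀.homology i ≅ N.homology i := fun i =>
    (homologyQIso E₀ i).symm ≪≫ (DerivedCategory.homologyFunctor C i).mapIso e ≪≫ homologyQIso N i
  have hacE : ∀ i : ℤ, m < i → IsZero (E₀.homology i) := fun i hi => (hac i hi).of_iso (he i)
  obtain ⟨P₀, π, hP₀, hπ⟩ := Groth.Agent.S5602.result P hqs m E₀ hE₀ hacE
  exact ⟨P₀, π ≫ (he m).hom, hP₀, inferInstance⟩

omit [P.IsClosedUnderIsomorphisms] [P.ContainsZero] in
theorem isNPC_Q_of_strict (n : ℤ) (E : CochainComplex C ℤ) (hE : PCoh.IsStrictPC P n E) :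
    IsNPC P n (Q.obj E) := ⟨E, hE, ⟨Iso.refl _⟩⟩

variable (hsum : ∀ X Y : C, P X → P Y → P (X ⨯ Y))
  (hqs : PCoh.IsQuasiStableUnderKernels P) (hql : PCoh.IsQuasiLiftable P)

include hsum hqs hql

set_option maxHeartbeats 800000 in
/-- One step for pseudo-coherent complexes: a `k`-quasi-isomorphism (`k > n`) from a strictly
`n`-pseudo-coherent complex to an `n`-pseudo-coherent complex becomes a `(k-1)`-quasi-isomorphism
after adding an object of `C₀` in degree `k - 1`. -/
theorem pc_step (n k : ℤ) (hnk : n < k) (E F : CochainComplex C ℤ) (hE : PCoh.IsStrictPC P n E)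
    (hF : IsNPC P n (Q.obj F)) (u : E ⟶ F)
    (hiso : ∀ j : ℤ, k < j → IsIso (homologyMap u j)) (hepi : Epi (homologyMap u k)) :
    ∃ (E' : CochainComplex C ℤ) (v : E ⟶ E') (u' : E' ⟶ F), v ≫ u' = u ∧
      PCoh.IsStrictPC P n E' ∧ (∀ j : ℤ, Mono (v.f j)) ∧ (∀ j : ℤ, j ≠ k - 1 → IsIso (v.f j)) ∧
      (∀ j : ℤ, k - 1 < j → IsIso (homologyMap u' j)) ∧ Epi (homologyMap u' (k - 1)) := by
  let g := monofy u
  have qF : QuasiIso (biprod.snd : mappingCone (𝟙 E) ⊞ F ⟶ F) := quasiIso_biprod_snd E F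
  have hisoG : ∀ j : ℤ, k < j → IsIso (homologyMap g j) := fun j hj =>
    isIso_homologyMap_of_fac g biprod.snd u (monofy_snd u) j (hiso j hj)
  have hepiG : Epi (homologyMap g k) :=
    epi_homologyMap_of_fac g biprod.snd u (monofy_snd u) k hepi
  let N : CochainComplex C ℤ := cokernel g
  -- `N` is `n`-pseudo-coherent
  have hSE : (cokS g).ShortExact := cokS_shortExact g
  have hT := triangleOfSES_distinguished hSE
  have hsndi : IsIso (Q.map (biprod.snd : mappingCone (𝟙 E) ⊞ F ⟶ F)) :=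
    (isIso_Q_map_iff_quasiIso C _).2 qF
  have hY : IsNPC P n (Q.obj (mappingCone (𝟙 E) ⊞ F)) :=
    hF.of_iso (asIso (Q.map (biprod.snd : mappingCone (𝟙 E) ⊞ F ⟶ F))).symm
  have hN : IsNPC P n (Q.obj N) :=
    isNPC_obj₃ hsum hqs hql n (triangleOfSES hSE) hT
      ((isNPC_Q_of_strict n E hE).of_le (by omega)) hY
  have hNac : ∀ j : ℤ, k - 1 < j → IsZero (N.homology j) := fun j hj =>
    (exactAt_iff_isZero_homology _ _).1 (exactAt_cokernel_of_mono k g hisoG hepiG j (by omega))
  have hft : PCoh.IsOfFiniteType P (N.homology (k - 1)) :=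
    finiteType_homology_of_isNPC hqs (k - 1) N (hN.of_le (by omega)) hNac
  obtain ⟨P₁, z, hP₁, hz⟩ := exists_lift_cycles hql (k - 1) N hft
  obtain ⟨E', ι, g', hιg', hιmono, hιiso, hsplit, hg'iso, hg'epi, -⟩ :=
    pull_step k g hisoG hepiG z hz
  obtain ⟨e⟩ := hsplit
    ((biprod.fst : mappingCone (𝟙 E) ⊞ F ⟶ mappingCone (𝟙 E)).f (k - 1) ≫
      (mappingCone.snd (𝟙 E)).v (k - 1) (k - 1) (add_zero _)) (by
      rw [← Category.assoc, ← comp_f, monofy_fst, mappingCone.inr_f_snd_v])
  have hqi : ∀ j, IsIso (homologyMap (biprod.snd : mappingCone (𝟙 E) ⊞ F ⟶ F) j) := fun j => by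
    rw [← quasiIsoAt_iff_isIso_homologyMap]; infer_instance
  obtain ⟨⟨b, hb⟩, hEP⟩ := hE
  refine ⟨E', ι, g' ≫ biprod.snd, ?_, ⟨⟨max b (k - 1), fun j hj => ?_⟩, fun j hj => ?_⟩,
    hιmono, hιiso, ?_, ?_⟩
  · rw [← Category.assoc, hιg']
    exact monofy_snd u
  · have := hιiso j (by have := le_max_right b (k - 1); omega)
    exact (hb j (by have := le_max_left b (k - 1); omega)).of_iso (asIso (ι.f j)).symm
  · by_cases hjk : j = k - 1
    · subst hjk
      have h1 : P (E.X (k - 1) ⊞ P₁) :=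
        P.prop_of_iso (biprod.isoProd _ _).symm (hsum _ _ (hEP _ hj) hP₁)
      exact P.prop_of_iso e.symm h1
    · have := hιiso j hjk
      exact P.prop_of_iso (asIso (ι.f j)) (hEP j hj)
  · intro j hj
    have := hg'iso j hj
    have := hqi j
    rw [homologyMap_comp]
    infer_instance
  · have := hqi (k - 1)
    rw [homologyMap_comp]
    infer_instance

/-- Factorisation of an `i`-quasi-isomorphism from a strictly `n`-pseudo-coherent complex to an
`n`-pseudo-coherent complex. -/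
theorem exists_factor_pc (n i : ℤ) (E F : CochainComplex C ℤ) (hE : PCoh.IsStrictPC P n E)
    (hF : IsNPC P n (Q.obj F)) (u : E ⟶ F)
    (hiso : ∀ j : ℤ, i < j → IsIso (homologyMap u j)) (hepi : Epi (homologyMap u i)) :
    ∃ (E' : CochainComplex C ℤ) (v : E ⟶ E') (u' : E' ⟶ F), v ≫ u' = u ∧
      PCoh.IsStrictPC P n E' ∧ QuasiIso u' ∧ (∀ j : ℤ, Mono (v.f j)) ∧
      (∀ j : ℤ, i ≤ j → IsIso (v.f j)) := by
  obtain ⟨d, hd⟩ : ∃ d : ℕ, i ≤ n + d := ⟨(i - n).toNat, by omega⟩
  induction d generalizing i E u with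
  | zero =>
    obtain ⟨E', v, u', hvu, hu', hvm, hvi⟩ := exists_factor i u hiso hepi
    obtain ⟨⟨b, hb⟩, hEP⟩ := hE
    refine ⟨E', v, u', hvu, ⟨⟨max b i, fun j hj => ?_⟩, fun j hj => ?_⟩, hu', hvm, hvi⟩
    · have := hvi j (by have := le_max_right b i; omega)
      exact (hb j (by have := le_max_left b i; omega)).of_iso (asIso (v.f j)).symm
    · have := hvi j (by push_cast at hd; omega)
      exact P.prop_of_iso (asIso (v.f j)) (hEP j hj)
  | succ d ih =>
    by_cases hid : i ≤ n + d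
    · exact ih i E hE u hiso hepi hid
    · obtain ⟨E₁, v₁, u₁, hvu₁, hE₁, hv₁m, hv₁i, hu₁iso, hu₁epi⟩ :=
        pc_step hsum hqs hql n i (by omega) E F hE hF u hiso hepi
      obtain ⟨E', v', u', hvu', hE', hu', hv'm, hv'i⟩ :=
        ih (i - 1) E₁ hE₁ u₁ hu₁iso hu₁epi (by push_cast at hd; omega)
      refine ⟨E', v₁ ≫ v', u', by rw [Category.assoc, hvu', hvu₁], hE', hu', fun j => ?_,
        fun j hj => ?_⟩
      · rw [comp_f]
        have := hv₁m j
        have := hv'm j
        exact mono_comp _ _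
      · rw [comp_f]
        have := hv₁i j (by omega)
        have := hv'i j (by omega)
        infer_instance

open ZeroObject in
/-- A strictly `n`-pseudo-coherent complex acyclic in degrees `≥ m` is quasi-isomorphic to a strictly
`n`-pseudo-coherent complex vanishing in degrees `≥ m`. -/
theorem exists_strictPC_le (n m : ℤ) (E₀ : CochainComplex C ℤ) (hE₀ : PCoh.IsStrictPC P n E₀)
    (hacE : ∀ i : ℤ, m ≤ i → IsZero (E₀.homology i)) :
    ∃ (E' : CochainComplex C ℤ) (u' : E' ⟶ E₀), PCoh.IsStrictPC P n E' ∧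
      (∀ i : ℤ, m ≤ i → IsZero (E'.X i)) ∧ QuasiIso u' := by
  have hZ : PCoh.IsStrictPC P n (0 : CochainComplex C ℤ) :=
    ⟨⟨0, fun i _ => (HomologicalComplex.eval C (ComplexShape.up ℤ) i).map_isZero (isZero_zero _)⟩,
      fun i _ => P.prop_of_isZero
        ((HomologicalComplex.eval C (ComplexShape.up ℤ) i).map_isZero (isZero_zero _))⟩
  have hZh : ∀ i : ℤ, IsZero ((0 : CochainComplex C ℤ).homology i) := fun i =>
    (HomologicalComplex.homologyFunctor C (ComplexShape.up ℤ) i).map_isZero (isZero_zero _)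
  obtain ⟨E', v, u', hvu, hE', hu', hvm, hvi⟩ :=
    exists_factor_pc hsum hqs hql n m 0 E₀ hZ
      (isNPC_Q_of_strict n E₀ hE₀) (0 : (0 : CochainComplex C ℤ) ⟶ E₀)
      (fun j hj => ⟨0, (hZh j).eq_of_src _ _, (hacE j (by omega)).eq_of_src _ _⟩)
      ((hacE m le_rfl).epi _)
  refine ⟨E', u', hE', fun i hi => ?_, hu'⟩
  have := hvi i hi
  exact IsZero.of_iso ((HomologicalComplex.eval C (ComplexShape.up ℤ) i).map_isZero (isZero_zero _))
    (asIso (v.f i)).symm

end PC

end Groth.Agent.Lib.Helper62
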