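import Groth.Agent.Lib.Helper62.PCohDev

/-!
Dévissage along canonical truncations: an object of `D(C)` with bounded above cohomology whose
cohomology objects `H^i`, `i ≥ n`, are `(n - i)`-pseudo-coherent is `n`-pseudo-coherent.
-/

universe w v u

open CategoryTheory Limits HomologicalComplex DerivedCategory Pretriangulated

namespace Groth.Agent.Lib.Helper62

variable {C : Type u} [Category.{v} C] [Abelian C] [HasDerivedCategory.{w} C]
  {P : ObjectProperty C} [P.IsClosedUnderIsomorphisms] [P.ContainsZero]

/-- The isomorphism on `H^i` induced by a morphism which is a quasi-isomorphism in degree `i`. -/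
noncomputable def homologyIsoOfQuasiIsoAt {K L : CochainComplex C ℤ} (φ : K ⟶ L) (i : ℤ)
    (h : QuasiIsoAt φ i) : K.homology i ≅ L.homology i :=
  @asIso _ _ _ _ (homologyMap φ i) ((quasiIsoAt_iff_isIso_homologyMap φ i).1 h)

variable (hsum : ∀ X Y : C, P X → P Y → P (X ⨯ Y))
  (hqs : PCoh.IsQuasiStableUnderKernels P) (hql : PCoh.IsQuasiLiftable P)

include hsum hqs hql

set_option maxHeartbeats 800000 in
theorem isNPC_of_homology (n : ℤ) (d : ℕ) : ∀ (F : DerivedCategory C) (b : ℤ), b < n + d →
    (∀ i : ℤ, b < i → IsZero ((DerivedCategory.homologyFunctor C i).obj F)) →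
    (∀ i : ℤ, n ≤ i → IsNPC P (n - i) ((DerivedCategory.singleFunctor C 0).obj
      ((DerivedCategory.homologyFunctor C i).obj F))) → IsNPC P n F := by
  induction d with
  | zero =>
    intro F b hbn hb _
    exact isNPC_of_acyclic hsum hqs hql n F (fun i hi => hb i (by push_cast at hbn; omega))
  | succ d ih =>
    intro F b hbn hb hfp
    by_cases hbn' : b < n + d
    · exact ih F b hbn' hb hfp
    · have hnb : n ≤ b := by omega
      let K := Q.objPreimage F
      let e : Q.obj K ≅ F := Q.objObjPreimageIso F
      have heK : ∀ i : ℤ, K.homology i ≅ (DerivedCategory.homologyFunctor C i).obj F := fun i =>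
        (homologyQIso K i).symm ≪≫ (DerivedCategory.homologyFunctor C i).mapIso e
      have hSE := K.shortComplexTruncLE_shortExact (b - 1)
      -- the truncation `τ_{≤ b-1}`
      have h₁ : IsNPC P n (Q.obj (K.truncLE (b - 1))) := by
        have hz : ∀ i : ℤ, b - 1 < i →
            IsZero ((DerivedCategory.homologyFunctor C i).obj (Q.obj (K.truncLE (b - 1)))) :=
          fun i hi => isZero_of_isLE _ (b - 1) i hi
        refine ih _ (b - 1) (by push_cast at hbn; omega) hz (fun i hi => ?_)
        by_cases hib : i ≤ b - 1
        · have hq := K.quasiIsoAt_ιTruncLE (b - 1) i hib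
          exact (hfp i hi).of_iso ((DerivedCategory.singleFunctor C 0).mapIso
            ((heK i).symm ≪≫ (homologyIsoOfQuasiIsoAt _ i hq).symm ≪≫
              (homologyQIso (K.truncLE (b - 1)) i).symm))
        · exact isPC_single_of_isZero hsum hqs hql _ (hz i (by omega)) (n - i)
      -- the cokernel, quasi-isomorphic to `τ_{≥ b}`
      have h₃ : IsNPC P n (Q.obj (K.shortComplexTruncLE (b - 1)).X₃) := by
        let X := Q.obj (K.truncGE b)
        have hXK : ∀ i : ℤ, b ≤ i → ((DerivedCategory.homologyFunctor C i).obj X ≅
            (DerivedCategory.homologyFunctor C i).obj F) := fun i hi =>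
          homologyQIso (K.truncGE b) i ≪≫
            (homologyIsoOfQuasiIsoAt _ i (K.quasiIsoAt_πTruncGE b i hi)).symm ≪≫ heK i
        have hXle : X.IsLE b := by
          rw [isLE_iff]
          intro i hi
          exact (hb i hi).of_iso (hXK i (by omega))
        have hXge : X.IsGE b := inferInstance
        obtain ⟨Y, ⟨eY⟩⟩ := exists_iso_singleFunctor_obj_of_isGE_of_isLE X b
        have eYH : Y ≅ (DerivedCategory.homologyFunctor C b).obj F :=
          ((singleFunctorCompHomologyFunctorIso C b).app Y).symm ≪≫
            (DerivedCategory.homologyFunctor C b).mapIso eY.symm ≪≫ hXK b le_rfl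
        have hX : IsNPC P n X :=
          (isNPC_single_of_zero hsum hqs hql n b _ (hfp b hnb)).of_iso
            ((DerivedCategory.singleFunctor C b).mapIso eYH.symm ≪≫ eY.symm)
        exact hX.of_iso
          (asIso (Q.map (K.shortComplexTruncLEX₃ToTruncGE (b - 1) b (by omega)))).symm
      have h₂ := isNPC_obj₂ hsum hqs hql n (triangleOfSES hSE) (triangleOfSES_distinguished hSE)
        h₁ h₃
      exact IsNPC.of_iso h₂ e

end Groth.Agent.Lib.Helper62
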