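import Groth.Agent.Lib.Helper62.PCohObj

/-!
Perfect complexes relative to a liftable class of objects stable under kernels of epimorphisms:
basic lemmas (cycles of exact complexes, truncation).
-/

universe w v u

open CategoryTheory Limits HomologicalComplex DerivedCategory Pretriangulated

namespace Groth.Agent.Lib.Helper62

section Basic

variable {C : Type u} [Category.{v} C] [Abelian C]
  {P : ObjectProperty C} [P.IsClosedUnderIsomorphisms] [P.ContainsZero]

omit [P.IsClosedUnderIsomorphisms] [P.ContainsZero] in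
/-- Liftable implies quasi-liftable. -/
theorem isQuasiLiftable_of_lift (hlift : ∀ (E F : C) (u : E ⟶ F), Epi u → P F → IsSplitEpi u) :
    PCoh.IsQuasiLiftable P := by
  intro E F u hu hF
  have := hlift E F u hu hF
  exact ⟨F, section_ u, hF, by rw [IsSplitEpi.id]; infer_instance⟩

/-- In a complex bounded above with terms in `C₀` in degrees `≥ p` and exact in degrees `> p`, the
cycles in degrees `≥ p` are in `C₀`. -/
theorem prop_cycles_of_exact {ι : Type*} {c : ComplexShape ι}
    (hst : ∀ (E F : C) (u : E ⟶ F), Epi u → P E → P F → P (kernel u))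
    (K : HomologicalComplex C c) (i j : ι) (hij : c.Rel i j) (hex : K.ExactAt j)
    (hi : P (K.X i)) (hj : P (K.cycles j)) : P (K.cycles i) := by
  have hS := cyclesSC_shortExact K i j hij hex
  have := hS.epi_g
  have := hS.mono_f
  have h := hst _ _ (K.toCycles i j) hS.epi_g hi hj
  exact P.prop_of_iso (IsLimit.conePointUniqueUpToIso (limit.isLimit _) hS.exact.fIsKernel) h

theorem prop_cycles (hst : ∀ (E F : C) (u : E ⟶ F), Epi u → P E → P F → P (kernel u))
    (K : CochainComplex C ℤ) (p c : ℤ) (hc : ∀ i : ℤ, c < i → IsZero (K.X i))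
    (hP : ∀ i : ℤ, p ≤ i → P (K.X i)) (hex : ∀ i : ℤ, p < i → K.ExactAt i) :
    ∀ i : ℤ, p ≤ i → P (K.cycles i) := by
  have key : ∀ d : ℕ, p ≤ c + 1 - d → P (K.cycles (c + 1 - d)) := by
    intro d
    induction d with
    | zero =>
      intro _
      exact P.prop_of_isZero (IsZero.of_mono (K.iCycles _) (hc _ (by push_cast; omega)))
    | succ d ih =>
      intro hd
      have hrel : (ComplexShape.up ℤ).Rel (c + 1 - ((d + 1 : ℕ) : ℤ)) (c + 1 - (d : ℤ)) := by
        change c + 1 - ((d + 1 : ℕ) : ℤ) + 1 = c + 1 - (d : ℤ)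
        push_cast; omega
      exact prop_cycles_of_exact hst K _ _ hrel (hex _ (by push_cast at hd; omega)) (hP _ hd)
        (ih (by push_cast at hd; omega))
  intro i hi
  by_cases hic : i ≤ c + 1
  · have := key (c + 1 - i).toNat (by omega)
    have e : c + 1 - ((c + 1 - i).toNat : ℤ) = i := by omega
    rwa [e] at this
  · exact P.prop_of_isZero (IsZero.of_mono (K.iCycles _) (hc _ (by omega)))

/-- Stability under kernels of epimorphisms implies quasi-stability under kernels. -/
theorem isQuasiStable_of_stable (hst : ∀ (E F : C) (u : E ⟶ F), Epi u → P E → P F → P (kernel u)) :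
    PCoh.IsQuasiStableUnderKernels P := by
  intro K hex hb hK
  obtain ⟨N, hN⟩ := hb
  have key : ∀ d : ℕ, d ≤ N → P (K.cycles (N + 1 - d)) := by
    intro d
    induction d with
    | zero =>
      intro _
      exact P.prop_of_isZero (IsZero.of_mono (K.iCycles (N + 1 - 0)) (hN _ (by omega)))
    | succ d ih =>
      intro hd
      have hrel : (ComplexShape.up ℕ).Rel (N + 1 - (d + 1)) (N + 1 - d) := by
        change N + 1 - (d + 1) + 1 = N + 1 - d
        omega
      exact prop_cycles_of_exact hst K _ _ hrel (hex _) (hK _ (by omega)) (ih (by omega))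
  have h1 := key N le_rfl
  have e1 : N + 1 - N = 1 := by omega
  rw [e1] at h1
  have hmono : Mono (K.d 0 1) := by
    have h0 := (K.exactAt_iff' 0 0 1 (by simp) (by simp)).1 (hex 0)
    exact (ShortComplex.exact_iff_mono _ (K.shape 0 0 (by simp))).1 h0
  have hm : Mono (K.toCycles 0 1) := by
    have : Mono (K.toCycles 0 1 ≫ K.iCycles 1) := by rw [toCycles_i]; exact hmono
    exact mono_of_mono _ (K.iCycles 1)
  have he : Epi (K.toCycles 0 1) := epi_toCycles_of_exactAt K 0 1 rfl (hex 1)
  have hi : IsIso (K.toCycles 0 1) := isIso_of_mono_of_epi _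
  exact ⟨K.X 0, 𝟙 _, P.prop_of_iso (asIso (K.toCycles 0 1)).symm h1, inferInstance⟩

end Basic

section Derived

variable {C : Type u} [Category.{v} C] [Abelian C] [HasDerivedCategory.{w} C]
  {P : ObjectProperty C} [P.IsClosedUnderIsomorphisms] [P.ContainsZero]

open CochainComplex

/-- The mapping cone of a quasi-isomorphism is acyclic. -/
theorem acyclic_mappingCone_of_quasiIso {K L : CochainComplex C ℤ} (f : K ⟶ L) (hf : QuasiIso f) :
    (mappingCone f).Acyclic := by
  intro i
  rw [exactAt_iff_isZero_homology]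
  have hT : Q.mapTriangle.obj (mappingCone.triangle f) ∈ distTriang _ :=
    mappingCone_triangle_distinguished f
  have hi : IsIso (Q.map f) := (isIso_Q_map_iff_quasiIso C f).2 hf
  have hz : IsZero (Q.obj (mappingCone f)) :=
    (Triangle.isZero₃_iff_isIso₁ _ hT).2 hi
  exact ((DerivedCategory.homologyFunctor C i).map_isZero hz).of_iso (homologyQIso _ i).symm

/-- If `s' : A' ⟶ E₀` is a quasi-isomorphism of bounded above complexes vanishing in degrees `< lo`,
with `E₀` having terms in `C₀` and `A'` having terms in `C₀` in degrees `> lo`, then the term of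
`A'` in degree `lo` lies in `C₀`. -/
theorem prop_X_of_quasiIso (hsum : ∀ X Y : C, P X → P Y → P (X ⨯ Y))
    (hst : ∀ (E F : C) (u : E ⟶ F), Epi u → P E → P F → P (kernel u))
    (lo c : ℤ) (A' E₀ : CochainComplex C ℤ) (s' : A' ⟶ E₀) (hs' : QuasiIso s')
    (hA0 : ∀ i : ℤ, i < lo → IsZero (A'.X i)) (hAc : ∀ i : ℤ, c < i → IsZero (A'.X i))
    (hAP : ∀ i : ℤ, lo < i → P (A'.X i))
    (hE0 : ∀ i : ℤ, i < lo → IsZero (E₀.X i)) (hEc : ∀ i : ℤ, c < i → IsZero (E₀.X i))
    (hEP : ∀ i : ℤ, P (E₀.X i)) : P (A'.X lo) := by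
  let K := mappingCone s'
  have hKac := acyclic_mappingCone_of_quasiIso s' hs'
  have hKX : ∀ i : ℤ, K.X i ≅ A'.X (i + 1) ⊞ E₀.X i := fun i =>
    homotopyCofiber.XIsoBiprod s' i (i + 1) rfl
  have hKP : ∀ i : ℤ, lo ≤ i → P (K.X i) := fun i hi =>
    P.prop_of_iso (hKX i).symm
      (P.prop_of_iso (biprod.isoProd _ _).symm (hsum _ _ (hAP _ (by omega)) (hEP i)))
  have hKc : ∀ i : ℤ, c < i → IsZero (K.X i) := fun i hi =>
    ((biprod_isZero_iff _ _).2 ⟨hAc _ (by omega), hEc i hi⟩).of_iso (hKX i)
  have hZ : P (K.cycles lo) := prop_cycles hst K lo c hKc hKP (fun i _ => hKac i) lo le_rfl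
  have hK0 : IsZero (K.X (lo - 2)) :=
    ((biprod_isZero_iff _ _).2 ⟨hA0 _ (by omega), hE0 _ (by omega)⟩).of_iso (hKX _)
  have hmono : Mono (K.d (lo - 1) lo) := by
    have h0 := (K.exactAt_iff' (lo - 2) (lo - 1) lo (by simp; omega) (by simp)).1 (hKac (lo - 1))
    exact (ShortComplex.exact_iff_mono _ (hK0.eq_of_src _ _)).1 h0
  have hm : Mono (K.toCycles (lo - 1) lo) := by
    have : Mono (K.toCycles (lo - 1) lo ≫ K.iCycles lo) := by rw [toCycles_i]; exact hmono
    exact mono_of_mono _ (K.iCycles lo)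
  have he : Epi (K.toCycles (lo - 1) lo) :=
    epi_toCycles_of_exactAt K (lo - 1) lo (by simp) (hKac lo)
  have hi : IsIso (K.toCycles (lo - 1) lo) := isIso_of_mono_of_epi _
  have h1 : P (K.X (lo - 1)) := P.prop_of_iso (asIso (K.toCycles (lo - 1) lo)).symm hZ
  have e1 : lo - 1 + 1 = lo := by omega
  have h2 : K.X (lo - 1) ≅ A'.X lo :=
    hKX (lo - 1) ≪≫ (isoBiprodZero (hE0 _ (by omega))).symm ≪≫ eqToIso (by rw [e1])
  exact P.prop_of_iso h2 h1

end Derived

end Groth.Agent.Lib.Helper62
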