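import Groth.Agent.Lib.Helper62.PerfTrunc

/-!
Perfect complexes: lifting morphisms of `D(C)` out of strictly perfect complexes to chain maps
between strictly perfect complexes; cones; the bottom term of a complex of perfect amplitude.
-/

universe w v u

open CategoryTheory Limits HomologicalComplex DerivedCategory Pretriangulated

namespace Groth.Agent.Lib.Helper62

variable {C : Type u} [Category.{v} C] [Abelian C] [HasDerivedCategory.{w} C]
  {P : ObjectProperty C} [P.IsClosedUnderIsomorphisms] [P.ContainsZero]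
  (hsum : ∀ X Y : C, P X → P Y → P (X ⨯ Y))
  (hlift : ∀ (E F : C) (u : E ⟶ F), Epi u → P F → IsSplitEpi u)
  (hst : ∀ (E F : C) (u : E ⟶ F), Epi u → P E → P F → P (kernel u))

omit [HasDerivedCategory.{w} C] [P.IsClosedUnderIsomorphisms] [P.ContainsZero] in
/-- The isomorphism on `H^i` induced by a morphism which is a quasi-isomorphism in degree `i`. -/
noncomputable def homologyIsoOfQuasiIsoAt' {K L : CochainComplex C ℤ} (φ : K ⟶ L) (i : ℤ)
    (h : QuasiIsoAt φ i) : K.homology i ≅ L.homology i :=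
  @asIso _ _ _ _ (homologyMap φ i) ((quasiIsoAt_iff_isIso_homologyMap φ i).1 h)

include hsum hlift hst

set_option maxHeartbeats 1600000 in
/-- A morphism `α : E₀ ⟶ F₀` of `D(C)` with `E₀` strictly perfect, both complexes vanishing in
degrees `< lo`, is represented by a chain map `f' : A' ⟶ F₀` with `A'` strictly perfect, vanishing
in degrees `< lo`, and quasi-isomorphic to `E₀`. -/
theorem exists_perfect_lift (lo cE : ℤ) (E₀ F₀ : CochainComplex C ℤ)
    (hEP : ∀ i : ℤ, P (E₀.X i)) (hE0 : ∀ i : ℤ, i < lo → IsZero (E₀.X i))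
    (hEc : ∀ i : ℤ, cE < i → IsZero (E₀.X i)) (hF0 : ∀ i : ℤ, i < lo → IsZero (F₀.X i))
    (α : Q.obj E₀ ⟶ Q.obj F₀) :
    ∃ (A' : CochainComplex C ℤ) (s' : A' ⟶ E₀) (f' : A' ⟶ F₀), (∀ i : ℤ, P (A'.X i)) ∧
      (∀ i : ℤ, i < lo → IsZero (A'.X i)) ∧ (∃ c : ℤ, ∀ i : ℤ, c < i → IsZero (A'.X i)) ∧
      QuasiIso s' ∧ Q.map s' ≫ α = Q.map f' := by
  have hql := isQuasiLiftable_of_lift hlift
  have hqs := isQuasiStable_of_stable hst
  have hE : PCoh.IsStrictPC P lo E₀ := ⟨⟨cE, hEc⟩, fun i _ => hEP i⟩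
  obtain ⟨A, s, f, ⟨⟨cA, hAc⟩, hAP⟩, hs, hsf⟩ := exists_lift_hom hsum hqs hql lo E₀ F₀ hE α
  have hAGE : A.IsGE lo := by
    rw [CochainComplex.isGE_iff]
    intro i hi
    rw [exactAt_iff_isZero_homology]
    have h1 : IsZero (E₀.homology i) :=
      (exactAt_iff_isZero_homology _ _).1 (ExactAt.of_isZero (hE0 i hi))
    have h2 : QuasiIsoAt s i := inferInstance
    exact h1.of_iso (homologyIsoOfQuasiIsoAt' s i h2)
  have hEGE : E₀.IsStrictlyGE lo := (E₀.isStrictlyGE_iff lo).2 (fun i hi => hE0 i hi)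
  have hFGE : F₀.IsStrictlyGE lo := (F₀.isStrictlyGE_iff lo).2 (fun i hi => hF0 i hi)
  let A' := A.truncGE lo
  let π : A ⟶ A' := A.πTruncGE lo
  have hπ : QuasiIso π := inferInstance
  let s' : A' ⟶ E₀ := CochainComplex.truncGEMap s lo ≫ inv (E₀.πTruncGE lo)
  let f' : A' ⟶ F₀ := CochainComplex.truncGEMap f lo ≫ inv (F₀.πTruncGE lo)
  have hπs : π ≫ s' = s := by
    change A.πTruncGE lo ≫ CochainComplex.truncGEMap s lo ≫ inv (E₀.πTruncGE lo) = s
    rw [← Category.assoc, CochainComplex.πTruncGE_naturality, Category.assoc, IsIso.hom_inv_id,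
      Category.comp_id]
  have hπf : π ≫ f' = f := by
    change A.πTruncGE lo ≫ CochainComplex.truncGEMap f lo ≫ inv (F₀.πTruncGE lo) = f
    rw [← Category.assoc, CochainComplex.πTruncGE_naturality, Category.assoc, IsIso.hom_inv_id,
      Category.comp_id]
  have hs' : QuasiIso s' := by
    have : QuasiIso (π ≫ s') := by rw [hπs]; exact hs
    exact quasiIso_of_comp_left π s'
  have hπi : IsIso (Q.map π) := (isIso_Q_map_iff_quasiIso C π).2 hπ
  have hsf' : Q.map s' ≫ α = Q.map f' := by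
    rw [← cancel_epi (Q.map π), ← Category.assoc, ← Functor.map_comp, ← Functor.map_comp, hπs, hπf,
      hsf]
  have hA'0 : ∀ i : ℤ, i < lo → IsZero (A'.X i) := fun i hi => A'.isZero_of_isStrictlyGE lo i hi
  let c : ℤ := max (max cA cE) lo
  have hc1 : cA ≤ c := le_trans (le_max_left _ _) (le_max_left _ _)
  have hc2 : cE ≤ c := le_trans (le_max_right _ _) (le_max_left _ _)
  have hc3 : lo ≤ c := le_max_right _ _
  have hA'c : ∀ i : ℤ, c < i → IsZero (A'.X i) := fun i hi =>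
    (hAc i (by omega)).of_iso (A.truncGEXIso lo i (by omega))
  have hA'P : ∀ i : ℤ, lo < i → P (A'.X i) := fun i hi =>
    P.prop_of_iso (A.truncGEXIso lo i hi).symm (hAP i (by omega))
  have hlo : P (A'.X lo) :=
    prop_X_of_quasiIso hsum hst lo c A' E₀ s' hs' hA'0 hA'c hA'P hE0
      (fun i hi => hEc i (by omega)) hEP
  refine ⟨A', s', f', fun i => ?_, hA'0, ⟨c, hA'c⟩, hs', hsf'⟩
  rcases lt_trichotomy i lo with h | h | h
  · exact P.prop_of_isZero (hA'0 i h)
  · subst h; exact hlo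
  · exact hA'P i h

/-- Strictly perfect complexes: bounded with all terms in `C₀`. -/
def IsPerfectD (F : DerivedCategory C) : Prop :=
  ∃ (E : CochainComplex C ℤ) (a b : ℤ), (∀ i : ℤ, i < a ∨ b < i → IsZero (E.X i)) ∧
    (∀ i : ℤ, P (E.X i)) ∧ Nonempty (Q.obj E ≅ F)

set_option maxHeartbeats 1600000 in
/-- The cone of a morphism between perfect objects is perfect. -/
theorem isPerfectD_obj₃ (T : Triangle (DerivedCategory C)) (hT : T ∈ distTriang _)
    (h₁ : IsPerfectD (P := P) T.obj₁) (h₂ : IsPerfectD (P := P) T.obj₂) :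
    IsPerfectD (P := P) T.obj₃ := by
  obtain ⟨E₀, aE, bE, hEz, hEP, ⟨eE⟩⟩ := h₁
  obtain ⟨F₀, aF, bF, hFz, hFP, ⟨eF⟩⟩ := h₂
  let lo : ℤ := min aE aF
  have hlo1 : lo ≤ aE := min_le_left _ _
  have hlo2 : lo ≤ aF := min_le_right _ _
  obtain ⟨A', s', f', hA'P, hA'0, ⟨c, hA'c⟩, hs', hsf'⟩ :=
    exists_perfect_lift hsum hlift hst lo bE E₀ F₀ hEP (fun i hi => hEz i (Or.inl (by omega)))
      (fun i hi => hEz i (Or.inr hi)) (fun i hi => hFz i (Or.inl (by omega)))
      (eE.hom ≫ T.mor₁ ≫ eF.inv)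
  have hs'i : IsIso (Q.map s') := (isIso_Q_map_iff_quasiIso C s').2 hs'
  let T' := Q.mapTriangle.obj (CochainComplex.mappingCone.triangle f')
  have hT' : T' ∈ distTriang _ := mappingCone_triangle_distinguished f'
  let e := isoTriangleOfIso₁₂ T' T hT' hT (@asIso _ _ _ _ (Q.map s') hs'i ≪≫ eE) eF (by
    change Q.map f' ≫ eF.hom = (Q.map s' ≫ eE.hom) ≫ T.mor₁
    rw [← hsf']
    simp)
  have hKX : ∀ i : ℤ, (CochainComplex.mappingCone f').X i ≅ A'.X (i + 1) ⊞ F₀.X i := fun i =>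
    homotopyCofiber.XIsoBiprod f' i (i + 1) rfl
  refine ⟨CochainComplex.mappingCone f', lo - 1, max c bF, fun i hi => ?_, fun i => ?_,
    ⟨Triangle.π₃.mapIso e⟩⟩
  · refine ((biprod_isZero_iff _ _).2 ⟨?_, ?_⟩).of_iso (hKX i)
    · rcases hi with hi | hi
      · exact hA'0 _ (by omega)
      · exact hA'c _ (by have := le_max_left c bF; omega)
    · rcases hi with hi | hi
      · exact hFz i (Or.inl (by omega))
      · exact hFz i (Or.inr (by have := le_max_right c bF; omega))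
  · exact P.prop_of_iso (hKX i).symm
      (P.prop_of_iso (biprod.isoProd _ _).symm (hsum _ _ (hA'P _) (hFP i)))

set_option maxHeartbeats 1600000 in
/-- SGA 6 I: if `F` is a complex in `[a, b]` of perfect amplitude in `[a, b]` whose terms in degrees
`> a` are in `C₀`, then so is `F^a`. -/
theorem prop_X_bottom (a b : ℤ) (F : CochainComplex C ℤ)
    (hvan : ∀ i : ℤ, i < a ∨ b < i → IsZero (F.X i)) (hP : ∀ i : ℤ, a < i → P (F.X i))
    (E : CochainComplex C ℤ) (hEP : ∀ i : ℤ, P (E.X i))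
    (hEz : ∀ i : ℤ, i < a ∨ b < i → IsZero (E.X i)) (β : Q.obj E ≅ Q.obj F) : P (F.X a) := by
  obtain ⟨A', s', f', hA'P, hA'0, ⟨c₀, hA'c₀⟩, hs', hsf'⟩ :=
    exists_perfect_lift hsum hlift hst a b E F hEP (fun i hi => hEz i (Or.inl hi))
      (fun i hi => hEz i (Or.inr hi)) (fun i hi => hvan i (Or.inl hi)) β.hom
  have hs'i : IsIso (Q.map s') := (isIso_Q_map_iff_quasiIso C s').2 hs'
  have hf'i : IsIso (Q.map f') := by rw [← hsf']; infer_instance
  have hf' : QuasiIso f' := (isIso_Q_map_iff_quasiIso C f').1 hf'i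
  let K := CochainComplex.mappingCone f'
  have hKac := acyclic_mappingCone_of_quasiIso f' hf'
  have hKX : ∀ i : ℤ, K.X i ≅ A'.X (i + 1) ⊞ F.X i := fun i =>
    homotopyCofiber.XIsoBiprod f' i (i + 1) rfl
  let c : ℤ := max c₀ b
  have hc1 : c₀ ≤ c := le_max_left _ _
  have hc2 : b ≤ c := le_max_right _ _
  have hKc : ∀ i : ℤ, c < i → IsZero (K.X i) := fun i hi =>
    ((biprod_isZero_iff _ _).2 ⟨hA'c₀ _ (by omega), hvan i (Or.inr (by omega))⟩).of_iso (hKX i)
  have hKP : ∀ i : ℤ, a + 1 ≤ i → P (K.X i) := fun i hi =>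
    P.prop_of_iso (hKX i).symm
      (P.prop_of_iso (biprod.isoProd _ _).symm (hsum _ _ (hA'P _) (hP i (by omega))))
  have hZ1 : P (K.cycles (a + 1)) :=
    prop_cycles hst K (a + 1) c hKc hKP (fun i _ => hKac i) (a + 1) le_rfl
  -- `Z^a(K) ≅ K^{a-1} ≅ A'^a`
  have hK0 : IsZero (K.X (a - 2)) :=
    ((biprod_isZero_iff _ _).2 ⟨hA'0 _ (by omega), hvan _ (Or.inl (by omega))⟩).of_iso (hKX _)
  have hmono : Mono (K.d (a - 1) a) := by
    have h0 := (K.exactAt_iff' (a - 2) (a - 1) a (by simp; omega) (by simp)).1 (hKac (a - 1))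
    exact (ShortComplex.exact_iff_mono _ (hK0.eq_of_src _ _)).1 h0
  have hm : Mono (K.toCycles (a - 1) a) := by
    have : Mono (K.toCycles (a - 1) a ≫ K.iCycles a) := by rw [toCycles_i]; exact hmono
    exact mono_of_mono _ (K.iCycles a)
  have he : Epi (K.toCycles (a - 1) a) :=
    epi_toCycles_of_exactAt K (a - 1) a (by simp) (hKac a)
  have hi : IsIso (K.toCycles (a - 1) a) := isIso_of_mono_of_epi _
  have e1 : a - 1 + 1 = a := by omega
  have hKa1 : P (K.X (a - 1)) :=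
    P.prop_of_iso ((hKX (a - 1) ≪≫ (isoBiprodZero (hvan _ (Or.inl (by omega)))).symm ≪≫
      eqToIso (by rw [e1])).symm) (hA'P a)
  have hZ0 : P (K.cycles a) := P.prop_of_iso (asIso (K.toCycles (a - 1) a)) hKa1
  -- `K^a ≅ Z^a ⊞ Z^{a+1}`
  have hS := cyclesSC_shortExact K a (a + 1) (by simp) (hKac (a + 1))
  have hsplit := hlift _ _ (K.toCycles a (a + 1)) hS.epi_g hZ1
  let spl := ShortComplex.Splitting.ofExactOfSection _ hS.exact (section_ (K.toCycles a (a + 1)))
    (IsSplitEpi.id (K.toCycles a (a + 1))) hS.mono_f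
  have hKa : P (K.X a) :=
    P.prop_of_iso spl.isoBinaryBiproduct.symm
      (P.prop_of_iso (biprod.isoProd _ _).symm (hsum _ _ hZ0 hZ1))
  have hsumP : P (A'.X (a + 1) ⊞ F.X a) := P.prop_of_iso (hKX a) hKa
  have hker := hst _ _ (biprod.fst : A'.X (a + 1) ⊞ F.X a ⟶ A'.X (a + 1)) inferInstance hsumP
    (hA'P _)
  exact P.prop_of_iso (IsLimit.conePointUniqueUpToIso (limit.isLimit _)
    (biprod.isKernelFstKernelFork (A'.X (a + 1)) (F.X a))) hker

end Groth.Agent.Lib.Helper62
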