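import Groth.Agent.Lib.Helper62.PerfLift
import Groth.Agent.Lib.Helper62.PCohAll

/-!
Perfect amplitude and direct sums (SGA 6 I).
-/

universe w v u

open CategoryTheory Limits HomologicalComplex DerivedCategory Pretriangulated

namespace Groth.Agent.Lib.Helper62

variable {C : Type u} [Category.{v} C] [Abelian C] [HasDerivedCategory.{w} C]
  {P : ObjectProperty C} [P.IsClosedUnderIsomorphisms] [P.ContainsZero]

/-- `F` has perfect amplitude in `[a, b]`. -/
def HasPerfAmp (P : ObjectProperty C) (a b : ℤ) (F : DerivedCategory C) : Prop :=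
  ∃ E : CochainComplex C ℤ, (∀ i : ℤ, P (E.X i)) ∧ (∀ i : ℤ, i < a ∨ b < i → IsZero (E.X i)) ∧
    Nonempty (Q.obj E ≅ F)

/-- The image in `D(C)` of a direct sum of complexes. -/
noncomputable def qBiprodIso (K L : CochainComplex C ℤ) : Q.obj (K ⊞ L) ≅ Q.obj K ⊞ Q.obj L :=
  have : PreservesBinaryBiproducts (Q : CochainComplex C ℤ ⥤ DerivedCategory C) :=
    preservesBinaryBiproducts_of_preservesBiproducts _
  Q.mapBiprod K L

variable (hsum : ∀ X Y : C, P X → P Y → P (X ⨯ Y))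

include hsum in
omit [P.ContainsZero] in
theorem hasPerfAmp_biprod (a b : ℤ) (F' F'' : DerivedCategory C)
    (h' : HasPerfAmp P a b F') (h'' : HasPerfAmp P a b F'') : HasPerfAmp P a b (F' ⊞ F'') := by
  obtain ⟨E', hP', hz', ⟨e'⟩⟩ := h'
  obtain ⟨E'', hP'', hz'', ⟨e''⟩⟩ := h''
  refine ⟨E' ⊞ E'', fun i => ?_, fun i hi => ?_, ⟨qBiprodIso E' E'' ≪≫ biprod.mapIso e' e''⟩⟩
  · exact P.prop_of_iso (biprodXIso E' E'' i).symm
      (P.prop_of_iso (biprod.isoProd _ _).symm (hsum _ _ (hP' i) (hP'' i)))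
  · exact ((biprod_isZero_iff _ _).2 ⟨hz' i hi, hz'' i hi⟩).of_iso (biprodXIso E' E'' i)

variable (hlift : ∀ (E F : C) (u : E ⟶ F), Epi u → P F → IsSplitEpi u)
  (hst : ∀ (E F : C) (u : E ⟶ F), Epi u → P E → P F → P (kernel u))

include hsum hlift hst

set_option maxHeartbeats 1600000 in
/-- A summand of an object of perfect amplitude in `[a, b]` is represented by a complex in `[a, b]`
with terms in `C₀` in degrees `> a`. -/
theorem exists_almost_perfect (a b : ℤ) (hab : a ≤ b) (F' F'' : DerivedCategory C)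
    (h : HasPerfAmp P a b (F' ⊞ F'')) :
    ∃ G : CochainComplex C ℤ, (∀ i : ℤ, a < i → P (G.X i)) ∧
      (∀ i : ℤ, i < a ∨ b < i → IsZero (G.X i)) ∧ Nonempty (Q.obj G ≅ F') := by
  have hql := isQuasiLiftable_of_lift hlift
  have hqs := isQuasiStable_of_stable hst
  obtain ⟨E, hEP, hEz, ⟨e⟩⟩ := h
  have hpc : PCoh.IsPC P (F' ⊞ F'') := fun n =>
    ⟨E, ⟨⟨b, fun i hi => hEz i (Or.inr hi)⟩, fun i _ => hEP i⟩, ⟨e⟩⟩
  have hpc' : PCoh.IsPC P F' := fun n => (isNPC_of_biprod hsum hqs hql n F' F'' (hpc n)).1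
  have hHz : ∀ i : ℤ, i < a ∨ b < i →
      IsZero ((DerivedCategory.homologyFunctor C i).obj (F' ⊞ F'')) := by
    intro i hi
    have h1 : IsZero (E.homology i) :=
      (exactAt_iff_isZero_homology _ _).1 (ExactAt.of_isZero (hEz i hi))
    exact h1.of_iso ((DerivedCategory.homologyFunctor C i).mapIso e.symm ≪≫ homologyQIso E i)
  have hHz' : ∀ i : ℤ, i < a ∨ b < i →
      IsZero ((DerivedCategory.homologyFunctor C i).obj F') := by
    intro i hi
    have h1 : 𝟙 ((DerivedCategory.homologyFunctor C i).obj F') =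
        (DerivedCategory.homologyFunctor C i).map (biprod.inl : F' ⟶ F' ⊞ F'') ≫
          (DerivedCategory.homologyFunctor C i).map biprod.fst := by
      rw [← CategoryTheory.Functor.map_comp, biprod.inl_fst, CategoryTheory.Functor.map_id]
    rw [IsZero.iff_id_eq_zero, h1,
      (hHz i hi).eq_of_tgt ((DerivedCategory.homologyFunctor C i).map biprod.inl) 0, zero_comp]
  let F₀ := Q.objPreimage F'
  let eF : Q.obj F₀ ≅ F' := Q.objObjPreimageIso F'
  have heF : ∀ i : ℤ, F₀.homology i ≅ (DerivedCategory.homologyFunctor C i).obj F' := fun i =>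
    (homologyQIso F₀ i).symm ≪≫ (DerivedCategory.homologyFunctor C i).mapIso eF
  obtain ⟨E₁, u₁, hE₁, hE₁z, hu₁⟩ := exists_strictPCAll_le hsum hqs hql (b + 1) F₀
    (isPC_of_iso eF.symm hpc') (fun i hi => (hHz' i (Or.inr (by omega))).of_iso (heF i))
  have hu₁i : IsIso (Q.map u₁) := (isIso_Q_map_iff_quasiIso C u₁).2 hu₁
  have hGE : E₁.IsGE a := by
    rw [CochainComplex.isGE_iff]
    intro i hi
    rw [exactAt_iff_isZero_homology]
    have h2 : QuasiIsoAt u₁ i := inferInstance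
    exact ((hHz' i (Or.inl hi)).of_iso (heF i)).of_iso (homologyIsoOfQuasiIsoAt' u₁ i h2)
  have hπ : QuasiIso (E₁.πTruncGE a) := inferInstance
  have hπi : IsIso (Q.map (E₁.πTruncGE a)) := (isIso_Q_map_iff_quasiIso C _).2 hπ
  refine ⟨E₁.truncGE a, fun i hi => ?_, fun i hi => ?_,
    ⟨(asIso (Q.map (E₁.πTruncGE a))).symm ≪≫ asIso (Q.map u₁) ≪≫ eF⟩⟩
  · exact P.prop_of_iso (E₁.truncGEXIso a i hi).symm (hE₁.2 i)
  · rcases hi with hi | hi
    · exact (E₁.truncGE a).isZero_of_isStrictlyGE a i hi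
    · by_cases hia : a < i
      · exact (hE₁z i (by omega)).of_iso (E₁.truncGEXIso a i hia)
      · exact (E₁.truncGE a).isZero_of_isStrictlyGE a i (by omega)

set_option maxHeartbeats 1600000 in
/-- Summands of objects of perfect amplitude in `[a, b]`, when `C₀` is stable under direct
factors. -/
theorem hasPerfAmp_of_biprod
    (hdf : ∀ (E' E'' : C) [HasBinaryBiproduct E' E''], P (E' ⊞ E'') → P E' ∧ P E'')
    (a b : ℤ) (hab : a ≤ b) (F' F'' : DerivedCategory C) (h : HasPerfAmp P a b (F' ⊞ F'')) :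
    HasPerfAmp P a b F' ∧ HasPerfAmp P a b F'' := by
  obtain ⟨G₁, hG₁P, hG₁z, ⟨e₁⟩⟩ := exists_almost_perfect hsum hlift hst a b hab F' F'' h
  have h' : HasPerfAmp P a b (F'' ⊞ F') := by
    obtain ⟨E, hEP, hEz, ⟨e⟩⟩ := h
    exact ⟨E, hEP, hEz, ⟨e ≪≫ biprod.braiding F' F''⟩⟩
  obtain ⟨G₂, hG₂P, hG₂z, ⟨e₂⟩⟩ := exists_almost_perfect hsum hlift hst a b hab F'' F' h'
  obtain ⟨E, hEP, hEz, ⟨e⟩⟩ := h
  have hG : P ((G₁ ⊞ G₂).X a) :=
    prop_X_bottom hsum hlift hst a b (G₁ ⊞ G₂)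
      (fun i hi => ((biprod_isZero_iff _ _).2 ⟨hG₁z i hi, hG₂z i hi⟩).of_iso (biprodXIso G₁ G₂ i))
      (fun i hi => P.prop_of_iso (biprodXIso G₁ G₂ i).symm
        (P.prop_of_iso (biprod.isoProd _ _).symm (hsum _ _ (hG₁P i hi) (hG₂P i hi))))
      E hEP hEz (e ≪≫ (biprod.mapIso e₁ e₂).symm ≪≫ (qBiprodIso G₁ G₂).symm)
  obtain ⟨hG₁a, hG₂a⟩ := hdf _ _ (P.prop_of_iso (biprodXIso G₁ G₂ a) hG)
  refine ⟨⟨G₁, fun i => ?_, hG₁z, ⟨e₁⟩⟩, ⟨G₂, fun i => ?_, hG₂z, ⟨e₂⟩⟩⟩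
  · rcases lt_trichotomy i a with h | h | h
    · exact P.prop_of_isZero (hG₁z i (Or.inl h))
    · subst h; exact hG₁a
    · exact hG₁P i h
  · rcases lt_trichotomy i a with h | h | h
    · exact P.prop_of_isZero (hG₂z i (Or.inl h))
    · subst h; exact hG₂a
    · exact hG₂P i h

end Groth.Agent.Lib.Helper62
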