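import Groth.Agent.Lib.Helper62.PerfBasic

/-!
Truncation of strictly perfect complexes with cohomology bounded above (SGA 6 I).
-/

universe w v u

open CategoryTheory Limits HomologicalComplex DerivedCategory Pretriangulated

namespace Groth.Agent.Lib.Helper62

variable {C : Type u} [Category.{v} C] [Abelian C]
  {P : ObjectProperty C} [P.IsClosedUnderIsomorphisms] [P.ContainsZero]

/-- A strictly perfect complex in `[a, c]` acyclic in degrees `> b` (with `a ≤ b`) is quasi-isomorphic
to a strictly perfect complex in `[a, b]`. -/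
theorem exists_perfect_truncLE
    (hst : ∀ (E F : C) (u : E ⟶ F), Epi u → P E → P F → P (kernel u))
    (a b c : ℤ) (hab : a ≤ b) (F : CochainComplex C ℤ)
    (hP : ∀ i : ℤ, P (F.X i)) (hvan : ∀ i : ℤ, i < a ∨ c < i → IsZero (F.X i))
    (hcoh : ∀ i : ℤ, b < i → IsZero (F.homology i)) :
    ∃ (F' : CochainComplex C ℤ) (φ : F' ⟶ F), (∀ i : ℤ, P (F'.X i)) ∧
      (∀ i : ℤ, i < a ∨ b < i → IsZero (F'.X i)) ∧ QuasiIso φ := by
  have hex : ∀ i : ℤ, b < i → F.ExactAt i := fun i hi =>
    (exactAt_iff_isZero_homology _ _).2 (hcoh i hi)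
  have hLE : F.IsLE b := (F.isLE_iff b).2 hex
  have hZ : P (F.cycles b) :=
    prop_cycles hst F b c (fun i hi => hvan i (Or.inr hi)) (fun i _ => hP i) hex b le_rfl
  refine ⟨F.truncLE b, F.ιTruncLE b, fun i => ?_, fun i hi => ?_, inferInstance⟩
  · rcases lt_trichotomy i b with h | h | h
    · exact P.prop_of_iso (F.truncLEXIso b i h).symm (hP i)
    · subst h
      exact P.prop_of_iso (F.truncLEXIsoCycles i).symm hZ
    · exact P.prop_of_isZero ((F.truncLE b).isZero_of_isStrictlyLE b i h)
  · rcases hi with hi | hi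
    · exact (hvan i (Or.inl hi)).of_iso (F.truncLEXIso b i (by omega))
    · exact (F.truncLE b).isZero_of_isStrictlyLE b i hi

end Groth.Agent.Lib.Helper62
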