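import Mathlib.AlgebraicGeometry.Morphisms.Finite
import Mathlib.AlgebraicGeometry.Limits

/-!
Finite coproducts of finite morphisms: `Sigma.desc f` is finite when the index type is finite and
every `f i` is finite.
-/

namespace Groth.Agent.Lib.Helper62

open CategoryTheory CategoryTheory.Limits AlgebraicGeometry

universe u

/-- A general induction principle: a morphism property on a category with finite coproducts that
respects isomorphisms, holds for all maps out of the empty coproduct and is stable under binary
`coprod.desc` is stable under finite `Sigma.desc`. -/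
theorem sigmaDesc_of_coprodDesc {C : Type*} [Category C] [HasFiniteCoproducts C]
    (P : MorphismProperty C) [P.RespectsIso]
    (h0 : ∀ {X : C} (Y : PEmpty.{u + 1} → C) (f : ∀ i, Y i ⟶ X), P (Limits.Sigma.desc f))
    (h2 : ∀ {U V X : C} (f : U ⟶ X) (g : V ⟶ X), P f → P g → P (coprod.desc f g))
    (ι : Type u) [Finite ι] {X : C} (Y : ι → C) (f : ∀ i, Y i ⟶ X) (hf : ∀ i, P (f i)) :
    P (Limits.Sigma.desc f) := by
  revert X Y f hf
  refine Finite.induction_empty_option
    (P := fun ι : Type u => ∀ [Finite ι] {X : C} (Y : ι → C) (f : ∀ i, Y i ⟶ X),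
      (∀ i, P (f i)) → P (Limits.Sigma.desc f)) ?_ ?_ ?_ ι
  · intro α β e h _ X Y f hf
    have : Finite α := Finite.of_equiv _ e.symm
    have := h (Y ∘ e) (fun a => f (e a)) (fun a => hf _)
    have heq : (Limits.Sigma.reindex e Y).hom ≫ Limits.Sigma.desc f =
        Limits.Sigma.desc (f := Y ∘ e) (fun a => f (e a)) := by
      ext a
      simp [Limits.Sigma.ι_reindex_hom_assoc]
    rw [← heq] at this
    exact (P.cancel_left_of_respectsIso _ _).mp this
  · intro _ X Y f _
    exact h0 Y f
  · intro α _ h _ X Y f hf
    have h1 := h (fun a => Y (some a)) (fun a => f (some a)) (fun a => hf _)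
    have h3 := h2 _ _ h1 (hf none)
    let e : (∐ fun a => Y (some a)) ⨿ Y none ⟶ ∐ Y :=
      coprod.desc (Limits.Sigma.desc fun a => Limits.Sigma.ι Y (some a)) (Limits.Sigma.ι Y none)
    let e' : ∐ Y ⟶ (∐ fun a => Y (some a)) ⨿ Y none :=
      Limits.Sigma.desc (fun o => match o with
        | some a => Limits.Sigma.ι (fun a => Y (some a)) a ≫ coprod.inl
        | none => coprod.inr)
    have he1 : e ≫ e' = 𝟙 _ := by
      ext a
      · simp [e, e', coprod.inl_desc]
      · simp [e, e', coprod.inr_desc]
    have he2 : e' ≫ e = 𝟙 _ := by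
      ext o
      cases o with
      | none => simp [e, e', coprod.inr_desc]
      | some a => simp [e, e', coprod.inl_desc]
    have : IsIso e := ⟨e', he1, he2⟩
    have heq : e ≫ Limits.Sigma.desc f =
        coprod.desc (Limits.Sigma.desc fun a => f (some a)) (f none) := by
      ext a
      · simp [e, coprod.inl_desc]
      · simp [e, coprod.inr_desc]
    rw [← heq] at h3
    exact (P.cancel_left_of_respectsIso _ _).mp h3

/-- A finite coproduct of finite morphisms is finite. -/
theorem isFinite_sigmaDesc (ι : Type u) [Finite ι] {X : Scheme.{u}} (Y : ι → Scheme.{u})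
    (f : ∀ i, Y i ⟶ X) (hf : ∀ i, IsFinite (f i)) : IsFinite (Limits.Sigma.desc f) := by
  refine sigmaDesc_of_coprodDesc (C := Scheme.{u}) @IsFinite ?_ ?_ ι Y f hf
  · intro X Y f
    have : IsEmpty (∐ Y : Scheme.{u}) := (sigmaMk Y).symm.isEmpty
    infer_instance
  · intro U V X f g hf hg
    infer_instance

end Groth.Agent.Lib.Helper62
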