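import Groth.Prelude.Def_SGA1
import Groth.Agent.Lib.Helper62.GeomPoint
import Groth.Agent.Lib.Helper62.SigmaFinite
import Mathlib.AlgebraicGeometry.Morphisms.Proper

/-!
Universally submersive morphisms from universally closed surjective ones, and the
"graph of translates" morphism for a group acting transitively on geometric fibres.
-/

namespace Groth.Agent.Lib.Helper62

open CategoryTheory CategoryTheory.Limits AlgebraicGeometry

universe u

/-- A universally closed surjective morphism is universally submersive. -/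
theorem univSubmersive_of_universallyClosed_surjective {X Y : Scheme.{u}} (f : X ⟶ Y)
    [UniversallyClosed f] [Surjective f] : SGA1.UnivSubmersive f := by
  intro X' Y' i₁ i₂ f' h
  have h1 : UniversallyClosed f' := MorphismProperty.of_isPullback h.flip ‹UniversallyClosed f›
  have h2 : Surjective f' := MorphismProperty.of_isPullback h.flip ‹Surjective f›
  exact IsClosedMap.isQuotientMap f'.isClosedMap f'.continuous f'.surjective

/-- A finite family of finite morphisms that is jointly surjective induces a universally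
submersive morphism from the coproduct. -/
theorem univSubmersive_sigmaDesc_of_isFinite {T : Scheme.{u}} (ι : Type u) [Finite ι]
    (Y : ι → Scheme.{u}) (f : ∀ i, Y i ⟶ T) (hf : ∀ i, IsFinite (f i))
    (hsurj : Surjective (Limits.Sigma.desc f)) : SGA1.UnivSubmersive (Limits.Sigma.desc f) := by
  have := isFinite_sigmaDesc ι Y f hf
  exact univSubmersive_of_universallyClosed_surjective _

/-- General form of the "graphs of translates" lemma: for `q : X ⟶ S` finite with a group `G`
acting on `X` over `S` transitively on geometric fibres and `r : Y ⟶ X`, the morphism from `G` copies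
of `Y` to `Y ×_S X` with components `(id, r ≫ σ)` is finite and surjective. -/
theorem finite_surjective_graphs {X S Y : Scheme.{u}} (q : X ⟶ S) [IsFinite q] {G : Type u} [Group G]
    [Finite G] (ρ : G →* Aut X)
    (htrans : ∀ (Ω : Type u) [Field Ω] [IsAlgClosed Ω] (τ₁ τ₂ : Spec (CommRingCat.of Ω) ⟶ X),
      τ₁ ≫ q = τ₂ ≫ q → ∃ g : G, τ₁ ≫ (ρ g).hom = τ₂)
    (r : Y ⟶ X) (p : Y ⟶ S) (hp : r ≫ q = p)
    (υ : (∐ fun _ : G => Y) ⟶ pullback p q)
    (hυ₁ : ∀ σ : G, Limits.Sigma.ι (fun _ : G => Y) σ ≫ υ ≫ pullback.fst p q = 𝟙 Y)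
    (hυ₂ : ∀ σ : G, Limits.Sigma.ι (fun _ : G => Y) σ ≫ υ ≫ pullback.snd p q = r ≫ (ρ σ).hom) :
    IsFinite υ ∧ Surjective υ := by
  subst hp
  refine ⟨?_, ?_⟩
  · have h1 : υ ≫ pullback.fst (r ≫ q) q = Limits.Sigma.desc (fun _ : G => 𝟙 Y) := by
      apply Limits.Sigma.hom_ext
      intro σ
      rw [hυ₁ σ]
      simp
    have h2 : IsFinite (υ ≫ pullback.fst (r ≫ q) q) := by
      rw [h1]
      exact isFinite_sigmaDesc G _ _ (fun _ => inferInstance)
    exact IsFinite.of_comp υ (pullback.fst (r ≫ q) q)
  · refine ⟨fun z => ?_⟩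
    obtain ⟨Ω, _, _, τ, hτ⟩ := exists_geometric_point z
    obtain ⟨g, hg⟩ := htrans Ω (τ ≫ pullback.fst (r ≫ q) q ≫ r) (τ ≫ pullback.snd (r ≫ q) q)
      (by simp only [Category.assoc]; rw [pullback.condition])
    have key : (τ ≫ pullback.fst (r ≫ q) q) ≫ Limits.Sigma.ι (fun _ : G => Y) g ≫ υ = τ := by
      apply pullback.hom_ext
      · simp only [Category.assoc]
        rw [hυ₁ g, Category.comp_id]
      · simp only [Category.assoc]
        rw [hυ₂ g]
        simpa only [Category.assoc] using hg
    refine ⟨Limits.Sigma.ι (fun _ : G => Y) g ((τ ≫ pullback.fst (r ≫ q) q)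
      (IsLocalRing.closedPoint Ω)), ?_⟩
    rw [← hτ]
    exact congrArg (fun f : Spec (CommRingCat.of Ω) ⟶ pullback (r ≫ q) q =>
      f (IsLocalRing.closedPoint Ω)) key

end Groth.Agent.Lib.Helper62
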