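import Mathlib
import Groth.Prelude.Def_Hyper
import Groth.Agent.Lib.Helper62.Refine
import Groth.Agent.Lib.Helper62.HyperSite
import Groth.Agent.Lib.Helper62.HyperSiteH0

/-! # Refining a hypercovering so that a locally surjective map to `F(K_n)` is dominated -/

set_option autoImplicit false
set_option backward.isDefEq.respectTransparency false
set_option backward.isDefEq.respectTransparency.types false

open CategoryTheory CategoryTheory.Limits Opposite Simplicial SimplexCategory

universe u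

namespace Groth.Agent.Lib.Helper62.RefineSurj

open LLP HyperSite HyperSiteH0 Refine

section cover

variable {C' : Type u} [SmallCategory C'] (J' : GrothendieckTopology C')
  (P : C'ᵒᵖ ⥤ Type u) {B : FormalCoproduct.{u} C'} (u : P ⟶ FormalCoproduct.yoneda.obj B)

/-- the map `incl Z' ⟶ B` attached to the image of a section of `P` -/
noncomputable def lOf {Z' : C'} (s : P.obj (op Z')) : (FormalCoproduct.incl C').obj Z' ⟶ B :=
  (sec_surjective (u.app (op Z') s)).choose

lemma sec_lOf {Z' : C'} (s : P.obj (op Z')) : sec (lOf P u s) = u.app (op Z') s :=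
  (sec_surjective (u.app (op Z') s)).choose_spec

/-- the semi-representable object of all sections of `P` -/
def ZP : FormalCoproduct.{u} C' := ⟨Σ Z' : C', P.obj (op Z'), fun i => i.1⟩

/-- the map to `B` -/
noncomputable def uZ : ZP P ⟶ B :=
  ⟨fun i => (lOf P u i.2).f PUnit.unit, fun i => (lOf P u i.2).φ PUnit.unit⟩

lemma fromIncl_uZ {Z' : C'} (s : P.obj (op Z')) :
    (FormalCoproduct.Hom.fromIncl (⟨Z', s⟩ : (ZP P).I) (𝟙 Z') :
      (FormalCoproduct.incl C').obj Z' ⟶ ZP P) ≫ uZ P u = lOf P u s := by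
  refine FormalCoproduct.hom_ext ?_ ?_
  · funext x
    rfl
  · intro x
    change (𝟙 Z' ≫ (lOf P u s).φ PUnit.unit) ≫ eqToHom _ = (lOf P u s).φ x
    simp
    rfl

theorem llp_uZ (hu : Presheaf.IsLocallySurjective J' u) : HasLLP J' (uZ P u) := by
  intro T l
  refine ⟨Presheaf.imageSieve u (sec l), Presheaf.imageSieve_mem J' u (sec l), ?_⟩
  intro Z' h hh
  obtain ⟨s, hs⟩ := hh
  refine ⟨FormalCoproduct.Hom.fromIncl (⟨Z', s⟩ : (ZP P).I) (𝟙 Z'), ?_⟩
  rw [fromIncl_uZ]
  apply sec_injective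
  rw [sec_lOf, ← restrict_sec]
  exact hs.symm

/-- the canonical map `F(ZP) ⟶ P` -/
noncomputable def πP : FormalCoproduct.yoneda.obj (ZP P) ⟶ P :=
  Sigma.desc (fun i : (ZP P).I => yonedaEquiv.symm i.2)

lemma πP_u : πP P ≫ u = FormalCoproduct.yoneda.map (uZ P u) := by
  apply Sigma.hom_ext
  intro i
  unfold πP
  rw [← Category.assoc, Sigma.ι_desc]
  have h2 : Sigma.ι (fun i : (ZP P).I => yoneda.obj ((ZP P).obj i)) i ≫
      FormalCoproduct.yoneda.map (uZ P u) =
      yoneda.map ((uZ P u).φ i) ≫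
        Sigma.ι (fun j : B.I => yoneda.obj (B.obj j)) ((uZ P u).f i) := by
    simp [FormalCoproduct.eval]
    rfl
  rw [h2]
  apply yonedaEquiv.injective
  rw [yonedaEquiv_comp, Equiv.apply_symm_apply, yonedaEquiv_comp, yonedaEquiv_yoneda_map]
  exact (sec_lOf P u i.2).symm

end cover

variable {C : Type u} [SmallCategory C] [HasPullbacks C] (J : GrothendieckTopology C) (X : C)
  [∀ (n : ℕ) (G : (SimplexCategory.Truncated n)ᵒᵖ ⥤ FormalCoproduct.{u} (Over X)),
      (SimplexCategory.Truncated.inclusion n).op.HasRightKanExtension G]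

theorem exists_refinement_surj (K : SimplicialObject (FormalCoproduct.{u} (Over X)))
    (hK : Hyper.IsHypercovering J X K) (n : ℕ)
    (P : (Over X)ᵒᵖ ⥤ Type u) (u : P ⟶ FormalCoproduct.yoneda.obj (K.obj (op ⦋n⦌)))
    (hu : Presheaf.IsLocallySurjective (J.over X) u) :
    ∃ (L : SimplicialObject (FormalCoproduct.{u} (Over X))) (f : L ⟶ K)
      (g : FormalCoproduct.yoneda.obj (L.obj (op ⦋n⦌)) ⟶ P),
      Hyper.IsHypercovering J X L ∧ g ≫ u = FormalCoproduct.yoneda.map (f.app (op ⦋n⦌)) := by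
  obtain ⟨L, f, g₀, hL, hg⟩ := exists_refinement J X K hK n (ZP P) (uZ P u)
    (sr_of_llp _ _ (llp_uZ (J.over X) P u hu))
  refine ⟨L, f, FormalCoproduct.yoneda.map g₀ ≫ πP P, hL, ?_⟩
  rw [Category.assoc, πP_u, ← Functor.map_comp, hg]

end Groth.Agent.Lib.Helper62.RefineSurj
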