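import Mathlib
import Groth.Agent.Lib.Helper62.Resol

/-!
Reindexing between chain complexes and cochain complexes indexed by `ℤ` (`n ↦ -n`), and
quasi-isomorphisms.
-/

set_option autoImplicit false
universe v u

open CategoryTheory CategoryTheory.Limits HomologicalComplex

namespace Groth.Agent.Lib.Helper62.Reindex

section General

variable {ι ι' : Type*} {c : ComplexShape ι} {c' : ComplexShape ι'}
variable {C : Type u} [Category.{v} C] [Abelian C]

lemma restrictionXIso_hom_naturality {K L : HomologicalComplex C c'} (φ : K ⟶ L)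
    (e : c.Embedding c') [e.IsRelIff] {i : ι} {i' : ι'} (h : e.f i = i') :
    (K.restrictionXIso e h).hom ≫ φ.f i' = φ.f (e.f i) ≫ (L.restrictionXIso e h).hom := by
  subst h
  exact (Category.id_comp _).trans (Category.comp_id _).symm

lemma quasiIsoAt_restrictionMap_iff {K L : HomologicalComplex C c'} (φ : K ⟶ L)
    (e : c.Embedding c') [e.IsRelIff] (j : ι)
    (hi : e.f (c.prev j) = c'.prev (e.f j)) (hk : e.f (c.next j) = c'.next (e.f j)) :
    QuasiIsoAt (restrictionMap φ e) j ↔ QuasiIsoAt φ (e.f j) := by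
  rw [quasiIsoAt_iff' _ (c.prev j) j (c.next j) rfl rfl,
    quasiIsoAt_iff' _ (c'.prev (e.f j)) (e.f j) (c'.next (e.f j)) rfl rfl]
  refine ShortComplex.quasiIso_iff_of_arrow_mk_iso _ _
    (Arrow.isoMk (restriction.sc'Iso K e _ _ _ hi rfl hk rfl rfl)
      (restriction.sc'Iso L e _ _ _ hi rfl hk rfl rfl) ?_)
  ext
  · simp
    exact restrictionXIso_hom_naturality φ e hi
  · simp
    exact restrictionXIso_hom_naturality φ e (rfl : e.f j = e.f j)
  · simp
    exact restrictionXIso_hom_naturality φ e hk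

end General

section Int

open ComplexShape

variable {C : Type u} [Category.{v} C] [Abelian C]

lemma prev_du (j : ℤ) : embeddingDownIntUpInt.f ((down ℤ).prev j) =
    (up ℤ).prev (embeddingDownIntUpInt.f j) := by
  simp; lia

lemma next_du (j : ℤ) : embeddingDownIntUpInt.f ((down ℤ).next j) =
    (up ℤ).next (embeddingDownIntUpInt.f j) := by
  simp; lia

lemma prev_ud (j : ℤ) : embeddingUpIntDownInt.f ((up ℤ).prev j) =
    (down ℤ).prev (embeddingUpIntDownInt.f j) := by
  simp; lia

lemma next_ud (j : ℤ) : embeddingUpIntDownInt.f ((up ℤ).next j) =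
    (down ℤ).next (embeddingUpIntDownInt.f j) := by
  simp; lia

/-- Homology of the chain complex associated to a cochain complex. -/
noncomputable def homologyIsoDU (X : CochainComplex C ℤ) (j : ℤ) :
    (X.restriction embeddingDownIntUpInt).homology j ≅ X.homology (-j) :=
  X.restrictionHomologyIso embeddingDownIntUpInt _ j _ rfl rfl (prev_du j) rfl (next_du j) rfl rfl

lemma quasiIso_restrictionMap_ud {K L : ChainComplex C ℤ} (φ : K ⟶ L) [QuasiIso φ] :
    QuasiIso (restrictionMap φ embeddingUpIntDownInt) where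
  quasiIsoAt j := by
    rw [quasiIsoAt_restrictionMap_iff φ embeddingUpIntDownInt j (prev_ud j) (next_ud j)]
    infer_instance

/-- Cochain version of `Resol.exists_resolution`. -/
theorem exists_resolution_cochain {K' K'' : ObjectProperty C} [K'.IsClosedUnderIsomorphisms]
    [K''.IsClosedUnderIsomorphisms] (hsub : K'' ≤ K')
    (h1 : ∀ ⦃A A' : C⦄ (u : A ⟶ A'), K' A' → Epi u → ∃ (B : C) (v : B ⟶ A), K'' B ∧ Epi (v ≫ u))
    (h2 : ∀ ⦃A B : C⦄ (u : A ⟶ B), K' A → K' B → Epi u → K' (kernel u))
    (h3 : ∀ ⦃B B' : C⦄, K'' B → K'' B' → K'' (B ⨯ B'))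
    (X : CochainComplex C ℤ) (hX : ∀ i, K' (X.homology i)) (b : ℤ)
    (hb : ∀ i, b < i → IsZero (X.homology i)) :
    ∃ (R : CochainComplex C ℤ) (u : R ⟶ X),
      (∀ i, i ≤ b → K'' (R.X i)) ∧ (∀ i, b < i → IsZero (R.X i)) ∧ QuasiIso u := by
  obtain ⟨Q, u, hQ, hQ0, hu⟩ := Resol.exists_resolution (P := X.restriction embeddingDownIntUpInt)
    (d := -b) hsub h1 h2 h3
    (fun i => K'.prop_of_iso (homologyIsoDU X i).symm (hX (-i)))
    (fun i hi => (hb (-i) (by lia)).of_iso (homologyIsoDU X i))
  let eX : (X.restriction embeddingDownIntUpInt).restriction embeddingUpIntDownInt ≅ X :=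
    (ChainComplex.cochainComplexEquivalence C).counitIso.app X
  refine ⟨Q.restriction embeddingUpIntDownInt,
    restrictionMap u embeddingUpIntDownInt ≫ eX.hom,
    fun i hi => hQ (-i) (by lia), fun i hi => hQ0 (-i) (by lia), ?_⟩
  have := quasiIso_restrictionMap_ud u
  infer_instance

end Int

end Groth.Agent.Lib.Helper62.Reindex
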