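import Mathlib
import Groth.Prelude.Def_CohTop
import Groth.Agent.Lib.Helper62.CTAug
import Groth.Agent.Lib.Helper62.CechFunctorExact

/-! # An elementwise model of the Cech double complex of a complex of sheaves on a space -/

set_option autoImplicit false
set_option backward.isDefEq.respectTransparency false
set_option backward.isDefEq.respectTransparency.types false

open CategoryTheory CategoryTheory.Limits Opposite Simplicial SimplexCategory TopologicalSpace

universe u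

namespace Groth.Agent.Lib.Helper62.SSa

open CechChase HomCech CTCech CTAug CechFunctorExact

variable {X : TopCat.{u}} {ι : Type u} (U : ι → Opens X) (I : CochainComplex (CohTop.Ab X) ℤ)

/-- Cech `q`-cochains of the `i`-th term -/
abbrev Cq (i : ℤ) (q : ℕ) : Type u := ((Cx (Kc U) (I.X i).obj).X q : AddCommGrpCat.{u})

/-- the bigraded group -/
abbrev B : Type u := ∀ (i : ℤ) (q : ℕ), Cq U I i q

/-- horizontal differential -/
noncomputable def dh (i j : ℤ) (q : ℕ) : Cq U I i q →+ Cq U I j q :=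
  ((Mp (Kc U) (I.d i j).hom).f q).hom

/-- vertical (Cech) differential -/
noncomputable def dv (i : ℤ) (q q' : ℕ) : Cq U I i q →+ Cq U I i q' :=
  ((Cx (Kc U) (I.X i).obj).d q q').hom

lemma dh_dh (i j k : ℤ) (q : ℕ) (c : Cq U I i q) : dh U I j k q (dh U I i j q c) = 0 := by
  have h0 : (I.d i j).hom ≫ (I.d j k).hom = 0 := congrArg (fun ψ => ψ.hom) (I.d_comp_d i j k)
  have h1 : Mp (Kc U) (I.d i j).hom ≫ Mp (Kc U) (I.d j k).hom = 0 := by
    change (Ψ (Kc U)).map _ ≫ (Ψ (Kc U)).map _ = 0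
    rw [← Functor.map_comp, h0, Functor.map_zero]
  have h2 := congrArg (fun ψ => (ψ.f q).hom c) h1
  exact h2

lemma dv_dv (i : ℤ) (q q' q'' : ℕ) (c : Cq U I i q) : dv U I i q' q'' (dv U I i q q' c) = 0 := by
  have h := congrArg (fun ψ => ψ.hom c) ((Cx (Kc U) (I.X i).obj).d_comp_d q q' q'')
  exact h

lemma dh_dv (i j : ℤ) (q q' : ℕ) (c : Cq U I i q) :
    dh U I i j q' (dv U I i q q' c) = dv U I j q q' (dh U I i j q c) := by
  have h := congrArg (fun ψ => ψ.hom c) ((Mp (Kc U) (I.d i j).hom).comm q q')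
  exact h.symm

lemma dv_shape (i : ℤ) (q q' : ℕ) (h : ¬ q + 1 = q') : dv U I i q q' = 0 := by
  unfold dv
  rw [(Cx (Kc U) (I.X i).obj).shape q q' h]
  rfl

lemma dh_shape (i j : ℤ) (q : ℕ) (h : ¬ i + 1 = j) : dh U I i j q = 0 := by
  unfold dh
  have h0 : (I.d i j).hom = 0 := congrArg (fun ψ => ψ.hom) (I.shape i j h)
  rw [h0]
  change AddCommGrpCat.Hom.hom (((Ψ (Kc U)).map 0).f q) = 0
  rw [Functor.map_zero]
  rfl

/-- the sign -/
def s (i : ℤ) : ℤ := ((i.negOnePow : ℤˣ) : ℤ)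

lemma s_mul_self (i : ℤ) : s i * s i = 1 := by
  unfold s
  rw [← Units.val_mul, ← Int.negOnePow_add, Int.negOnePow_even _ ⟨i, rfl⟩]
  rfl

lemma s_pred (i : ℤ) : s (i - 1) = - s i := by
  unfold s
  have h : i.negOnePow = -(i - 1).negOnePow := by
    have := Int.negOnePow_succ (i - 1)
    rwa [sub_add_cancel] at this
  rw [h]
  simp

/-- the total differential -/
noncomputable def D (y : B U I) : B U I := fun i q =>
  dh U I (i - 1) i q (y (i - 1) q) + s i • dv U I i (q - 1) q (y i (q - 1))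

lemma D_apply (y : B U I) (i : ℤ) (q : ℕ) :
    D U I y i q = dh U I (i - 1) i q (y (i - 1) q) + s i • dv U I i (q - 1) q (y i (q - 1)) := rfl

lemma D_zero : D U I 0 = 0 := by
  funext i q
  simp [D_apply]

lemma D_add (y y' : B U I) : D U I (y + y') = D U I y + D U I y' := by
  funext i q
  simp only [D_apply, Pi.add_apply, map_add, smul_add]
  abel

lemma D_neg (y : B U I) : D U I (-y) = -D U I y := by
  funext i q
  simp only [D_apply, Pi.neg_apply, map_neg, smul_neg]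
  abel

lemma D_sub (y y' : B U I) : D U I (y - y') = D U I y - D U I y' := by
  rw [sub_eq_add_neg, D_add, D_neg, ← sub_eq_add_neg]

lemma D_D (y : B U I) : D U I (D U I y) = 0 := by
  funext i q
  rw [D_apply, D_apply, D_apply]
  simp only [map_add, map_zsmul, dh_dh, dv_dv, smul_zero, zero_add, add_zero, Pi.zero_apply]
  rw [dh_dv, s_pred, neg_smul, neg_add_cancel]

/-- homogeneous of total degree `m` -/
def Homog (m : ℤ) (y : B U I) : Prop := ∀ (i : ℤ) (q : ℕ), i + q ≠ m → y i q = 0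

/-- supported in Cech degrees `≥ p` -/
def SuppGE (p : ℕ) (y : B U I) : Prop := ∀ (i : ℤ) (q : ℕ), q < p → y i q = 0

variable {U I}

lemma Homog.add {m : ℤ} {y y' : B U I} (h : Homog U I m y) (h' : Homog U I m y') :
    Homog U I m (y + y') := fun i q hq => by
  rw [Pi.add_apply, Pi.add_apply, h i q hq, h' i q hq, add_zero]

lemma Homog.neg {m : ℤ} {y : B U I} (h : Homog U I m y) : Homog U I m (-y) := fun i q hq => by
  rw [Pi.neg_apply, Pi.neg_apply, h i q hq, neg_zero]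

lemma Homog.sub {m : ℤ} {y y' : B U I} (h : Homog U I m y) (h' : Homog U I m y') :
    Homog U I m (y - y') := by
  rw [sub_eq_add_neg]
  exact h.add h'.neg

lemma homog_zero (m : ℤ) : Homog U I m 0 := fun _ _ _ => rfl

lemma SuppGE.add {p : ℕ} {y y' : B U I} (h : SuppGE U I p y) (h' : SuppGE U I p y') :
    SuppGE U I p (y + y') := fun i q hq => by
  rw [Pi.add_apply, Pi.add_apply, h i q hq, h' i q hq, add_zero]

lemma SuppGE.neg {p : ℕ} {y : B U I} (h : SuppGE U I p y) : SuppGE U I p (-y) := fun i q hq => by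
  rw [Pi.neg_apply, Pi.neg_apply, h i q hq, neg_zero]

lemma SuppGE.sub {p : ℕ} {y y' : B U I} (h : SuppGE U I p y) (h' : SuppGE U I p y') :
    SuppGE U I p (y - y') := by
  rw [sub_eq_add_neg]
  exact h.add h'.neg

lemma suppGE_zero (p : ℕ) : SuppGE U I p 0 := fun _ _ _ => rfl

lemma Homog.D {m m' : ℤ} (hm : m + 1 = m') {y : B U I} (h : Homog U I m y) :
    Homog U I m' (D U I y) := by
  intro i q hq
  rw [D_apply, h (i - 1) q (by omega), map_zero, zero_add]
  by_cases hq0 : q = 0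
  · subst hq0
    rw [dv_shape U I i (0 - 1) 0 (by omega)]
    simp
  · rw [h i (q - 1) (by
      have : ((q - 1 : ℕ) : ℤ) = (q : ℤ) - 1 := by omega
      omega), map_zero, smul_zero]

/-- the element concentrated in bidegree `(i₀, q₀)` -/
noncomputable def upd (i₀ : ℤ) (q₀ : ℕ) (c : Cq U I i₀ q₀) : B U I :=
  Function.update (0 : B U I) i₀ (Function.update (0 : ∀ q, Cq U I i₀ q) q₀ c)

lemma upd_same (i₀ : ℤ) (q₀ : ℕ) (c : Cq U I i₀ q₀) : upd i₀ q₀ c i₀ q₀ = c := by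
  unfold upd
  rw [Function.update_self, Function.update_self]

lemma upd_ne_left (i₀ : ℤ) (q₀ : ℕ) (c : Cq U I i₀ q₀) (i : ℤ) (q : ℕ) (h : i ≠ i₀) :
    upd i₀ q₀ c i q = 0 := by
  unfold upd
  rw [Function.update_of_ne h]
  rfl

lemma upd_ne_right (i₀ : ℤ) (q₀ : ℕ) (c : Cq U I i₀ q₀) (q : ℕ) (h : q ≠ q₀) :
    upd i₀ q₀ c i₀ q = 0 := by
  unfold upd
  rw [Function.update_self, Function.update_of_ne h]
  rfl

lemma upd_ne (i₀ : ℤ) (q₀ : ℕ) (c : Cq U I i₀ q₀) (i : ℤ) (q : ℕ) (h : ¬ (i = i₀ ∧ q = q₀)) :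
    upd i₀ q₀ c i q = 0 := by
  by_cases hi : i = i₀
  · subst hi
    exact upd_ne_right i q₀ c q (fun hq => h ⟨rfl, hq⟩)
  · exact upd_ne_left i₀ q₀ c i q hi

lemma upd_add (i₀ : ℤ) (q₀ : ℕ) (c c' : Cq U I i₀ q₀) :
    upd i₀ q₀ (c + c') = upd i₀ q₀ c + upd i₀ q₀ c' := by
  funext i q
  by_cases h : i = i₀ ∧ q = q₀
  · obtain ⟨rfl, rfl⟩ := h
    rw [Pi.add_apply, Pi.add_apply, upd_same, upd_same, upd_same]
  · rw [Pi.add_apply, Pi.add_apply, upd_ne _ _ _ _ _ h, upd_ne _ _ _ _ _ h, upd_ne _ _ _ _ _ h,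
      add_zero]

lemma upd_zero (i₀ : ℤ) (q₀ : ℕ) : upd (U := U) (I := I) i₀ q₀ 0 = 0 := by
  funext i q
  by_cases h : i = i₀ ∧ q = q₀
  · obtain ⟨rfl, rfl⟩ := h
    rw [upd_same]
    rfl
  · rw [upd_ne _ _ _ _ _ h]
    rfl

lemma upd_neg (i₀ : ℤ) (q₀ : ℕ) (c : Cq U I i₀ q₀) : upd i₀ q₀ (-c) = -upd i₀ q₀ c := by
  have h := upd_add i₀ q₀ c (-c)
  rw [add_neg_cancel, upd_zero] at h
  exact (neg_eq_of_add_eq_zero_right h.symm).symm

lemma homog_upd (m i₀ : ℤ) (q₀ : ℕ) (h : i₀ + q₀ = m) (c : Cq U I i₀ q₀) :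
    Homog U I m (upd i₀ q₀ c) := by
  intro i q hq
  apply upd_ne
  rintro ⟨rfl, rfl⟩
  exact hq h

lemma suppGE_upd (p : ℕ) (i₀ : ℤ) (q₀ : ℕ) (h : p ≤ q₀) (c : Cq U I i₀ q₀) :
    SuppGE U I p (upd i₀ q₀ c) := by
  intro i q hq
  apply upd_ne
  rintro ⟨rfl, rfl⟩
  omega

end Groth.Agent.Lib.Helper62.SSa
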