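import Mathlib
import Groth.Agent.Lib.Helper62.SSa
import Groth.Agent.Lib.Helper62.CTRow

/-! # The staircase argument in the elementwise Cech double complex -/

set_option autoImplicit false
set_option backward.isDefEq.respectTransparency false
set_option backward.isDefEq.respectTransparency.types false

open CategoryTheory CategoryTheory.Limits Opposite Simplicial SimplexCategory TopologicalSpace

universe u

namespace Groth.Agent.Lib.Helper62.SSb

open CechChase HomCech CTCech CTAug CechFunctorExact SSa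

variable {X : TopCat.{u}} {ι : Type u} {U : ι → Opens X} {I : CochainComplex (CohTop.Ab X) ℤ}

/-- sections over the whole space -/
abbrev Γ (I : CochainComplex (CohTop.Ab X) ℤ) (n : ℤ) : Type u :=
  ((I.X n).obj.obj (op (⊤ : Opens X)) : AddCommGrpCat.{u})

/-- the differential on global sections -/
noncomputable def dΓ (I : CochainComplex (CohTop.Ab X) ℤ) (n m : ℤ) : Γ I n →+ Γ I m :=
  ((I.d n m).hom.app (op (⊤ : Opens X))).hom

lemma dΓ_shape (n m : ℤ) (h : ¬ n + 1 = m) : dΓ I n m = 0 := by
  unfold dΓ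
  have h0 : (I.d n m).hom = 0 := congrArg (fun ψ => ψ.hom) (I.shape n m h)
  rw [h0]
  rfl

/-- the augmentation -/
noncomputable def augC (U : ι → Opens X) (I : CochainComplex (CohTop.Ab X) ℤ) (n : ℤ) :
    Γ I n →+ Cq U I n 0 :=
  (aug U (I.X n).obj).hom

lemma dh_augC (n m : ℤ) (x : Γ I n) :
    dh U I n m 0 (augC U I n x) = augC U I m (dΓ I n m x) := by
  have h := congrArg (fun ψ => ψ.hom x) (aug_natural U (I.d n m).hom)
  exact h.symm

lemma dv_augC (n : ℤ) (x : Γ I n) : dv U I n 0 1 (augC U I n x) = 0 := by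
  have h := congrArg (fun ψ => ψ.hom x) (aug_d U (I.X n).obj)
  exact h

/-- the augmentation into the bigraded group -/
noncomputable def augB (U : ι → Opens X) (I : CochainComplex (CohTop.Ab X) ℤ) (n : ℤ)
    (x : Γ I n) : B U I :=
  upd n 0 (augC U I n x)

lemma augB_add (n : ℤ) (x x' : Γ I n) : augB U I n (x + x') = augB U I n x + augB U I n x' := by
  unfold augB
  rw [map_add, upd_add]

lemma augB_zero (n : ℤ) : augB U I n 0 = 0 := by
  unfold augB
  rw [map_zero, upd_zero]

lemma augB_neg (n : ℤ) (x : Γ I n) : augB U I n (-x) = -augB U I n x := by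
  unfold augB
  rw [map_neg, upd_neg]

lemma homog_augB (n : ℤ) (x : Γ I n) : Homog U I n (augB U I n x) :=
  homog_upd n n 0 (by simp) _

lemma D_augB (n : ℤ) (x : Γ I n) (hx : ∀ m, dΓ I n m x = 0) : D U I (augB U I n x) = 0 := by
  funext i q
  rw [D_apply]
  have h1 : dh U I (i - 1) i q (augB U I n x (i - 1) q) = 0 := by
    by_cases h : i - 1 = n ∧ q = 0
    · obtain ⟨rfl, rfl⟩ := h
      unfold augB
      rw [upd_same, dh_augC, hx, map_zero]
    · unfold augB
      rw [upd_ne _ _ _ _ _ h, map_zero]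
  have h2 : dv U I i (q - 1) q (augB U I n x i (q - 1)) = 0 := by
    by_cases h : i = n ∧ q - 1 = 0
    · obtain ⟨rfl, hq⟩ := h
      by_cases hq0 : q = 0
      · subst hq0
        rw [dv_shape U I i (0 - 1) 0 (by omega)]
        rfl
      · obtain rfl : q = 1 := by omega
        unfold augB
        rw [upd_same, dv_augC]
    · unfold augB
      rw [upd_ne _ _ _ _ _ h, map_zero]
  rw [h1, h2, smul_zero, add_zero]
  rfl

lemma eq_zero_of_isZero (i : ℤ) (q : ℕ) (h : IsZero (I.X i)) (c : Cq U I i q) : c = 0 := by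
  have h1 : IsZero ((CTRow.Fp (Opens.grothendieckTopology X) (Kc U) q).obj (I.X i)) :=
    (CTRow.Fp (Opens.grothendieckTopology X) (Kc U) q).map_isZero h
  have h2 : 𝟙 ((CTRow.Fp (Opens.grothendieckTopology X) (Kc U) q).obj (I.X i)) = 0 :=
    h1.eq_of_src _ _
  have h3 := congrArg (fun ψ => ψ.hom c) h2
  exact h3

lemma smul_s_cancel (i : ℤ) {G : Type*} [AddCommGroup G] (v : G) : s i • s i • v = v := by
  rw [smul_smul, s_mul_self, one_smul]

theorem staircase_aux (hcov : iSup U = ⊤) (hI : ∀ i, Injective (I.X i)) (n : ℤ) (x : Γ I n)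
    (Q : ℕ) : ∀ y : B U I, Homog U I (n - 1) y → (∀ (i : ℤ) (q : ℕ), Q < q → y i q = 0) →
      augB U I n x = D U I y → ∃ x' : Γ I (n - 1), dΓ I (n - 1) n x' = x := by
  induction Q with
  | zero =>
    intro y hy hsupp h
    have e1 := congrFun (congrFun h (n - 1)) 1
    rw [D_apply] at e1
    have e1' : augB U I n x (n - 1) 1 = 0 := upd_ne _ _ _ _ _ (by omega)
    rw [e1', hsupp (n - 1 - 1) 1 (by omega), map_zero, zero_add] at e1
    have e2 : dv U I (n - 1) 0 1 (y (n - 1) 0) = 0 := by
      have := congrArg (fun v => s (n - 1) • v) e1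
      simp only [smul_zero] at this
      rw [smul_s_cancel] at this
      exact this.symm
    obtain ⟨x', hx'⟩ := aug_exact U (I.X (n - 1)) hcov (y (n - 1) 0) e2
    refine ⟨x', ?_⟩
    have e3 := congrFun (congrFun h n) 0
    rw [D_apply, dv_shape U I n (0 - 1) 0 (by omega)] at e3
    have e3' : augB U I n x n 0 = augC U I n x := upd_same _ _ _
    rw [e3'] at e3
    simp only [AddMonoidHom.zero_apply, smul_zero, add_zero] at e3
    have hx'' : augC U I (n - 1) x' = y (n - 1) 0 := hx'
    rw [← hx'', dh_augC] at e3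
    exact (aug_injective U (I.X n) hcov e3).symm
  | succ Q ih =>
    intro y hy hsupp h
    let i₀ : ℤ := n - 1 - ((Q + 1 : ℕ) : ℤ)
    have hi₀ : i₀ + ((Q + 1 : ℕ) : ℤ) = n - 1 := by simp [i₀]
    have e1 := congrFun (congrFun h i₀) (Q + 2)
    rw [D_apply] at e1
    have e1' : augB U I n x i₀ (Q + 2) = 0 := upd_ne _ _ _ _ _ (by omega)
    rw [e1', hsupp (i₀ - 1) (Q + 2) (by omega), map_zero, zero_add] at e1
    have e2 : dv U I i₀ (Q + 1) (Q + 2) (y i₀ (Q + 1)) = 0 := by
      have := congrArg (fun v => s i₀ • v) e1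
      simp only [smul_zero] at this
      rw [smul_s_cancel] at this
      exact this.symm
    haveI := hI i₀
    obtain ⟨w, hw⟩ := exactAt_injective U hcov (I.X i₀) Q (y i₀ (Q + 1)) e2
    have hw' : dv U I i₀ Q (Q + 1) w = y i₀ (Q + 1) := hw
    let wt : B U I := upd i₀ Q (s i₀ • w)
    have hwt : Homog U I (n - 1 - 1) wt := homog_upd _ i₀ Q (by push_cast at hi₀ ⊢; omega) _
    refine ih (y - D U I wt) (hy.sub (hwt.D (by omega))) ?_ ?_
    · intro i q hq
      rw [Pi.sub_apply, Pi.sub_apply, D_apply]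
      have z1 : wt (i - 1) q = 0 := upd_ne _ _ _ _ _ (by omega)
      rw [z1, map_zero, zero_add]
      by_cases hq1 : q = Q + 1
      · subst hq1
        by_cases hi : i = i₀
        · subst hi
          have z2 : wt i₀ (Q + 1 - 1) = s i₀ • w := upd_same _ _ _
          rw [z2, map_zsmul, smul_s_cancel]
          have : dv U I i₀ (Q + 1 - 1) (Q + 1) w = y i₀ (Q + 1) := hw'
          rw [this, sub_self]
        · have z2 : wt i (Q + 1 - 1) = 0 := upd_ne_left _ _ _ _ _ hi
          rw [z2, map_zero, smul_zero, sub_zero]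
          exact hy i (Q + 1) (by
            intro hh
            apply hi
            omega)
      · have z2 : wt i (q - 1) = 0 := upd_ne _ _ _ _ _ (by omega)
        rw [z2, map_zero, smul_zero, sub_zero]
        exact hsupp i q (by omega)
    · rw [D_sub, D_D, sub_zero]
      exact h

theorem staircase (hcov : iSup U = ⊤) (hI : ∀ i, Injective (I.X i)) (a : ℤ)
    (hIa : ∀ i : ℤ, i < a → IsZero (I.X i)) (n : ℤ) (x : Γ I n) (y : B U I)
    (hy : Homog U I (n - 1) y) (h : augB U I n x = D U I y) :
    ∃ x' : Γ I (n - 1), dΓ I (n - 1) n x' = x := by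
  refine staircase_aux hcov hI n x (n - a).toNat y hy ?_ h
  intro i q hq
  by_cases hiq : i + q = n - 1
  · apply eq_zero_of_isZero
    apply hIa
    have := Int.self_le_toNat (n - a)
    omega
  · exact hy i q hiq

end Groth.Agent.Lib.Helper62.SSb
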