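import Mathlib
import Groth.Agent.Lib.Helper13.HDUSect
import Groth.Prelude.Def_CohTop

/-! # The comparison from sections of cycle sheaves of a K-injective resolution to the
hypercohomology presheaf -/

set_option autoImplicit false

open CategoryTheory CategoryTheory.Limits Opposite TopologicalSpace

universe u

namespace Groth.Agent.Lib.Helper62.SSc

open Groth.Agent.Lib.Helper13.HDUSect DerivedCategory

variable {X : TopCat.{u}} [HasDerivedCategory.{u} (CohTop.Ab X)]
  {K I : CochainComplex (CohTop.Ab X) ℤ} (φ : K ⟶ I) [QuasiIso φ]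

/-- the isomorphism in the derived category -/
noncomputable def eQ (m : ℤ) :
    (shiftFunctor (DerivedCategory (CohTop.Ab X)) m).obj (Q.obj K) ≅
      (shiftFunctor (DerivedCategory (CohTop.Ab X)) m).obj (Q.obj I) :=
  (shiftFunctor (DerivedCategory (CohTop.Ab X)) m).mapIso (asIso (Q.map φ))

/-- the comparison map -/
noncomputable def thK (m : ℤ) :
    (sheafToPresheaf (Opens.grothendieckTopology X) AddCommGrpCat.{u}).obj (I.cycles m) ⟶
      CohCx.HDUPresheaf (Q.obj K) m :=
  theta I m ≫ Functor.whiskerLeft _ (preadditiveYoneda.map (eQ φ m).inv)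

lemma thK_app (m : ℤ) (V : Opens X) (s : (I.cycles m).obj.obj (op V)) :
    ((thK φ m).app (op V)).hom s = thetaHom I m V s ≫ (eQ φ m).inv := rfl

variable [I.IsKInjective]

lemma thK_surjective (m : ℤ) (V : Opens X) :
    Function.Surjective ((thK φ m).app (op V)).hom := by
  intro h
  let h' : CohCx.HDU (Q.obj K) m V := h
  obtain ⟨s, hs⟩ := thetaHom_surjective I m V (h' ≫ (eQ φ m).hom)
  refine ⟨s, ?_⟩
  rw [thK_app, hs, Category.assoc, Iso.hom_inv_id, Category.comp_id]

lemma thK_eq_zero_iff (m : ℤ) (V : Opens X) (s : (I.cycles m).obj.obj (op V)) :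
    ((thK φ m).app (op V)).hom s = 0 ↔ ∃ t : (I.X (m - 1)).obj.obj (op V),
      ((I.toCycles (m - 1) m).hom.app (op V)).hom t = s := by
  rw [← thetaHom_eq_zero_iff, thK_app]
  constructor
  · intro h
    have h2 := congrArg (fun g => g ≫ (eQ φ m).hom) h
    simp only [Category.assoc, Iso.inv_hom_id, Category.comp_id] at h2
    refine h2.trans ?_
    exact Limits.zero_comp
  · intro h
    rw [h]
    exact Limits.zero_comp

lemma thK_natural (m : ℤ) {V W : Opens X} (f : W ⟶ V) (s : (I.cycles m).obj.obj (op V)) :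
    ((thK φ m).app (op W)).hom (((I.cycles m).obj.map f.op).hom s) =
      ((CohCx.HDUPresheaf (Q.obj K) m).map f.op).hom (((thK φ m).app (op V)).hom s) := by
  have h := congrArg (fun ψ => ψ.hom s) ((thK φ m).naturality f.op)
  exact h

end Groth.Agent.Lib.Helper62.SSc
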