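import Mathlib
import Groth.Agent.Lib.Helper62.SSb
import Groth.Agent.Lib.Helper62.SSc
import Groth.Agent.Lib.Helper62.CTTheta

/-! # The filtration on hypercohomology induced by the Cech degree -/

set_option autoImplicit false
set_option backward.isDefEq.respectTransparency false
set_option backward.isDefEq.respectTransparency.types false

open CategoryTheory CategoryTheory.Limits Opposite Simplicial SimplexCategory TopologicalSpace

universe u

namespace Groth.Agent.Lib.Helper62.SSd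

open CechChase HomCech CTCech CTAug CechFunctorExact SSa SSb SSc DerivedCategory

variable {X : TopCat.{u}} {ι : Type u} (U : ι → Opens X) {K I : CochainComplex (CohTop.Ab X) ℤ}
  [HasDerivedCategory.{u} (CohTop.Ab X)]

section sections

variable (I)

/-- sections of the cycle sheaf -/
abbrev Cyc (m : ℤ) (V : Opens X) : Type u := ((I.cycles m).obj.obj (op V) : AddCommGrpCat.{u})

/-- sections -/
abbrev Sec (m : ℤ) (V : Opens X) : Type u := ((I.X m).obj.obj (op V) : AddCommGrpCat.{u})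

/-- inclusion of cycles on sections -/
noncomputable def ιc (m : ℤ) (V : Opens X) : Cyc I m V →+ Sec I m V :=
  ((I.iCycles m).hom.app (op V)).hom

/-- differential on sections -/
noncomputable def dS (i j : ℤ) (V : Opens X) : Sec I i V →+ Sec I j V :=
  ((I.d i j).hom.app (op V)).hom

/-- to cycles on sections -/
noncomputable def tC (i j : ℤ) (V : Opens X) : Sec I i V →+ Cyc I j V :=
  ((I.toCycles i j).hom.app (op V)).hom

/-- restriction of sections -/
noncomputable def rS (m : ℤ) {V W : Opens X} (f : W ⟶ V) : Sec I m V →+ Sec I m W :=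
  ((I.X m).obj.map f.op).hom

/-- restriction of sections of cycles -/
noncomputable def rC (m : ℤ) {V W : Opens X} (f : W ⟶ V) : Cyc I m V →+ Cyc I m W :=
  ((I.cycles m).obj.map f.op).hom

variable {I}

lemma ιc_injective (m : ℤ) (V : Opens X) : Function.Injective (ιc I m V) :=
  CTTheta.ιZ_injective I m V

lemma ιc_rC (m : ℤ) {V W : Opens X} (f : W ⟶ V) (x : Cyc I m V) :
    ιc I m W (rC I m f x) = rS I m f (ιc I m V x) := by
  have h := congrArg (fun ψ => ψ.hom x) ((I.iCycles m).hom.naturality f.op)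
  exact h

lemma dS_rS (i j : ℤ) {V W : Opens X} (f : W ⟶ V) (t : Sec I i V) :
    dS I i j W (rS I i f t) = rS I j f (dS I i j V t) := by
  have h := congrArg (fun ψ => ψ.hom t) ((I.d i j).hom.naturality f.op)
  exact h

lemma ιc_tC (i j : ℤ) (V : Opens X) (t : Sec I i V) : ιc I j V (tC I i j V t) = dS I i j V t := by
  have h := congrArg (fun ψ : I.X i ⟶ I.X j => (ψ.hom.app (op V)).hom t) (I.toCycles_i i j)
  exact h

lemma dS_ιc (m j : ℤ) (V : Opens X) (x : Cyc I m V) : dS I m j V (ιc I m V x) = 0 := by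
  have h := congrArg (fun ψ : I.cycles m ⟶ I.X j => (ψ.hom.app (op V)).hom x) (I.iCycles_d m j)
  exact h

lemma rS_rS (m : ℤ) {V W W' : Opens X} (f : W ⟶ V) (g : W' ⟶ W) (k : W' ⟶ V) (t : Sec I m V) :
    rS I m g (rS I m f t) = rS I m k t :=
  map_map_thin (I.X m).obj g f k t

lemma comp_dh (i j : ℤ) (q : ℕ) (c : Cq U I i q) (σ : ((Kc U).obj (op ⦋q⦌)).I) :
    comp (Kc U) (I.X j).obj (dh U I i j q c) σ =
      dS I i j (((Kc U).obj (op ⦋q⦌)).obj σ) (comp (Kc U) (I.X i).obj c σ) :=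
  comp_Mp (I.d i j).hom q c σ

lemma comp_augC (n : ℤ) (x : Γ I n) (σ : ((Kc U).obj (op ⦋0⦌)).I) :
    comp (Kc U) (I.X n).obj (augC U I n x) σ = rS I n (homOfLE le_top) x :=
  comp_aug U (I.X n).obj x σ

end sections

variable (φ : K ⟶ I) [QuasiIso φ] (n : ℤ)

/-- the comparison map on global sections of the cycle sheaf -/
noncomputable def θt : Cyc I n ⊤ →+ CohCx.HDU (Q.obj K) n (⊤ : Opens X) :=
  ((thK φ n).app (op ⊤)).hom

/-- cycles representable in Cech degrees `≥ p` -/
def A (p : ℕ) : AddSubgroup (Cyc I n ⊤) where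
  carrier := {x | ∃ y : B U I, Homog U I (n - 1) y ∧
    SuppGE U I p (augB U I n (ιc I n ⊤ x) - D U I y)}
  zero_mem' := ⟨0, homog_zero _, by
    rw [map_zero, augB_zero, D_zero, sub_zero]
    exact suppGE_zero p⟩
  add_mem' := by
    rintro x x' ⟨y, hy, h⟩ ⟨y', hy', h'⟩
    refine ⟨y + y', hy.add hy', ?_⟩
    rw [map_add, augB_add, D_add]
    have e : augB U I n (ιc I n ⊤ x) + augB U I n (ιc I n ⊤ x') - (D U I y + D U I y') =
        (augB U I n (ιc I n ⊤ x) - D U I y) + (augB U I n (ιc I n ⊤ x') - D U I y') := by abel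
    rw [e]
    exact h.add h'
  neg_mem' := by
    rintro x ⟨y, hy, h⟩
    refine ⟨-y, hy.neg, ?_⟩
    rw [map_neg, augB_neg, D_neg]
    have e : -augB U I n (ιc I n ⊤ x) - -D U I y = -(augB U I n (ιc I n ⊤ x) - D U I y) := by abel
    rw [e]
    exact h.neg

lemma mem_A (p : ℕ) (x : Cyc I n ⊤) : x ∈ A U (I := I) n p ↔ ∃ y : B U I, Homog U I (n - 1) y ∧
    SuppGE U I p (augB U I n (ιc I n ⊤ x) - D U I y) := Iff.rfl

/-- the filtration -/
noncomputable def G (p : ℕ) : Submodule ℤ (CohCx.HDU (Q.obj K) n (⊤ : Opens X)) :=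
  AddSubgroup.toIntSubmodule ((A U (I := I) n p).map (θt φ n))

lemma mem_G (p : ℕ) (h : CohCx.HDU (Q.obj K) n (⊤ : Opens X)) :
    h ∈ G U φ n p ↔ ∃ x ∈ A U (I := I) n p, θt φ n x = h := Iff.rfl

lemma G_antitone : Antitone (G U φ n) := by
  intro p p' hpp' h hh
  obtain ⟨x, ⟨y, hy, hs⟩, rfl⟩ := (mem_G U φ n p' h).1 hh
  exact (mem_G U φ n p _).2 ⟨x, ⟨y, hy, fun i q hq => hs i q (by omega)⟩, rfl⟩

variable [I.IsKInjective]

lemma θt_surjective : Function.Surjective (θt φ n) := thK_surjective φ n ⊤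

lemma G_zero : G U φ n 0 = ⊤ := by
  rw [eq_top_iff]
  intro h _
  obtain ⟨x, rfl⟩ := θt_surjective φ n h
  exact (mem_G U φ n 0 _).2 ⟨x, ⟨0, homog_zero _, fun i q hq => absurd hq (by omega)⟩, rfl⟩

lemma θt_eq_zero_of (x : Cyc I n ⊤) (x' : Γ I (n - 1)) (h : dΓ I (n - 1) n x' = ιc I n ⊤ x) :
    θt φ n x = 0 := by
  apply (thK_eq_zero_iff φ n ⊤ x).2
  refine ⟨x', ?_⟩
  apply ιc_injective n ⊤
  exact (ιc_tC (n - 1) n ⊤ x').trans h

theorem G_top (hcov : iSup U = ⊤) (hI : ∀ i, Injective (I.X i)) (a : ℤ)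
    (hIa : ∀ i : ℤ, i < a → IsZero (I.X i)) : G U φ n (n - a + 1).toNat = ⊥ := by
  rw [eq_bot_iff]
  intro h hh
  obtain ⟨x, ⟨y, hy, hs⟩, rfl⟩ := (mem_G U φ n _ h).1 hh
  have hz : augB U I n (ιc I n ⊤ x) - D U I y = 0 := by
    funext i q
    by_cases hiq : i + q = n
    · by_cases hq : q < (n - a + 1).toNat
      · exact hs i q hq
      · apply eq_zero_of_isZero
        apply hIa
        have := Int.self_le_toNat (n - a + 1)
        omega
    · exact ((homog_augB n _).sub (hy.D (by omega))) i q hiq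
  obtain ⟨x', hx'⟩ := staircase hcov hI a hIa n (ιc I n ⊤ x) y hy (sub_eq_zero.1 hz)
  rw [Submodule.mem_bot]
  exact θt_eq_zero_of φ n x x' hx'

end Groth.Agent.Lib.Helper62.SSd
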