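import Mathlib
import Groth.Agent.Lib.Helper62.SSd

/-! # The first step of the Cech filtration: the kernel of the restriction to the cover -/

set_option autoImplicit false
set_option backward.isDefEq.respectTransparency false
set_option backward.isDefEq.respectTransparency.types false

open CategoryTheory CategoryTheory.Limits Opposite Simplicial SimplexCategory TopologicalSpace

universe u

namespace Groth.Agent.Lib.Helper62.SSd

open CechChase HomCech CTCech CTAug CechFunctorExact SSa SSb SSc DerivedCategory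

variable {X : TopCat.{u}} {ι : Type u} (U : ι → Opens X) {K I : CochainComplex (CohTop.Ab X) ℤ}
  [HasDerivedCategory.{u} (CohTop.Ab X)] (φ : K ⟶ I) [QuasiIso φ] (n : ℤ)

variable [I.IsKInjective]

lemma HDUres_θt (V : Opens X) (f : V ⟶ (⊤ : Opens X)) (x : Cyc I n ⊤) :
    CohCx.HDUres (Q.obj K) n f (θt φ n x) = ((thK φ n).app (op V)).hom (rC I n f x) := by
  have h := thK_natural φ n f x
  exact h.symm

theorem G_one : G U φ n 1 = ⨅ i, AddSubgroup.toIntSubmodule
    (CohCx.HDUres (Q.obj K) n (homOfLE le_top : U i ⟶ (⊤ : Opens X))).ker := by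
  ext h
  rw [Submodule.mem_iInf]
  constructor
  · rintro ⟨x, ⟨y, hy, hs⟩, rfl⟩ i
    change CohCx.HDUres (Q.obj K) n (homOfLE le_top : U i ⟶ (⊤ : Opens X)) (θt φ n x) = 0
    rw [HDUres_θt]
    apply (thK_eq_zero_iff φ n (U i) _).2
    let σ : ((Kc U).obj (op ⦋0⦌)).I := fun _ => i
    let gi : U i ⟶ ((Kc U).obj (op ⦋0⦌)).obj σ := Pi.lift (fun _ => 𝟙 (U i))
    have e0 := hs n 0 (by omega)
    rw [Pi.sub_apply, Pi.sub_apply, D_apply, dv_shape U I n (0 - 1) 0 (by omega)] at e0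
    have e0' : augB U I n (ιc I n ⊤ x) n 0 = augC U I n (ιc I n ⊤ x) := upd_same _ _ _
    rw [e0'] at e0
    simp only [AddMonoidHom.zero_apply, smul_zero, add_zero] at e0
    have e1 := congrArg (fun c => comp (Kc U) (I.X n).obj c σ) (sub_eq_zero.1 e0)
    simp only [comp_augC, comp_dh] at e1
    let t0 : Sec I (n - 1) (((Kc U).obj (op ⦋0⦌)).obj σ) :=
      comp (Kc U) (I.X (n - 1)).obj (y (n - 1) 0) σ
    have e1' : rS I n (homOfLE le_top) (ιc I n ⊤ x) =
        dS I (n - 1) n (((Kc U).obj (op ⦋0⦌)).obj σ) t0 := e1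
    refine ⟨rS I (n - 1) gi t0, ?_⟩
    apply ιc_injective n (U i)
    have step1 : ιc I n (U i) (tC I (n - 1) n (U i) (rS I (n - 1) gi t0)) =
        dS I (n - 1) n (U i) (rS I (n - 1) gi t0) := ιc_tC _ _ _ _
    have step2 : dS I (n - 1) n (U i) (rS I (n - 1) gi t0) =
        rS I n gi (dS I (n - 1) n (((Kc U).obj (op ⦋0⦌)).obj σ) t0) := dS_rS _ _ _ _
    have step3 : rS I n gi (dS I (n - 1) n (((Kc U).obj (op ⦋0⦌)).obj σ) t0) =
        rS I n gi (rS I n (homOfLE le_top) (ιc I n ⊤ x)) := congrArg (rS I n gi) e1'.symm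
    have step4 : rS I n gi (rS I n (homOfLE le_top) (ιc I n ⊤ x)) =
        rS I n (homOfLE le_top : U i ⟶ (⊤ : Opens X)) (ιc I n ⊤ x) := rS_rS n _ _ _ _
    have step5 : ιc I n (U i) (rC I n (homOfLE le_top : U i ⟶ (⊤ : Opens X)) x) =
        rS I n (homOfLE le_top : U i ⟶ (⊤ : Opens X)) (ιc I n ⊤ x) := ιc_rC _ _ _
    exact step1.trans (step2.trans (step3.trans (step4.trans step5.symm)))
  · intro hh
    obtain ⟨x, rfl⟩ := θt_surjective φ n h
    have hex : ∀ i, ∃ t : Sec I (n - 1) (U i),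
        tC I (n - 1) n (U i) t = rC I n (homOfLE le_top) x := by
      intro i
      apply (thK_eq_zero_iff φ n (U i) _).1
      rw [← HDUres_θt]
      exact hh i
    choose t ht using hex
    let y0 : Cq U I (n - 1) 0 := mkc (fun σ : ((Kc U).obj (op ⦋0⦌)).I =>
      rS I (n - 1) (Pi.π (U ∘ σ) (0 : Fin 1)) (t (σ (0 : Fin 1))))
    refine (mem_G U φ n 1 _).2 ⟨x, ⟨upd (n - 1) 0 y0, homog_upd _ _ _ (by simp) _, ?_⟩, rfl⟩
    intro i q hq
    obtain rfl : q = 0 := by omega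
    rw [Pi.sub_apply, Pi.sub_apply, D_apply, dv_shape U I i (0 - 1) 0 (by omega)]
    simp only [AddMonoidHom.zero_apply, smul_zero, add_zero]
    by_cases hi : i = n
    · subst hi
      have e1 : augB U I i (ιc I i ⊤ x) i 0 = augC U I i (ιc I i ⊤ x) := upd_same _ _ _
      have e2 : upd (U := U) (I := I) (i - 1) 0 y0 (i - 1) 0 = y0 := upd_same _ _ _
      rw [e1, e2, sub_eq_zero]
      apply cx_ext
      intro σ
      rw [comp_augC, comp_dh]
      have e3 : comp (Kc U) (I.X (i - 1)).obj y0 σ =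
          rS I (i - 1) (Pi.π (U ∘ σ) (0 : Fin 1)) (t (σ (0 : Fin 1))) := comp_mkc _ σ
      rw [e3]
      have step1 : dS I (i - 1) i (((Kc U).obj (op ⦋0⦌)).obj σ)
          (rS I (i - 1) (Pi.π (U ∘ σ) (0 : Fin 1)) (t (σ (0 : Fin 1)))) =
          rS I i (Pi.π (U ∘ σ) (0 : Fin 1)) (dS I (i - 1) i (U (σ (0 : Fin 1))) (t (σ (0 : Fin 1)))) :=
        dS_rS _ _ _ _
      have step2 : dS I (i - 1) i (U (σ (0 : Fin 1))) (t (σ (0 : Fin 1))) =
          ιc I i (U (σ (0 : Fin 1))) (tC I (i - 1) i (U (σ (0 : Fin 1))) (t (σ (0 : Fin 1)))) :=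
        (ιc_tC _ _ _ _).symm
      have step3 : ιc I i (U (σ (0 : Fin 1))) (rC I i (homOfLE le_top) x) =
          rS I i (homOfLE le_top) (ιc I i ⊤ x) := ιc_rC _ _ _
      have step4 : rS I i (Pi.π (U ∘ σ) (0 : Fin 1)) (rS I i (homOfLE le_top) (ιc I i ⊤ x)) =
          rS I i (homOfLE le_top) (ιc I i ⊤ x) := rS_rS i _ _ _ _
      rw [step1, step2, ht, step3]
      exact step4.symm
    · have e1 : augB U I n (ιc I n ⊤ x) i 0 = 0 := upd_ne_left _ _ _ _ _ hi
      have e2 : upd (U := U) (I := I) (n - 1) 0 y0 (i - 1) 0 = 0 :=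
        upd_ne_left _ _ _ _ _ (by omega)
      rw [e1, e2, map_zero, sub_zero]

end Groth.Agent.Lib.Helper62.SSd
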