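import Mathlib
import Groth.Prelude.Def_HTor

/-! # A criterion for being a subquotient -/

set_option autoImplicit false

universe u v

namespace Groth.Agent.Lib.Helper62.SSf

theorem isSubquotient_of_linear {R : Type v} [CommRing R] {Z Q T : Type u}
    [AddCommGroup Z] [Module R Z] [AddCommGroup Q] [Module R Q] [AddCommGroup T] [Module R T]
    (π : Z →ₗ[R] Q) (hπ : Function.Surjective π) (ψ : Z →ₗ[R] T)
    (h : LinearMap.ker ψ ≤ LinearMap.ker π) :
    HTor.IsSubquotient R Q T := by
  let S' : Submodule R T := LinearMap.range ψ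
  let S : Submodule R T := Submodule.map ψ (LinearMap.ker π)
  have hSS' : S ≤ S' := by
    rintro _ ⟨z, _, rfl⟩
    exact ⟨z, rfl⟩
  refine ⟨S, S', hSS', ?_⟩
  let g : Z →ₗ[R] (↥S' ⧸ Submodule.comap S'.subtype S) :=
    (Submodule.mkQ _).comp ψ.rangeRestrict
  have hg : Function.Surjective g := by
    intro t
    obtain ⟨⟨_, ⟨z, rfl⟩⟩, rfl⟩ := Submodule.Quotient.mk_surjective _ t
    exact ⟨z, rfl⟩
  have hker : LinearMap.ker π = LinearMap.ker g := by
    ext z
    rw [LinearMap.mem_ker, LinearMap.mem_ker]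
    change π z = 0 ↔ Submodule.Quotient.mk (ψ.rangeRestrict z) = 0
    rw [Submodule.Quotient.mk_eq_zero]
    constructor
    · intro hz
      exact ⟨z, hz, rfl⟩
    · rintro ⟨z', hz', hzz'⟩
      have hz'' : π z' = 0 := hz'
      have h1 : z - z' ∈ LinearMap.ker ψ := by
        rw [LinearMap.mem_ker, map_sub]
        have : ψ z' = ψ z := hzz'
        rw [this, sub_self]
      have h2 := h h1
      rw [LinearMap.mem_ker, map_sub, hz'', sub_zero] at h2
      exact h2
  exact ⟨(π.quotKerEquivOfSurjective hπ).symm ≪≫ₗ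
    (Submodule.quotEquivOfEq _ _ hker) ≪≫ₗ (g.quotKerEquivOfSurjective hg)⟩

/-- an additive map between abelian groups with arbitrary `ℤ`-module structures is linear -/
def toLin {M M₂ : Type*} [AddCommGroup M] [AddCommGroup M₂] [Module ℤ M] [Module ℤ M₂]
    (f : M →+ M₂) : M →ₗ[ℤ] M₂ where
  toFun := f
  map_add' := f.map_add
  map_smul' c a := by
    have := map_intCast_smul f ℤ ℤ c a
    simpa using this

@[simp] lemma toLin_apply {M M₂ : Type*} [AddCommGroup M] [AddCommGroup M₂] [Module ℤ M]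
    [Module ℤ M₂] (f : M →+ M₂) (a : M) : toLin f a = f a := rfl

theorem isSubquotient_of {Z Q T : Type u} [AddCommGroup Z] [AddCommGroup Q] [AddCommGroup T]
    [Module ℤ Q] [Module ℤ T]
    (π : Z →+ Q) (hπ : Function.Surjective π) (ψ : Z →+ T) (h : ψ.ker ≤ π.ker) :
    HTor.IsSubquotient ℤ Q T := by
  refine isSubquotient_of_linear (Z := Z) (toLin π) hπ (toLin ψ) ?_
  intro z hz
  rw [LinearMap.mem_ker] at hz ⊢
  exact h hz

end Groth.Agent.Lib.Helper62.SSf
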