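import Mathlib
import Groth.Agent.Lib.Helper62.SSd

/-! # The differential of a concentrated element, and the step from `A p` to `A (p+1)` -/

set_option autoImplicit false
set_option backward.isDefEq.respectTransparency false
set_option backward.isDefEq.respectTransparency.types false

open CategoryTheory CategoryTheory.Limits Opposite Simplicial SimplexCategory TopologicalSpace

universe u

namespace Groth.Agent.Lib.Helper62.SSg

open CechChase HomCech CTCech CTAug CechFunctorExact SSa SSb SSc SSd DerivedCategory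

variable {X : TopCat.{u}} {ι : Type u} {U : ι → Opens X} {I : CochainComplex (CohTop.Ab X) ℤ}

lemma dh_upd (i₀ : ℤ) (q₀ : ℕ) (c : Cq U I i₀ q₀) (j k : ℤ) (hj : j = i₀) :
    dh U I j k q₀ (upd i₀ q₀ c j q₀) = dh U I i₀ k q₀ c := by
  subst hj
  rw [upd_same]

lemma dv_upd (i₀ : ℤ) (q₀ : ℕ) (c : Cq U I i₀ q₀) (q' q'' : ℕ) (hq : q' = q₀) :
    dv U I i₀ q' q'' (upd i₀ q₀ c i₀ q') = dv U I i₀ q₀ q'' c := by
  subst hq
  rw [upd_same]

theorem D_upd (i₀ i₁ : ℤ) (q₀ q₁ : ℕ) (hi : i₀ + 1 = i₁) (hq : q₀ + 1 = q₁) (c : Cq U I i₀ q₀) :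
    D U I (upd i₀ q₀ c) =
      upd i₁ q₀ (dh U I i₀ i₁ q₀ c) + upd i₀ q₁ (s i₀ • dv U I i₀ q₀ q₁ c) := by
  funext i q
  rw [D_apply, Pi.add_apply, Pi.add_apply]
  have e1 : dh U I (i - 1) i q (upd i₀ q₀ c (i - 1) q) =
      upd i₁ q₀ (dh U I i₀ i₁ q₀ c) i q := by
    by_cases h1 : i = i₁ ∧ q = q₀
    · obtain ⟨rfl, rfl⟩ := h1
      rw [dh_upd i₀ q c (i - 1) i (by omega), upd_same]
    · rw [upd_ne i₀ q₀ c (i - 1) q (by
        rintro ⟨h, h'⟩
        exact h1 ⟨by omega, h'⟩), map_zero, upd_ne _ _ _ _ _ h1]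
  have e2 : s i • dv U I i (q - 1) q (upd i₀ q₀ c i (q - 1)) =
      upd i₀ q₁ (s i₀ • dv U I i₀ q₀ q₁ c) i q := by
    by_cases h2 : i = i₀ ∧ q = q₁
    · obtain ⟨rfl, rfl⟩ := h2
      rw [dv_upd i q₀ c (q - 1) q (by omega), upd_same]
    · rw [upd_ne _ _ _ _ _ h2]
      by_cases hq0 : q = 0
      · subst hq0
        rw [dv_shape U I i (0 - 1) 0 (by omega)]
        simp
      · rw [upd_ne i₀ q₀ c i (q - 1) (by
          rintro ⟨h, h'⟩
          exact h2 ⟨h, by omega⟩), map_zero, smul_zero]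
  rw [e1, e2]

variable [HasDerivedCategory.{u} (CohTop.Ab X)]

/-- the step from `A p` to `A (p + 1)` -/
theorem step (n : ℤ) (p : ℕ) (m : ℤ) (hm : m + p = n) (x : Cyc I n ⊤) (y : B U I)
    (hy : Homog U I (n - 1) y)
    (hs : SuppGE U I p (augB U I n (ιc I n ⊤ x) - D U I y))
    (r : Cq U I m p) (u : Cq U I (m - 1) p)
    (hr : ∃ y₁ : B U I, Homog U I (n - 1) y₁ ∧ D U I y₁ = upd m p r)
    (hz : (augB U I n (ιc I n ⊤ x) - D U I y) m p = r + dh U I (m - 1) m p u) :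
    x ∈ A U (I := I) n (p + 1) := by
  obtain ⟨y₁, hy₁, hD₁⟩ := hr
  refine ⟨y + y₁ + upd (m - 1) p u, (hy.add hy₁).add (homog_upd _ _ _ (by omega) _), ?_⟩
  rw [D_add, D_add, hD₁, D_upd (m - 1) m p (p + 1) (by omega) rfl u]
  intro i q hq
  have hzero : (augB U I n (ιc I n ⊤ x) - D U I y) i q -
      (upd m p r i q + (upd m p (dh U I (m - 1) m p u) i q +
        upd (m - 1) (p + 1) (s (m - 1) • dv U I (m - 1) p (p + 1) u) i q)) = 0 := by
    have e3 : upd (m - 1) (p + 1) (s (m - 1) • dv U I (m - 1) p (p + 1) u) i q = 0 :=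
      upd_ne _ _ _ _ _ (by omega)
    rw [e3, add_zero]
    by_cases h : i = m ∧ q = p
    · obtain ⟨rfl, rfl⟩ := h
      rw [upd_same, upd_same, hz, sub_self]
    · rw [upd_ne _ _ _ _ _ h, upd_ne _ _ _ _ _ h, add_zero, sub_zero]
      by_cases hq' : q < p
      · exact hs i q hq'
      · have hqp : q = p := by omega
        subst hqp
        exact ((homog_augB n _).sub (hy.D (by omega))) i q (by
          intro hh
          exact h ⟨by omega, rfl⟩)
  have e : (augB U I n (ιc I n ⊤ x) - (D U I y + upd m p r +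
      (upd m p (dh U I (m - 1) m p u) +
        upd (m - 1) (p + 1) (s (m - 1) • dv U I (m - 1) p (p + 1) u)))) i q =
      (augB U I n (ιc I n ⊤ x) - D U I y) i q -
      (upd m p r i q + (upd m p (dh U I (m - 1) m p u) i q +
        upd (m - 1) (p + 1) (s (m - 1) • dv U I (m - 1) p (p + 1) u) i q)) := by
    simp only [Pi.sub_apply, Pi.add_apply]
    abel
  rw [e]
  exact hzero

end Groth.Agent.Lib.Helper62.SSg
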