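import Mathlib
import Groth.Agent.Lib.Helper62.SSg
import Groth.Agent.Lib.Helper62.SSf
import Groth.Agent.Lib.Helper62.CechDies
import Groth.Prelude.Def_CohB1

/-! # The graded pieces of the Cech filtration are subquotients of Cech cohomology of the
hypercohomology presheaves -/

set_option autoImplicit false
set_option backward.isDefEq.respectTransparency false
set_option backward.isDefEq.respectTransparency.types false

open CategoryTheory CategoryTheory.Limits Opposite Simplicial SimplexCategory TopologicalSpace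

universe u

namespace Groth.Agent.Lib.Helper62.SSh

open CechChase HomCech CTCech CTAug CechFunctorExact SSa SSb SSc SSd SSg DerivedCategory

variable {X : TopCat.{u}} {ι : Type u} (U : ι → Opens X) {K I : CochainComplex (CohTop.Ab X) ℤ}
  [HasDerivedCategory.{u} (CohTop.Ab X)] (φ : K ⟶ I) [QuasiIso φ]

section maps

variable (I)

/-- the Cech complex of the cycle sheaf -/
noncomputable abbrev CZ (m : ℤ) : CochainComplex AddCommGrpCat.{u} ℕ :=
  Cx (Kc U) (I.cycles m).obj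

/-- inclusion of cycles on Cech cochains -/
noncomputable def ιZf (m : ℤ) (q : ℕ) : (CZ U I m).X q →+ Cq U I m q :=
  ((Mp (Kc U) (I.iCycles m).hom).f q).hom

/-- to cycles on Cech cochains -/
noncomputable def τf (i m : ℤ) (q : ℕ) : Cq U I i q →+ (CZ U I m).X q :=
  ((Mp (Kc U) (I.toCycles i m).hom).f q).hom

/-- the Cech differential of the cycle sheaf -/
noncomputable def dZ (m : ℤ) (q q' : ℕ) : (CZ U I m).X q →+ (CZ U I m).X q' :=
  ((CZ U I m).d q q').hom

variable {I}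

lemma comp_ιZf (m : ℤ) (q : ℕ) (c : (CZ U I m).X q) (σ : ((Kc U).obj (op ⦋q⦌)).I) :
    comp (Kc U) (I.X m).obj (ιZf U I m q c) σ =
      ιc I m (((Kc U).obj (op ⦋q⦌)).obj σ) (comp (Kc U) (I.cycles m).obj c σ) :=
  comp_Mp (I.iCycles m).hom q c σ

lemma comp_τf (i m : ℤ) (q : ℕ) (c : Cq U I i q) (σ : ((Kc U).obj (op ⦋q⦌)).I) :
    comp (Kc U) (I.cycles m).obj (τf U I i m q c) σ =
      tC I i m (((Kc U).obj (op ⦋q⦌)).obj σ) (comp (Kc U) (I.X i).obj c σ) :=
  comp_Mp (I.toCycles i m).hom q c σ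

lemma ιZf_injective (m : ℤ) (q : ℕ) : Function.Injective (ιZf U I m q) :=
  Mp_injective (I.iCycles m).hom (fun T => ιc_injective m T) q

lemma ιZf_τf (i m : ℤ) (q : ℕ) (c : Cq U I i q) :
    ιZf U I m q (τf U I i m q c) = dh U I i m q c := by
  apply cx_ext
  intro σ
  rw [comp_ιZf, comp_τf, comp_dh]
  exact ιc_tC i m _ _

lemma ιZf_dZ (m : ℤ) (q : ℕ) (c : (CZ U I m).X q) :
    ιZf U I m (q + 1) (dZ U I m q (q + 1) c) = dv U I m q (q + 1) (ιZf U I m q c) :=
  Mp_d (I.iCycles m).hom q c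

lemma dh_ιZf (m j : ℤ) (q : ℕ) (c : (CZ U I m).X q) : dh U I m j q (ιZf U I m q c) = 0 := by
  apply cx_ext
  intro σ
  rw [comp_dh, comp_ιZf, comp_zero']
  exact dS_ιc m j _ _

lemma exists_ιZf (m j : ℤ) (hj : m + 1 = j) (q : ℕ) (z : Cq U I m q)
    (hz : dh U I m j q z = 0) : ∃ c : (CZ U I m).X q, ιZf U I m q c = z := by
  subst hj
  have h : ∀ σ : ((Kc U).obj (op ⦋q⦌)).I, ∃ c' : Cyc I m (((Kc U).obj (op ⦋q⦌)).obj σ),
      ιc I m _ c' = comp (Kc U) (I.X m).obj z σ := by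
    intro σ
    apply CTTheta.exists_of_cocycle
    have h1 := congrArg (fun w => comp (Kc U) (I.X (m + 1)).obj w σ) hz
    simp only [comp_dh, comp_zero'] at h1
    exact h1
  choose c' hc' using h
  refine ⟨mkc c', ?_⟩
  apply cx_ext
  intro σ
  rw [comp_ιZf, comp_mkc, hc']

end maps

variable [I.IsKInjective]

/-- the Cech complex of the hypercohomology presheaf -/
noncomputable abbrev CH (m : ℤ) : CochainComplex AddCommGrpCat.{u} ℕ :=
  Cx (Kc U) (CohCx.HDUPresheaf (Q.obj K) m)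

/-- the comparison on Cech cochains -/
noncomputable def Θf (m : ℤ) (q : ℕ) : (CZ U I m).X q →+ (CH (K := K) U m).X q :=
  ((Mp (Kc U) (thK φ m)).f q).hom

/-- the Cech differential of the hypercohomology presheaf -/
noncomputable def dH (m : ℤ) (q q' : ℕ) : (CH (K := K) U m).X q →+ (CH (K := K) U m).X q' :=
  ((CH (K := K) U m).d q q').hom

lemma comp_Θf (m : ℤ) (q : ℕ) (c : (CZ U I m).X q) (σ : ((Kc U).obj (op ⦋q⦌)).I) :
    comp (Kc U) (CohCx.HDUPresheaf (Q.obj K) m) (Θf U φ m q c) σ =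
      ((thK φ m).app (op (((Kc U).obj (op ⦋q⦌)).obj σ))).hom
        (comp (Kc U) (I.cycles m).obj c σ) :=
  comp_Mp (thK φ m) q c σ

lemma Θf_dZ (m : ℤ) (q : ℕ) (c : (CZ U I m).X q) :
    Θf U φ m (q + 1) (dZ U I m q (q + 1) c) = dH (K := K) U m q (q + 1) (Θf U φ m q c) :=
  Mp_d (thK φ m) q c

lemma Θf_surjective (m : ℤ) (q : ℕ) : Function.Surjective (Θf U φ m q) :=
  Mp_surjective (thK φ m) (fun T => thK_surjective φ m T) q

lemma Θf_τf (m : ℤ) (q : ℕ) (u : Cq U I (m - 1) q) : Θf U φ m q (τf U I (m - 1) m q u) = 0 := by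
  apply cx_ext
  intro σ
  rw [comp_Θf, comp_τf, comp_zero']
  exact (thK_eq_zero_iff φ m _ _).2 ⟨_, rfl⟩

lemma exists_τf (m : ℤ) (q : ℕ) (c : (CZ U I m).X q) (h : Θf U φ m q c = 0) :
    ∃ u : Cq U I (m - 1) q, τf U I (m - 1) m q u = c := by
  have h' : ∀ σ : ((Kc U).obj (op ⦋q⦌)).I, ∃ t : Sec I (m - 1) (((Kc U).obj (op ⦋q⦌)).obj σ),
      tC I (m - 1) m _ t = comp (Kc U) (I.cycles m).obj c σ := by
    intro σ
    apply (thK_eq_zero_iff φ m _ _).1
    rw [← comp_Θf, h, comp_zero']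
  choose t ht using h'
  refine ⟨mkc t, ?_⟩
  apply cx_ext
  intro σ
  rw [comp_τf, comp_mkc, ht]

end Groth.Agent.Lib.Helper62.SSh
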