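import Mathlib
import Groth.Agent.Lib.Helper62.SSh
import Groth.Agent.Lib.Helper62.SSe

/-! # The graded pieces of the Cech filtration as subquotients of Cech cohomology -/

set_option autoImplicit false
set_option backward.isDefEq.respectTransparency false
set_option backward.isDefEq.respectTransparency.types false

open CategoryTheory CategoryTheory.Limits Opposite Simplicial SimplexCategory TopologicalSpace

universe u

namespace Groth.Agent.Lib.Helper62.SSi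

open CechChase HomCech CTCech CTAug CechFunctorExact SSa SSb SSc SSd SSg SSh DerivedCategory

variable {X : TopCat.{u}} {ι : Type u} (U : ι → Opens X) {K I : CochainComplex (CohTop.Ab X) ℤ}
  [HasDerivedCategory.{u} (CohTop.Ab X)] (φ : K ⟶ I) [QuasiIso φ]

section basics

variable (I)

lemma D_apply' (y : B U I) (i₀ i : ℤ) (hi : i₀ + 1 = i) (q₀ q : ℕ) (hq : q₀ + 1 = q) :
    D U I y i q = dh U I i₀ i q (y i₀ q) + s i • dv U I i q₀ q (y i q₀) := by
  have h : i₀ = i - 1 := by omega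
  subst h
  subst hq
  rfl

lemma D_apply_zero (y : B U I) (i₀ i : ℤ) (hi : i₀ + 1 = i) :
    D U I y i 0 = dh U I i₀ i 0 (y i₀ 0) := by
  have h : i₀ = i - 1 := by omega
  subst h
  rw [D_apply, dv_shape U I i (0 - 1) 0 (by omega)]
  simp

/-- the defect of a pair -/
noncomputable def zz (n : ℤ) (x : Cyc I n ⊤) (y : B U I) : B U I :=
  augB U I n (ιc I n ⊤ x) - D U I y

lemma zz_def (n : ℤ) (x : Cyc I n ⊤) (y : B U I) :
    zz U I n x y = augB U I n (ιc I n ⊤ x) - D U I y := rfl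

lemma zz_zero (n : ℤ) : zz U I n 0 0 = 0 := by
  rw [zz_def, map_zero, augB_zero, D_zero, sub_zero]

lemma zz_add (n : ℤ) (x x' : Cyc I n ⊤) (y y' : B U I) :
    zz U I n (x + x') (y + y') = zz U I n x y + zz U I n x' y' := by
  rw [zz_def, zz_def, zz_def, map_add, augB_add, D_add]
  abel

lemma zz_neg (n : ℤ) (x : Cyc I n ⊤) (y : B U I) :
    zz U I n (-x) (-y) = -zz U I n x y := by
  rw [zz_def, zz_def, map_neg, augB_neg, D_neg]
  abel

lemma D_zz (n : ℤ) (x : Cyc I n ⊤) (y : B U I) : D U I (zz U I n x y) = 0 := by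
  rw [zz_def, D_sub, D_D, sub_zero]
  exact D_augB n _ (fun j => dS_ιc n j ⊤ x)

lemma dh_zz (n : ℤ) (p : ℕ) (m j : ℤ) (hj : m + 1 = j) (x : Cyc I n ⊤) (y : B U I)
    (hs : SuppGE U I p (zz U I n x y)) : dh U I m j p (zz U I n x y m p) = 0 := by
  have h0 : D U I (zz U I n x y) j p = 0 := congrFun (congrFun (D_zz U I n x y) j) p
  cases p with
  | zero =>
    rw [D_apply_zero U I _ m j hj] at h0
    exact h0
  | succ p' =>
    rw [D_apply' U I _ m j hj p' (p' + 1) rfl, hs j p' (by omega), map_zero, smul_zero,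
      add_zero] at h0
    exact h0

lemma dv_zz (n : ℤ) (p : ℕ) (m₀ m : ℤ) (hm : m₀ + 1 = m) (x : Cyc I n ⊤) (y : B U I) :
    dv U I m p (p + 1) (zz U I n x y m p) =
      dh U I m₀ m (p + 1) (-(s m • zz U I n x y m₀ (p + 1))) := by
  have h0 : D U I (zz U I n x y) m (p + 1) = 0 :=
    congrFun (congrFun (D_zz U I n x y) m) (p + 1)
  rw [D_apply' U I _ m₀ m hm p (p + 1) rfl] at h0
  have h1 : s m • dv U I m p (p + 1) (zz U I n x y m p) =
      -dh U I m₀ m (p + 1) (zz U I n x y m₀ (p + 1)) := eq_neg_of_add_eq_zero_right h0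
  have h2 : s m • s m • dv U I m p (p + 1) (zz U I n x y m p) =
      s m • -dh U I m₀ m (p + 1) (zz U I n x y m₀ (p + 1)) := congrArg (fun v => s m • v) h1
  rw [smul_s_cancel] at h2
  rw [h2, map_neg, map_zsmul, smul_neg]

end basics

/-- triples `(x, y, c)`: a cycle, a homogeneous cochain pushing it to Cech degree `≥ p`,
and the resulting Cech `p`-cochain of the cycle sheaf -/
def Zp (n : ℤ) (p : ℕ) (m : ℤ) : AddSubgroup (Cyc I n ⊤ × B U I × (CZ U I m).X p) where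
  carrier := {w | Homog U I (n - 1) w.2.1 ∧ SuppGE U I p (zz U I n w.1 w.2.1) ∧
    ιZf U I m p w.2.2 = zz U I n w.1 w.2.1 m p}
  zero_mem' := by
    refine ⟨homog_zero _, ?_, ?_⟩
    · change SuppGE U I p (zz U I n 0 0)
      rw [zz_zero]
      exact suppGE_zero p
    · change ιZf U I m p 0 = zz U I n 0 0 m p
      rw [zz_zero, map_zero]
      rfl
  add_mem' := by
    rintro w w' ⟨h1, h2, h3⟩ ⟨h1', h2', h3'⟩
    refine ⟨h1.add h1', ?_, ?_⟩
    · change SuppGE U I p (zz U I n (w.1 + w'.1) (w.2.1 + w'.2.1))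
      rw [zz_add]
      exact h2.add h2'
    · change ιZf U I m p (w.2.2 + w'.2.2) = zz U I n (w.1 + w'.1) (w.2.1 + w'.2.1) m p
      rw [zz_add, map_add, h3, h3']
      rfl
  neg_mem' := by
    rintro w ⟨h1, h2, h3⟩
    refine ⟨h1.neg, ?_, ?_⟩
    · change SuppGE U I p (zz U I n (-w.1) (-w.2.1))
      rw [zz_neg]
      exact h2.neg
    · change ιZf U I m p (-w.2.2) = zz U I n (-w.1) (-w.2.1) m p
      rw [zz_neg, map_neg, h3]
      rfl

variable [I.IsKInjective]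

/-- the projection to the graded piece -/
noncomputable def π' (n : ℤ) (p : ℕ) (m : ℤ) :
    Zp U (I := I) n p m →+ HTor.grDesc (G U φ n) p :=
  (Submodule.mkQ (Submodule.comap (G U φ n p).subtype (G U φ n (p + 1)))).toAddMonoidHom.comp
    (AddMonoidHom.codRestrict
      ((θt φ n).comp ((AddMonoidHom.fst _ _).comp (Zp U (I := I) n p m).subtype))
      (G U φ n p) (fun w => (mem_G U φ n p _).2 ⟨w.1.1, ⟨w.1.2.1, w.2.1, w.2.2.1⟩, rfl⟩))

lemma π'_apply (n : ℤ) (p : ℕ) (m : ℤ) (w : Zp U (I := I) n p m) :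
    π' U φ n p m w = Submodule.Quotient.mk
      (⟨θt φ n w.1.1, (mem_G U φ n p _).2 ⟨w.1.1, ⟨w.1.2.1, w.2.1, w.2.2.1⟩, rfl⟩⟩ :
        ↥(G U φ n p)) := rfl

theorem π'_surjective (n : ℤ) (p : ℕ) (m : ℤ) : Function.Surjective (π' U φ n p m) := by
  intro t
  obtain ⟨⟨h, hh⟩, rfl⟩ := Submodule.Quotient.mk_surjective _ t
  obtain ⟨x, ⟨y, hy, hs⟩, rfl⟩ := (mem_G U φ n p h).1 hh
  have hs' : SuppGE U I p (zz U I n x y) := hs
  obtain ⟨c, hc⟩ := exists_ιZf U m (m + 1) rfl p (zz U I n x y m p)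
    (dh_zz U I n p m (m + 1) rfl x y hs')
  exact ⟨⟨(x, y, c), hy, hs', hc⟩, rfl⟩

lemma dZ_eq (n : ℤ) (p : ℕ) (m : ℤ) (w : Zp U (I := I) n p m) :
    dZ U I m p (p + 1) w.1.2.2 =
      τf U I (m - 1) m (p + 1) (-(s m • zz U I n w.1.1 w.1.2.1 (m - 1) (p + 1))) := by
  apply ιZf_injective U m (p + 1)
  rw [ιZf_dZ, ιZf_τf, w.2.2.2, dv_zz U I n p (m - 1) m (by omega)]

/-- the Cech cochain of hypercohomology classes attached to a triple -/
noncomputable def kf (n : ℤ) (p : ℕ) (m : ℤ) :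
    AddCommGrpCat.of (Zp U (I := I) n p m) ⟶ (CH (K := K) U m).X p :=
  AddCommGrpCat.ofHom ((Θf U φ m p).comp
    ((AddMonoidHom.snd _ _).comp ((AddMonoidHom.snd _ _).comp (Zp U (I := I) n p m).subtype)))

lemma kf_apply (n : ℤ) (p : ℕ) (m : ℤ) (w : Zp U (I := I) n p m) :
    (kf U φ n p m).hom w = Θf U φ m p w.1.2.2 := rfl

lemma kf_d (n : ℤ) (p : ℕ) (m : ℤ) :
    kf U φ n p m ≫ (CH (K := K) U m).d p (p + 1) = 0 := by
  ext w
  change dH (K := K) U m p (p + 1) (Θf U φ m p w.1.2.2) = 0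
  rw [← Θf_dZ, dZ_eq, Θf_τf]

/-- the cycle attached to a triple -/
noncomputable def cycHom (n : ℤ) (p : ℕ) (m : ℤ) :
    Zp U (I := I) n p m →+ (CH (K := K) U m).cycles p :=
  ((CH (K := K) U m).liftCycles (kf U φ n p m) (p + 1) (by simp) (kf_d U φ n p m)).hom

lemma iCycles_cycHom (n : ℤ) (p : ℕ) (m : ℤ) (w : Zp U (I := I) n p m) :
    ((CH (K := K) U m).iCycles p).hom (cycHom U φ n p m w) = Θf U φ m p w.1.2.2 := by
  have h := congrArg (fun ψ => ψ.hom w)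
    ((CH (K := K) U m).liftCycles_i (kf U φ n p m) (p + 1) (by simp) (kf_d U φ n p m))
  exact h

/-- the map to Cech cohomology -/
noncomputable def ψ' (n : ℤ) (p : ℕ) (m : ℤ) :
    Zp U (I := I) n p m →+ (CH (K := K) U m).homology p :=
  ((CH (K := K) U m).homologyπ p).hom.comp (cycHom U φ n p m)

lemma ψ'_apply (n : ℤ) (p : ℕ) (m : ℤ) (w : Zp U (I := I) n p m) :
    ψ' U φ n p m w = ((CH (K := K) U m).homologyπ p).hom (cycHom U φ n p m w) := rfl

lemma A_of_zero (n m : ℤ) (hm : m + ((0 : ℕ) : ℤ) = n) (x : Cyc I n ⊤) (y : B U I)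
    (hy : Homog U I (n - 1) y) (hs : SuppGE U I 0 (zz U I n x y)) (c : (CZ U I m).X 0)
    (hc : ιZf U I m 0 c = zz U I n x y m 0) (h0 : Θf U φ m 0 c = 0) :
    x ∈ A U (I := I) n (0 + 1) := by
  obtain ⟨u, hu⟩ := exists_τf U φ m 0 c h0
  refine step n 0 m hm x y hy hs 0 u
    ⟨0, homog_zero _, (D_zero U I).trans (upd_zero m 0).symm⟩ ?_
  rw [zero_add, ← ιZf_τf U (m - 1) m 0 u, hu, hc]
  rfl

lemma A_of_succ (n m : ℤ) (p' : ℕ) (hm : m + ((p' + 1 : ℕ) : ℤ) = n) (x : Cyc I n ⊤)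
    (y : B U I) (hy : Homog U I (n - 1) y) (hs : SuppGE U I (p' + 1) (zz U I n x y))
    (c : (CZ U I m).X (p' + 1)) (hc : ιZf U I m (p' + 1) c = zz U I n x y m (p' + 1))
    (e : (CH (K := K) U m).X p') (he : dH (K := K) U m p' (p' + 1) e = Θf U φ m (p' + 1) c) :
    x ∈ A U (I := I) n (p' + 1 + 1) := by
  obtain ⟨e', rfl⟩ := Θf_surjective U φ m p' e
  have h0 : Θf U φ m (p' + 1) (c - dZ U I m p' (p' + 1) e') = 0 := by
    rw [map_sub, Θf_dZ, he, sub_self]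
  obtain ⟨u, hu⟩ := exists_τf U φ m (p' + 1) _ h0
  refine step n (p' + 1) m hm x y hy hs (dv U I m p' (p' + 1) (ιZf U I m p' e')) u
    ⟨upd m p' (s m • ιZf U I m p' e'), homog_upd _ _ _ (by omega) _, ?_⟩ ?_
  · rw [D_upd m (m + 1) p' (p' + 1) rfl rfl, map_zsmul, dh_ιZf, smul_zero, upd_zero, zero_add,
      map_zsmul, smul_s_cancel]
  · have hcc : c = dZ U I m p' (p' + 1) e' + τf U I (m - 1) m (p' + 1) u := by
      rw [hu]
      abel
    rw [← ιZf_dZ, ← ιZf_τf, ← map_add, ← hcc, hc]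
    rfl

theorem ker_le (n : ℤ) (p : ℕ) (m : ℤ) (hm : m + p = n) :
    (ψ' U φ n p m).ker ≤ (π' U φ n p m).ker := by
  intro w hw
  rw [AddMonoidHom.mem_ker] at hw ⊢
  rw [ψ'_apply] at hw
  have hA : w.1.1 ∈ A U (I := I) n (p + 1) := by
    cases p with
    | zero =>
      have h0 := (CechDies.homologyπ_eq_zero_iff_zero (CH (K := K) U m) _).1 hw
      rw [iCycles_cycHom] at h0
      exact A_of_zero U φ n m hm w.1.1 w.1.2.1 w.2.1 w.2.2.1 w.1.2.2 w.2.2.2 h0
    | succ p' =>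
      obtain ⟨e, he⟩ := (CechDies.homologyπ_eq_zero_iff_succ (CH (K := K) U m) p' _).1 hw
      rw [iCycles_cycHom] at he
      exact A_of_succ U φ n m p' hm w.1.1 w.1.2.1 w.2.1 w.2.2.1 w.1.2.2 w.2.2.2 e he
  rw [π'_apply, Submodule.Quotient.mk_eq_zero, Submodule.mem_comap]
  exact (mem_G U φ n (p + 1) _).2 ⟨w.1.1, hA, rfl⟩

theorem subq (n : ℤ) (p : ℕ) (m : ℤ) (hm : m + p = n) :
    HTor.IsSubquotient ℤ (HTor.grDesc (G U φ n) p) ((CH (K := K) U m).homology p) :=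
  SSf.isSubquotient_of (π' U φ n p m) (π'_surjective U φ n p m) (ψ' U φ n p m)
    (ker_le U φ n p m hm)

include φ in
theorem main (hcov : iSup U = ⊤) (hI : ∀ i, Injective (I.X i)) (a : ℤ)
    (hIa : ∀ i : ℤ, i < a → IsZero (I.X i)) (n : ℤ) :
    ∃ (N : ℕ) (G : ℕ → Submodule ℤ (CohCx.HDU (Q.obj K) n (⊤ : Opens X))),
      Antitone G ∧ G 0 = ⊤ ∧ G N = ⊥ ∧
      G 1 = ⨅ i, AddSubgroup.toIntSubmodule
        (CohCx.HDUres (Q.obj K) n (homOfLE le_top : U i ⟶ (⊤ : Opens X))).ker ∧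
      ∀ p : ℕ, HTor.IsSubquotient ℤ (HTor.grDesc G p)
        (CohB1.cechHTop U (CohCx.HDUPresheaf (Q.obj K) (n - p)) p) :=
  ⟨(n - a + 1).toNat, SSd.G U φ n, G_antitone U φ n, G_zero U φ n, G_top U φ n hcov hI a hIa,
    G_one U φ n, fun p => subq U φ n p (n - p) (by omega)⟩

end Groth.Agent.Lib.Helper62.SSi
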