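import Mathlib
import Groth.Agent.Lib.Helper62.Reindex
import Groth.Agent.Lib.Helper62.LiftComplex
import Groth.Agent.Lib.Helper62.FFDev

/-!
`D⁻(P) ≃ D⁻_P(A)` for a Serre class `P` with the lifting property.
-/

set_option autoImplicit false
universe w w' v u

open CategoryTheory CategoryTheory.Limits DerivedCategory

namespace Groth.Agent.Lib.Helper62.SerreDer

section General

variable {C : Type u} [Category.{v} C] [Abelian C] [HasDerivedCategory.{w} C]

/-- If `Q.map f = 0`, then `f` becomes nullhomotopic after precomposition with a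
quasi-isomorphism. -/
lemma exists_quasiIso_comp_homotopy_zero {K L : CochainComplex C ℤ} (f : K ⟶ L)
    (h : Q.map f = 0) :
    ∃ (X : CochainComplex C ℤ) (t : X ⟶ K) (_ : QuasiIso t), Nonempty (Homotopy (t ≫ f) 0) := by
  have h1 : Qh.map ((HomotopyCategory.quotient C (ComplexShape.up ℤ)).map f) =
      Qh.map ((HomotopyCategory.quotient C (ComplexShape.up ℤ)).map (0 : K ⟶ L)) := by
    have natf : Qh.map ((HomotopyCategory.quotient C (ComplexShape.up ℤ)).map f) ≫
        (quotientCompQhIso C).hom.app L = (quotientCompQhIso C).hom.app K ≫ Q.map f :=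
      (quotientCompQhIso C).hom.naturality f
    rw [← cancel_mono ((quotientCompQhIso C).hom.app L), natf, h, comp_zero,
      Functor.map_zero, Functor.map_zero, zero_comp]
  rw [MorphismProperty.map_eq_iff_precomp Qh
    (HomotopyCategory.quasiIso C (ComplexShape.up ℤ))] at h1
  obtain ⟨X, s, hs, fac⟩ := h1
  obtain ⟨X, rfl⟩ := HomotopyCategory.quotient_obj_surjective X
  obtain ⟨t, rfl⟩ := (HomotopyCategory.quotient _ _).map_surjective s
  rw [HomotopyCategory.quotient_map_mem_quasiIso_iff, HomologicalComplex.mem_quasiIso_iff] at hs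
  refine ⟨X, t, hs, ⟨HomotopyCategory.homotopyOfEq _ _ ?_⟩⟩
  rw [Functor.map_comp, fac, Functor.map_zero, comp_zero, Functor.map_zero]

end General

section Serre

variable {A : Type u} [Category.{v} A] [Abelian A]
  (P : ObjectProperty A) [P.IsSerreClass] [P.IsClosedUnderKernels] [P.IsClosedUnderCokernels]
  [P.IsClosedUnderFiniteProducts] [PreservesFiniteLimits P.ι] [PreservesFiniteColimits P.ι]

/-- The inclusion on cochain complexes. -/
noncomputable abbrev ιc : CochainComplex P.FullSubcategory ℤ ⥤ CochainComplex A ℤ :=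
  P.ι.mapHomologicalComplex (ComplexShape.up ℤ)

/-- The lifting property. -/
def LiftProp : Prop := ∀ (X Y : A) (π : X ⟶ Y), Epi π → P Y →
  ∃ (X' : A) (i : X' ⟶ X), Mono i ∧ P X' ∧ Epi (i ≫ π)

/-- The cohomology of the image of a complex. -/
noncomputable def homologyMapIso (K : CochainComplex P.FullSubcategory ℤ) (i : ℤ) :
    ((ιc P).obj K).homology i ≅ P.ι.obj (K.homology i) :=
  (K.sc i).mapHomologyIso P.ι

lemma prop_homology_ιc (K : CochainComplex P.FullSubcategory ℤ) (i : ℤ) :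
    P (((ιc P).obj K).homology i) :=
  P.prop_of_iso (homologyMapIso P K i).symm (K.homology i).property

variable {P}

theorem exists_res (hlift : LiftProp P) (X : CochainComplex A ℤ) (hX : ∀ i, P (X.homology i))
    (b : ℤ) (hb : ∀ i, b < i → IsZero (X.homology i)) :
    ∃ (R : CochainComplex P.FullSubcategory ℤ) (_ : R.IsStrictlyLE b)
      (f : (ιc P).obj R ⟶ X), QuasiIso f := by
  obtain ⟨R₀, u, hR, hR0, hu⟩ := Reindex.exists_resolution_cochain (K' := P) (K'' := P) le_rfl
    (fun A A' u hA' hu => by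
      obtain ⟨X', i, _, hX', hi⟩ := hlift A A' u hu hA'
      exact ⟨X', i, hX', hi⟩)
    (fun A B u hA hB hu => P.prop_of_mono (kernel.ι u) hA)
    (fun B B' hB hB' => P.prop_prod B B' hB hB')
    X hX b hb
  have hess : ∀ i, P.ι.essImage (R₀.X i) := fun i => by
    by_cases hi : i ≤ b
    · exact ⟨⟨R₀.X i, hR i hi⟩, ⟨Iso.refl _⟩⟩
    · exact LiftComplex.essImage_of_isZero _ (hR0 i (by lia))
  refine ⟨LiftComplex.lift P.ι R₀ hess, ?_, (LiftComplex.liftIso P.ι R₀ hess).hom ≫ u, ?_⟩
  · rw [CochainComplex.isStrictlyLE_iff]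
    intro i hi
    exact LiftComplex.isZero_of_isZero_obj P.ι ((hR0 i hi).of_iso
      ((HomologicalComplex.eval _ _ i).mapIso (LiftComplex.liftIso P.ι R₀ hess)))
  · infer_instance

variable [HasDerivedCategory.{w} A] [HasDerivedCategory.{w'} P.FullSubcategory]

/-- Essential surjectivity onto `D⁻_P(A)`. -/
theorem essSurj (hlift : LiftProp P) (K : DerivedCategory A) (b : ℤ) [K.IsLE b]
    (hK : ∀ n : ℤ, P ((DerivedCategory.homologyFunctor A n).obj K)) :
    ∃ M : DerivedCategory P.FullSubcategory,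
      M.IsLE b ∧ Nonempty (P.ι.mapDerivedCategory.obj M ≅ K) := by
  obtain ⟨K₀, hK₀, ⟨e⟩⟩ := exists_iso_Q_obj_of_isLE K b
  have hX : ∀ i, P (K₀.homology i) := fun i =>
    P.prop_of_iso (((homologyFunctor A i).mapIso e) ≪≫ (homologyFunctorFactors A i).app K₀) (hK i)
  have hb : ∀ i, b < i → IsZero (K₀.homology i) := fun i hi => K₀.isZero_of_isLE b i hi
  obtain ⟨R, hR, f, hf⟩ := exists_res hlift K₀ hX b hb
  have : IsIso (Q.map f) := by
    rw [isIso_Q_map_iff_quasiIso]
    exact hf
  exact ⟨Q.obj R, inferInstance,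
    ⟨P.ι.mapDerivedCategoryFactors.app R ≪≫ asIso (Q.map f) ≪≫ e.symm⟩⟩

lemma quasiIso_of_map {K L : CochainComplex P.FullSubcategory ℤ} (φ : K ⟶ L)
    (h : QuasiIso ((ιc P).map φ)) : QuasiIso φ :=
  (HomologicalComplex.quasiIso_map_iff_of_preservesHomology φ P.ι).1 h

/-- Full faithfulness of `D(P) ⥤ D(A)` on `Hom(M, N)` for `M` bounded above. -/
theorem ff_Q (hlift : LiftProp P) (M₀ N₀ : CochainComplex P.FullSubcategory ℤ) (b : ℤ)
    [M₀.IsStrictlyLE b] :
    FFD.FF P.ι.mapDerivedCategory (Q.obj M₀) (Q.obj N₀) := by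
  -- resolution of any complex quasi-isomorphic to `ι M₀`
  have hres : ∀ (X : CochainComplex A ℤ) (s : X ⟶ (ιc P).obj M₀), QuasiIso s →
      ∃ (R : CochainComplex P.FullSubcategory ℤ) (_ : R.IsStrictlyLE b)
        (f : (ιc P).obj R ⟶ X), QuasiIso f := by
    intro X s hs
    have hX : ∀ i, P (X.homology i) := fun i =>
      P.prop_of_iso (asIso (HomologicalComplex.homologyMap s i)).symm (prop_homology_ιc P M₀ i)
    have hb : ∀ i, b < i → IsZero (X.homology i) := fun i hi =>
      (((ιc P).obj M₀).isZero_of_isLE b i hi).of_iso (asIso (HomologicalComplex.homologyMap s i))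
    exact exists_res hlift X hX b hb
  constructor
  · -- injectivity
    intro φ₁ φ₂ h
    change P.ι.mapDerivedCategory.map φ₁ = P.ι.mapDerivedCategory.map φ₂ at h
    rw [← sub_eq_zero] at h ⊢
    rw [← Functor.map_sub] at h
    generalize φ₁ - φ₂ = φ at h ⊢
    obtain ⟨R, σ, hσ, γ, rfl⟩ := right_fac φ
    have hγ : P.ι.mapDerivedCategory.map (Q.map γ) = 0 := by
      have : Q.map γ = Q.map σ ≫ (inv (Q.map σ) ≫ Q.map γ) := by simp
      rw [this, Functor.map_comp, h, comp_zero]
    have h1 : Q.map ((ιc P).map γ) = 0 := by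
      have n1 := P.ι.mapDerivedCategoryFactors_hom_naturality γ
      rw [hγ, zero_comp] at n1
      rw [← cancel_epi (P.ι.mapDerivedCategoryFactors.hom.app R), ← n1, comp_zero]
    obtain ⟨X, t, ht, ⟨H⟩⟩ := exists_quasiIso_comp_homotopy_zero _ h1
    have hσ' : QuasiIso σ := by rwa [isIso_Q_map_iff_quasiIso] at hσ
    have hσ'' : QuasiIso ((ιc P).map σ) := by
      rw [HomologicalComplex.quasiIso_map_iff_of_preservesHomology σ P.ι]
      exact hσ'
    obtain ⟨R₁, hR₁, r₁, hr₁⟩ := hres X (t ≫ (ιc P).map σ) inferInstance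
    obtain ⟨τ, hτ⟩ := (ιc P).map_surjective (r₁ ≫ t)
    have hτ' : QuasiIso τ := quasiIso_of_map τ (by rw [hτ]; infer_instance)
    have H' : Homotopy ((ιc P).map (τ ≫ γ)) ((ιc P).map 0) := by
      rw [Functor.map_comp, hτ, Functor.map_zero, Category.assoc]
      exact (H.compLeft r₁).trans (Homotopy.ofEq (by simp))
    have h2 : Q.map (τ ≫ γ) = Q.map 0 :=
      Q_map_eq_of_homotopy P.FullSubcategory (P.ι.preimageHomotopy H')
    have : IsIso (Q.map τ) := by rw [isIso_Q_map_iff_quasiIso]; exact hτ'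
    rw [Functor.map_comp, Functor.map_zero] at h2
    have h3 : Q.map γ = 0 := by
      rw [← cancel_epi (Q.map τ), h2, comp_zero]
    rw [h3, comp_zero]
  · -- surjectivity
    intro ψ
    obtain ⟨X, s, hs, g, hψ⟩ := right_fac
      (P.ι.mapDerivedCategoryFactors.inv.app M₀ ≫ ψ ≫ P.ι.mapDerivedCategoryFactors.hom.app N₀)
    have hs' : QuasiIso s := by rwa [isIso_Q_map_iff_quasiIso] at hs
    obtain ⟨R, hR, r, hr⟩ := hres X s hs'
    obtain ⟨σ, hσ⟩ := (ιc P).map_surjective (r ≫ s)
    obtain ⟨γ, hγ⟩ := (ιc P).map_surjective (r ≫ g)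
    have hσ' : QuasiIso σ := quasiIso_of_map σ (by rw [hσ]; infer_instance)
    have : IsIso (Q.map σ) := by rw [isIso_Q_map_iff_quasiIso]; exact hσ'
    have : IsIso (Q.map r) := by rw [isIso_Q_map_iff_quasiIso]; exact hr
    refine ⟨inv (Q.map σ) ≫ Q.map γ, ?_⟩
    change P.ι.mapDerivedCategory.map (inv (Q.map σ) ≫ Q.map γ) = ψ
    have key : P.ι.mapDerivedCategory.map (Q.map σ) ≫ ψ =
        P.ι.mapDerivedCategory.map (Q.map γ) := by
      have n1 := P.ι.mapDerivedCategoryFactors_hom_naturality σ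
      have n2 := P.ι.mapDerivedCategoryFactors_hom_naturality γ
      rw [hσ] at n1
      rw [hγ] at n2
      rw [← cancel_mono (P.ι.mapDerivedCategoryFactors.hom.app N₀), n2, Category.assoc]
      have e1 : ψ ≫ P.ι.mapDerivedCategoryFactors.hom.app N₀ =
          P.ι.mapDerivedCategoryFactors.hom.app M₀ ≫ inv (Q.map s) ≫ Q.map g := by
        rw [← hψ]; simp
      rw [e1, reassoc_of% n1, Functor.map_comp, Functor.map_comp]
      simp
    rw [Functor.map_comp, Functor.map_inv, IsIso.inv_comp_eq, key]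

/-- Full faithfulness of `D⁻(P) ⥤ D(A)`. -/
theorem ff (hlift : LiftProp P) (M N : DerivedCategory P.FullSubcategory) (b : ℤ) [M.IsLE b] :
    FFD.FF P.ι.mapDerivedCategory M N := by
  obtain ⟨M₀, hM₀, ⟨e⟩⟩ := exists_iso_Q_obj_of_isLE M b
  exact FFD.ff_of_iso _ e.symm (Q.objObjPreimageIso N) (ff_Q hlift M₀ _ b)

end Serre

end Groth.Agent.Lib.Helper62.SerreDer
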