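import Mathlib

/-!
Lifting cochain complexes along a Serre quotient functor `L : A ⥤ A/P`.
-/

set_option autoImplicit false
universe w w' v v' u u'

open CategoryTheory CategoryTheory.Limits

namespace Groth.Agent.Lib.Helper62.SerreLift

variable {A : Type u} [Category.{v} A] [Abelian A] (P : ObjectProperty A) [P.IsSerreClass]
  {Q : Type u'} [Category.{v'} Q] [Abelian Q]
  (L : A ⥤ Q) [L.IsLocalization P.isoModSerre]
  (Y : CochainComplex Q ℤ)

/-- An object of `A` lifting `Y.X n`. -/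
structure State (n : ℤ) where
  Z : A
  e : L.obj Z ≅ Y.X n

variable {L Y}

/-- Two consecutive lifts are compatible if the differential lifts. -/
def Rel {m n : ℤ} (s : State L Y m) (s' : State L Y n) : Prop :=
  ∃ f : s.Z ⟶ s'.Z, L.map f ≫ s'.e.hom = s.e.hom ≫ Y.d m n

include P in
lemma exists_fwd {m : ℤ} (n : ℤ) (s : State L Y m) : ∃ s' : State L Y n, Rel s s' := by
  have := Localization.essSurj L P.isoModSerre
  let X := L.objPreimage (Y.X n)
  let e₀ : L.obj X ≅ Y.X n := L.objObjPreimageIso (Y.X n)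
  obtain ⟨φ, hφ⟩ := Localization.exists_leftFraction L P.isoModSerre
    (s.e.hom ≫ Y.d m n ≫ e₀.inv)
  have hs : IsIso (L.map φ.s) := Localization.inverts L P.isoModSerre _ φ.hs
  refine ⟨⟨φ.Y', (asIso (L.map φ.s)).symm ≪≫ e₀⟩, φ.f, ?_⟩
  have h1 := φ.map_comp_map_s L (Localization.inverts L P.isoModSerre)
  rw [← hφ] at h1
  dsimp
  rw [← h1]
  simp

include P in
lemma exists_bwd (m : ℤ) {n : ℤ} (s' : State L Y n) : ∃ s : State L Y m, Rel s s' := by
  have := Localization.essSurj L P.isoModSerre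
  let X := L.objPreimage (Y.X m)
  let e₀ : L.obj X ≅ Y.X m := L.objObjPreimageIso (Y.X m)
  obtain ⟨φ, hφ⟩ := Localization.exists_rightFraction L P.isoModSerre
    (e₀.hom ≫ Y.d m n ≫ s'.e.inv)
  have hs : IsIso (L.map φ.s) := Localization.inverts L P.isoModSerre _ φ.hs
  refine ⟨⟨φ.X', asIso (L.map φ.s) ≪≫ e₀⟩, φ.f, ?_⟩
  have h1 := φ.map_s_comp_map L (Localization.inverts L P.isoModSerre)
  rw [← hφ] at h1
  dsimp
  rw [← h1]
  simp

variable (L Y) in
/-- A compatible sequence of lifts. -/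
noncomputable def seq (i : ℤ) : State L Y i :=
  haveI := Localization.essSurj L P.isoModSerre
  Int.inductionOn' (motive := fun i => State L Y i) i 0
    ⟨L.objPreimage (Y.X 0), L.objObjPreimageIso (Y.X 0)⟩
    (fun k _ s => (exists_fwd P (k + 1) s).choose)
    (fun k _ s => (exists_bwd P (k - 1) s).choose)

lemma rel_seq (j i : ℤ) (h : j + 1 = i) : Rel (seq P L Y j) (seq P L Y i) := by
  by_cases hj : 0 ≤ j
  · subst h
    have e : seq P L Y (j + 1) = (exists_fwd P (j + 1) (seq P L Y j)).choose :=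
      Int.inductionOn'_add_one hj
    rw [e]
    exact (exists_fwd P (j + 1) (seq P L Y j)).choose_spec
  · obtain rfl : j = i - 1 := by lia
    have e : seq P L Y (i - 1) = (exists_bwd P (i - 1) (seq P L Y i)).choose :=
      Int.inductionOn'_sub_one (by lia)
    rw [e]
    exact (exists_bwd P (i - 1) (seq P L Y i)).choose_spec

section Complex

variable (L Y)

/-- The lifted objects. -/
noncomputable abbrev Z (n : ℤ) : A := (seq P L Y n).Z

/-- The comparison isomorphisms. -/
noncomputable abbrev e (n : ℤ) : L.obj (Z P L Y n) ≅ Y.X n := (seq P L Y n).e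

/-- The lifted differentials (not yet of square zero). -/
noncomputable def f (n : ℤ) : Z P L Y n ⟶ Z P L Y (n + 1) := (rel_seq P n (n + 1) rfl).choose

lemma hf (n : ℤ) : L.map (f P L Y n) ≫ (e P L Y (n + 1)).hom = (e P L Y n).hom ≫ Y.d n (n + 1) :=
  (rel_seq P n (n + 1) rfl).choose_spec

lemma map_ff (n : ℤ) : L.map (f P L Y n ≫ f P L Y (n + 1)) = 0 := by
  rw [← cancel_mono (e P L Y (n + 1 + 1)).hom, zero_comp, Functor.map_comp, Category.assoc,
    hf, reassoc_of% (hf P L Y n), HomologicalComplex.d_comp_d, comp_zero]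

/-- The map whose kernel we take. -/
noncomputable def g (n : ℤ) : Z P L Y n ⟶ Z P L Y (n + 1 + 1) ⊞ Z P L Y (n + 1 + 1 + 1) :=
  (f P L Y n ≫ f P L Y (n + 1)) ≫ biprod.lift (𝟙 _) (f P L Y (n + 1 + 1))

lemma map_g (n : ℤ) : L.map (g P L Y n) = 0 := by
  rw [g, Functor.map_comp, map_ff, zero_comp]

lemma g_fst (n : ℤ) : g P L Y n ≫ biprod.fst = f P L Y n ≫ f P L Y (n + 1) := by
  simp [g]

lemma g_snd (n : ℤ) :
    g P L Y n ≫ biprod.snd = f P L Y n ≫ f P L Y (n + 1) ≫ f P L Y (n + 1 + 1) := by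
  simp [g]

/-- The corrected objects. -/
noncomputable abbrev U (n : ℤ) : A := kernel (g P L Y n)

/-- The inclusion. -/
noncomputable abbrev ι (n : ℤ) : U P L Y n ⟶ Z P L Y n := kernel.ι (g P L Y n)

lemma ι_ff (n : ℤ) : ι P L Y n ≫ f P L Y n ≫ f P L Y (n + 1) = 0 := by
  rw [← g_fst, kernel.condition_assoc, zero_comp]

lemma ι_fff (n : ℤ) : ι P L Y n ≫ f P L Y n ≫ f P L Y (n + 1) ≫ f P L Y (n + 1 + 1) = 0 := by
  rw [← g_snd, kernel.condition_assoc, zero_comp]

variable [PreservesFiniteLimits L]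

lemma isIso_map_ι (n : ℤ) : IsIso (L.map (ι P L Y n)) :=
  KernelFork.IsLimit.isIso_ι _ (isLimitOfHasKernelOfPreservesLimit L (g P L Y n)) (map_g P L Y n)

/-- `L` inverts the inclusions. -/
noncomputable def ιIso (n : ℤ) : L.obj (U P L Y n) ≅ L.obj (Z P L Y n) :=
  haveI := isIso_map_ι P L Y n
  asIso (L.map (ι P L Y n))

@[simp]
lemma ιIso_hom (n : ℤ) : (ιIso P L Y n).hom = L.map (ι P L Y n) := rfl

/-- The differential of the lifted complex. -/
noncomputable def δ (n : ℤ) : U P L Y n ⟶ U P L Y (n + 1) :=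
  kernel.lift (g P L Y (n + 1)) (ι P L Y n ≫ f P L Y n) (by
    apply biprod.hom_ext
    · rw [Category.assoc, g_fst, Category.assoc, ι_fff, zero_comp]
    · rw [Category.assoc, g_snd, Category.assoc, reassoc_of% (ι_fff P L Y n), zero_comp,
        zero_comp])

@[reassoc (attr := simp)]
lemma δ_ι (n : ℤ) : δ P L Y n ≫ ι P L Y (n + 1) = ι P L Y n ≫ f P L Y n :=
  kernel.lift_ι _ _ _

lemma δ_δ (n : ℤ) : δ P L Y n ≫ δ P L Y (n + 1) = 0 := by
  rw [← cancel_mono (ι P L Y (n + 1 + 1)), Category.assoc, δ_ι, δ_ι_assoc, ι_ff, zero_comp]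

/-- The lifted complex. -/
noncomputable def K : CochainComplex A ℤ := CochainComplex.of (U P L Y) (δ P L Y) (δ_δ P L Y)

lemma K_d (n : ℤ) : (K P L Y).d n (n + 1) = δ P L Y n := CochainComplex.of_d _ _ n

variable [L.Additive]

/-- The lifted complex maps to a complex isomorphic to the given one. -/
noncomputable def mapKIso : (L.mapHomologicalComplex (ComplexShape.up ℤ)).obj (K P L Y) ≅ Y :=
  HomologicalComplex.Hom.isoOfComponents (fun n => ιIso P L Y n ≪≫ e P L Y n)
    (fun i j hij => by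
      obtain rfl : i + 1 = j := hij
      have h1 : ((L.mapHomologicalComplex (ComplexShape.up ℤ)).obj (K P L Y)).d i (i + 1) =
          L.map (δ P L Y i) := congrArg (fun t => L.map t) (K_d P L Y i)
      have key : (L.map (ι P L Y i) ≫ (e P L Y i).hom) ≫ Y.d i (i + 1) =
          L.map (δ P L Y i) ≫ L.map (ι P L Y (i + 1)) ≫ (e P L Y (i + 1)).hom := by
        rw [Category.assoc, ← hf, ← L.map_comp_assoc, ← L.map_comp_assoc, δ_ι]
      exact key.trans (congrArg (fun t => t ≫ L.map (ι P L Y (i + 1)) ≫ (e P L Y (i + 1)).hom)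
        h1.symm))

end Complex

include P in
/-- Every complex in the quotient lifts. -/
theorem exists_lift [PreservesFiniteLimits L] [L.Additive] (Y : CochainComplex Q ℤ) :
    ∃ K : CochainComplex A ℤ,
      Nonempty ((L.mapHomologicalComplex (ComplexShape.up ℤ)).obj K ≅ Y) :=
  ⟨K P L Y, ⟨mapKIso P L Y⟩⟩

include P in
/-- `D(A) ⥤ D(A/P)` is essentially surjective. -/
theorem essSurj [HasDerivedCategory.{w} A] [HasDerivedCategory.{w'} Q] [L.Additive]
    [PreservesFiniteLimits L] [PreservesFiniteColimits L] : L.mapDerivedCategory.EssSurj where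
  mem_essImage X := by
    obtain ⟨K, ⟨e⟩⟩ := exists_lift P (L := L) (DerivedCategory.Q.objPreimage X)
    exact ⟨DerivedCategory.Q.obj K, ⟨L.mapDerivedCategoryFactors.app K ≪≫
      DerivedCategory.Q.mapIso e ≪≫ DerivedCategory.Q.objObjPreimageIso X⟩⟩

end Groth.Agent.Lib.Helper62.SerreLift
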