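import Groth.Agent.Lib.Helper53.SitePush
import Groth.Agent.Lib.Helper53.OverCoh
import Groth.Agent.Lib.Helper42.RDerComm

/-!
# Relocalisation pushforward: `R^i f_* (F|_X)` as a sheafified cohomology presheaf
-/

universe u

open CategoryTheory Opposite Limits Abelian

namespace Groth.Agent.Lib.Helper62.SiteCmpA

section Zero

variable {C : Type u} [SmallCategory C] (J : GrothendieckTopology C)

instance : PreservesFiniteLimits (CohSite.push J J (𝟭 C)) :=
  preservesFiniteLimits_of_natIso (Functor.sheafPushforwardContinuousId (C := C)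
    AddCommGrpCat.{u} J).symm

instance : PreservesFiniteColimits (CohSite.push J J (𝟭 C)) :=
  preservesFiniteColimits_of_natIso (Functor.sheafPushforwardContinuousId (C := C)
    AddCommGrpCat.{u} J).symm

/-- the sheafification of the presheaf of higher cohomology groups vanishes -/
theorem isZero_sheafify_cohomologyPresheaf_succ (F : Sheaf J AddCommGrpCat.{u}) (n : ℕ) :
    IsZero ((presheafToSheaf J AddCommGrpCat.{u}).obj (F.cohomologyPresheaf (n + 1))) := by
  obtain ⟨e⟩ := Groth.Agent.Lib.Helper53.SiteCoh.nonempty_Rpush_iso J J (𝟭 C) F (n + 1)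
  exact IsZero.of_iso
    (Groth.Agent.Lib.Helper53.ExtRes.isZero_rightDerived_succ_of_exact (CohSite.push J J (𝟭 C)) F n)
    e.symm

end Zero

section Reloc

variable {C : Type u} [SmallCategory C] (J : GrothendieckTopology C) {X Y : C} (f : X ⟶ Y)
  [HasPullbacksAlong f]

instance pullback_isContinuous : (Over.pullback f).IsContinuous (J.over Y) (J.over X) :=
  (Over.mapPullbackAdj f).isContinuous_of_isCocontinuous _ _

instance pullbackMap_isContinuous :
    (Over.pullback f ⋙ Over.map f).IsContinuous (J.over Y) (J.over Y) :=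
  Functor.isContinuous_comp _ _ _ (J.over X) _

/-- restriction of abelian sheaves from `C/Y` to `C/X` -/
noncomputable abbrev res :
    Sheaf (J.over Y) AddCommGrpCat.{u} ⥤ Sheaf (J.over X) AddCommGrpCat.{u} :=
  CohSite.push (J.over Y) (J.over X) (Over.map f)

/-- the relocalisation pushforward, as a right Kan extension -/
noncomputable abbrev Φ :
    Sheaf (J.over X) AddCommGrpCat.{u} ⥤ Sheaf (J.over Y) AddCommGrpCat.{u} :=
  (Over.map f).sheafPushforwardCocontinuous AddCommGrpCat.{u} (J.over X) (J.over Y)

/-- the relocalisation pushforward, as precomposition with the fibre product functor -/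
noncomputable abbrev Ψ :
    Sheaf (J.over X) AddCommGrpCat.{u} ⥤ Sheaf (J.over Y) AddCommGrpCat.{u} :=
  CohSite.push (J.over X) (J.over Y) (Over.pullback f)

/-- `res ⊣ Φ` -/
noncomputable def adjΦ : res J f ⊣ Φ J f :=
  (Over.map f).sheafAdjunctionCocontinuous AddCommGrpCat.{u} (J.over X) (J.over Y)

/-- `res ⊣ Ψ` -/
noncomputable def adjΨ : res J f ⊣ Ψ J f :=
  (Over.mapPullbackAdj f).sheafPushforwardContinuous (E := AddCommGrpCat.{u}) (J.over X) (J.over Y)

/-- the two descriptions of the relocalisation pushforward agree -/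
noncomputable def isoΦΨ : Φ J f ≅ Ψ J f := (adjΦ J f).rightAdjointUniq (adjΨ J f)

instance Φ_additive : (Φ J f).Additive := (adjΦ J f).right_adjoint_additive

instance res_preservesFiniteColimits : PreservesFiniteColimits (res J f) :=
  have := (adjΨ J f).leftAdjoint_preservesColimits
  inferInstance

instance res_preservesFiniteLimits : PreservesFiniteLimits (res J f) :=
  have := (Functor.sheafPullbackConstruction.sheafAdjunctionContinuous (Over.map f)
    AddCommGrpCat.{u} (J.over X) (J.over Y)).rightAdjoint_preservesLimits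
  inferInstance

/-- `R^i f_* (F'|_X)` is the sheafification of `V ↦ H^i(V ×_Y X, F')` -/
theorem nonempty_iso [(res J f).PreservesInjectiveObjects] (F' : Sheaf (J.over Y) AddCommGrpCat.{u})
    (i : ℕ) :
    Nonempty (((Φ J f).rightDerived i).obj ((res J f).obj F') ≅
      (presheafToSheaf (J.over Y) AddCommGrpCat.{u}).obj
        ((Over.pullback f ⋙ Over.map f).op ⋙ F'.cohomologyPresheaf i)) := by
  obtain ⟨e4⟩ := Groth.Agent.Lib.Helper53.SiteCoh.nonempty_Rpush_iso (J.over Y) (J.over Y)
    (Over.pullback f ⋙ Over.map f) F' i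
  let e1 := (Groth.Agent.Lib.Helper42.RDerComm.mapIso (isoΦΨ J f) i).app ((res J f).obj F')
  let e2 := (Groth.Agent.Lib.Helper42.RDerComm.preCompIso (res J f) (Ψ J f) i).app F'
  let e3iso : res J f ⋙ Ψ J f ≅
      CohSite.push (J.over Y) (J.over Y) (Over.pullback f ⋙ Over.map f) := Iso.refl _
  let e3 := (Groth.Agent.Lib.Helper42.RDerComm.mapIso e3iso i).app F'
  exact ⟨e1 ≪≫ e2.symm ≪≫ e3 ≪≫ e4⟩

end Reloc

end Groth.Agent.Lib.Helper62.SiteCmpA
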