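import Groth.Agent.Lib.Helper62.SiteCmpA

/-!
# The descent argument for classes with equal pullbacks to `X ×_Y X`
-/

universe u

open CategoryTheory Opposite Limits

namespace Groth.Agent.Lib.Helper62.SiteCmpB

variable {C : Type u} [SmallCategory C]

section Gen

variable {K : GrothendieckTopology C} (F : Sheaf K AddCommGrpCat.{u}) (m : ℕ)

lemma res_res {U V W : C} (a : V ⟶ U) (b : W ⟶ V) (x : CohSite.HU F m U) :
    CohSite.res F m b (CohSite.res F m a x) = CohSite.res F m (b ≫ a) x := by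
  simp only [CohSite.res]
  rw [op_comp, Functor.map_comp]
  rfl

lemma sep {M : Cᵒᵖ ⥤ AddCommGrpCat.{u}} (hM : Presheaf.IsSheaf K M) {Z : C} (S : Sieve Z)
    (hS : S ∈ K Z) (x y : M.obj (op Z))
    (h : ∀ ⦃Z' : C⦄ (g : Z' ⟶ Z), S.arrows g → (M.map g.op).hom x = (M.map g.op).hom y) :
    x = y := by
  have h1 := ((isSheaf_iff_isSheaf_of_type _ _).1
    ((Presheaf.isSheaf_iff_isSheaf_forget K M (forget AddCommGrpCat.{u})).1 hM)) S hS
  refine h1.isSeparatedFor.ext ?_
  intro Y' g hg
  exact h g hg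

end Gen

variable {J J' : GrothendieckTopology C} {X Y : C} (f : X ⟶ Y)
  [HasPullbacksAlong f] (F' : Sheaf (J'.over Y) AddCommGrpCat.{u}) (n : ℕ)

/-- the presheaf of `H^{n+1}` -/
noncomputable abbrev Hn : (Over Y)ᵒᵖ ⥤ AddCommGrpCat.{u} :=
  Sheaf.cohomologyPresheaf.{u} F' (n + 1)

/-- `V ↦ V ×_Y X` as an endofunctor of `C/Y` -/
noncomputable abbrev uu : Over Y ⥤ Over Y := Over.pullback f ⋙ Over.map f

/-- `V ↦ H^{n+1}(V ×_Y X, F')` -/
noncomputable abbrev HH : (Over Y)ᵒᵖ ⥤ AddCommGrpCat.{u} := (uu f).op ⋙ Hn F' n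

/-- the second projection `V ×_Y X ⟶ X` over `Y` -/
noncomputable def sndV (V : Over Y) : (uu f).obj V ⟶ Over.mk f :=
  Over.homMk (Limits.pullback.snd V.hom f) (by simp)

lemma uu_map_sndV {V W : Over Y} (g : W ⟶ V) : (uu f).map g ≫ sndV f V = sndV f W := by
  apply Over.OverMorphism.ext
  simp only [sndV, uu, Functor.comp_map, Over.comp_left, Over.map_map_left, Over.pullback_map_left,
    Over.homMk_left]
  exact Limits.pullback.lift_snd _ _ _

/-- the map induced by the first projections `V ×_Y X ⟶ V` -/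
noncomputable def cc : Hn F' n ⟶ HH f F' n where
  app V := (Hn F' n).map ((Over.mapPullbackAdj f).counit.app V.unop).op
  naturality V W g := by
    dsimp only [Functor.comp_map]
    rw [← Functor.map_comp, ← Functor.map_comp]
    congr 1
    apply Quiver.Hom.unop_inj
    simp only [unop_comp, Quiver.Hom.unop_op, Functor.op_map]
    exact ((Over.mapPullbackAdj f).counit.naturality g.unop).symm

theorem main
    (hcov : Sieve.ofArrows (fun _ : PUnit.{u + 1} => X) (fun _ => f) ∈ J Y)
    (hM : Presheaf.IsSheaf (J.over Y)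
      ((presheafToSheaf (J'.over Y) AddCommGrpCat.{u}).obj (HH f F' n)).obj)
    (θ : CohSite.HU F' (n + 1) (Over.mk f))
    (hθ : ∀ (W : C) (p q : W ⟶ X) (hW : IsPullback p q f f),
      CohSite.res F' (n + 1) (Over.homMk p rfl : Over.mk (p ≫ f) ⟶ Over.mk f) θ =
        CohSite.res F' (n + 1) (Over.homMk q hW.w.symm : Over.mk (p ≫ f) ⟶ Over.mk f) θ) :
    ∃ (ι : Type u) (Z : ι → C) (g : ∀ i, Z i ⟶ Y), Sieve.ofArrows Z g ∈ J' Y ∧
      ∀ (i : ι) (W : C) (p : W ⟶ Z i) (q : W ⟶ X), IsPullback p q (g i) f →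
        CohSite.res F' (n + 1) (Over.homMk q rfl : Over.mk (q ≫ f) ⟶ Over.mk f) θ = 0 := by
  let T : Over Y := Over.mk (𝟙 Y)
  let xf : Over.mk f ⟶ T := Over.homMk f (by simp [T])
  let tS := toSheafify (J'.over Y) (HH f F' n)
  let M := sheafify (J'.over Y) (HH f F' n)
  -- the class `θ` as a section of `HH` over the terminal object
  let t : (HH f F' n).obj (op T) := CohSite.res F' (n + 1) (sndV f T) θ
  -- key property of t : HH(g)(t) = res (sndV V) θ
  have ht : ∀ {V : Over Y} (g : V ⟶ T),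
      ((HH f F' n).map g.op).hom t = CohSite.res F' (n + 1) (sndV f V) θ := by
    intro V g
    change CohSite.res F' (n + 1) ((uu f).map g) (CohSite.res F' (n + 1) (sndV f T) θ) = _
    rw [res_res, uu_map_sndV]
  -- the sheafification of `Hn` vanishes
  have hz := SiteCmpA.isZero_sheafify_cohomologyPresheaf_succ (J'.over Y) F' n
  have hzero : ∀ (V : (Over Y)ᵒᵖ) (y : (Hn F' n).obj V),
      ((tS.app V).hom ((cc f F' n).app V y)) = 0 := by
    intro V y
    have h1 : cc f F' n ≫ tS =
        toSheafify (J'.over Y) (Hn F' n) ≫ sheafifyMap (J'.over Y) (cc f F' n) :=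
      toSheafify_naturality (J'.over Y) (cc f F' n)
    have h2 := congrArg (fun φ => (φ.app V).hom y) h1
    have h3 : IsZero ((sheafify (J'.over Y) (Hn F' n)).obj V) :=
      (sheafToPresheaf (J'.over Y) AddCommGrpCat.{u} ⋙ (evaluation _ _).obj V).map_isZero hz
    have h4 : ((toSheafify (J'.over Y) (Hn F' n)).app V).hom y = 0 := by
      have := AddCommGrpCat.subsingleton_of_isZero h3
      exact Subsingleton.elim _ _
    have h5 : ((tS.app V).hom ((cc f F' n).app V y)) =
        ((sheafifyMap (J'.over Y) (cc f F' n)).app V).hom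
          (((toSheafify (J'.over Y) (Hn F' n)).app V).hom y) := h2
    rw [h5, h4, map_zero]
  -- restriction of `t` to `X`
  have hA : ((HH f F' n).map xf.op).hom t = ((cc f F' n).app (op (Over.mk f))).hom θ := by
    rw [ht xf]
    have e1 := hθ (Limits.pullback f f) (Limits.pullback.snd f f) (Limits.pullback.fst f f)
      (IsPullback.of_hasPullback f f).flip
    have e2 : sndV f (Over.mk f) =
        (Over.homMk (Limits.pullback.snd f f) rfl :
          Over.mk (Limits.pullback.snd f f ≫ f) ⟶ Over.mk f) := rfl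
    have e3 : (Over.mapPullbackAdj f).counit.app (Over.mk f) =
        (Over.homMk (Limits.pullback.fst f f) (IsPullback.of_hasPullback f f).flip.w.symm :
          Over.mk (Limits.pullback.snd f f ≫ f) ⟶ Over.mk f) := by
      apply Over.OverMorphism.ext
      simp
    rw [e2, e1]
    change _ = CohSite.res F' (n + 1) ((Over.mapPullbackAdj f).counit.app (Over.mk f)) θ
    rw [e3]
  -- the image of `t` in the sheafification vanishes
  have hs : (tS.app (op T)).hom t = 0 := by
    refine sep hM ((Sieve.overEquiv T).symm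
      (Sieve.ofArrows (fun _ : PUnit.{u + 1} => X) (fun _ => f)))
      (J.overEquiv_symm_mem_over T _ hcov) _ _ ?_
    intro V g hg
    rw [Sieve.overEquiv_symm_iff, Sieve.mem_ofArrows_iff] at hg
    obtain ⟨_, k, hk⟩ := hg
    have hw : k ≫ f = V.hom := by
      have := Over.w g
      rw [← hk]
      simpa [T] using this
    let k' : V ⟶ Over.mk f := Over.homMk k hw
    have hg' : g = k' ≫ xf := by
      apply Over.OverMorphism.ext
      simpa [k', xf] using hk
    rw [map_zero]
    have h6 : (M.map xf.op).hom ((tS.app (op T)).hom t) = 0 := by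
      have h7 := congrArg (fun φ => φ.hom t) (tS.naturality xf.op)
      have h8 : (M.map xf.op).hom ((tS.app (op T)).hom t) =
          (tS.app (op (Over.mk f))).hom (((HH f F' n).map xf.op).hom t) := h7.symm
      rw [h8, hA]
      exact hzero _ _
    rw [hg', op_comp, Functor.map_comp]
    change (M.map k'.op).hom ((M.map xf.op).hom ((tS.app (op T)).hom t)) = 0
    rw [h6, map_zero]
  -- `t` vanishes locally
  have hS₀ : Presheaf.equalizerSieve (F := HH f F' n) (X := op T) t 0 ∈ (J'.over Y) T := by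
    apply Presheaf.equalizerSieve_mem (J'.over Y) tS
    change (tS.app (op T)).hom t = (tS.app (op T)).hom 0
    rw [hs, map_zero]
  set S₀ := Presheaf.equalizerSieve (F := HH f F' n) (X := op T) t 0 with hS₀def
  refine ⟨Σ (Z : C), {h : Z ⟶ Y // S₀.arrows (Over.homMk h (by simp [T]) : Over.mk h ⟶ T)},
    fun i => i.1, fun i => i.2.1, ?_, ?_⟩
  · refine J'.superset_covering ?_ ((J'.mem_over_iff S₀).1 hS₀)
    intro Z₁ h₁ hh
    rw [Sieve.overEquiv_iff] at hh
    have hh' : S₀.arrows (Over.homMk h₁ (by simp [T]) : Over.mk h₁ ⟶ T) := by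
      have := S₀.downward_closed hh
        (Over.homMk (𝟙 Z₁) (by simp [T]) : Over.mk h₁ ⟶ Over.mk (h₁ ≫ T.hom))
      convert this using 1
      apply Over.OverMorphism.ext
      simp
    exact Sieve.ofArrows_mk _ _ (⟨Z₁, h₁, hh'⟩ :
      Σ (Z : C), {h : Z ⟶ Y // S₀.arrows (Over.homMk h (by simp [T]) : Over.mk h ⟶ T)})
  · rintro ⟨Z₁, h₁, hh⟩ W p q hW
    change IsPullback p q h₁ f at hW
    have h9 : CohSite.res F' (n + 1) (sndV f (Over.mk h₁)) θ = 0 := by
      rw [← ht (Over.homMk h₁ (by simp [T]) : Over.mk h₁ ⟶ T)]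
      have : ((HH f F' n).map (Over.homMk h₁ (by simp [T]) : Over.mk h₁ ⟶ T).op).hom t =
          ((HH f F' n).map (Over.homMk h₁ (by simp [T]) : Over.mk h₁ ⟶ T).op).hom 0 := hh
      rw [this, map_zero]
    let k : Over.mk (q ≫ f) ⟶ (uu f).obj (Over.mk h₁) :=
      Over.homMk hW.isoPullback.hom (by simp)
    have hk : (Over.homMk q rfl : Over.mk (q ≫ f) ⟶ Over.mk f) = k ≫ sndV f (Over.mk h₁) := by
      apply Over.OverMorphism.ext
      simp [k, sndV]
    rw [hk, ← res_res, h9, map_zero]

end Groth.Agent.Lib.Helper62.SiteCmpB
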