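import Groth.Agent.Lib.Helper62.SiteCmpB
import Groth.Agent.Lib.Helper53.SiteSec
import Groth.Prelude.Def_SiteCmp
import Mathlib.Algebra.Homology.DerivedCategory.Ext.ExactSequences

/-!
# Comparison of topologies: lifting sections along `ε_*` of a short exact sequence (first half)
-/

universe u

open CategoryTheory Opposite Limits Abelian

namespace Groth.Agent.Lib.Helper62.SiteCmpC

open Groth.Agent.Lib.Helper53.SiteCoh

section Gen

variable {D : Type u} [SmallCategory D] (K : GrothendieckTopology D)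

lemma app_injective_of_mono {I G : Sheaf K AddCommGrpCat.{u}} (m : I ⟶ G) [Mono m] (V : Dᵒᵖ) :
    Function.Injective (m.hom.app V).hom := by
  have h1 : Mono m.hom := inferInstance
  have h2 : Mono (m.hom.app V) := inferInstance
  exact (AddCommGrpCat.mono_iff_injective _).1 h2

lemma naturality_apply' {I G : Sheaf K AddCommGrpCat.{u}} (m : I ⟶ G) {V V' : D} (a : V' ⟶ V)
    (i : I.obj.obj (op V)) :
    (m.hom.app (op V')).hom ((I.obj.map a.op).hom i) =
      (G.obj.map a.op).hom ((m.hom.app (op V)).hom i) := by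
  have := congrArg (fun φ => φ.hom i) (m.hom.naturality a.op)
  exact this

lemma map_map_apply (G : Dᵒᵖ ⥤ AddCommGrpCat.{u}) {V V' V'' : D} (a : V' ⟶ V) (b : V'' ⟶ V')
    (s : G.obj (op V)) :
    (G.map b.op).hom ((G.map a.op).hom s) = (G.map (b ≫ a).op).hom s := by
  rw [op_comp, Functor.map_comp]
  rfl

/-- gluing local preimages along a monomorphism of sheaves -/
theorem exists_section_of_locally {I G : Sheaf K AddCommGrpCat.{u}} (m : I ⟶ G) [Mono m]
    {V : D} (s : G.obj.obj (op V)) (R : Sieve V) (hR : R ∈ K V)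
    (hloc : ∀ ⦃V' : D⦄ (a : V' ⟶ V), R.arrows a →
      ∃ i : I.obj.obj (op V'), (m.hom.app (op V')).hom i = (G.obj.map a.op).hom s) :
    ∃ i : I.obj.obj (op V), (m.hom.app (op V)).hom i = s := by
  have hI := ((isSheaf_iff_isSheaf_of_type _ _).1
    ((Presheaf.isSheaf_iff_isSheaf_forget K I.obj (forget AddCommGrpCat.{u})).1 I.property)) R hR
  choose x hx using hloc
  let fam : Presieve.FamilyOfElements (I.obj ⋙ forget AddCommGrpCat.{u}) R.arrows :=
    fun V' a ha => x a ha
  have hcompat : fam.Compatible := by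
    rw [Presieve.compatible_iff_sieveCompatible]
    intro V' V'' a b ha
    apply app_injective_of_mono K m
    change (m.hom.app (op V'')).hom (x (b ≫ a) _) =
      (m.hom.app (op V'')).hom ((I.obj.map b.op).hom (x a ha))
    rw [hx, naturality_apply', hx, map_map_apply]
  refine ⟨hI.amalgamate fam hcompat, ?_⟩
  apply SiteCmpB.sep G.property R hR
  intro V' a ha
  rw [← naturality_apply']
  have h1 : (I.obj.map a.op).hom (hI.amalgamate fam hcompat) = x a ha :=
    hI.valid_glue hcompat a ha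
  rw [h1, hx]

end Gen

section Eps

variable {D : Type u} [SmallCategory D] {K K' : GrothendieckTopology D} (h : K' ≤ K)

/-- `ε_*` -/
noncomputable abbrev E : Sheaf K AddCommGrpCat.{u} ⥤ Sheaf K' AddCommGrpCat.{u} :=
  SiteCmp.epsSh h AddCommGrpCat.{u}

instance E_additive : (E h).Additive :=
  haveI := SiteCmp.idContinuous h
  inferInstanceAs (CohSite.push K K' (𝟭 D)).Additive

instance E_preservesFiniteLimits : PreservesFiniteLimits (E h) :=
  haveI := SiteCmp.idContinuous h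
  have := (Functor.sheafPullbackConstruction.sheafAdjunctionContinuous (𝟭 D)
    AddCommGrpCat.{u} K' K).rightAdjoint_preservesLimits
  inferInstanceAs (PreservesFiniteLimits ((𝟭 D).sheafPushforwardContinuous AddCommGrpCat.{u} K' K))

lemma E_map_app {F G : Sheaf K AddCommGrpCat.{u}} (φ : F ⟶ G) (V : Dᵒᵖ) :
    ((E h).map φ).hom.app V = φ.hom.app V := rfl

end Eps

section First

variable {C : Type u} [SmallCategory C] {J J' : GrothendieckTopology C} (h : J' ≤ J) {Y : C}
  (S : ShortComplex (Sheaf (J.over Y) AddCommGrpCat.{u}))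

/-- the canonical map to the terminal object of `C/Y` -/
def sT (V : Over Y) : V ⟶ Over.mk (𝟙 Y) := Over.homMk V.hom (by simp)

lemma comp_sT {V V' : Over Y} (a : V' ⟶ V) : a ≫ sT V = sT V' := by
  apply Over.OverMorphism.ext
  simp [sT]

/-- the section `s` of `S.X₃` over the terminal object lifts to `S.X₂` over `V` -/
def Liftable (s : S.X₃.obj.obj (op (Over.mk (𝟙 Y)))) (V : Over Y) : Prop :=
  ∃ t : S.X₂.obj.obj (op V), (S.g.hom.app (op V)).hom t = (S.X₃.obj.map (sT V).op).hom s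

variable {S}

lemma Liftable.of_hom {s : S.X₃.obj.obj (op (Over.mk (𝟙 Y)))} {V V' : Over Y} (a : V' ⟶ V)
    (hV : Liftable S s V) : Liftable S s V' := by
  obtain ⟨t, ht⟩ := hV
  refine ⟨(S.X₂.obj.map a.op).hom t, ?_⟩
  rw [naturality_apply', ht, map_map_apply, comp_sT]

lemma res_eq {K : GrothendieckTopology (Over Y)} (F : Sheaf K AddCommGrpCat.{u}) (n : ℕ)
    {U V : Over Y} (g : V ⟶ U) (x : CohSite.HU F n U) :
    CohSite.res F n g x = (Ext.mk₀ (freeShMap K g)).comp x (zero_add n) := rfl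

variable (S)

theorem first (hS : S.ShortExact) {W : C} (f : W ⟶ Y)
    (hkill : ∀ θ : CohSite.HU ((E (SiteCmp.over_le h Y)).obj S.X₁) (0 + 1) (Over.mk f),
      (∀ (W' : C) (p q : W' ⟶ W) (hW : IsPullback p q f f),
        CohSite.res _ (0 + 1) (Over.homMk p rfl : Over.mk (p ≫ f) ⟶ Over.mk f) θ =
          CohSite.res _ (0 + 1) (Over.homMk q hW.w.symm : Over.mk (p ≫ f) ⟶ Over.mk f) θ) →
      ∃ (ι : Type u) (Z : ι → C) (g : ∀ i, Z i ⟶ Y), Sieve.ofArrows Z g ∈ J' Y ∧
        ∀ (i : ι) (W' : C) (p : W' ⟶ Z i) (q : W' ⟶ W), IsPullback p q (g i) f →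
          CohSite.res _ (0 + 1) (Over.homMk q rfl : Over.mk (q ≫ f) ⟶ Over.mk f) θ = 0)
    (s : S.X₃.obj.obj (op (Over.mk (𝟙 Y))))
    (R : Sieve (Over.mk f)) (hR : R ∈ (J'.over Y) (Over.mk f))
    (hlift : ∀ ⦃V' : Over Y⦄ (a : V' ⟶ Over.mk f), R.arrows a → Liftable S s V') :
    ∃ (ι : Type u) (Z : ι → C) (g : ∀ i, Z i ⟶ Y), Sieve.ofArrows Z g ∈ J' Y ∧
      ∀ (i : ι) (W' : C) (p : W' ⟶ Z i) (q : W' ⟶ W), IsPullback p q (g i) f →
        Liftable S s (Over.mk (q ≫ f)) := by
  let K' := J'.over Y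
  let Ef := E (SiteCmp.over_le h Y)
  let g' := Ef.map S.g
  let I := Abelian.image g'
  let e : Ef.obj S.X₂ ⟶ I := Abelian.factorThruImage g'
  let m : I ⟶ Ef.obj S.X₃ := Abelian.image.ι g'
  have fac : e ≫ m = g' := Abelian.image.fac g'
  have hzero : Ef.map S.f ≫ e = 0 := by
    rw [← cancel_mono m, Category.assoc, fac, ← Ef.map_comp, S.zero, Ef.map_zero, zero_comp]
  let S' : ShortComplex (Sheaf K' AddCommGrpCat.{u}) := ShortComplex.mk (Ef.map S.f) e hzero
  have hS' : S'.ShortExact := by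
    have : Mono S.f := hS.mono_f
    have hE : (S.map Ef).Exact :=
      hS.exact.map_of_mono_of_preservesKernel Ef inferInstance inferInstance
    let φ : S' ⟶ S.map Ef :=
      { τ₁ := 𝟙 _
        τ₂ := 𝟙 _
        τ₃ := m
        comm₁₂ := by
          change 𝟙 _ ≫ Ef.map S.f = Ef.map S.f ≫ 𝟙 _
          rw [Category.id_comp, Category.comp_id]
        comm₂₃ := by
          change 𝟙 _ ≫ Ef.map S.g = e ≫ m
          rw [fac, Category.id_comp] }
    haveI : Epi φ.τ₁ := inferInstanceAs (Epi (𝟙 _))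
    haveI : IsIso φ.τ₂ := inferInstanceAs (IsIso (𝟙 _))
    haveI : Mono φ.τ₃ := inferInstanceAs (Mono m)
    have hex : S'.Exact := (ShortComplex.exact_iff_of_epi_of_isIso_of_mono φ).2 hE
    haveI : Mono S'.f := inferInstanceAs (Mono (Ef.map S.f))
    haveI : Epi S'.g := inferInstanceAs (Epi e)
    exact ShortComplex.ShortExact.mk hex
  -- the section over `W`
  let Wf : Over Y := Over.mk f
  let sW : S.X₃.obj.obj (op Wf) := (S.X₃.obj.map (sT Wf).op).hom s
  -- `m` on sections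
  have hm : ∀ {V : Over Y} (t : S.X₂.obj.obj (op V)),
      (m.hom.app (op V)).hom ((e.hom.app (op V)).hom t) = (S.g.hom.app (op V)).hom t := by
    intro V t
    have h1 := congrArg (fun φ => (φ.hom.app (op V)).hom t) fac
    exact h1
  obtain ⟨iW, hiW⟩ : ∃ i : I.obj.obj (op Wf), (m.hom.app (op Wf)).hom i = sW := by
    refine exists_section_of_locally K' m sW R hR ?_
    intro V' a ha
    obtain ⟨t, ht⟩ := hlift a ha
    refine ⟨(e.hom.app (op V')).hom t, ?_⟩
    rw [hm, ht]
    change _ = ((Ef.obj S.X₃).obj.map a.op).hom ((S.X₃.obj.map (sT Wf).op).hom s)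
    change _ = (S.X₃.obj.map a.op).hom ((S.X₃.obj.map (sT Wf).op).hom s)
    rw [map_map_apply, comp_sT]
  -- restriction of `iW`
  have hiW' : ∀ {V : Over Y} (a : V ⟶ Wf),
      (m.hom.app (op V)).hom ((I.obj.map a.op).hom iW) = (S.X₃.obj.map (sT V).op).hom s := by
    intro V a
    rw [naturality_apply', hiW]
    change (S.X₃.obj.map a.op).hom ((S.X₃.obj.map (sT Wf).op).hom s) = _
    rw [map_map_apply, comp_sT]
  let shat : freeSh K' Wf ⟶ I := (shSecEquiv K' Wf I).symm iW
  have hshat : ∀ {V : Over Y} (a : V ⟶ Wf),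
      shSecEquiv K' V I (freeShMap K' a ≫ shat) = (I.obj.map a.op).hom iW := by
    intro V a
    rw [shSecEquiv_naturality_left, AddEquiv.apply_symm_apply]
  let θ : CohSite.HU (Ef.obj S.X₁) (0 + 1) Wf := (Ext.mk₀ shat).comp hS'.extClass (zero_add 1)
  have hresθ : ∀ {V : Over Y} (a : V ⟶ Wf), CohSite.res (Ef.obj S.X₁) (0 + 1) a θ =
      (Ext.mk₀ (freeShMap K' a ≫ shat)).comp hS'.extClass (zero_add 1) := by
    intro V a
    rw [res_eq]
    exact Ext.mk₀_comp_mk₀_assoc _ _ _
  obtain ⟨ι, Z, g, hcov, hz⟩ := hkill θ (by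
    intro W' p q hW
    rw [hresθ, hresθ]
    congr 2
    apply (shSecEquiv K' _ I).injective
    rw [hshat, hshat]
    apply app_injective_of_mono K' m
    rw [hiW', hiW'])
  refine ⟨ι, Z, g, hcov, ?_⟩
  intro i W' p q hW
  have h0 := hz i W' p q hW
  rw [hresθ] at h0
  obtain ⟨x₂, hx₂⟩ := Ext.covariant_sequence_exact₃ _ hS' (Ext.mk₀ (freeShMap K'
    (Over.homMk q rfl : Over.mk (q ≫ f) ⟶ Over.mk f) ≫ shat)) (zero_add 1) h0
  obtain ⟨that, rfl⟩ := (Ext.mk₀_bijective _ _).surjective x₂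
  rw [Ext.mk₀_comp_mk₀] at hx₂
  have h2 : that ≫ e = freeShMap K' (Over.homMk q rfl : Over.mk (q ≫ f) ⟶ Over.mk f) ≫ shat :=
    (Ext.mk₀_bijective _ _).injective hx₂
  refine ⟨shSecEquiv K' _ (Ef.obj S.X₂) that, ?_⟩
  have h3 := shSecEquiv_naturality_right K' (Over.mk (q ≫ f)) e that
  rw [h2, hshat] at h3
  rw [← hiW' (Over.homMk q rfl : Over.mk (q ≫ f) ⟶ Over.mk f), h3]
  exact (hm _).symm

end First

end Groth.Agent.Lib.Helper62.SiteCmpC
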