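import Groth.Agent.Lib.Helper62.SiteCmpC
import Groth.Agent.Lib.Helper45.FibreDescent

/-!
# Comparison of topologies: descent of a lift along a covering in `P` (second half)
-/

universe u

open CategoryTheory Opposite Limits Abelian

namespace Groth.Agent.Lib.Helper62.SiteCmpD

open Groth.Agent.Lib.Helper53.SiteCoh SiteCmpC SiteCmpB

section Gen

variable {D : Type u} [SmallCategory D] (K : GrothendieckTopology D)

lemma exists_of_g_eq_zero (S : ShortComplex (Sheaf K AddCommGrpCat.{u})) (hex : S.Exact) [Mono S.f]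
    (V : Dᵒᵖ) (x : S.X₂.obj.obj V) (hx : (S.g.hom.app V).hom x = 0) :
    ∃ b : S.X₁.obj.obj V, (S.f.hom.app V).hom b = x := by
  let Fn := sheafToPresheaf K AddCommGrpCat.{u} ⋙ (evaluation _ AddCommGrpCat.{u}).obj V
  have hE : (S.map Fn).Exact :=
    hex.map_of_mono_of_preservesKernel Fn inferInstance inferInstance
  rw [ShortComplex.ab_exact_iff] at hE
  exact hE x hx

/-- an epimorphism of abelian sheaves is locally surjective on sections -/
lemma imageSieve_mem_of_epi {A B : Sheaf K AddCommGrpCat.{u}} (π : A ⟶ B) [Epi π] {V : D}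
    (s : B.obj.obj (op V)) : Presheaf.imageSieve π.hom s ∈ K V := by
  haveI h1 : CategoryTheory.Sheaf.IsLocallySurjective π :=
    (CategoryTheory.Sheaf.isLocallySurjective_iff_epi' (φ := π)).2 inferInstance
  haveI h2 : Presheaf.IsLocallySurjective K π.hom := h1
  exact Presheaf.imageSieve_mem K π.hom _

/-- sections killed by the cokernel projection are locally in the image -/
lemma locally_image_of_cokernel_π_eq_zero {A B : Sheaf K AddCommGrpCat.{u}} (η : A ⟶ B) {V : D}
    (z : B.obj.obj (op V)) (hz : ((cokernel.π η).hom.app (op V)).hom z = 0) :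
    ∃ R : Sieve V, R ∈ K V ∧ ∀ ⦃V' : D⦄ (d : V' ⟶ V), R.arrows d →
      ∃ a : A.obj.obj (op V'), (η.hom.app (op V')).hom a = (B.obj.map d.op).hom z := by
  let S₀ : ShortComplex (Sheaf K AddCommGrpCat.{u}) :=
    ShortComplex.mk (kernel.ι (cokernel.π η)) (cokernel.π η) (kernel.condition _)
  have hex : S₀.Exact := ShortComplex.exact_kernel _
  haveI : Mono S₀.f := inferInstanceAs (Mono (kernel.ι (cokernel.π η)))
  obtain ⟨k, hk⟩ := exists_of_g_eq_zero K S₀ hex (op V) z hz
  let eη : A ⟶ kernel (cokernel.π η) := Abelian.factorThruImage η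
  have hfac : eη ≫ kernel.ι (cokernel.π η) = η := Abelian.image.fac η
  haveI : Epi eη := inferInstanceAs (Epi (Abelian.factorThruImage η))
  refine ⟨Presheaf.imageSieve eη.hom k, imageSieve_mem_of_epi K eη k, ?_⟩
  intro V' d hd
  obtain ⟨a, ha⟩ := hd
  refine ⟨a, ?_⟩
  have h1 := congrArg (fun φ => (φ.hom.app (op V')).hom a) hfac
  have h2 : (η.hom.app (op V')).hom a =
      ((kernel.ι (cokernel.π η)).hom.app (op V')).hom ((eη.hom.app (op V')).hom a) := h1.symm
  rw [h2]
  have ha' : (eη.hom.app (op V')).hom a = ((kernel (cokernel.π η)).obj.map d.op).hom k := ha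
  rw [ha', naturality_apply']
  exact congrArg _ hk

end Gen

section Second

variable {C : Type u} [SmallCategory C] {J J' : GrothendieckTopology C} (h : J' ≤ J) {W Y : C}
  (f : W ⟶ Y) [HasPullbacksAlong f]

/-- the first projection `V ×_Y W ⟶ V` -/
noncomputable abbrev ε (V : Over Y) : (uu f).obj V ⟶ V := (Over.mapPullbackAdj f).counit.app V

lemma uu_map_ε {V V' : Over Y} (c : V' ⟶ V) : (uu f).map c ≫ ε f V = ε f V' ≫ c :=
  (Over.mapPullbackAdj f).counit.naturality c

/-- `V ↦ F'(V ×_Y W)` -/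
noncomputable abbrev PsiSh (F' : Sheaf (J'.over Y) AddCommGrpCat.{u}) :
    Sheaf (J'.over Y) AddCommGrpCat.{u} :=
  (CohSite.push (J'.over Y) (J'.over Y) (uu f)).obj F'

/-- the restriction map `F' ⟶ ΨF'` -/
noncomputable def eta (F' : Sheaf (J'.over Y) AddCommGrpCat.{u}) : F' ⟶ PsiSh f F' :=
  ⟨{ app := fun V => F'.obj.map (ε f V.unop).op
     naturality := by
      intro V V' c
      change F'.obj.map c ≫ F'.obj.map (ε f V'.unop).op =
        F'.obj.map (ε f V.unop).op ≫ F'.obj.map ((uu f).map c.unop).op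
      rw [← Functor.map_comp, ← Functor.map_comp]
      congr 1
      apply Quiver.Hom.unop_inj
      simp only [unop_comp, Quiver.Hom.unop_op]
      exact ((Over.mapPullbackAdj f).counit.naturality c.unop).symm }⟩

variable (S : ShortComplex (Sheaf (J.over Y) AddCommGrpCat.{u}))
  (s : S.X₃.obj.obj (op (Over.mk (𝟙 Y)))) (t : S.X₂.obj.obj (op (Over.mk f)))

/-- `t'` lifts `s` over `V` -/
def IsLift (V : Over Y) (t' : S.X₂.obj.obj (op V)) : Prop :=
  (S.g.hom.app (op V)).hom t' = (S.X₃.obj.map (sT V).op).hom s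

/-- `b` measures the difference between `t` and `t'` over `V ×_Y W` -/
def IsB (V : Over Y) (t' : S.X₂.obj.obj (op V)) (b : S.X₁.obj.obj (op ((uu f).obj V))) : Prop :=
  (S.f.hom.app (op ((uu f).obj V))).hom b =
    (S.X₂.obj.map (sndV f V).op).hom t - (S.X₂.obj.map (ε f V).op).hom t'

variable {S s t}

lemma IsLift.res {V V' : Over Y} {t' : S.X₂.obj.obj (op V)} (ht' : IsLift S s V t') (c : V' ⟶ V) :
    IsLift S s V' ((S.X₂.obj.map c.op).hom t') := by
  unfold IsLift at *
  rw [naturality_apply', ht', map_map_apply, comp_sT]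

lemma IsB.res {V V' : Over Y} {t' : S.X₂.obj.obj (op V)} {b : S.X₁.obj.obj (op ((uu f).obj V))}
    (hb : IsB f S t V t' b) (c : V' ⟶ V) :
    IsB f S t V' ((S.X₂.obj.map c.op).hom t') ((S.X₁.obj.map ((uu f).map c).op).hom b) := by
  unfold IsB at *
  rw [naturality_apply', hb, map_sub, map_map_apply, map_map_apply, uu_map_sndV, uu_map_ε,
    ← map_map_apply]

lemma exists_isB (hS : S.ShortExact) (ht : IsLift S s (Over.mk f) t) {V : Over Y}
    {t' : S.X₂.obj.obj (op V)} (ht' : IsLift S s V t') : ∃ b, IsB f S t V t' b := by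
  haveI : Mono S.f := hS.mono_f
  apply exists_of_g_eq_zero (J.over Y) S hS.exact
  unfold IsLift at *
  rw [map_sub, naturality_apply', naturality_apply', ht, ht', map_map_apply, map_map_apply,
    comp_sT, comp_sT, sub_self]

end Second

section Zero

variable {D : Type u} [SmallCategory D] (K : GrothendieckTopology D)

lemma zero_app_apply {A B : Sheaf K AddCommGrpCat.{u}} (V : Dᵒᵖ) (a : A.obj.obj V) :
    ((0 : A ⟶ B).hom.app V).hom a = 0 := by
  have h0 : (0 : A ⟶ B).hom = 0 := (sheafToPresheaf K AddCommGrpCat.{u}).map_zero A B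
  rw [h0]
  rfl

lemma comp_eq_zero_apply {A B B' : Sheaf K AddCommGrpCat.{u}} (φ : A ⟶ B) (ψ : B ⟶ B')
    (w : φ ≫ ψ = 0) (V : Dᵒᵖ) (a : A.obj.obj V) :
    (ψ.hom.app V).hom ((φ.hom.app V).hom a) = 0 := by
  have h1 := congrArg (fun χ => (χ.hom.app V).hom a) w
  exact h1.trans (zero_app_apply K V a)

end Zero

section Second2

set_option backward.isDefEq.respectTransparency false
set_option backward.isDefEq.respectTransparency.types false

variable {C : Type u} [SmallCategory C] {J J' : GrothendieckTopology C} (h : J' ≤ J) {W Y : C}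
  (f : W ⟶ Y) [HasPullbacksAlong f]
  (S : ShortComplex (Sheaf (J.over Y) AddCommGrpCat.{u}))

/-- `ε_* S.X₁` -/
noncomputable abbrev F1' : Sheaf (J'.over Y) AddCommGrpCat.{u} :=
  (E (SiteCmp.over_le h Y)).obj S.X₁

/-- the cokernel of `F₁ ⟶ ΨF₁` as `τ'`-sheaves -/
noncomputable abbrev Qsh : Sheaf (J'.over Y) AddCommGrpCat.{u} := cokernel (eta f (F1' h S))

/-- the projection onto the cokernel -/
noncomputable abbrev piQ : PsiSh f (F1' h S) ⟶ Qsh h f S := cokernel.π (eta f (F1' h S))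

lemma pi_eta (V : Over Y) (c : S.X₁.obj.obj (op V)) :
    ((piQ h f S).hom.app (op V)).hom ((S.X₁.obj.map (ε f V).op).hom c) = 0 :=
  comp_eq_zero_apply (J'.over Y) (eta f (F1' h S)) (piQ h f S) (cokernel.condition _) (op V) c

variable {S} {s : S.X₃.obj.obj (op (Over.mk (𝟙 Y)))} {t : S.X₂.obj.obj (op (Over.mk f))}

lemma pi_eq (hS : S.ShortExact) {V : Over Y} {t' t'' : S.X₂.obj.obj (op V)}
    (h1 : IsLift S s V t') (h2 : IsLift S s V t'')
    {b' b'' : S.X₁.obj.obj (op ((uu f).obj V))}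
    (hb' : IsB f S t V t' b') (hb'' : IsB f S t V t'' b'') :
    ((piQ h f S).hom.app (op V)).hom b' = ((piQ h f S).hom.app (op V)).hom b'' := by
  haveI : Mono S.f := hS.mono_f
  obtain ⟨c, hc⟩ := exists_of_g_eq_zero (J.over Y) S hS.exact (op V) (t' - t'') (by
    unfold IsLift at h1 h2
    rw [map_sub, h1, h2, sub_self])
  have hbb : b' = b'' - (S.X₁.obj.map (ε f V).op).hom c := by
    apply app_injective_of_mono (J.over Y) S.f
    unfold IsB at hb' hb''
    rw [map_sub, hb', hb'', naturality_apply', hc, map_sub]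
    abel
  have h3 : ((piQ h f S).hom.app (op V)).hom (b'' - (S.X₁.obj.map (ε f V).op).hom c) =
      ((piQ h f S).hom.app (op V)).hom b'' := by
    have h4 := map_sub ((piQ h f S).hom.app (op V)).hom b'' ((S.X₁.obj.map (ε f V).op).hom c)
    have h5 : ((piQ h f S).hom.app (op V)).hom ((S.X₁.obj.map (ε f V).op).hom c) = 0 :=
      pi_eta h f S V c
    exact h4.trans ((congrArg (fun w => ((piQ h f S).hom.app (op V)).hom b'' - w) h5).trans
      (sub_zero _))
  rw [hbb]
  exact h3

theorem second (hcov : Sieve.ofArrows (fun _ : PUnit.{u + 1} => W) (fun _ => f) ∈ J Y)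
    (hS : S.ShortExact) (hQ : Presheaf.IsSheaf (J.over Y) (Qsh h f S).obj)
    (ht : IsLift S s (Over.mk f) t) :
    ∃ R : Sieve (Over.mk (𝟙 Y)), R ∈ (J'.over Y) (Over.mk (𝟙 Y)) ∧
      ∀ ⦃V : Over Y⦄ (a : V ⟶ Over.mk (𝟙 Y)), R.arrows a → Liftable S s V := by
  classical
  let T : Over Y := Over.mk (𝟙 Y)
  have hTerm : ∀ {V : Over Y} (a : V ⟶ T), a = sT V := fun a => Over.mkIdTerminal.hom_ext _ _
  haveI : Mono S.f := hS.mono_f
  haveI : Epi S.g := hS.epi_g
  -- the sieve where `s` lifts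
  let R₀ : Sieve T :=
    { arrows := fun V _ => Liftable S s V
      downward_closed := fun hV c => Liftable.of_hom c hV }
  have hR₀ : R₀ ∈ (J.over Y) T := by
    refine (J.over Y).superset_covering ?_ (imageSieve_mem_of_epi (J.over Y) S.g s)
    rintro V a ⟨t', ht'⟩
    refine ⟨t', ?_⟩
    rw [← hTerm a]
    exact ht'
  have hQ' := ((isSheaf_iff_isSheaf_of_type _ _).1
    ((Presheaf.isSheaf_iff_isSheaf_forget (J.over Y) (Qsh h f S).obj
      (forget AddCommGrpCat.{u})).1 hQ)) R₀ hR₀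
  have hex : ∀ ⦃V : Over Y⦄ (a : V ⟶ T), R₀.arrows a →
      ∃ (t' : S.X₂.obj.obj (op V)) (b : S.X₁.obj.obj (op ((uu f).obj V))),
        IsLift S s V t' ∧ IsB f S t V t' b := by
    rintro V a ⟨t', ht'⟩
    obtain ⟨b, hb⟩ := exists_isB f hS ht ht'
    exact ⟨t', b, ht', hb⟩
  choose t₀ b₀ ht₀ hb₀ using hex
  let fam : Presieve.FamilyOfElements ((Qsh h f S).obj ⋙ forget AddCommGrpCat.{u}) R₀.arrows :=
    fun V a ha => ((piQ h f S).hom.app (op V)).hom (b₀ a ha)
  have hcompat : fam.Compatible := by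
    rw [Presieve.compatible_iff_sieveCompatible]
    intro V V' a c ha
    exact (pi_eq h f hS (ht₀ _ _) ((ht₀ a ha).res c) (hb₀ _ _) ((hb₀ a ha).res f c)).trans
      (naturality_apply' (J'.over Y) (piQ h f S) c (b₀ a ha))
  let q : (Qsh h f S).obj.obj (op T) := hQ'.amalgamate fam hcompat
  have hq : ∀ {V : Over Y} (t' : S.X₂.obj.obj (op V)) (b : S.X₁.obj.obj (op ((uu f).obj V))),
      IsLift S s V t' → IsB f S t V t' b →
      ((Qsh h f S).obj.map (sT V).op).hom q = ((piQ h f S).hom.app (op V)).hom b := by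
    intro V t' b ht' hb
    have ha : R₀.arrows (sT V) := ⟨t', ht'⟩
    have h1 : ((Qsh h f S).obj.map (sT V).op).hom q = fam (sT V) ha :=
      hQ'.valid_glue hcompat (sT V) ha
    rw [h1]
    exact pi_eq h f hS (ht₀ _ ha) ht' (hb₀ _ ha) hb
  haveI : Epi (piQ h f S) := inferInstanceAs (Epi (cokernel.π _))
  refine ⟨Presheaf.imageSieve (piQ h f S).hom q,
    imageSieve_mem_of_epi (J'.over Y) (piQ h f S) q, ?_⟩
  rintro V a ⟨b₁, hb₁⟩
  have hb₁' : ((piQ h f S).hom.app (op V)).hom b₁ = ((Qsh h f S).obj.map (sT V).op).hom q := by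
    rw [← hTerm a]
    exact hb₁
  let b₁' : S.X₁.obj.obj (op ((uu f).obj V)) := b₁
  let x : S.X₂.obj.obj (op ((uu f).obj V)) :=
    (S.X₂.obj.map (sndV f V).op).hom t - (S.f.hom.app (op ((uu f).obj V))).hom b₁'
  let R' : Sieve V :=
    { arrows := fun V' c => ∃ y : S.X₂.obj.obj (op V'),
        (S.X₂.obj.map (ε f V').op).hom y = (S.X₂.obj.map ((uu f).map c).op).hom x
      downward_closed := by
        rintro V' V'' c ⟨y, hy⟩ c₂
        refine ⟨(S.X₂.obj.map c₂.op).hom y, ?_⟩
        rw [map_map_apply, ← uu_map_ε, ← map_map_apply, hy, map_map_apply, ← Functor.map_comp] }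
  have hR' : R' ∈ (J.over Y) V := by
    refine (J.over Y).transitive ((J.over Y).pullback_stable a hR₀) R' ?_
    rintro V' c ⟨t', ht'⟩
    obtain ⟨b', hb'⟩ := exists_isB f hS ht ht'
    let b'p : (PsiSh f (F1' h S)).obj.obj (op V') := b'
    let z : (PsiSh f (F1' h S)).obj.obj (op V') :=
      ((PsiSh f (F1' h S)).obj.map c.op).hom b₁ - b'p
    have hz : ((piQ h f S).hom.app (op V')).hom z = 0 := by
      have h5 := map_sub ((piQ h f S).hom.app (op V')).hom
        (((PsiSh f (F1' h S)).obj.map c.op).hom b₁) b'p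
      rw [naturality_apply', hb₁', map_map_apply, comp_sT, hq t' b' ht' hb', sub_self] at h5
      exact h5
    obtain ⟨R'', hR'', hloc''⟩ :=
      locally_image_of_cokernel_π_eq_zero (J'.over Y) (eta f (F1' h S)) z hz
    refine (J.over Y).superset_covering ?_ (SiteCmp.over_le h Y _ hR'')
    intro V'' d hd
    obtain ⟨a0, ha''⟩ := hloc'' d hd
    let a'' : S.X₁.obj.obj (op V'') := a0
    refine ⟨(S.X₂.obj.map d.op).hom t' - (S.f.hom.app (op V'')).hom a'', ?_⟩
    have h3 : (S.X₁.obj.map ((uu f).map d).op).hom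
        ((S.X₁.obj.map ((uu f).map c).op).hom b₁' - b') =
        (S.X₁.obj.map (ε f V'').op).hom a'' := ha''.symm
    rw [map_sub] at h3
    have hz2 : (S.X₁.obj.map ((uu f).map d).op).hom ((S.X₁.obj.map ((uu f).map c).op).hom b₁') =
        (S.X₁.obj.map (ε f V'').op).hom a'' + (S.X₁.obj.map ((uu f).map d).op).hom b' :=
      sub_eq_iff_eq_add.1 h3
    have hB := (hb'.res f d)
    unfold IsB at hB
    have h6 : (S.X₂.obj.map ((uu f).map (d ≫ c)).op).hom
        ((S.f.hom.app (op ((uu f).obj V))).hom b₁') =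
        (S.X₂.obj.map (ε f V'').op).hom ((S.f.hom.app (op V'')).hom a'') +
          ((S.X₂.obj.map (sndV f V'').op).hom t -
            (S.X₂.obj.map (ε f V'').op).hom ((S.X₂.obj.map d.op).hom t')) := by
      rw [← naturality_apply', Functor.map_comp, ← map_map_apply, hz2, map_add, hB,
        naturality_apply']
    change (S.X₂.obj.map (ε f V'').op).hom
        ((S.X₂.obj.map d.op).hom t' - (S.f.hom.app (op V'')).hom a'') =
      (S.X₂.obj.map ((uu f).map (d ≫ c)).op).hom
        ((S.X₂.obj.map (sndV f V).op).hom t - (S.f.hom.app (op ((uu f).obj V))).hom b₁')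
    have h7 : (S.X₂.obj.map ((uu f).map (d ≫ c)).op).hom ((S.X₂.obj.map (sndV f V).op).hom t) =
        (S.X₂.obj.map (sndV f V'').op).hom t := by
      rw [map_map_apply, uu_map_sndV]
    rw [map_sub, map_sub, h6, h7]
    abel
  obtain ⟨y, hy⟩ := Groth.Agent.Lib.Helper45.FibreDescent.descent J f hcov S.X₂ V x R' hR'
    (fun _ _ hc => hc)
  refine ⟨y, ?_⟩
  apply Groth.Agent.Lib.Helper45.FibreDescent.map_counit_injective J f hcov S.X₃ V
  change (S.X₃.obj.map (ε f V).op).hom ((S.g.hom.app (op V)).hom y) =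
    (S.X₃.obj.map (ε f V).op).hom ((S.X₃.obj.map (sT V).op).hom s)
  have hy' : (S.X₂.obj.map (ε f V).op).hom y = x := hy
  rw [← naturality_apply', hy']
  change (S.g.hom.app (op ((uu f).obj V))).hom
      ((S.X₂.obj.map (sndV f V).op).hom t - (S.f.hom.app (op ((uu f).obj V))).hom b₁') = _
  unfold IsLift at ht
  rw [map_sub, comp_eq_zero_apply (J.over Y) S.f S.g S.zero, sub_zero, naturality_apply', ht,
    map_map_apply, map_map_apply, comp_sT, comp_sT]

end Second2

end Groth.Agent.Lib.Helper62.SiteCmpD
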