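import Groth.Agent.Lib.Helper62.SiteCmpD
import Groth.Agent.S9075

/-!
# Comparison of topologies: `ε_*` of a short exact sequence with kernel in `A` stays right exact
-/

universe u

open CategoryTheory Opposite Limits Abelian

namespace Groth.Agent.Lib.Helper62.SiteCmpE

open Groth.Agent.Lib.Helper53.SiteCoh SiteCmpC SiteCmpB SiteCmpD

section Rebase

variable {C : Type u} [SmallCategory C] (J : GrothendieckTopology C) {X Y' : C} (a : Y' ⟶ X)

/-- restriction of abelian sheaves from `C/X` to `C/Y'` -/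
noncomputable abbrev resJ :
    Sheaf (J.over X) AddCommGrpCat.{u} ⥤ Sheaf (J.over Y') AddCommGrpCat.{u} :=
  CohSite.push (J.over X) (J.over Y') (Over.map a)

instance resJ_preservesFiniteLimits : PreservesFiniteLimits (resJ J a) :=
  have : PreservesLimitsOfSize.{0, 0} (resJ J a) :=
    (Functor.sheafPullbackConstruction.sheafAdjunctionContinuous (Over.map a)
      AddCommGrpCat.{u} (J.over Y') (J.over X)).rightAdjoint_preservesLimits
  inferInstance

instance resJ_preservesFiniteColimits : PreservesFiniteColimits (resJ J a) :=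
  have : PreservesColimitsOfSize.{0, 0} (resJ J a) :=
    ((Over.map a).sheafAdjunctionCocontinuous AddCommGrpCat.{u}
      (J.over Y') (J.over X)).leftAdjoint_preservesColimits
  inferInstance

set_option backward.isDefEq.respectTransparency false
set_option backward.isDefEq.respectTransparency.types false

variable {J} (S : ShortComplex (Sheaf (J.over X) AddCommGrpCat.{u}))

/-- `s` restricted along `m` lifts to `S.X₂` -/
def LiftAt {V : Over X} (s : S.X₃.obj.obj (op V)) {V' : Over X} (m : V' ⟶ V) : Prop :=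
  ∃ t : S.X₂.obj.obj (op V'), (S.g.hom.app (op V')).hom t = (S.X₃.obj.map m.op).hom s

variable {S}

lemma LiftAt.of_eq {V : Over X} {s : S.X₃.obj.obj (op V)} {V' V'' : Over X} {m : V' ⟶ V}
    (hm : LiftAt S s m) (c : V'' ⟶ V') {m' : V'' ⟶ V} (hc : c ≫ m = m') : LiftAt S s m' := by
  obtain ⟨t, ht⟩ := hm
  refine ⟨(S.X₂.obj.map c.op).hom t, ?_⟩
  rw [naturality_apply', ht, map_map_apply, hc]

lemma liftable_iff {s : S.X₃.obj.obj (op (Over.mk (𝟙 X)))} (V : Over X) :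
    Liftable S s V ↔ LiftAt S s (sT V) := Iff.rfl

lemma hom_terminal_ext {V : Over X} (m m' : V ⟶ Over.mk (𝟙 X)) : m = m' :=
  Over.mkIdTerminal.hom_ext _ _

variable (J S)

/-- the rebased short complex -/
noncomputable abbrev Sa : ShortComplex (Sheaf (J.over Y') AddCommGrpCat.{u}) := S.map (resJ J a)

variable {J S}

/-- the rebased section -/
noncomputable def sa {V : Over X} (s : S.X₃.obj.obj (op V))
    (μ : (Over.map a).obj (Over.mk (𝟙 Y')) ⟶ V) :
    (Sa J a S).X₃.obj.obj (op (Over.mk (𝟙 Y'))) :=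
  (S.X₃.obj.map μ.op).hom s

lemma liftable_rebase_iff {V : Over X} (s : S.X₃.obj.obj (op V))
    (μ : (Over.map a).obj (Over.mk (𝟙 Y')) ⟶ V) (V' : Over Y') :
    Liftable (Sa J a S) (sa a s μ) V' ↔ LiftAt S s ((Over.map a).map (sT V') ≫ μ) := by
  constructor
  · rintro ⟨t, ht⟩
    refine ⟨t, ?_⟩
    exact ht.trans (map_map_apply S.X₃.obj μ ((Over.map a).map (sT V')) s)
  · rintro ⟨t, ht⟩
    refine ⟨t, ?_⟩
    exact ht.trans (map_map_apply S.X₃.obj μ ((Over.map a).map (sT V')) s).symm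

end Rebase

section Main

set_option backward.isDefEq.respectTransparency false
set_option backward.isDefEq.respectTransparency.types false

variable {C : Type u} [SmallCategory C] {J J' : GrothendieckTopology C} (h : J' ≤ J)
    (P : MorphismProperty C)
    (A' : ∀ X : C, ObjectProperty (Sheaf (J'.over X) AddCommGrpCat.{u}))
    [∀ X : C, WSerre.IsWeakSerre (A' X)]
    (h1 : ∀ ⦃X Y : C⦄ (f : X ⟶ Y), P f → ∀ ⦃Y' : C⦄ (g : Y' ⟶ Y),
      ∃ (W : C) (p : W ⟶ Y') (q : W ⟶ X), IsPullback p q g f ∧ P p)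
    (h2 : ∀ ⦃X Y : C⦄ (f : X ⟶ Y) (F' : Sheaf (J'.over Y) AddCommGrpCat.{u}), A' Y F' →
      A' X ((CohSite.push (J'.over Y) (J'.over X) (Over.map f)).obj F'))
    (h3 : ∀ (X : C) (F' : Sheaf (J'.over X) AddCommGrpCat.{u}), A' X F' →
      Presheaf.IsSheaf (J.over X) F'.obj)
    (h4 : ∀ ⦃X Y : C⦄ (f : X ⟶ Y)
      [((Over.map f).sheafPushforwardCocontinuous AddCommGrpCat.{u} (J'.over X)
        (J'.over Y)).Additive],
      P f → ∀ (F' : Sheaf (J'.over X) AddCommGrpCat.{u}), A' X F' → ∀ i : ℕ,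
        A' Y ((((Over.map f).sheafPushforwardCocontinuous AddCommGrpCat.{u} (J'.over X)
          (J'.over Y)).rightDerived i).obj F'))
    (h5 : ∀ (U : C) (S : Sieve U), S ∈ J U → ∃ (ι : Type u) (V : ι → C) (v : ∀ j, V j ⟶ U),
      Sieve.ofArrows V v ∈ J' U ∧ ∀ j, ∃ (W : C) (w : W ⟶ V j), P w ∧
        Sieve.ofArrows (fun _ : PUnit.{u + 1} => W) (fun _ => w) ∈ J (V j) ∧
        ∃ (κ : Type u) (Wk : κ → C) (wk : ∀ k, Wk k ⟶ W), Sieve.ofArrows Wk wk ∈ J' W ∧
          ∀ k, S.arrows (wk k ≫ w ≫ v j))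

include h2 in
lemma A'_rebase {X Y' : C} (a : Y' ⟶ X) (F : Sheaf (J.over X) AddCommGrpCat.{u})
    (hF : A' X ((E (SiteCmp.over_le h X)).obj F)) :
    A' Y' ((E (SiteCmp.over_le h Y')).obj ((resJ J a).obj F)) :=
  h2 a _ hF

include h1 in
lemma hasPullbacksAlong_of_P {X Y : C} (f : X ⟶ Y) (hf : P f) : HasPullbacksAlong f :=
  fun {W} g => by
    obtain ⟨W', p, q, hW, _⟩ := h1 f hf g
    exact hW.hasPullback

include h2 h3 h4 in
lemma hQ_of {W Z : C} (p : W ⟶ Z) (hp : P p) [HasPullbacksAlong p]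
    (S : ShortComplex (Sheaf (J.over Z) AddCommGrpCat.{u})) (hA : A' Z (F1' h S)) :
    Presheaf.IsSheaf (J.over Z) (Qsh h p S).obj := by
  have h_res := h2 p _ hA
  have h_R0 := h4 p hp _ h_res 0
  haveI : PreservesFiniteLimits (SiteCmpA.Φ J' p) :=
    have := (SiteCmpA.adjΦ J' p).rightAdjoint_preservesLimits
    inferInstance
  let G := (SiteCmpA.res J' p).obj (F1' h S)
  let iso1 : ((SiteCmpA.Φ J' p).rightDerived 0).obj G ≅ (SiteCmpA.Φ J' p).obj G :=
    (Functor.rightDerivedZeroIsoSelf (SiteCmpA.Φ J' p)).app G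
  let iso2 : (SiteCmpA.Φ J' p).obj G ≅ (SiteCmpA.Ψ J' p).obj G := (SiteCmpA.isoΦΨ J' p).app G
  have hPsi : A' Z (PsiSh p (F1' h S)) := (A' Z).prop_of_iso (iso1 ≪≫ iso2) h_R0
  have hQ : A' Z (Qsh h p S) := (A' Z).prop_cokernel (eta p (F1' h S)) hA hPsi
  exact h3 Z _ hQ

include h1 h2 h3 h4 h5 in
theorem inner {Y : C} (S : ShortComplex (Sheaf (J.over Y) AddCommGrpCat.{u})) (hS : S.ShortExact)
    (hA : A' Y (F1' h S)) {W : C} (f : W ⟶ Y) (hf : P f)
    (hcov : Sieve.ofArrows (fun _ : PUnit.{u + 1} => W) (fun _ => f) ∈ J Y)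
    (s : S.X₃.obj.obj (op (Over.mk (𝟙 Y))))
    (R : Sieve (Over.mk f)) (hR : R ∈ (J'.over Y) (Over.mk f))
    (hlift : ∀ ⦃V' : Over Y⦄ (a : V' ⟶ Over.mk f), R.arrows a → Liftable S s V') :
    ∃ R₁ : Sieve (Over.mk (𝟙 Y)), R₁ ∈ (J'.over Y) (Over.mk (𝟙 Y)) ∧
      ∀ ⦃V : Over Y⦄ (a : V ⟶ Over.mk (𝟙 Y)), R₁.arrows a → Liftable S s V := by
  let T : Over Y := Over.mk (𝟙 Y)
  have hkill := Groth.Agent.S9075.result h P A' h1 h2 h3 h4 h5 f hf hcov _ hA 0
  obtain ⟨ι, Z, g, hcovZ, hZ⟩ := first h S hS f hkill s R hR hlift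
  let Rs : Sieve T :=
    { arrows := fun V _ => Liftable S s V
      downward_closed := fun hV c => Liftable.of_hom c hV }
  refine ⟨Rs, ?_, fun V a ha => ha⟩
  rw [GrothendieckTopology.mem_over_iff]
  refine J'.transitive hcovZ _ ?_
  intro U a ha
  rw [Sieve.mem_ofArrows_iff] at ha
  obtain ⟨i, b, rfl⟩ := ha
  rw [Sieve.pullback_comp]
  apply J'.pullback_stable
  -- now for a fixed `i`
  obtain ⟨Wi, p, q, hW, hp⟩ := h1 f hf (g i)
  haveI : HasPullbacksAlong p := hasPullbacksAlong_of_P P h1 p hp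
  let Ti : Over (Z i) := Over.mk (𝟙 (Z i))
  let μ : (Over.map (g i)).obj Ti ⟶ T := sT _
  let Si := Sa J (g i) S
  have hSi : Si.ShortExact := hS.map_of_exact (resJ J (g i))
  let si := sa (g i) s μ
  have hAi : A' (Z i) (F1' h Si) := A'_rebase h A' h2 (g i) S.X₁ hA
  have hQi := hQ_of h P A' h2 h3 h4 p hp Si hAi
  have hcovi : Sieve.ofArrows (fun _ : PUnit.{u + 1} => Wi) (fun _ => p) ∈ J (Z i) := by
    refine J.superset_covering ?_ (J.pullback_stable (g i) hcov)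
    intro U c hc
    rw [Sieve.pullback_apply, Sieve.mem_ofArrows_iff] at hc
    obtain ⟨_, k, hk⟩ := hc
    rw [Sieve.mem_ofArrows_iff]
    exact ⟨PUnit.unit, hW.lift c k hk, (hW.lift_fst c k hk).symm⟩
  obtain ⟨ti, hti⟩ : Liftable Si si (Over.mk p) := by
    rw [liftable_rebase_iff]
    have h0 : LiftAt S s (sT (Over.mk (q ≫ f))) := hZ i Wi p q hW
    exact h0.of_eq (Over.homMk (𝟙 Wi) (by simp [hW.w]) :
      (Over.map (g i)).obj (Over.mk p) ⟶ Over.mk (q ≫ f)) (hom_terminal_ext _ _)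
  obtain ⟨Ri, hRi, hli⟩ := second h p hcovi hSi hQi hti
  refine J'.superset_covering ?_ ((J'.mem_over_iff Ri).1 hRi)
  intro U c hc
  rw [Sieve.overEquiv_iff] at hc
  have h1' := (liftable_rebase_iff (g i) s μ _).1 (hli _ hc)
  rw [Sieve.pullback_apply, Sieve.overEquiv_iff]
  change LiftAt S s (sT _)
  exact h1'.of_eq (Over.homMk (𝟙 U) (by simp [Ti, T]) :
    Over.mk ((c ≫ g i) ≫ T.hom) ⟶ (Over.map (g i)).obj (Over.mk (c ≫ Ti.hom)))
    (hom_terminal_ext _ _)

end Main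

end Groth.Agent.Lib.Helper62.SiteCmpE
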