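import Groth.Agent.Lib.Helper62.SiteCmpE

/-!
# Comparison of topologies: `ε_*` is exact on short exact sequences with kernel in `A`
-/

universe u

open CategoryTheory Opposite Limits Abelian

namespace Groth.Agent.Lib.Helper62.SiteCmpF

open Groth.Agent.Lib.Helper53.SiteCoh SiteCmpC SiteCmpB SiteCmpD SiteCmpE

set_option backward.isDefEq.respectTransparency false
set_option backward.isDefEq.respectTransparency.types false

variable {C : Type u} [SmallCategory C] {J J' : GrothendieckTopology C} (h : J' ≤ J)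
    (P : MorphismProperty C)
    (A' : ∀ X : C, ObjectProperty (Sheaf (J'.over X) AddCommGrpCat.{u}))
    [∀ X : C, WSerre.IsWeakSerre (A' X)]
    (h1 : ∀ ⦃X Y : C⦄ (f : X ⟶ Y), P f → ∀ ⦃Y' : C⦄ (g : Y' ⟶ Y),
      ∃ (W : C) (p : W ⟶ Y') (q : W ⟶ X), IsPullback p q g f ∧ P p)
    (h2 : ∀ ⦃X Y : C⦄ (f : X ⟶ Y) (F' : Sheaf (J'.over Y) AddCommGrpCat.{u}), A' Y F' →
      A' X ((CohSite.push (J'.over Y) (J'.over X) (Over.map f)).obj F'))
    (h3 : ∀ (X : C) (F' : Sheaf (J'.over X) AddCommGrpCat.{u}), A' X F' →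
      Presheaf.IsSheaf (J.over X) F'.obj)
    (h4 : ∀ ⦃X Y : C⦄ (f : X ⟶ Y)
      [((Over.map f).sheafPushforwardCocontinuous AddCommGrpCat.{u} (J'.over X)
        (J'.over Y)).Additive],
      P f → ∀ (F' : Sheaf (J'.over X) AddCommGrpCat.{u}), A' X F' → ∀ i : ℕ,
        A' Y ((((Over.map f).sheafPushforwardCocontinuous AddCommGrpCat.{u} (J'.over X)
          (J'.over Y)).rightDerived i).obj F'))
    (h5 : ∀ (U : C) (S : Sieve U), S ∈ J U → ∃ (ι : Type u) (V : ι → C) (v : ∀ j, V j ⟶ U),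
      Sieve.ofArrows V v ∈ J' U ∧ ∀ j, ∃ (W : C) (w : W ⟶ V j), P w ∧
        Sieve.ofArrows (fun _ : PUnit.{u + 1} => W) (fun _ => w) ∈ J (V j) ∧
        ∃ (κ : Type u) (Wk : κ → C) (wk : ∀ k, Wk k ⟶ W), Sieve.ofArrows Wk wk ∈ J' W ∧
          ∀ k, S.arrows (wk k ≫ w ≫ v j))

include h1 h2 h3 h4 h5 in
theorem epi_E_map_g (X : C) (S : ShortComplex (Sheaf (J.over X) AddCommGrpCat.{u}))
    (hS : S.ShortExact) (hA : A' X ((E (SiteCmp.over_le h X)).obj S.X₁)) :
    Epi ((E (SiteCmp.over_le h X)).map S.g) := by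
  rw [← CategoryTheory.Sheaf.isLocallySurjective_iff_epi']
  constructor
  intro V s
  let s' : S.X₃.obj.obj (op V) := s
  haveI : Epi S.g := hS.epi_g
  have hR₀ : Presheaf.imageSieve S.g.hom s' ∈ (J.over X) V :=
    imageSieve_mem_of_epi (J.over X) S.g s'
  have hR₀' := (J.mem_over_iff _).1 hR₀
  obtain ⟨ι, Vj, v, hcovV, hj⟩ := h5 V.left _ hR₀'
  rw [GrothendieckTopology.mem_over_iff]
  refine J'.transitive hcovV _ ?_
  intro U a ha
  rw [Sieve.mem_ofArrows_iff] at ha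
  obtain ⟨j, b, rfl⟩ := ha
  rw [Sieve.pullback_comp]
  apply J'.pullback_stable
  obtain ⟨Wj, w, hw, hcovw, κ, Wk, wk, hcovk, hk⟩ := hj j
  let aj : Vj j ⟶ X := v j ≫ V.hom
  let Tj : Over (Vj j) := Over.mk (𝟙 (Vj j))
  let μ : (Over.map aj).obj Tj ⟶ V := Over.homMk (v j) (by simp [Tj, aj])
  let Sj := Sa J aj S
  have hSj : Sj.ShortExact := hS.map_of_exact (resJ J aj)
  let sj := sa aj s' μ
  have hAj : A' (Vj j) (F1' h Sj) := A'_rebase h A' h2 aj S.X₁ hA
  have hlift : ∀ ⦃V' : Over (Vj j)⦄ (c : V' ⟶ Over.mk w),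
      ((Sieve.overEquiv (Over.mk w)).symm (Sieve.ofArrows Wk wk)).arrows c →
        Liftable Sj sj V' := by
    intro V' c hc
    rw [Sieve.overEquiv_symm_iff, Sieve.mem_ofArrows_iff] at hc
    obtain ⟨k, b', hb'⟩ := hc
    rw [liftable_rebase_iff]
    have h0 := hk k
    rw [Sieve.overEquiv_iff] at h0
    have h0' : LiftAt S s'
        (Over.homMk (wk k ≫ w ≫ v j) : Over.mk ((wk k ≫ w ≫ v j) ≫ V.hom) ⟶ V) := h0
    have hV' : V'.hom = (b' ≫ wk k) ≫ w := by
      have := Over.w c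
      simp only [Over.mk_hom] at this
      rw [← this, hb']
    refine h0'.of_eq (Over.homMk b' (by simp [hV', aj]) :
      (Over.map aj).obj V' ⟶ Over.mk ((wk k ≫ w ≫ v j) ≫ V.hom)) ?_
    apply Over.OverMorphism.ext
    simp [μ, sT, hV']
  obtain ⟨R₁, hR₁, hl₁⟩ := inner h P A' h1 h2 h3 h4 h5 Sj hSj hAj w hw hcovw sj _
    (J'.overEquiv_symm_mem_over (Over.mk w) _ hcovk) hlift
  refine J'.superset_covering ?_ ((J'.mem_over_iff R₁).1 hR₁)
  intro U c hc
  rw [Sieve.overEquiv_iff] at hc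
  have h1' := (liftable_rebase_iff aj s' μ _).1 (hl₁ _ hc)
  rw [Sieve.pullback_apply, Sieve.overEquiv_iff]
  change LiftAt S s' (Over.homMk (c ≫ v j) : Over.mk ((c ≫ v j) ≫ V.hom) ⟶ V)
  refine h1'.of_eq (Over.homMk (𝟙 U) (by simp [Tj, aj]) :
    Over.mk ((c ≫ v j) ≫ V.hom) ⟶ (Over.map aj).obj (Over.mk (c ≫ Tj.hom))) ?_
  apply Over.OverMorphism.ext
  simp [μ, sT, Tj]

include h1 h2 h3 h4 h5 in
theorem isClosedUnderExtensions (X : C) :
    ((A' X).inverseImage (SiteCmp.epsSh (SiteCmp.over_le h X)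
      AddCommGrpCat.{u})).IsClosedUnderExtensions where
  prop_X₂_of_shortExact {S} hS h₁ h₃ := by
    have hepi := epi_E_map_g h P A' h1 h2 h3 h4 h5 X S hS h₁
    have : Mono S.f := hS.mono_f
    have hE : (S.map (E (SiteCmp.over_le h X))).Exact :=
      hS.exact.map_of_mono_of_preservesKernel (E (SiteCmp.over_le h X)) inferInstance inferInstance
    haveI : Mono (S.map (E (SiteCmp.over_le h X))).f :=
      inferInstanceAs (Mono ((E (SiteCmp.over_le h X)).map S.f))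
    haveI : Epi (S.map (E (SiteCmp.over_le h X))).g := hepi
    exact (A' X).prop_X₂_of_shortExact (ShortComplex.ShortExact.mk hE) h₁ h₃

end Groth.Agent.Lib.Helper62.SiteCmpF
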