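import Mathlib

/-!
The boundary morphisms attached to two degreewise splittings of a short exact sequence of cochain
complexes are homotopic.
-/

set_option autoImplicit false
universe v u

open CategoryTheory CategoryTheory.Limits CochainComplex HomComplex

namespace Groth.Agent.Lib.Helper62.SplitHomotopy

variable {C : Type u} [Category.{v} C] [Preadditive C]
  (S : ShortComplex (CochainComplex C ℤ))
  (σ σ' : ∀ n : ℤ, (S.map (HomologicalComplex.eval C (ComplexShape.up ℤ) n)).Splitting)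

/-- The section in degree `n`. -/
def sec (n : ℤ) : S.X₃.X n ⟶ S.X₂.X n := (σ n).s

/-- The retraction in degree `n`. -/
def ret (n : ℤ) : S.X₂.X n ⟶ S.X₁.X n := (σ n).r

lemma f_ret (n : ℤ) : S.f.f n ≫ ret S σ n = 𝟙 _ := (σ n).f_r

lemma sec_g (n : ℤ) : sec S σ n ≫ S.g.f n = 𝟙 _ := (σ n).s_g

lemma sec_ret (n : ℤ) : sec S σ n ≫ ret S σ n = 0 := (σ n).s_r

lemma ret_f_add (n : ℤ) : ret S σ n ≫ S.f.f n + S.g.f n ≫ sec S σ n = 𝟙 _ := (σ n).id

lemma f_g (n : ℤ) : S.f.f n ≫ S.g.f n = 0 := by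
  rw [← HomologicalComplex.comp_f, S.zero, HomologicalComplex.zero_f]

/-- The difference of the two sections composed with the retraction. -/
def uu (n : ℤ) : S.X₃.X n ⟶ S.X₁.X n := (sec S σ' n - sec S σ n) ≫ ret S σ n

lemma sec'_eq (n : ℤ) : sec S σ' n = sec S σ n + uu S σ σ' n ≫ S.f.f n := by
  have h1 := ret_f_add S σ n
  have h2 := sec_ret S σ n
  have h3 := sec_g S σ' n
  have : sec S σ' n = sec S σ' n ≫ (ret S σ n ≫ S.f.f n + S.g.f n ≫ sec S σ n) := by
    rw [h1, Category.comp_id]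
  rw [Preadditive.comp_add, ← Category.assoc _ (S.g.f n), h3, Category.id_comp] at this
  unfold uu
  rw [Category.assoc, Preadditive.sub_comp, ← Category.assoc (sec S σ n), h2, zero_comp,
    sub_zero, add_comm]
  exact this

lemma ret'_eq (n : ℤ) : ret S σ' n = ret S σ n - S.g.f n ≫ uu S σ σ' n := by
  have h1 := ret_f_add S σ' n
  have h2 := f_ret S σ n
  have h3 := sec_ret S σ n
  have : ret S σ n = (ret S σ' n ≫ S.f.f n + S.g.f n ≫ sec S σ' n) ≫ ret S σ n := by
    rw [h1, Category.id_comp]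
  rw [Preadditive.add_comp, Category.assoc, h2, Category.comp_id, Category.assoc] at this
  unfold uu
  rw [Preadditive.sub_comp, h3, sub_zero, eq_sub_iff_add_eq]
  exact this.symm

/-- The key identity relating the two cocycles. -/
lemma key (n : ℤ) :
    sec S σ n ≫ S.X₂.d n (n + 1) ≫ ret S σ (n + 1) =
      sec S σ' n ≫ S.X₂.d n (n + 1) ≫ ret S σ' (n + 1) +
        (S.X₃.d n (n + 1) ≫ uu S σ σ' (n + 1) - uu S σ σ' n ≫ S.X₁.d n (n + 1)) := by
  rw [sec'_eq S σ σ' n, ret'_eq S σ σ' (n + 1)]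
  have hf : S.f.f n ≫ S.X₂.d n (n + 1) = S.X₁.d n (n + 1) ≫ S.f.f (n + 1) := S.f.comm n (n + 1)
  have hg : S.X₂.d n (n + 1) ≫ S.g.f (n + 1) = S.g.f n ≫ S.X₃.d n (n + 1) :=
    (S.g.comm n (n + 1)).symm
  simp only [Preadditive.add_comp, Preadditive.comp_sub, Category.assoc]
  rw [reassoc_of% hf, f_ret S σ (n + 1), Category.comp_id, reassoc_of% hg,
    reassoc_of% (sec_g S σ n), reassoc_of% (f_g S n), zero_comp, comp_zero]
  abel

/-- The difference of the two sections, as a degree `0` cochain from `S.X₃` to `S.X₁`. -/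
def u : Cochain S.X₃ S.X₁ 0 := Cochain.ofHoms (uu S σ σ')

lemma cocycle_eq :
    (cocycleOfDegreewiseSplit S σ).1 = - δ 0 1 (u S σ σ') + (cocycleOfDegreewiseSplit S σ').1 := by
  ext n _ rfl
  rw [Cochain.add_v, Cochain.neg_v,
    δ_v 0 1 (zero_add 1) (u S σ σ') n (n + 1) rfl n (n + 1) (by lia) rfl]
  simp only [cocycleOfDegreewiseSplit, Cocycle.mk_coe, Cochain.mk_v, u, Cochain.ofHoms_v,
    Int.negOnePow_one, Units.neg_smul, one_smul]
  change sec S σ n ≫ S.X₂.d n (n + 1) ≫ ret S σ (n + 1) =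
    -(uu S σ σ' n ≫ S.X₁.d n (n + 1) + -S.X₃.d n (n + 1) ≫ uu S σ σ' (n + 1)) +
      sec S σ' n ≫ S.X₂.d n (n + 1) ≫ ret S σ' (n + 1)
  rw [key S σ σ' n]
  abel

variable [HasBinaryBiproducts C]

/-- The homotopy between the two boundary morphisms. -/
noncomputable def homotopy :
    Homotopy (homOfDegreewiseSplit S σ) (homOfDegreewiseSplit S σ') :=
  (Cochain.equivHomotopy _ _).symm ⟨(u S σ σ').rightShift 1 (-1) (by lia), by
    rw [Cochain.δ_rightShift (u S σ σ') 1 (-1) 0 (by lia) 1 (by lia)]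
    have h1 : Cochain.ofHom (homOfDegreewiseSplit S σ) =
        (cocycleOfDegreewiseSplit S σ).1.rightShift 1 0 (zero_add 1) := by
      simp [homOfDegreewiseSplit]
    have h2 : Cochain.ofHom (homOfDegreewiseSplit S σ') =
        (cocycleOfDegreewiseSplit S σ').1.rightShift 1 0 (zero_add 1) := by
      simp [homOfDegreewiseSplit]
    rw [h1, h2, cocycle_eq S σ σ', Cochain.rightShift_add, Cochain.rightShift_neg,
      Int.negOnePow_one, Units.neg_smul, one_smul]⟩

end Groth.Agent.Lib.Helper62.SplitHomotopy
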