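import Groth.Agent.Lib.Helper62.StkGlueHom
import Groth.Agent.Lib.Helper62.StkLocEss
import Groth.Agent.S5139
import Groth.Prelude.Def_StGerb2

/-!
# Morphisms of gerbes inducing isomorphisms of automorphism sheaves are equivalences (helper62)
-/

set_option autoImplicit false
set_option backward.isDefEq.respectTransparency false
set_option backward.isDefEq.respectTransparency.types false
universe v u
open CategoryTheory CategoryTheory.Functor FibCat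

namespace Groth.Agent.Lib.Helper62.StkGerbeEquiv

open Groth.Agent.Lib.Helper17 Groth.Agent.Lib.Helper17.FG Groth.Agent.Lib.Helper62.StkFF
open Groth.Agent.Lib.Helper62.StkGlue Groth.Agent.Lib.Helper62.StkLocTriv
open Groth.Agent.Lib.Helper62.StkCone Groth.Agent.Lib.Helper62.StkGlueHom

variable {C : Type u} [Category.{v} C] (J : GrothendieckTopology C)
  {𝒳 𝒴 : BasedCategory.{v, max u v} C}

/-- two objects over the same base object of a gerbe have, locally, a common pullback -/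
theorem exists_common (hG : Gerb.LocSurjHom J (FibCat.toSelf 𝒳)) {U : C} (x x' : 𝒳.obj)
    (hx : 𝒳.p.obj x = U) (hx' : 𝒳.p.obj x' = U) :
    ∃ R ∈ J U, ∀ ⦃V : C⦄ (f : V ⟶ U), R f →
      ∃ (x₀ : 𝒳.obj) (a : x₀ ⟶ x) (a' : x₀ ⟶ x'), 𝒳.p.IsHomLift f a ∧ 𝒳.p.IsHomLift f a' := by
  subst hx
  obtain ⟨R, hR, HR⟩ := hG x x' (eqToHom hx'.symm)
    (IsHomLift.eqToHom_domain_lift_id (p := (FibCat.selfOver C).p) hx'.symm rfl)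
  refine ⟨R, hR, fun V f hf => ?_⟩
  obtain ⟨x₀, φ, ψ, h1, h2, -⟩ := HR f hf
  exact ⟨x₀, φ, ψ, h1, h2⟩

/-- any two objects over the same base object have, locally, a common pullback which is also a pullback
of a given object over a terminal object -/
theorem good_cover (h𝒳 : IsFibGrpd 𝒳.p) (hG : Gerb.LocSurjHom J (FibCat.toSelf 𝒳)) (s : 𝒳.obj)
    (hT : Limits.IsTerminal (𝒳.p.obj s)) {U : C} (x₁ x₂ : 𝒳.obj)
    (hx₁ : 𝒳.p.obj x₁ = U) (hx₂ : 𝒳.p.obj x₂ = U) :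
    ∃ R ∈ J U, ∀ ⦃V : C⦄ (f : V ⟶ U), R f →
      ∃ (x₀ : 𝒳.obj) (_ : x₀ ⟶ s) (a₁ : x₀ ⟶ x₁) (a₂ : x₀ ⟶ x₂),
        𝒳.p.IsHomLift f a₁ ∧ 𝒳.p.IsHomLift f a₂ := by
  obtain ⟨sU, cU, hcU⟩ := h𝒳.exists_lift (x := s) (hT.from U)
  have hsU : 𝒳.p.obj sU = U := IsHomLift.domain_eq 𝒳.p (hT.from U) cU
  obtain ⟨R₁, hR₁, H₁⟩ := exists_common J hG x₁ x₂ hx₁ hx₂
  obtain ⟨R₂, hR₂, H₂⟩ := exists_common J hG x₁ sU hx₁ hsU
  refine ⟨R₁ ⊓ R₂, J.intersection_covering hR₁ hR₂, ?_⟩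
  intro V f hf
  obtain ⟨x₀, a₁, a₂, h1, h2⟩ := H₁ f hf.1
  obtain ⟨x₀', a₁', b, h1', hb⟩ := H₂ f hf.2
  obtain ⟨τ, hτ1, hτ2⟩ := exists_iso_of_lifts h𝒳 f a₁' h1' a₁ h1
  have : 𝒳.p.IsHomLift f (τ.hom ≫ a₂) := inferInstance
  exact ⟨x₀', b ≫ cU, a₁', τ.hom ≫ a₂, h1', this⟩

/-- an automorphism over the identity, as an element of the automorphism group of the fibre -/
noncomputable def mkAut (h𝒳 : IsFibGrpd 𝒳.p) (x : 𝒳.obj) (α : x ⟶ x)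
    (hα : 𝒳.p.IsHomLift (𝟙 (𝒳.p.obj x)) α) : Gerb.AutO x :=
  have hi : IsIso α := isIso_of_lift_id h𝒳 α hα
  { hom := ⟨α, hα⟩
    inv := ⟨inv α, IsHomLift.lift_id_inv_isIso (p := 𝒳.p) (𝒳.p.obj x) α⟩
    hom_inv_id := by
      apply Functor.Fiber.hom_ext
      change α ≫ inv α = 𝟙 x
      simp
    inv_hom_id := by
      apply Functor.Fiber.hom_ext
      change inv α ≫ α = 𝟙 x
      simp }

theorem mkAut_hom (h𝒳 : IsFibGrpd 𝒳.p) (x : 𝒳.obj) (α : x ⟶ x)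
    (hα : 𝒳.p.IsHomLift (𝟙 (𝒳.p.obj x)) α) : (mkAut h𝒳 x α hα).hom.1 = α := rfl

theorem inj_of_autMap (h𝒳 : IsFibGrpd 𝒳.p) (φ : 𝒳 ⥤ᵇ 𝒴) (x : 𝒳.obj)
    (h : Function.Injective (Gerb.autMap φ x)) (α : x ⟶ x)
    (hα : 𝒳.p.IsHomLift (𝟙 (𝒳.p.obj x)) α) (e : φ.map α = 𝟙 _) : α = 𝟙 x := by
  have h1 : Gerb.autMap φ x (mkAut h𝒳 x α hα) = Gerb.autMap φ x 1 := by
    rw [map_one]
    apply Aut.ext
    apply Functor.Fiber.hom_ext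
    exact e
  have h2 := h h1
  have h3 := congrArg (fun A : Gerb.AutO x => A.hom.1) h2
  exact h3

theorem surj_of_autMap (h𝒴 : IsFibGrpd 𝒴.p) (φ : 𝒳 ⥤ᵇ 𝒴) (x : 𝒳.obj)
    (h : Function.Surjective (Gerb.autMap φ x)) (β : φ.obj x ⟶ φ.obj x)
    (hβ : 𝒴.p.IsHomLift (𝟙 (𝒳.p.obj x)) β) :
    ∃ α : x ⟶ x, 𝒳.p.IsHomLift (𝟙 (𝒳.p.obj x)) α ∧ φ.map α = β := by
  have hβ' : 𝒴.p.IsHomLift (𝟙 (𝒴.p.obj (φ.obj x))) β :=
    isHomLift_id_of_eq' (φ.w_obj x).symm β hβ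
  obtain ⟨A, hA⟩ := h (mkAut h𝒴 (φ.obj x) β hβ')
  refine ⟨A.hom.1, A.hom.2, ?_⟩
  have := congrArg (fun B : Gerb.AutO (φ.obj x) => B.hom.1) hA
  exact this


section Equiv

variable (h𝒳 : Gerb.IsGerbe J 𝒳) (h𝒴 : Gerb.IsGerbe J 𝒴) (φ : 𝒳 ⥤ᵇ 𝒴) (s : 𝒳.obj)
  (hT : Limits.IsTerminal (𝒳.p.obj s))

include h𝒳 h𝒴 hT in
/-- injectivity on automorphisms of the pullbacks of `s` gives injectivity on all automorphisms -/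
theorem inj_all
    (hinj : ∀ (x₀ : 𝒳.obj) (_ : x₀ ⟶ s) (α : x₀ ⟶ x₀), 𝒳.p.IsHomLift (𝟙 (𝒳.p.obj x₀)) α →
      φ.map α = 𝟙 _ → α = 𝟙 x₀)
    (x : 𝒳.obj) (α : x ⟶ x) (hα : 𝒳.p.IsHomLift (𝟙 (𝒳.p.obj x)) α) (e : φ.map α = 𝟙 _) :
    α = 𝟙 x := by
  have h𝒳fg := h𝒳.1.1
  have h𝒴fg := h𝒴.1.1
  obtain ⟨R, hR, HR⟩ := good_cover J h𝒳fg h𝒳.2.2 s hT x x rfl rfl
  have hst : (Stk.resSieve R 𝒳).IsEquivalence := h𝒳.1.2 R hR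
  refine eq_id_of_locally h𝒳fg x rfl R inferInstance α hα ?_
  intro V f hf z l hl
  obtain ⟨x₀, c, a₁, -, h1, -⟩ := HR f hf
  obtain ⟨τ, -, hτ⟩ := exists_iso_of_lifts h𝒳fg f l hl a₁ h1
  obtain ⟨α₀, hα₀, eα₀⟩ := exists_restrict h𝒳fg f a₁ h1 α hα
  have hV : 𝒳.p.obj x₀ = V := IsHomLift.domain_eq 𝒳.p f a₁
  have hα₀' : 𝒳.p.IsHomLift (𝟙 (𝒳.p.obj x₀)) α₀ := isHomLift_id_of_eq' hV.symm α₀ hα₀
  have hφα₀ : φ.map α₀ = 𝟙 _ := by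
    have l1 : 𝒴.p.IsHomLift f (φ.map a₁) := map_isHomLift φ _ _ h1
    have l2 : 𝒴.p.IsHomLift (𝟙 V) (φ.map α₀) := map_isHomLift φ _ _ hα₀
    have l3 : 𝒴.p.IsHomLift (𝟙 V) (𝟙 (φ.obj x₀)) := IsHomLift.id ((φ.w_obj x₀).trans hV)
    refine eq_of_comp_eq h𝒴fg (𝟙 V) f (φ.map a₁) l1 _ _ l2 l3 ?_
    rw [← Functor.map_comp]
    change φ.map (α₀ ≫ a₁) = _
    rw [eα₀, Category.id_comp]
    change φ.toFunctor.map (a₁ ≫ α) = _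
    rw [Functor.map_comp]
    change φ.map a₁ ≫ φ.map α = _
    rw [e, Category.comp_id]
  have hα₀1 : α₀ = 𝟙 x₀ := hinj x₀ c α₀ hα₀' hφα₀
  rw [← hτ, Category.assoc, ← eα₀, hα₀1, Category.id_comp]

include h𝒳 h𝒴 hT in
/-- fullness on fibres -/
theorem full_fibre [φ.toFunctor.Faithful]
    (hsurj : ∀ (x₀ : 𝒳.obj) (_ : x₀ ⟶ s) (β : φ.obj x₀ ⟶ φ.obj x₀),
      𝒴.p.IsHomLift (𝟙 (𝒳.p.obj x₀)) β →
      ∃ α : x₀ ⟶ x₀, 𝒳.p.IsHomLift (𝟙 (𝒳.p.obj x₀)) α ∧ φ.map α = β)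
    {U : C} (x₁ x₂ : 𝒳.obj) (hx₁ : 𝒳.p.obj x₁ = U) (hx₂ : 𝒳.p.obj x₂ = U)
    (ψ : φ.obj x₁ ⟶ φ.obj x₂) (hψ : 𝒴.p.IsHomLift (𝟙 U) ψ) :
    ∃ θ : x₁ ⟶ x₂, 𝒳.p.IsHomLift (𝟙 U) θ ∧ φ.map θ = ψ := by
  have h𝒳fg := h𝒳.1.1
  have h𝒴fg := h𝒴.1.1
  obtain ⟨R, hR, HR⟩ := good_cover J h𝒳fg h𝒳.2.2 s hT x₁ x₂ hx₁ hx₂
  have hst : (Stk.resSieve R 𝒳).IsEquivalence := h𝒳.1.2 R hR
  have hst' : (Stk.resSieve R 𝒴).IsEquivalence := h𝒴.1.2 R hR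
  have key : ∃ θ : x₁ ⟶ x₂, 𝒳.p.IsHomLift (𝟙 U) θ ∧ ∀ ⦃V : C⦄ (f : V ⟶ U), R f →
      ∀ {z : 𝒳.obj} (l : z ⟶ x₁), 𝒳.p.IsHomLift f l → φ.map (l ≫ θ) = φ.map l ≫ ψ := by
    refine glue_unique h𝒳fg R inferInstance x₁ x₂ hx₁ hx₂
      (fun {z} l m => φ.map m = φ.map l ≫ ψ) ?_ ?_ ?_
    · -- local existence
      intro V f hf z l hl
      obtain ⟨x₀, c, a₁, a₂, h1, h2⟩ := HR f hf
      obtain ⟨τ, hτ1, hτ2⟩ := exists_iso_of_lifts h𝒳fg f l hl a₁ h1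
      have hV : 𝒳.p.obj x₀ = V := IsHomLift.domain_eq 𝒳.p f a₁
      have l1 : 𝒴.p.IsHomLift f (φ.map a₁) := map_isHomLift φ _ _ h1
      have l2 : 𝒴.p.IsHomLift f (φ.map a₂) := map_isHomLift φ _ _ h2
      have l3 : 𝒴.p.IsHomLift f (φ.map a₁ ≫ ψ) := inferInstance
      obtain ⟨θ₀, hθ₀1, hθ₀2, -⟩ := exists_factor h𝒴fg f (φ.map a₂) l2 (φ.map a₁ ≫ ψ) l3
      obtain ⟨α₀, hα₀, eα₀⟩ := hsurj x₀ c θ₀ (isHomLift_id_of_eq' hV.symm θ₀ hθ₀1)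
      have hα₀' : 𝒳.p.IsHomLift (𝟙 V) α₀ := isHomLift_id_of_eq' hV α₀ hα₀
      have m1 : 𝒳.p.IsHomLift f (α₀ ≫ a₂) := inferInstance
      have m2 : 𝒳.p.IsHomLift f (τ.hom ≫ α₀ ≫ a₂) := inferInstance
      refine ⟨τ.hom ≫ α₀ ≫ a₂, m2, ?_⟩
      change φ.toFunctor.map (τ.hom ≫ α₀ ≫ a₂) = φ.toFunctor.map l ≫ ψ
      rw [Functor.map_comp, Functor.map_comp, ← hτ2, Functor.map_comp]
      change φ.map τ.hom ≫ φ.map α₀ ≫ φ.map a₂ = (φ.map τ.hom ≫ φ.map a₁) ≫ ψ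
      rw [eα₀, hθ₀2, Category.assoc]
    · -- local uniqueness
      intro V f hf z l m m' _ _ _ hm hm'
      apply φ.toFunctor.map_injective
      exact hm.trans hm'.symm
    · -- stability under precomposition
      intro z z' k l m hm
      change φ.toFunctor.map (k ≫ m) = φ.toFunctor.map (k ≫ l) ≫ ψ
      rw [Functor.map_comp, Functor.map_comp, Category.assoc]
      exact congrArg (fun t => φ.toFunctor.map k ≫ t) hm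
  obtain ⟨θ, hθ, hθP⟩ := key
  refine ⟨θ, hθ, ?_⟩
  have hφθ : 𝒴.p.IsHomLift (𝟙 U) (φ.map θ) := map_isHomLift φ _ _ hθ
  refine eq_of_locally h𝒴fg (φ.obj x₁) (φ.obj x₂) ((φ.w_obj x₁).trans hx₁) R inferInstance
    (φ.map θ) ψ hφθ hψ ?_
  intro V f hf
  obtain ⟨x₀, c, a₁, -, h1, -⟩ := HR f hf
  refine ⟨φ.obj x₀, φ.map a₁, map_isHomLift φ _ _ h1, ?_⟩
  have := hθP f hf a₁ h1
  rw [← this]
  exact (φ.toFunctor.map_comp a₁ θ).symm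

include h𝒳 h𝒴 hT in
/-- A functor over the base between gerbes which induces bijections on the automorphism groups of the
pullbacks of an object over a terminal object is an equivalence over the base. -/
theorem isEquivOver_of_autMap_bijective
    (hφ : ∀ (x : 𝒳.obj) (_ : x ⟶ s), Function.Bijective (Gerb.autMap φ x)) :
    FibCat.IsEquivOver φ := by
  have h𝒳fg := h𝒳.1.1
  have h𝒴fg := h𝒴.1.1
  have hfaith : φ.toFunctor.Faithful :=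
    faithful_of_aut h𝒳fg h𝒴fg φ (fun x α hα e =>
      inj_all J h𝒳 h𝒴 φ s hT (fun x₀ c α₀ hα₀ e₀ => inj_of_autMap h𝒳fg φ x₀ (hφ x₀ c).1 α₀ hα₀ e₀)
        x α hα e)
  have hfib : ∀ U : C, (fiberFunctor φ U).Full ∧ (fiberFunctor φ U).Faithful := by
    intro U
    constructor
    · constructor
      intro X Y ψ
      obtain ⟨θ, hθ, e⟩ := full_fibre J h𝒳 h𝒴 φ s hT
        (fun x₀ c β hβ => surj_of_autMap h𝒴fg φ x₀ (hφ x₀ c).2 β hβ) X.1 Y.1 X.2 Y.2 ψ.1 ψ.2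
      exact ⟨⟨θ, hθ⟩, Subtype.ext e⟩
    · constructor
      intro X Y θ₁ θ₂ h
      apply Subtype.ext
      apply φ.toFunctor.map_injective
      exact congrArg Subtype.val h
  obtain ⟨hfull, -⟩ := ff_of_fiber_ff h𝒳fg h𝒴fg φ hfib
  rw [Groth.Agent.S5139.result]
  refine ⟨⟨hfull, hfaith⟩, ?_⟩
  intro y
  -- `y` is locally in the image
  obtain ⟨sU, cU, hcU⟩ := h𝒳fg.exists_lift (x := s) (hT.from (𝒴.p.obj y))
  have hsU : 𝒳.p.obj sU = 𝒴.p.obj y := IsHomLift.domain_eq 𝒳.p (hT.from (𝒴.p.obj y)) cU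
  obtain ⟨R, hR, HR⟩ := exists_common J h𝒴.2.2 y (φ.obj sU) rfl ((φ.w_obj sU).trans hsU)
  have hst : (Stk.resSieve R 𝒳).IsEquivalence := h𝒳.1.2 R hR
  have hst' : (Stk.resSieve R 𝒴).IsEquivalence := h𝒴.1.2 R hR
  refine Groth.Agent.Lib.Helper62.StkLocEss.exists_preimage_of_locally h𝒴fg φ y R inferInstance
    ⟨inferInstance, inferInstance⟩ ?_
  intro V f hf
  obtain ⟨y₀, a, b, ha, hb⟩ := HR f hf
  -- pull `sU` back along `f`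
  obtain ⟨x₀, d, hd⟩ := h𝒳fg.exists_lift (x := sU) (f ≫ eqToHom hsU.symm)
  have hd' : 𝒴.p.IsHomLift (f ≫ eqToHom hsU.symm) (φ.map d) := map_isHomLift φ _ _ hd
  have hd'' : 𝒴.p.IsHomLift f (φ.map d) :=
    (IsHomLift.lift_comp_eqToHom_iff 𝒴.p f (φ.map d) _).1 hd'
  obtain ⟨τ, hτ1, hτ2⟩ := exists_iso_of_lifts h𝒴fg f (φ.map d) hd'' b hb
  have : 𝒴.p.IsHomLift f (τ.hom ≫ a) := inferInstance
  exact ⟨x₀, τ.hom ≫ a, this⟩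

end Equiv

end Groth.Agent.Lib.Helper62.StkGerbeEquiv
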