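import Groth.Agent.Lib.Helper62.StkFamGlue
import Groth.Agent.Lib.Helper62.StkGerbeEquiv
import Mathlib.Algebra.Category.Grp.Limits

/-!
# The band of an abelian gerbe (helper62)
-/

set_option autoImplicit false
set_option backward.isDefEq.respectTransparency false
set_option backward.isDefEq.respectTransparency.types false
universe v u
open CategoryTheory CategoryTheory.Functor FibCat Opposite

namespace Groth.Agent.Lib.Helper62.StkBand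

open Groth.Agent.Lib.Helper17 Groth.Agent.Lib.Helper17.FG Groth.Agent.Lib.Helper62.StkFF
open Groth.Agent.Lib.Helper62.StkGlue Groth.Agent.Lib.Helper62.StkLocTriv
open Groth.Agent.Lib.Helper62.StkCone Groth.Agent.Lib.Helper62.StkGlueHom
open Groth.Agent.Lib.Helper62.StkFamGlue Groth.Agent.Lib.Helper62.StkGerbeEquiv

variable {C : Type u} [Category.{v} C] (J : GrothendieckTopology C)
  (𝒮 : BasedCategory.{v, max u v} C)

/-- families of automorphisms of all objects mapping to `U` -/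
abbrev Fam (U : C) : Type (max u v) := ∀ (x : 𝒮.obj), (𝒮.p.obj x ⟶ U) → Gerb.AutO x

variable {𝒮}

theorem autO_hom_inv {x : 𝒮.obj} (α : Gerb.AutO x) : α.hom.1 ≫ α.inv.1 = 𝟙 x :=
  congrArg Subtype.val α.hom_inv_id

theorem autO_inv_hom {x : 𝒮.obj} (α : Gerb.AutO x) : α.inv.1 ≫ α.hom.1 = 𝟙 x :=
  congrArg Subtype.val α.inv_hom_id

theorem autO_mul_hom {x : 𝒮.obj} (α β : Gerb.AutO x) : (α * β).hom.1 = β.hom.1 ≫ α.hom.1 := rfl

theorem autO_one_hom {x : 𝒮.obj} : (1 : Gerb.AutO x).hom.1 = 𝟙 x := rfl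

theorem autO_inv_hom' {x : 𝒮.obj} (α : Gerb.AutO x) : (α⁻¹).hom.1 = α.inv.1 := rfl

theorem autO_ext {x : 𝒮.obj} {α β : Gerb.AutO x} (h : α.hom.1 = β.hom.1) : α = β := by
  apply Aut.ext
  apply Functor.Fiber.hom_ext
  exact h

variable (𝒮)

/-- the natural families -/
def natFam (U : C) : Subgroup (Fam 𝒮 U) where
  carrier := {a | ∀ {x' x : 𝒮.obj} (φ : x' ⟶ x) (f : 𝒮.p.obj x ⟶ U),
    (a x' (𝒮.p.map φ ≫ f)).hom.1 ≫ φ = φ ≫ (a x f).hom.1}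
  mul_mem' := by
    intro a b ha hb x' x φ f
    change ((a x' (𝒮.p.map φ ≫ f)) * (b x' (𝒮.p.map φ ≫ f))).hom.1 ≫ φ =
      φ ≫ ((a x f) * (b x f)).hom.1
    rw [autO_mul_hom, autO_mul_hom, Category.assoc, ha φ f, ← Category.assoc, hb φ f,
      Category.assoc]
  one_mem' := by
    intro x' x φ f
    change (1 : Gerb.AutO x').hom.1 ≫ φ = φ ≫ (1 : Gerb.AutO x).hom.1
    rw [autO_one_hom, autO_one_hom, Category.id_comp, Category.comp_id]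
  inv_mem' := by
    intro a ha x' x φ f
    change ((a x' (𝒮.p.map φ ≫ f))⁻¹).hom.1 ≫ φ = φ ≫ ((a x f)⁻¹).hom.1
    rw [autO_inv_hom', autO_inv_hom']
    have h := ha φ f
    calc (a x' (𝒮.p.map φ ≫ f)).inv.1 ≫ φ
        = (a x' (𝒮.p.map φ ≫ f)).inv.1 ≫ φ ≫ ((a x f).hom.1 ≫ (a x f).inv.1) := by
          rw [autO_hom_inv, Category.comp_id]
      _ = (a x' (𝒮.p.map φ ≫ f)).inv.1 ≫ ((a x' (𝒮.p.map φ ≫ f)).hom.1 ≫ φ) ≫ (a x f).inv.1 := by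
          rw [h]; simp only [Category.assoc]
      _ = φ ≫ (a x f).inv.1 := by
          rw [← Category.assoc, ← Category.assoc, autO_inv_hom, Category.id_comp]

/-- restriction of natural families -/
def resHom {U U' : C} (g : U' ⟶ U) : natFam 𝒮 U →* natFam 𝒮 U' where
  toFun a := ⟨fun x f' => a.1 x (f' ≫ g), by
    intro x' x φ f'
    have := a.2 φ (f' ≫ g)
    rw [← Category.assoc] at this
    exact this⟩
  map_one' := rfl
  map_mul' _ _ := rfl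

theorem resHom_apply {U U' : C} (g : U' ⟶ U) (a : natFam 𝒮 U) (x : 𝒮.obj) (f' : 𝒮.p.obj x ⟶ U') :
    (resHom 𝒮 g a).1 x f' = a.1 x (f' ≫ g) := rfl

/-- the band, as a presheaf of groups -/
def bandPsh : Cᵒᵖ ⥤ GrpCat.{max u v} where
  obj U := GrpCat.of (natFam 𝒮 U.unop)
  map g := GrpCat.ofHom (resHom 𝒮 g.unop)
  map_id U := by
    apply GrpCat.hom_ext
    apply MonoidHom.ext
    intro a
    apply Subtype.ext
    funext x f
    change a.1 x (f ≫ 𝟙 _) = a.1 x f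
    rw [Category.comp_id]
  map_comp g h := by
    apply GrpCat.hom_ext
    apply MonoidHom.ext
    intro a
    apply Subtype.ext
    funext x f
    change a.1 x (f ≫ (h.unop ≫ g.unop)) = a.1 x ((f ≫ h.unop) ≫ g.unop)
    rw [Category.assoc]


variable {𝒮}

/-- a natural family of automorphisms from a natural family of morphisms over identities -/
noncomputable def mkFam (h𝒮 : IsFibGrpd 𝒮.p) {U : C} (a : ∀ (y : 𝒮.obj), (𝒮.p.obj y ⟶ U) → (y ⟶ y))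
    (ha : ∀ y f, 𝒮.p.IsHomLift (𝟙 (𝒮.p.obj y)) (a y f))
    (hn : ∀ {y' y : 𝒮.obj} (φ : y' ⟶ y) (f : 𝒮.p.obj y ⟶ U),
        a y' (𝒮.p.map φ ≫ f) ≫ φ = φ ≫ a y f) : natFam 𝒮 U :=
  ⟨fun y f => mkAut h𝒮 y (a y f) (ha y f), fun φ f => hn φ f⟩

theorem mkFam_apply (h𝒮 : IsFibGrpd 𝒮.p) {U : C} (a : ∀ (y : 𝒮.obj), (𝒮.p.obj y ⟶ U) → (y ⟶ y))
    (ha : ∀ y f, 𝒮.p.IsHomLift (𝟙 (𝒮.p.obj y)) (a y f))
    (hn : ∀ {y' y : 𝒮.obj} (φ : y' ⟶ y) (f : 𝒮.p.obj y ⟶ U),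
        a y' (𝒮.p.map φ ≫ f) ≫ φ = φ ≫ a y f) (y : 𝒮.obj) (f : 𝒮.p.obj y ⟶ U) :
    ((mkFam h𝒮 a ha hn).1 y f).hom.1 = a y f := rfl

section Ev

variable (h𝒮 : Gerb.IsGerbe J 𝒮) (hcomm : ∀ (x : 𝒮.obj) (α β : Gerb.AutO x), α * β = β * α)

include h𝒮 hcomm in
/-- restrictions of an automorphism along two lifts of the same arrow agree -/
theorem res_indep {x z : 𝒮.obj} (α : x ⟶ x) (χ χ' : z ⟶ x)
    (hχ : 𝒮.p.IsHomLift (𝒮.p.map χ) χ') (θ θ' : z ⟶ z)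
    (hθ : 𝒮.p.IsHomLift (𝟙 (𝒮.p.obj z)) θ) (hθ' : 𝒮.p.IsHomLift (𝟙 (𝒮.p.obj z)) θ')
    (e : θ ≫ χ = χ ≫ α) (e' : θ' ≫ χ' = χ' ≫ α) : θ = θ' := by
  have h𝒮fg := h𝒮.1.1
  have lχ : 𝒮.p.IsHomLift (𝒮.p.map χ) χ := IsHomLift.map _ _
  obtain ⟨β, hβ, eβ, hβi⟩ := exists_factor h𝒮fg (𝒮.p.map χ) χ lχ χ' hχ
  have m1 : 𝒮.p.IsHomLift (𝟙 (𝒮.p.obj z)) (θ' ≫ β) := inferInstance
  have m2 : 𝒮.p.IsHomLift (𝟙 (𝒮.p.obj z)) (β ≫ θ) := inferInstance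
  have k1 : θ' ≫ β = β ≫ θ := by
    refine eq_of_comp_eq h𝒮fg (𝟙 _) (𝒮.p.map χ) χ lχ _ _ m1 m2 ?_
    rw [Category.assoc, eβ, e', ← eβ, Category.assoc, Category.assoc, e]
  have k2 : β ≫ θ = θ ≫ β := by
    have := hcomm z (mkAut h𝒮fg z θ hθ) (mkAut h𝒮fg z β hβ)
    exact congrArg (fun A : Gerb.AutO z => A.hom.1) this
  rw [k2] at k1
  exact ((cancel_mono β).1 k1).symm

include h𝒮 in
theorem loc_test (x : 𝒮.obj) (y : 𝒮.obj) (f : 𝒮.p.obj y ⟶ 𝒮.p.obj x) :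
    ∃ R ∈ J (𝒮.p.obj y), ∀ ⦃V : C⦄ (r : V ⟶ 𝒮.p.obj y), R r →
      ∃ (z : 𝒮.obj) (ψ : z ⟶ y), 𝒮.p.IsHomLift r ψ ∧
        ∃ χ : z ⟶ x, 𝒮.p.IsHomLift (𝒮.p.map ψ ≫ f) χ := by
  have h𝒮fg := h𝒮.1.1
  obtain ⟨xf, c, hc⟩ := h𝒮fg.exists_lift (x := x) f
  have hxf : 𝒮.p.obj xf = 𝒮.p.obj y := IsHomLift.domain_eq 𝒮.p f c
  obtain ⟨R, hR, HR⟩ := exists_common J h𝒮.2.2 y xf rfl hxf
  refine ⟨R, hR, fun V r hr => ?_⟩
  obtain ⟨z, ψ, b, hψ, hb⟩ := HR r hr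
  refine ⟨z, ψ, hψ, b ≫ c, ?_⟩
  have hV : 𝒮.p.obj z = V := IsHomLift.domain_eq 𝒮.p r ψ
  subst hV
  have hr' : r = 𝒮.p.map ψ := hl_eq hψ
  subst hr'
  infer_instance

include h𝒮 hcomm in
/-- evaluation of natural families at an object is bijective -/
theorem ev_bijective (x : 𝒮.obj) :
    Function.Bijective (fun a : natFam 𝒮 (𝒮.p.obj x) => a.1 x (𝟙 _)) := by
  have h𝒮fg := h𝒮.1.1
  have hloc := loc_test J h𝒮 x
  constructor
  · intro a b hab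
    have hab' : (a.1 x (𝟙 _)).hom.1 = (b.1 x (𝟙 _)).hom.1 := congrArg (fun A => A.hom.1) hab
    apply Subtype.ext
    funext y f
    apply autO_ext
    refine family_unique J h𝒮.1 (fun z f => ∃ χ : z ⟶ x, 𝒮.p.IsHomLift f χ) hloc
      (fun y f => (a.1 y f).hom.1) (fun y f => (b.1 y f).hom.1)
      (fun y f => (a.1 y f).hom.2) (fun y f => (b.1 y f).hom.2)
      (fun φ f => a.2 φ f) (fun φ f => b.2 φ f) ?_ y f
    rintro z f ⟨χ, hχ⟩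
    have hf : f = 𝒮.p.map χ := hl_eq hχ
    subst hf
    have na := a.2 χ (𝟙 _)
    have nb := b.2 χ (𝟙 _)
    rw [Category.comp_id] at na nb
    have lχ : 𝒮.p.IsHomLift (𝒮.p.map χ) χ := IsHomLift.map _ _
    refine eq_of_comp_eq h𝒮fg (𝟙 _) (𝒮.p.map χ) χ lχ _ _ (a.1 z _).hom.2 (b.1 z _).hom.2 ?_
    rw [na, nb, hab']
  · intro α
    -- the local specification
    have hex : ∀ (z : 𝒮.obj) (f : 𝒮.p.obj z ⟶ 𝒮.p.obj x), (∃ χ : z ⟶ x, 𝒮.p.IsHomLift f χ) →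
        ∃ θ : z ⟶ z, 𝒮.p.IsHomLift (𝟙 (𝒮.p.obj z)) θ ∧
          ∀ χ : z ⟶ x, 𝒮.p.IsHomLift f χ → θ ≫ χ = χ ≫ α.hom.1 := by
      rintro z f ⟨χ₀, hχ₀⟩
      have hf : f = 𝒮.p.map χ₀ := hl_eq hχ₀
      subst hf
      obtain ⟨θ₀, hθ₀, eθ₀⟩ := exists_restrict h𝒮fg (𝒮.p.map χ₀) χ₀ hχ₀ α.hom.1 α.hom.2
      refine ⟨θ₀, hθ₀, fun χ hχ => ?_⟩
      obtain ⟨θ, hθ, eθ⟩ := exists_restrict h𝒮fg (𝒮.p.map χ₀) χ hχ α.hom.1 α.hom.2
      have := res_indep J h𝒮 hcomm α.hom.1 χ₀ χ hχ θ₀ θ hθ₀ hθ eθ₀ eθ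
      rw [this, eθ]
    choose τ hτ1 hτ2 using hex
    obtain ⟨a, ha1, ha2, ha3⟩ := exists_family J h𝒮.1
      (fun z f => ∃ χ : z ⟶ x, 𝒮.p.IsHomLift f χ) τ hτ1
      (fun {z' z} k f h => by
        obtain ⟨χ, hχ⟩ := h
        exact ⟨k ≫ χ, inferInstance⟩)
      (fun {z' z} k f h h' => by
        obtain ⟨χ, hχ⟩ := h
        have lk : 𝒮.p.IsHomLift (𝒮.p.map k) k := IsHomLift.map _ _
        have l1 := hτ1 z' _ h'
        have l2 := hτ1 z f ⟨χ, hχ⟩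
        have m1 : 𝒮.p.IsHomLift (𝒮.p.map k) (τ z' _ h' ≫ k) := inferInstance
        have m2 : 𝒮.p.IsHomLift (𝒮.p.map k) (k ≫ τ z f ⟨χ, hχ⟩) := inferInstance
        refine eq_of_comp_eq h𝒮fg (𝒮.p.map k) f χ hχ _ _ m1 m2 ?_
        have hkχ : 𝒮.p.IsHomLift (𝒮.p.map k ≫ f) (k ≫ χ) := inferInstance
        rw [Category.assoc, hτ2 z' _ h' (k ≫ χ) hkχ, Category.assoc, Category.assoc,
          hτ2 z f ⟨χ, hχ⟩ χ hχ])
      hloc
    refine ⟨mkFam h𝒮fg a ha1 ha2, ?_⟩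
    apply autO_ext
    change a x (𝟙 _) = α.hom.1
    have hT : ∃ χ : x ⟶ x, 𝒮.p.IsHomLift (𝟙 (𝒮.p.obj x)) χ := ⟨𝟙 x, inferInstance⟩
    rw [ha3 x (𝟙 _) hT]
    have := hτ2 x (𝟙 _) hT (𝟙 x) inferInstance
    rw [Category.comp_id, Category.id_comp] at this
    exact this

end Ev


section Sheaf

variable (h𝒮 : Stk.IsStack J 𝒮)

include h𝒮 in
theorem loc_test_sieve {U : C} (R : Sieve U) (hR : R ∈ J U) (y : 𝒮.obj) (f : 𝒮.p.obj y ⟶ U) :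
    ∃ R' ∈ J (𝒮.p.obj y), ∀ ⦃V : C⦄ (r : V ⟶ 𝒮.p.obj y), R' r →
      ∃ (z : 𝒮.obj) (ψ : z ⟶ y), 𝒮.p.IsHomLift r ψ ∧ R (𝒮.p.map ψ ≫ f) := by
  refine ⟨R.pullback f, J.pullback_stable f hR, fun V r hr => ?_⟩
  obtain ⟨z, ψ, hψ⟩ := h𝒮.1.exists_lift (x := y) r
  refine ⟨z, ψ, hψ, ?_⟩
  have hV : 𝒮.p.obj z = V := IsHomLift.domain_eq 𝒮.p r ψ
  subst hV
  have hr' : r = 𝒮.p.map ψ := hl_eq hψ
  subst hr'
  exact hr

include h𝒮 in
/-- separatedness of the band -/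
theorem natFam_separated {U : C} (R : Sieve U) (hR : R ∈ J U) (a b : natFam 𝒮 U)
    (h : ∀ ⦃V : C⦄ (r : V ⟶ U), R r → resHom 𝒮 r a = resHom 𝒮 r b) : a = b := by
  apply Subtype.ext
  funext y f
  apply autO_ext
  refine family_unique J h𝒮 (fun z f => R f) (loc_test_sieve J h𝒮 R hR)
    (fun y f => (a.1 y f).hom.1) (fun y f => (b.1 y f).hom.1)
    (fun y f => (a.1 y f).hom.2) (fun y f => (b.1 y f).hom.2)
    (fun φ f => a.2 φ f) (fun φ f => b.2 φ f) ?_ y f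
  intro z f hf
  have := congrArg (fun t : natFam 𝒮 (𝒮.p.obj z) => (t.1 z (𝟙 _)).hom.1) (h f hf)
  change (a.1 z (𝟙 _ ≫ f)).hom.1 = (b.1 z (𝟙 _ ≫ f)).hom.1 at this
  rw [Category.id_comp] at this
  exact this

include h𝒮 in
/-- gluing for the band -/
theorem natFam_glue {U : C} (R : Sieve U) (hR : R ∈ J U)
    (s : ∀ ⦃V : C⦄ (r : V ⟶ U), R r → natFam 𝒮 V)
    (hs : ∀ ⦃V : C⦄ (r : V ⟶ U) (hr : R r) ⦃W : C⦄ (g : W ⟶ V),
      s (g ≫ r) (R.downward_closed hr g) = resHom 𝒮 g (s r hr)) :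
    ∃ a : natFam 𝒮 U, ∀ ⦃V : C⦄ (r : V ⟶ U) (hr : R r), resHom 𝒮 r a = s r hr := by
  have h𝒮fg := h𝒮.1
  have scongr : ∀ {V : C} {r r' : V ⟶ U} (e : r = r') (hr : R r) (hr' : R r'),
      s r hr = s r' hr' := by
    intro V r r' e hr hr'
    subst e
    rfl
  obtain ⟨a, ha1, ha2, ha3⟩ := exists_family J h𝒮 (fun z f => R f)
    (fun z f h => ((s f h).1 z (𝟙 _)).hom.1)
    (fun z f h => ((s f h).1 z (𝟙 _)).hom.2)
    (fun {z' z} k f h => R.downward_closed h _)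
    (fun {z' z} k f h h' => by
      have e1 : s (𝒮.p.map k ≫ f) h' = resHom 𝒮 (𝒮.p.map k) (s f h) :=
        (scongr rfl h' (R.downward_closed h _)).trans (hs f h (𝒮.p.map k))
      have e2 : ((s (𝒮.p.map k ≫ f) h').1 z' (𝟙 _)).hom.1 =
          ((s f h).1 z' (𝒮.p.map k ≫ 𝟙 _)).hom.1 := by
        rw [e1]
        change ((s f h).1 z' (𝟙 _ ≫ 𝒮.p.map k)).hom.1 = _
        rw [Category.id_comp, Category.comp_id]
      change ((s (𝒮.p.map k ≫ f) h').1 z' (𝟙 _)).hom.1 ≫ k = k ≫ ((s f h).1 z (𝟙 _)).hom.1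
      rw [e2]
      exact (s f h).2 k (𝟙 _))
    (loc_test_sieve J h𝒮 R hR)
  refine ⟨mkFam h𝒮fg a ha1 ha2, ?_⟩
  intro V r hr
  apply Subtype.ext
  funext z f'
  apply autO_ext
  change a z (f' ≫ r) = ((s r hr).1 z f').hom.1
  rw [ha3 z (f' ≫ r) (R.downward_closed hr f')]
  have e1 := hs r hr f'
  change ((s (f' ≫ r) (R.downward_closed hr f')).1 z (𝟙 _)).hom.1 = _
  rw [e1]
  change ((s r hr).1 z (𝟙 _ ≫ f')).hom.1 = _
  rw [Category.id_comp]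

include h𝒮 in
/-- the band is a sheaf -/
theorem bandPsh_isSheaf : Presheaf.IsSheaf J (bandPsh 𝒮) := by
  rw [Presheaf.isSheaf_iff_isSheaf_forget J (bandPsh 𝒮) (forget GrpCat.{max u v}),
    isSheaf_iff_isSheaf_of_type]
  intro U R hR
  rw [← Presieve.isSeparatedFor_and_exists_isAmalgamation_iff_isSheafFor]
  constructor
  · intro x t₁ t₂ h₁ h₂
    let a : natFam 𝒮 U := t₁
    let b : natFam 𝒮 U := t₂
    change a = b
    refine natFam_separated J h𝒮 R hR a b ?_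
    intro V r hr
    exact (h₁ r hr).trans (h₂ r hr).symm
  · intro x hx
    rw [Presieve.compatible_iff_sieveCompatible] at hx
    let s : ∀ ⦃V : C⦄ (r : V ⟶ U), R r → natFam 𝒮 V := fun V r hr => x r hr
    obtain ⟨a, ha⟩ := natFam_glue J h𝒮 R hR s (fun V r hr W g => hx r g hr)
    exact ⟨a, fun V r hr => ha r hr⟩

end Sheaf

section Main

variable (h𝒮 : Gerb.IsGerbe J 𝒮) (hcomm : ∀ (x : 𝒮.obj) (α β : Gerb.AutO x), α * β = β * α)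

/-- evaluation, as a group homomorphism -/
def evHom (x : 𝒮.obj) : natFam 𝒮 (𝒮.p.obj x) →* Gerb.AutO x where
  toFun a := a.1 x (𝟙 _)
  map_one' := rfl
  map_mul' _ _ := rfl

include h𝒮 hcomm in
/-- The band of an abelian gerbe. -/
theorem exists_banding :
    ∃ G : Sheaf J GrpCat.{max u v}, (∀ (U : C) (a b : G.obj.obj (op U)), a * b = b * a) ∧
      Nonempty (Gerb.Banding 𝒮 G.obj) := by
  refine ⟨⟨bandPsh 𝒮, bandPsh_isSheaf J h𝒮.1⟩, ?_, ⟨?_⟩⟩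
  · intro U a b
    let a' : natFam 𝒮 U := a
    let b' : natFam 𝒮 U := b
    change a' * b' = b' * a'
    apply Subtype.ext
    funext y f
    exact hcomm y (a'.1 y f) (b'.1 y f)
  · exact
    { iso := fun x => MulEquiv.ofBijective (evHom x) (ev_bijective J h𝒮 hcomm x)
      natural := fun {x' x} φ a => by
        let a' : natFam 𝒮 (𝒮.p.obj x) := a
        change (a'.1 x' (𝟙 _ ≫ 𝒮.p.map φ)).hom.1 ≫ φ = φ ≫ (a'.1 x (𝟙 _)).hom.1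
        have := a'.2 φ (𝟙 _)
        rw [Category.comp_id] at this
        rw [Category.id_comp]
        exact this }

end Main

end Groth.Agent.Lib.Helper62.StkBand
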