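import Groth.Agent.Lib.Helper62.StkOver
import Groth.Prelude.Def_StGerb

/-!
# Gerbes over a stack, over the base and over the stack with its inherited topology (helper62)
-/

set_option autoImplicit false
set_option backward.isDefEq.respectTransparency false
set_option backward.isDefEq.respectTransparency.types false
universe v u
open CategoryTheory CategoryTheory.Functor FibCat

namespace Groth.Agent.Lib.Helper62.StkGerbe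

open Groth.Agent.Lib.Helper17 Groth.Agent.Lib.Helper17.FG Groth.Agent.Lib.Helper62.StkFF
open Groth.Agent.Lib.Helper62.StkGlue Groth.Agent.Lib.Helper62.StkLocTriv
open Groth.Agent.Lib.Helper62.StkCone Groth.Agent.Lib.Helper62.StkOver
open Groth.Agent.Lib.Helper62.StkFullSub

variable {C : Type u} [Category.{v} C] (J : GrothendieckTopology C)
  {𝒳 𝒳' 𝒴 : BasedCategory.{v, max u v} C}

/-- if `a ⋙ F'` is a gerbe and `a` is an equivalence over `C`, then `F'` is a gerbe -/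
theorem isGerbeOver_of_comp_equiv (a : 𝒳 ⥤ᵇ 𝒳') (ha : IsEquivOver a) (F' : 𝒳' ⥤ᵇ 𝒴)
    (h : Gerb.IsGerbeOver J (BasedFunctor.comp a F')) : Gerb.IsGerbeOver J F' := by
  obtain ⟨G, ⟨ε⟩, ⟨η⟩⟩ := ha
  constructor
  · intro y
    obtain ⟨R, hR, HR⟩ := h.1 y
    refine ⟨R, hR, ?_⟩
    intro V f hf
    obtain ⟨x, g, hg⟩ := HR f hf
    exact ⟨a.obj x, g, hg⟩
  · intro x₁ x₂ b hb
    let e₁ : a.obj (G.obj x₁) ⟶ x₁ := η.hom.toNatTrans.app x₁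
    let e₂ : a.obj (G.obj x₂) ⟶ x₂ := η.hom.toNatTrans.app x₂
    let e₂i : x₂ ⟶ a.obj (G.obj x₂) := η.inv.toNatTrans.app x₂
    have he₂ : e₂i ≫ e₂ = 𝟙 x₂ := congrArg (fun t => t.toNatTrans.app x₂) η.inv_hom_id
    have hη₁ : 𝒳'.p.IsHomLift (𝟙 (𝒳'.p.obj x₁)) e₁ := BasedNatTrans.isHomLift η.hom rfl
    have hx₂ : 𝒳'.p.obj x₂ = 𝒳'.p.obj x₁ :=
      (F'.w_obj x₂).symm.trans (IsHomLift.codomain_eq 𝒴.p (𝟙 (𝒳'.p.obj x₁)) b)
    have hη₂ : 𝒳'.p.IsHomLift (𝟙 (𝒳'.p.obj x₁)) e₂ := BasedNatTrans.isHomLift η.hom hx₂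
    have hη₂i : 𝒳'.p.IsHomLift (𝟙 (𝒳'.p.obj x₁)) e₂i := BasedNatTrans.isHomLift η.inv hx₂
    have l1 : 𝒴.p.IsHomLift (𝟙 (𝒳'.p.obj x₁)) (F'.map e₁) := map_isHomLift F' _ _ hη₁
    have l2 : 𝒴.p.IsHomLift (𝟙 (𝒳'.p.obj x₁)) (F'.map e₂i) := map_isHomLift F' _ _ hη₂i
    have l3 : 𝒴.p.IsHomLift (𝟙 (𝒳'.p.obj x₁)) (b ≫ F'.map e₂i) := inferInstance
    have l4 : 𝒴.p.IsHomLift (𝟙 (𝒳'.p.obj x₁)) (F'.map e₁ ≫ b ≫ F'.map e₂i) := inferInstance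
    have eU : 𝒳.p.obj (G.obj x₁) = 𝒳'.p.obj x₁ := G.w_obj x₁
    obtain ⟨R, hR, HR⟩ := h.2 (G.obj x₁) (G.obj x₂) (F'.map e₁ ≫ b ≫ F'.map e₂i)
      (isHomLift_id_of_eq (𝒳 := 𝒴) eU.symm _ l4)
    refine ⟨R.pullback (eqToHom eU.symm), J.pullback_stable _ hR, ?_⟩
    intro V f hf
    obtain ⟨x₀, φ₀, ψ₀, hφ₀, hψ₀, hc⟩ := HR _ hf
    have hφ₀' : 𝒳'.p.IsHomLift (f ≫ eqToHom eU.symm) (a.map φ₀) := map_isHomLift a _ _ hφ₀
    have hψ₀' : 𝒳'.p.IsHomLift (f ≫ eqToHom eU.symm) (a.map ψ₀) := map_isHomLift a _ _ hψ₀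
    have hφ₀'' : 𝒳'.p.IsHomLift f (a.map φ₀) :=
      (IsHomLift.lift_comp_eqToHom_iff 𝒳'.p f (a.map φ₀) _).1 hφ₀'
    have hψ₀'' : 𝒳'.p.IsHomLift f (a.map ψ₀) :=
      (IsHomLift.lift_comp_eqToHom_iff 𝒳'.p f (a.map ψ₀) _).1 hψ₀'
    have m1 : 𝒳'.p.IsHomLift f (a.map φ₀ ≫ e₁) := inferInstance
    have m2 : 𝒳'.p.IsHomLift f (a.map ψ₀ ≫ e₂) := inferInstance
    refine ⟨a.obj x₀, a.map φ₀ ≫ e₁, a.map ψ₀ ≫ e₂, m1, m2, ?_⟩
    have hc' : F'.map (a.map φ₀) ≫ F'.map e₁ ≫ b ≫ F'.map e₂i = F'.map (a.map ψ₀) := hc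
    have hid : F'.map e₂i ≫ F'.map e₂ = 𝟙 (F'.obj x₂) := by
      rw [← Functor.map_comp, he₂]
      exact F'.toFunctor.map_id x₂
    calc F'.map (a.map φ₀ ≫ e₁) ≫ b
        = F'.map (a.map φ₀) ≫ F'.map e₁ ≫ b := by rw [Functor.map_comp, Category.assoc]
      _ = F'.map (a.map φ₀) ≫ F'.map e₁ ≫ b ≫ (F'.map e₂i ≫ F'.map e₂) := by
          rw [hid, Category.comp_id]
      _ = (F'.map (a.map φ₀) ≫ F'.map e₁ ≫ b ≫ F'.map e₂i) ≫ F'.map e₂ := by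
          simp only [Category.assoc]
      _ = F'.map (a.map ψ₀ ≫ e₂) := by rw [hc', Functor.map_comp]

section Stage2

variable (F' : 𝒳' ⥤ᵇ 𝒴) (hF' : IsFibGrpd F'.toFunctor) (h𝒴 : IsFibGrpd 𝒴.p)

include h𝒴 in
/-- pulling back a covering sieve of the base gives a covering sieve for the inherited topology -/
theorem functorPullback_mem {y : 𝒴.obj} (R : Sieve (𝒴.p.obj y)) (hR : R ∈ J (𝒴.p.obj y)) :
    R.functorPullback 𝒴.p ∈ 𝒴.p.restrictedTopology J y := by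
  rw [Groth.Agent.Lib.Helper62.StkInherited.mem_iff J h𝒴]
  refine J.superset_covering ?_ hR
  intro V f hf
  obtain ⟨z, g, hg⟩ := h𝒴.exists_lift (x := y) f
  have hz : 𝒴.p.obj z = V := IsHomLift.domain_eq 𝒴.p f g
  have fac := IsHomLift.fac 𝒴.p f g
  have fac' := IsHomLift.fac' 𝒴.p f g
  refine ⟨z, g, eqToHom hz.symm, ?_, ?_⟩
  · change R (𝒴.p.map g)
    rw [fac']
    simp only [eqToHom_refl, Category.comp_id]
    exact R.downward_closed hf _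
  · refine fac.trans ?_
    simp

include hF' h𝒴 in
theorem locSurjObj_toSelf (h : Gerb.LocSurjObj J F') :
    Gerb.LocSurjObj (𝒴.p.restrictedTopology J) (FibCat.toSelf (rel F')) := by
  intro y
  obtain ⟨R, hR, HR⟩ := h y
  refine ⟨R.functorPullback 𝒴.p, functorPullback_mem J h𝒴 R hR, ?_⟩
  intro z g hg
  obtain ⟨x₀, g₀, hg₀⟩ := HR (𝒴.p.map g) hg
  have lg : 𝒴.p.IsHomLift (𝒴.p.map g) g := IsHomLift.map g
  obtain ⟨τ, -, hτ⟩ := exists_iso_of_lifts h𝒴 (𝒴.p.map g) g lg g₀ hg₀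
  obtain ⟨x', ψ, hψ⟩ := hF'.exists_lift (x := x₀) τ.hom
  have hx' : F'.obj x' = z := IsHomLift.domain_eq F'.toFunctor τ.hom ψ
  have fac' := IsHomLift.fac' F'.toFunctor τ.hom ψ
  refine ⟨x', F'.map ψ ≫ g₀, ?_⟩
  apply IsHomLift.of_fac (FibCat.selfOver 𝒴.obj).p g (F'.map ψ ≫ g₀) hx' rfl
  change g = eqToHom hx'.symm ≫ (F'.map ψ ≫ g₀) ≫ eqToHom rfl
  have e1 : F'.map ψ = eqToHom hx' ≫ τ.hom := by
    refine fac'.trans ?_
    simp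
  rw [e1]
  simp only [eqToHom_refl, Category.comp_id, Category.assoc, eqToHom_trans_assoc, Category.id_comp]
  exact hτ.symm

include hF' h𝒴 in
theorem locSurjHom_toSelf (h : Gerb.LocSurjHom J F') :
    Gerb.LocSurjHom (𝒴.p.restrictedTopology J) (FibCat.toSelf (rel F')) := by
  intro x₁ x₂ b hb
  have hb0 : (FibCat.selfOver 𝒴.obj).p.IsHomLift (𝟙 (F'.obj x₁)) b := hb
  have hx₂ : F'.obj x₁ = F'.obj x₂ := (IsHomLift.codomain_eq (FibCat.selfOver 𝒴.obj).p (𝟙 (F'.obj x₁)) b).symm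
  have hbeq : b = eqToHom hx₂ := by
    have := IsHomLift.fac' (FibCat.selfOver 𝒴.obj).p (𝟙 (F'.obj x₁)) b
    refine Eq.trans ?_ (this.trans ?_)
    · rfl
    · simp
  have eU : 𝒴.p.obj (F'.obj x₁) = 𝒳'.p.obj x₁ := F'.w_obj x₁
  have hb' : 𝒴.p.IsHomLift (𝟙 (𝒳'.p.obj x₁)) b := by
    rw [hbeq]
    exact IsHomLift.eqToHom_domain_lift_id hx₂ eU
  obtain ⟨R, hR, HR⟩ := h x₁ x₂ b hb'
  refine ⟨(R.pullback (eqToHom eU)).functorPullback 𝒴.p,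
    functorPullback_mem J h𝒴 _ (J.pullback_stable _ hR), ?_⟩
  intro z g hg
  have hg' : R (𝒴.p.map g ≫ eqToHom eU) := hg
  obtain ⟨x₀, φ₀, ψ₀, hφ₀, hψ₀, hc⟩ := HR _ hg'
  have lFφ₀ : 𝒴.p.IsHomLift (𝒴.p.map g ≫ eqToHom eU) (F'.map φ₀) := map_isHomLift F' _ _ hφ₀
  have lg0 : 𝒴.p.IsHomLift (𝒴.p.map g) g := IsHomLift.map g
  have lg : 𝒴.p.IsHomLift (𝒴.p.map g ≫ eqToHom eU) g := inferInstance
  obtain ⟨τ, -, hτ⟩ := exists_iso_of_lifts h𝒴 _ g lg (F'.map φ₀) lFφ₀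
  obtain ⟨x₀', χ, hχ⟩ := hF'.exists_lift (x := x₀) τ.hom
  have hx₀' : F'.obj x₀' = z := IsHomLift.domain_eq F'.toFunctor τ.hom χ
  have e1 : F'.map χ = eqToHom hx₀' ≫ τ.hom := by
    refine (IsHomLift.fac' F'.toFunctor τ.hom χ).trans ?_
    simp
  have hc' : F'.map φ₀ ≫ b = F'.map ψ₀ := hc
  refine ⟨x₀', χ ≫ φ₀, χ ≫ ψ₀, ?_, ?_, ?_⟩
  · apply IsHomLift.of_fac' F'.toFunctor g (χ ≫ φ₀) hx₀' rfl
    change F'.map (χ ≫ φ₀) = _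
    rw [Functor.map_comp, e1, Category.assoc, hτ]
    simp
  · apply IsHomLift.of_fac' F'.toFunctor g (χ ≫ ψ₀) hx₀' hx₂.symm
    change F'.map (χ ≫ ψ₀) = _
    rw [Functor.map_comp, e1, ← hc', Category.assoc, ← Category.assoc τ.hom, hτ, hbeq]
  · change F'.map (χ ≫ φ₀) ≫ b = F'.map (χ ≫ ψ₀)
    rw [Functor.map_comp, Functor.map_comp, Category.assoc, hc']

include hF' h𝒴 in
theorem isGerbeOver_toSelf (h : Gerb.IsGerbeOver J F') :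
    Gerb.IsGerbeOver (𝒴.p.restrictedTopology J) (FibCat.toSelf (rel F')) :=
  ⟨locSurjObj_toSelf J F' hF' h𝒴 h.1, locSurjHom_toSelf J F' hF' h𝒴 h.2⟩

end Stage2

end Groth.Agent.Lib.Helper62.StkGerbe
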