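import Groth.Agent.Lib.Helper62.StkOver
import Groth.Agent.Lib.Helper62.StkGerbe
import Groth.Agent.Lib.Helper62.StkTransport
import Groth.Agent.S6416

/-!
# A stack over a stack is a stack over the base (helper62)
-/

set_option autoImplicit false
set_option backward.isDefEq.respectTransparency false
set_option backward.isDefEq.respectTransparency.types false
universe v u
open CategoryTheory CategoryTheory.Functor FibCat

namespace Groth.Agent.Lib.Helper62.StkComp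

open Groth.Agent.Lib.Helper17 Groth.Agent.Lib.Helper17.FG Groth.Agent.Lib.Helper62.StkFF
open Groth.Agent.Lib.Helper62.StkGlue Groth.Agent.Lib.Helper62.StkLocTriv
open Groth.Agent.Lib.Helper62.StkCone Groth.Agent.Lib.Helper62.StkOver
open Groth.Agent.Lib.Helper62.StkTransport

variable {C : Type u} [Category.{v} C] {𝒳 : BasedCategory.{v, max u v} C}
  (𝒴 : BasedCategory.{v, max u v} 𝒳.obj)

/-- the total category over `C` -/
abbrev tot : BasedCategory.{v, max u v} C := BasedCategory.ofFunctor (𝒴.p ⋙ 𝒳.p)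

/-- the projection to `𝒳`, over `C` -/
def proj : tot 𝒴 ⥤ᵇ 𝒳 where
  toFunctor := 𝒴.p
  w := rfl

variable {𝒴}

theorem isHomLift_tot {R S : C} {f : R ⟶ S} {x₁ x₂ : 𝒳.obj} {g : x₁ ⟶ x₂} {w₁ w₂ : 𝒴.obj}
    {φ : w₁ ⟶ w₂} (h1 : 𝒴.p.IsHomLift g φ) (h2 : 𝒳.p.IsHomLift f g) : (tot 𝒴).p.IsHomLift f φ :=
  isHomLift_comp_base (proj 𝒴) h1 h2

section Q

variable {x : 𝒳.obj} (R : Sieve (𝒳.p.obj x))

/-- the projection of the pulled back sieve to the sieve -/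
def qObj (a' : (Stk.sieveCat (R.functorPullback 𝒳.p)).obj) : (Stk.sieveCat R).obj :=
  ⟨Over.mk (𝒳.p.map a'.obj.hom), a'.property⟩

def qMap {a' b' : (Stk.sieveCat (R.functorPullback 𝒳.p)).obj} (k' : a' ⟶ b') :
    qObj R a' ⟶ qObj R b' :=
  ObjectProperty.homMk (Over.homMk (𝒳.p.map k'.hom.left) (by
    change 𝒳.p.map k'.hom.left ≫ 𝒳.p.map b'.obj.hom = 𝒳.p.map a'.obj.hom
    rw [← Functor.map_comp, Over.w]))

def q : (Stk.sieveCat (R.functorPullback 𝒳.p)).obj ⥤ (Stk.sieveCat R).obj where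
  obj := qObj R
  map := qMap R
  map_id a' := by
    apply ObjectProperty.hom_ext
    apply Over.OverMorphism.ext
    change 𝒳.p.map (𝟙 a'.obj.left) = 𝟙 _
    simp
  map_comp {a' b' c'} k' l' := by
    apply ObjectProperty.hom_ext
    apply Over.OverMorphism.ext
    change 𝒳.p.map (k'.hom.left ≫ l'.hom.left) = 𝒳.p.map k'.hom.left ≫ 𝒳.p.map l'.hom.left
    simp

theorem q_map_lift {a' b' : (Stk.sieveCat (R.functorPullback 𝒳.p)).obj} (k' : a' ⟶ b') :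
    (Stk.sieveCat R).p.IsHomLift (𝒳.p.map k'.hom.left) ((q R).map k') :=
  hl_of_eq (p := (Stk.sieveCat R).p) (a := (q R).obj a') (b := (q R).obj b')
    (f := 𝒳.p.map k'.hom.left) (φ := (q R).map k') rfl

end Q

/-- a cone in `𝒳` on the projection of a descent datum, with vertex `x` -/
structure BaseCone {x : 𝒳.obj} (R : Sieve (𝒳.p.obj x)) (D : Stk.sieveCat R ⥤ᵇ tot 𝒴) where
  π : ∀ a : (Stk.sieveCat R).obj, 𝒴.p.obj (D.obj a) ⟶ x
  lift : ∀ a : (Stk.sieveCat R).obj, 𝒳.p.IsHomLift a.obj.hom (π a)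
  nat : ∀ {a b : (Stk.sieveCat R).obj} (k : a ⟶ b), 𝒴.p.map (D.map k) ≫ π b = π a

section Sigma

variable (h𝒳 : IsFibGrpd 𝒳.p) {x : 𝒳.obj} {R : Sieve (𝒳.p.obj x)} {D : Stk.sieveCat R ⥤ᵇ tot 𝒴}
  (bc : BaseCone R D)

include h𝒳 in
theorem exists_sigma (a' : (Stk.sieveCat (R.functorPullback 𝒳.p)).obj) :
    ∃ σ : a'.obj.left ≅ 𝒴.p.obj (D.obj ((q R).obj a')),
      𝒳.p.IsHomLift (𝟙 (𝒳.p.obj a'.obj.left)) σ.hom ∧ σ.hom ≫ bc.π ((q R).obj a') = a'.obj.hom :=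
  exists_iso_of_lifts h𝒳 (𝒳.p.map a'.obj.hom) a'.obj.hom (IsHomLift.map a'.obj.hom)
    (bc.π ((q R).obj a')) (bc.lift ((q R).obj a'))

noncomputable def sigma (a' : (Stk.sieveCat (R.functorPullback 𝒳.p)).obj) :
    a'.obj.left ≅ 𝒴.p.obj (D.obj ((q R).obj a')) := (exists_sigma h𝒳 bc a').choose

theorem sigma_lift (a' : (Stk.sieveCat (R.functorPullback 𝒳.p)).obj) :
    𝒳.p.IsHomLift (𝟙 (𝒳.p.obj a'.obj.left)) (sigma h𝒳 bc a').hom :=
  (exists_sigma h𝒳 bc a').choose_spec.1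

theorem sigma_fac (a' : (Stk.sieveCat (R.functorPullback 𝒳.p)).obj) :
    (sigma h𝒳 bc a').hom ≫ bc.π ((q R).obj a') = a'.obj.hom :=
  (exists_sigma h𝒳 bc a').choose_spec.2

theorem proj_map_lift {a b : (Stk.sieveCat R).obj} (k : a ⟶ b) :
    𝒳.p.IsHomLift k.hom.left (𝒴.p.map (D.map k)) :=
  map_isHomLift (BasedFunctor.comp D (proj 𝒴)) _ _ (sieve_map_lift k)

theorem sigma_nat {a' b' : (Stk.sieveCat (R.functorPullback 𝒳.p)).obj} (k' : a' ⟶ b') :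
    (sigma h𝒳 bc a').hom ≫ 𝒴.p.map (D.map ((q R).map k')) = k'.hom.left ≫ (sigma h𝒳 bc b').hom := by
  have l1 := sigma_lift h𝒳 bc a'
  have l2 := sigma_lift h𝒳 bc b'
  have l3 : 𝒳.p.IsHomLift (𝒳.p.map k'.hom.left) (𝒴.p.map (D.map ((q R).map k'))) :=
    proj_map_lift ((q R).map k')
  have l4 : 𝒳.p.IsHomLift (𝒳.p.map k'.hom.left) k'.hom.left := IsHomLift.map k'.hom.left
  have m1 : 𝒳.p.IsHomLift (𝒳.p.map k'.hom.left)
      ((sigma h𝒳 bc a').hom ≫ 𝒴.p.map (D.map ((q R).map k'))) := inferInstance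
  have m2 : 𝒳.p.IsHomLift (𝒳.p.map k'.hom.left) (k'.hom.left ≫ (sigma h𝒳 bc b').hom) :=
    inferInstance
  refine eq_of_comp_eq h𝒳 (𝒳.p.map k'.hom.left) (𝒳.p.map b'.obj.hom) (bc.π ((q R).obj b'))
    (bc.lift ((q R).obj b')) _ _ m1 m2 ?_
  rw [Category.assoc, bc.nat, sigma_fac, Category.assoc, sigma_fac, Over.w]

end Sigma

section Transport

variable (h𝒳 : IsFibGrpd 𝒳.p) (h𝒴 : IsFibGrpd 𝒴.p) {x : 𝒳.obj} {R : Sieve (𝒳.p.obj x)}
  {D : Stk.sieveCat R ⥤ᵇ tot 𝒴} (bc : BaseCone R D)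

include h𝒳 h𝒴 in
/-- the descent datum over `𝒳` along the pulled back sieve attached to a descent datum over `C` and a
cone on its projection -/
theorem exists_datum :
    ∃ (D' : Stk.sieveCat (R.functorPullback 𝒳.p) ⥤ᵇ 𝒴)
      (t : ∀ a' : (Stk.sieveCat (R.functorPullback 𝒳.p)).obj, D'.obj a' ⟶ D.obj ((q R).obj a')),
      (∀ a', 𝒴.p.IsHomLift (sigma h𝒳 bc a').hom (t a')) ∧ (∀ a', IsIso (t a')) ∧
      (∀ {a' b' : (Stk.sieveCat (R.functorPullback 𝒳.p)).obj} (k' : a' ⟶ b'),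
        D'.map k' ≫ t b' = t a' ≫ D.map ((q R).map k')) :=
  exists_transport (𝒜 := Stk.sieveCat (R.functorPullback 𝒳.p)) (𝒲 := 𝒴) h𝒴 (q R ⋙ D.toFunctor)
    (fun a' => (sigma h𝒳 bc a').hom) (fun a' => inferInstance) (fun k' => sigma_nat h𝒳 bc k')

end Transport

theorem isHomLift_id_of_eqToHom {ℬ : BasedCategory.{v, max u v} C} {R R' : C} (h : R = R')
    {a b : ℬ.obj} (φ : a ⟶ b) (hφ : ℬ.p.IsHomLift (eqToHom h) φ) : ℬ.p.IsHomLift (𝟙 R) φ := by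
  subst h
  simpa using hφ

section Exist

variable (h𝒳 : IsFibGrpd 𝒳.p) (h𝒴 : IsFibGrpd 𝒴.p) {x : 𝒳.obj} {R : Sieve (𝒳.p.obj x)}
  {D : Stk.sieveCat R ⥤ᵇ tot 𝒴} (bc : BaseCone R D)

theorem leg_mem (a : (Stk.sieveCat R).obj) : R (𝒳.p.map (bc.π a)) := by
  have := bc.lift a
  have fac' := IsHomLift.fac' 𝒳.p a.obj.hom (bc.π a)
  rw [fac']
  simp only [eqToHom_refl, Category.comp_id]
  exact R.downward_closed a.property _

/-- the arrow of the pulled back sieve given by a leg of the base cone -/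
def legObj (a : (Stk.sieveCat R).obj) : (Stk.sieveCat (R.functorPullback 𝒳.p)).obj :=
  ⟨Over.mk (bc.π a), leg_mem bc a⟩

def legMap {a b : (Stk.sieveCat R).obj} (k : a ⟶ b) : legObj bc a ⟶ legObj bc b :=
  ObjectProperty.homMk (Over.homMk (𝒴.p.map (D.map k)) (bc.nat k))

def jInv (a : (Stk.sieveCat R).obj) : a ⟶ (q R).obj (legObj bc a) :=
  ObjectProperty.homMk (Over.homMk (eqToHom (D.w_obj a).symm) (by
    have := bc.lift a
    have fac := IsHomLift.fac 𝒳.p a.obj.hom (bc.π a)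
    change eqToHom (D.w_obj a).symm ≫ 𝒳.p.map (bc.π a) = a.obj.hom
    refine Eq.trans ?_ fac.symm
    simp))

theorem jInv_lift (a : (Stk.sieveCat R).obj) :
    (Stk.sieveCat R).p.IsHomLift (eqToHom (D.w_obj a).symm) (jInv bc a) :=
  hl_of_eq (p := (Stk.sieveCat R).p) (a := a) (b := (q R).obj (legObj bc a))
    (f := eqToHom (D.w_obj a).symm) (φ := jInv bc a) rfl

theorem jInv_nat {a b : (Stk.sieveCat R).obj} (k : a ⟶ b) :
    jInv bc a ≫ (q R).map (legMap bc k) = k ≫ jInv bc b := by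
  apply ObjectProperty.hom_ext
  apply Over.OverMorphism.ext
  change eqToHom (D.w_obj a).symm ≫ 𝒳.p.map (𝒴.p.map (D.map k)) =
    k.hom.left ≫ eqToHom (D.w_obj b).symm
  have h : 𝒳.p.map (𝒴.p.map (D.map k)) = eqToHom (D.w_obj a) ≫ k.hom.left ≫
      eqToHom (D.w_obj b).symm := Functor.congr_hom D.w k
  rw [h]
  simp

include h𝒳 h𝒴 bc in
/-- a cone over `𝒳` on the transported datum gives a cone over `C` on the original datum -/
theorem exists_cone_of_stack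
    (hs : ∀ D' : Stk.sieveCat (R.functorPullback 𝒳.p) ⥤ᵇ 𝒴, Nonempty (Cone D')) :
    Nonempty (Cone D) := by
  obtain ⟨D', t, ht, hti, htn⟩ := exists_datum h𝒳 h𝒴 bc
  obtain ⟨c₂⟩ := hs D'
  refine ⟨{ pt := c₂.pt, hpt := congrArg 𝒳.p.obj c₂.hpt,
            π := fun a => D.map (jInv bc a) ≫ @inv _ _ _ _ (t (legObj bc a)) (hti _) ≫
              c₂.π (legObj bc a),
            lift := ?_, nat := ?_ }⟩
  · intro a
    have := hti (legObj bc a)
    have e0 : (tot 𝒴).p.obj (D.obj a) = a.obj.left := D.w_obj a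
    have l1 : (tot 𝒴).p.IsHomLift (𝟙 a.obj.left) (D.map (jInv bc a)) :=
      isHomLift_id_of_eqToHom (D.w_obj a).symm _ (map_isHomLift D _ _ (jInv_lift bc a))
    have hσ := sigma_lift h𝒳 bc (legObj bc a)
    have hσi : 𝒳.p.IsHomLift (𝟙 (𝒳.p.obj (legObj bc a).obj.left)) (sigma h𝒳 bc (legObj bc a)).inv :=
      IsHomLift.lift_id_inv (p := 𝒳.p) _ (sigma h𝒳 bc (legObj bc a))
    have ht' : 𝒴.p.IsHomLift (sigma h𝒳 bc (legObj bc a)).hom (asIso (t (legObj bc a))).hom :=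
      ht (legObj bc a)
    have l2 : 𝒴.p.IsHomLift (sigma h𝒳 bc (legObj bc a)).inv (inv (t (legObj bc a))) :=
      IsHomLift.inv_lift_inv (p := 𝒴.p) (sigma h𝒳 bc (legObj bc a)) (asIso (t (legObj bc a)))
    have l2' : (tot 𝒴).p.IsHomLift (𝟙 (𝒳.p.obj (legObj bc a).obj.left)) (inv (t (legObj bc a))) :=
      isHomLift_tot l2 hσi
    have l2'' : (tot 𝒴).p.IsHomLift (𝟙 a.obj.left) (inv (t (legObj bc a))) :=
      Groth.Agent.Lib.Helper62.StkFullSub.isHomLift_id_of_eq (𝒳 := tot 𝒴) e0 _ l2'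
    have l3 : (tot 𝒴).p.IsHomLift a.obj.hom (c₂.π (legObj bc a)) :=
      isHomLift_tot (c₂.lift (legObj bc a)) (bc.lift a)
    have l4 : (tot 𝒴).p.IsHomLift a.obj.hom (inv (t (legObj bc a)) ≫ c₂.π (legObj bc a)) :=
      inferInstance
    infer_instance
  · intro a b k
    have := hti (legObj bc a)
    have := hti (legObj bc b)
    have e1 : D.map k ≫ D.map (jInv bc b) =
        D.map (jInv bc a) ≫ D.map ((q R).map (legMap bc k)) := by
      rw [← Functor.map_comp, ← Functor.map_comp, jInv_nat]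
    have e2 : D.map ((q R).map (legMap bc k)) ≫ inv (t (legObj bc b)) =
        inv (t (legObj bc a)) ≫ D'.map (legMap bc k) := by
      rw [IsIso.comp_inv_eq, Category.assoc, htn, IsIso.inv_hom_id_assoc]
    have e3 : D'.map (legMap bc k) ≫ c₂.π (legObj bc b) = c₂.π (legObj bc a) :=
      c₂.nat (legMap bc k)
    calc D.map k ≫ D.map (jInv bc b) ≫ inv (t (legObj bc b)) ≫ c₂.π (legObj bc b)
        = (D.map k ≫ D.map (jInv bc b)) ≫ inv (t (legObj bc b)) ≫ c₂.π (legObj bc b) := by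
          simp only [Category.assoc]
      _ = D.map (jInv bc a) ≫ (D.map ((q R).map (legMap bc k)) ≫ inv (t (legObj bc b))) ≫
            c₂.π (legObj bc b) := by rw [e1]; simp only [Category.assoc]
      _ = D.map (jInv bc a) ≫ inv (t (legObj bc a)) ≫ D'.map (legMap bc k) ≫
            c₂.π (legObj bc b) := by rw [e2]; simp only [Category.assoc]
      _ = D.map (jInv bc a) ≫ inv (t (legObj bc a)) ≫ c₂.π (legObj bc a) := by rw [e3]

end Exist


/-- the image of a cone under a functor over the base -/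
def mapCone' {𝒵 𝒲 : BasedCategory.{v, max u v} C} {U : C} {R : Sieve U} (F : 𝒵 ⥤ᵇ 𝒲)
    {D : Stk.sieveCat R ⥤ᵇ 𝒵} (c : Cone D) : Cone (BasedFunctor.comp D F) where
  pt := F.obj c.pt
  hpt := (F.w_obj c.pt).trans c.hpt
  π a := F.map (c.π a)
  lift a := map_isHomLift F _ _ (c.lift a)
  nat {a b} k := by
    change F.map (D.map k) ≫ F.map (c.π b) = F.map (c.π a)
    rw [← c.nat k]
    exact (F.toFunctor.map_comp _ _).symm

section Unique

variable (h𝒳 : IsFibGrpd 𝒳.p) (h𝒴 : IsFibGrpd 𝒴.p)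

include h𝒳 h𝒴 in
theorem existsUnique_aux {w : 𝒴.obj} {R : Sieve (𝒳.p.obj (𝒴.p.obj w))}
    (D : Stk.sieveCat R ⥤ᵇ tot 𝒴)
    (π : ∀ a : (Stk.sieveCat R).obj, D.obj a ⟶ w)
    (lift : ∀ a : (Stk.sieveCat R).obj, (tot 𝒴).p.IsHomLift a.obj.hom (π a))
    (nat : ∀ {a b : (Stk.sieveCat R).obj} (k : a ⟶ b), D.map k ≫ π b = π a)
    (c' : Cone D)
    (h𝒳u : ∀ (c₁ c₁' : Cone (BasedFunctor.comp D (proj 𝒴))),
      ∃! τ : c₁.pt ⟶ c₁'.pt, 𝒳.p.IsHomLift (𝟙 (𝒳.p.obj (𝒴.p.obj w))) τ ∧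
        ∀ a, c₁.π a ≫ τ = c₁'.π a)
    (h𝒴u : ∀ (D' : Stk.sieveCat (R.functorPullback 𝒳.p) ⥤ᵇ 𝒴) (e e' : Cone D'),
      ∃! φ : e.pt ⟶ e'.pt, 𝒴.p.IsHomLift (𝟙 (𝒴.p.obj w)) φ ∧ ∀ a, e.π a ≫ φ = e'.π a) :
    ∃! φ : w ⟶ c'.pt, (tot 𝒴).p.IsHomLift (𝟙 (𝒳.p.obj (𝒴.p.obj w))) φ ∧
      ∀ a, π a ≫ φ = c'.π a := by
  let c : Cone D := { pt := w, hpt := rfl, π := π, lift := lift, nat := nat }
  let c₁ : Cone (BasedFunctor.comp D (proj 𝒴)) := mapCone' (proj 𝒴) c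
  let c₁' : Cone (BasedFunctor.comp D (proj 𝒴)) := mapCone' (proj 𝒴) c'
  let bc : BaseCone R D :=
    { π := fun a => 𝒴.p.map (π a)
      lift := fun a => c₁.lift a
      nat := fun {a b} k => c₁.nat k }
  obtain ⟨τ, ⟨hτ, hτc⟩, hτu⟩ := h𝒳u c₁ c₁'
  have hτc' : ∀ a, 𝒴.p.map (π a) ≫ τ = 𝒴.p.map (c'.π a) := hτc
  have hτi : IsIso τ := isIso_of_lift_id h𝒳 τ hτ
  obtain ⟨w'', l, hl⟩ := h𝒴.exists_lift (x := c'.pt) τ
  have hli : IsIso l := isIso_of_lift_iso h𝒴 τ l hl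
  have hlinv : 𝒴.p.IsHomLift (inv τ) (inv l) := IsHomLift.inv (p := 𝒴.p) τ l
  obtain ⟨D', t, ht, hti, htn⟩ := exists_datum h𝒳 h𝒴 bc
  let e₁ : Cone D' :=
    { pt := w
      hpt := rfl
      π := fun a' => t a' ≫ π ((q R).obj a')
      lift := fun a' => by
        have h1 := ht a'
        have h2 : 𝒴.p.IsHomLift (𝒴.p.map (π ((q R).obj a'))) (π ((q R).obj a')) :=
          IsHomLift.map _ _
        have h3 : 𝒴.p.IsHomLift ((sigma h𝒳 bc a').hom ≫ 𝒴.p.map (π ((q R).obj a')))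
            (t a' ≫ π ((q R).obj a')) := inferInstance
        exact isHomLift_congr' (sigma_fac h𝒳 bc a') h3
      nat := fun {a' b'} k' => by
        rw [← Category.assoc, htn, Category.assoc, nat] }
  let e₂ : Cone D' :=
    { pt := w''
      hpt := IsHomLift.domain_eq 𝒴.p τ l
      π := fun a' => t a' ≫ c'.π ((q R).obj a') ≫ inv l
      lift := fun a' => by
        have h1 := ht a'
        have h2 : 𝒴.p.IsHomLift (𝒴.p.map (c'.π ((q R).obj a'))) (c'.π ((q R).obj a')) :=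
          IsHomLift.map _ _
        have h3 : 𝒴.p.IsHomLift
            ((sigma h𝒳 bc a').hom ≫ 𝒴.p.map (c'.π ((q R).obj a')) ≫ inv τ)
            (t a' ≫ c'.π ((q R).obj a') ≫ inv l) := inferInstance
        refine isHomLift_congr' ?_ h3
        rw [← hτc' ((q R).obj a'), Category.assoc, IsIso.hom_inv_id, Category.comp_id]
        exact sigma_fac h𝒳 bc a'
      nat := fun {a' b'} k' => by
        rw [← Category.assoc, htn, Category.assoc, ← Category.assoc (D.map _), c'.nat] }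
  obtain ⟨φ₀, ⟨hφ₀, hφ₀c⟩, hφ₀u⟩ := h𝒴u D' e₁ e₂
  have hφ₀c' : ∀ a', (t a' ≫ π ((q R).obj a')) ≫ φ₀ = t a' ≫ c'.π ((q R).obj a') ≫ inv l := hφ₀c
  -- the compatibility on arrows of the form `q a'`
  have hq : ∀ a', π ((q R).obj a') ≫ φ₀ ≫ l = c'.π ((q R).obj a') := by
    intro a'
    have := hti a'
    have h1 := hφ₀c' a'
    rw [Category.assoc, cancel_epi] at h1
    rw [← Category.assoc, h1, Category.assoc, IsIso.inv_hom_id, Category.comp_id]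
  refine ⟨φ₀ ≫ l, ⟨?_, ?_⟩, ?_⟩
  · have h1 : 𝒴.p.IsHomLift (𝟙 (𝒴.p.obj w) ≫ τ) (φ₀ ≫ l) := inferInstance
    have h2 : 𝒳.p.IsHomLift (𝟙 (𝒳.p.obj (𝒴.p.obj w))) (𝟙 (𝒴.p.obj w) ≫ τ) := by
      rw [Category.id_comp]; exact hτ
    exact isHomLift_tot h1 h2
  · intro a
    have e1 : π a = D.map (jInv bc a) ≫ π ((q R).obj (legObj bc a)) := (nat (jInv bc a)).symm
    have e2 : c'.π a = D.map (jInv bc a) ≫ c'.π ((q R).obj (legObj bc a)) :=
      (c'.nat (jInv bc a)).symm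
    rw [e1, e2, Category.assoc, hq]
  · rintro φ₂ ⟨hφ₂, hφ₂c⟩
    -- the image of `φ₂` is `τ`
    have hp : 𝒴.p.map φ₂ = τ := by
      apply hτu
      refine ⟨map_isHomLift (proj 𝒴) _ _ hφ₂, ?_⟩
      intro a
      change 𝒴.p.map (π a) ≫ 𝒴.p.map φ₂ = 𝒴.p.map (c'.π a)
      rw [← Functor.map_comp, hφ₂c]
    have h1 : 𝒴.p.IsHomLift (𝒴.p.map φ₂) φ₂ := IsHomLift.map _ _
    have h2 : 𝒴.p.IsHomLift τ φ₂ := hp ▸ h1
    have h3 : 𝒴.p.IsHomLift (τ ≫ inv τ) (φ₂ ≫ inv l) := inferInstance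
    have h4 : 𝒴.p.IsHomLift (𝟙 (𝒴.p.obj w)) (φ₂ ≫ inv l) :=
      isHomLift_congr' (IsIso.hom_inv_id τ) h3
    have h5 : φ₂ ≫ inv l = φ₀ := by
      apply hφ₀u
      refine ⟨h4, ?_⟩
      intro a'
      change (t a' ≫ π ((q R).obj a')) ≫ φ₂ ≫ inv l = t a' ≫ c'.π ((q R).obj a') ≫ inv l
      rw [Category.assoc, ← Category.assoc (π _), hφ₂c]
    rw [← h5, Category.assoc, IsIso.inv_hom_id, Category.comp_id]

end Unique


/-- A stack in groupoids over a stack in groupoids (with the inherited topology) is a stack in groupoids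
over the base. -/
theorem isStack_tot (J : GrothendieckTopology C) (h𝒳 : Stk.IsStack J 𝒳)
    (h𝒴 : Stk.IsStack (𝒳.p.restrictedTopology J) 𝒴) : Stk.IsStack J (tot 𝒴) := by
  have hfg : IsFibGrpd (tot 𝒴).p := Groth.Agent.S6416.result 𝒴.p 𝒳.p h𝒴.1 h𝒳.1
  refine ⟨hfg, ?_⟩
  intro U R hR
  rw [isStackFor_iff_cones hfg]
  have hX := (isStackFor_iff_cones h𝒳.1).1 (h𝒳.2 R hR)
  refine ⟨?_, ?_⟩
  · intro D
    obtain ⟨c₁⟩ := hX.1 (BasedFunctor.comp D (proj 𝒴))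
    obtain ⟨x, hx, π, lift, nat⟩ := c₁
    subst hx
    let bc : BaseCone R D := { π := π, lift := lift, nat := nat }
    have hR' : R.functorPullback 𝒳.p ∈ 𝒳.p.restrictedTopology J x :=
      Groth.Agent.Lib.Helper62.StkGerbe.functorPullback_mem J h𝒳.1 R hR
    have hY := (isStackFor_iff_cones h𝒴.1).1 (h𝒴.2 _ hR')
    exact exists_cone_of_stack h𝒳.1 h𝒴.1 bc hY.1
  · intro D c c'
    obtain ⟨w, hw, π, lift, nat⟩ := c
    subst hw
    have hR' : R.functorPullback 𝒳.p ∈ 𝒳.p.restrictedTopology J (𝒴.p.obj w) :=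
      Groth.Agent.Lib.Helper62.StkGerbe.functorPullback_mem J h𝒳.1 R hR
    have hY := (isStackFor_iff_cones h𝒴.1).1 (h𝒴.2 _ hR')
    exact existsUnique_aux h𝒳.1 h𝒴.1 D π lift nat c' (hX.2 _) (hY.2)

end Groth.Agent.Lib.Helper62.StkComp
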