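import Groth.Agent.Lib.Helper62.StkGlueHom

/-!
# Extending a natural transformation from a locally generating family of test objects (helper62)
-/

set_option autoImplicit false
set_option backward.isDefEq.respectTransparency false
set_option backward.isDefEq.respectTransparency.types false
universe w v u
open CategoryTheory CategoryTheory.Functor FibCat

namespace Groth.Agent.Lib.Helper62.StkExtend

open Groth.Agent.Lib.Helper17 Groth.Agent.Lib.Helper17.FG Groth.Agent.Lib.Helper62.StkFF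
open Groth.Agent.Lib.Helper62.StkGlue Groth.Agent.Lib.Helper62.StkLocTriv
open Groth.Agent.Lib.Helper62.StkCone Groth.Agent.Lib.Helper62.StkGlueHom

variable {C : Type u} [Category.{v} C] (J : GrothendieckTopology C)
  {𝒴 𝒴' : BasedCategory.{v, max u v} C}

section

variable (h𝒴 : IsFibGrpd 𝒴.p) (h𝒴' : Stk.IsStack J 𝒴') (Φ Ψ : 𝒴 ⥤ᵇ 𝒴')
    {I : Type w} (o : I → 𝒴.obj) (γ : ∀ i, Φ.obj (o i) ⟶ Ψ.obj (o i))
    (hγ : ∀ i, 𝒴'.p.IsHomLift (𝟙 (𝒴.p.obj (o i))) (γ i))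
    (hnat : ∀ (i j : I) (u : o i ⟶ o j), Φ.map u ≫ γ j = γ i ≫ Ψ.map u)
    (hpb : ∀ (i : I) ⦃V : C⦄ (g : V ⟶ 𝒴.p.obj (o i)), ∃ (j : I) (b : o j ⟶ o i), 𝒴.p.IsHomLift g b)
    (hcov : ∀ y : 𝒴.obj, ∃ R ∈ J (𝒴.p.obj y), ∀ ⦃V : C⦄ (f : V ⟶ 𝒴.p.obj y), R f →
      ∃ (i : I) (a : o i ⟶ y), 𝒴.p.IsHomLift f a)

include h𝒴 h𝒴' hγ hnat hpb hcov in
theorem exists_extension_at (y : 𝒴.obj) :
    ∃ ρ : Φ.obj y ⟶ Ψ.obj y, 𝒴'.p.IsHomLift (𝟙 (𝒴.p.obj y)) ρ ∧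
      ∀ (i : I) (a : o i ⟶ y), Φ.map a ≫ ρ = γ i ≫ Ψ.map a := by
  have h𝒴'fg := h𝒴'.1
  let Ry : Sieve (𝒴.p.obj y) :=
    { arrows := fun V f => ∃ (i : I) (a : o i ⟶ y), 𝒴.p.IsHomLift f a
      downward_closed := by
        rintro V W f ⟨i, a, ha⟩ g
        have hV : 𝒴.p.obj (o i) = V := IsHomLift.domain_eq 𝒴.p f a
        obtain ⟨j, b, hb⟩ := hpb i (g ≫ eqToHom hV.symm)
        have hb' : 𝒴.p.IsHomLift g b := (IsHomLift.lift_comp_eqToHom_iff 𝒴.p g b _).1 hb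
        exact ⟨j, b ≫ a, inferInstance⟩ }
  have hRy : Ry ∈ J (𝒴.p.obj y) := by
    obtain ⟨R, hR, HR⟩ := hcov y
    exact J.superset_covering (fun V f hf => HR f hf) hR
  have hst : (Stk.resSieve Ry 𝒴').IsEquivalence := h𝒴'.2 Ry hRy
  have key := glue_unique h𝒴'fg Ry inferInstance (Φ.obj y) (Ψ.obj y) (Φ.w_obj y) (Ψ.w_obj y)
    (fun {z} l m => ∀ (z' : 𝒴'.obj) (k : z' ⟶ z) (i : I) (a : o i ⟶ y) (τ : z' ⟶ Φ.obj (o i)),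
      τ ≫ Φ.map a = k ≫ l → k ≫ m = τ ≫ γ i ≫ Ψ.map a) ?_ ?_ ?_
  · obtain ⟨θ, hθ, hθP⟩ := key
    refine ⟨θ, hθ, ?_⟩
    intro i a
    have hf : Ry (𝒴.p.map a) := ⟨i, a, IsHomLift.map _ _⟩
    have hl : 𝒴'.p.IsHomLift (𝒴.p.map a) (Φ.map a) := map_isHomLift Φ _ _ (IsHomLift.map _ _)
    have := hθP (𝒴.p.map a) hf (Φ.map a) hl (Φ.obj (o i)) (𝟙 _) i a (𝟙 _) (by simp)
    simpa using this
  · -- local existence
    intro V f hf z l hl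
    obtain ⟨i₀, a₀, ha₀⟩ := hf
    have hV₀ : 𝒴.p.obj (o i₀) = V := IsHomLift.domain_eq 𝒴.p f a₀
    have hΦa₀ : 𝒴'.p.IsHomLift f (Φ.map a₀) := map_isHomLift Φ _ _ ha₀
    have hΨa₀ : 𝒴'.p.IsHomLift f (Ψ.map a₀) := map_isHomLift Ψ _ _ ha₀
    obtain ⟨τ₀, hτ₀1, hτ₀2⟩ := exists_iso_of_lifts h𝒴'fg f l hl (Φ.map a₀) hΦa₀
    have hγ₀ : 𝒴'.p.IsHomLift (𝟙 V) (γ i₀) := isHomLift_id_of_eq' hV₀ _ (hγ i₀)
    have m1 : 𝒴'.p.IsHomLift f (γ i₀ ≫ Ψ.map a₀) := inferInstance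
    have m2 : 𝒴'.p.IsHomLift f (τ₀.hom ≫ γ i₀ ≫ Ψ.map a₀) := inferInstance
    refine ⟨τ₀.hom ≫ γ i₀ ≫ Ψ.map a₀, m2, ?_⟩
    intro z' k i a τ e
    have hz : 𝒴'.p.obj z = V := IsHomLift.domain_eq 𝒴'.p f l
    let kk : 𝒴'.p.obj z' ⟶ V := 𝒴'.p.map k ≫ eqToHom hz
    have hk : 𝒴'.p.IsHomLift kk k := inferInstance
    let g : 𝒴'.p.obj z' ⟶ 𝒴.p.obj (o i) := 𝒴'.p.map τ ≫ eqToHom (Φ.w_obj (o i))
    have hτ : 𝒴'.p.IsHomLift g τ := inferInstance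
    obtain ⟨j, b, hb⟩ := hpb i g
    have hΦb : 𝒴'.p.IsHomLift g (Φ.map b) := map_isHomLift Φ _ _ hb
    obtain ⟨ε, hε1, hε2⟩ := exists_iso_of_lifts h𝒴'fg g τ hτ (Φ.map b) hΦb
    -- the base maps agree
    have ha : 𝒴.p.IsHomLift (𝒴.p.map a) a := IsHomLift.map _ _
    have hΦa : 𝒴'.p.IsHomLift (𝒴.p.map a) (Φ.map a) := map_isHomLift Φ _ _ ha
    have b1 : 𝒴'.p.IsHomLift (g ≫ 𝒴.p.map a) (τ ≫ Φ.map a) := inferInstance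
    have b2 : 𝒴'.p.IsHomLift (kk ≫ f) (k ≫ l) := inferInstance
    have b3 : 𝒴'.p.IsHomLift (kk ≫ f) (τ ≫ Φ.map a) := by rw [e]; exact b2
    have hbase : g ≫ 𝒴.p.map a = kk ≫ f := base_eq b1 b3
    have hba : 𝒴.p.IsHomLift (g ≫ 𝒴.p.map a) (b ≫ a) := inferInstance
    have hba' : 𝒴.p.IsHomLift (kk ≫ f) (b ≫ a) := isHomLift_congr'' hbase hba
    have hsc := sc_all h𝒴 f a₀ ha₀
    obtain ⟨d, ⟨hd1, hd2⟩, -⟩ :=
      IsStronglyCartesian.universal_property 𝒴.p f a₀ kk (kk ≫ f) rfl (b ≫ a)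
    have hΦd : 𝒴'.p.IsHomLift kk (Φ.map d) := map_isHomLift Φ _ _ hd1
    have n1 : 𝒴'.p.IsHomLift kk (ε.hom ≫ Φ.map d) := inferInstance
    have n2 : 𝒴'.p.IsHomLift kk (k ≫ τ₀.hom) := inferInstance
    have e1 : ε.hom ≫ Φ.map d = k ≫ τ₀.hom := by
      refine eq_of_comp_eq h𝒴'fg kk f (Φ.map a₀) hΦa₀ _ _ n1 n2 ?_
      have t1 : Φ.map d ≫ Φ.map a₀ = Φ.map b ≫ Φ.map a := by
        have := congrArg (fun t => Φ.toFunctor.map t) hd2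
        simpa using this
      rw [Category.assoc, t1, ← Category.assoc, hε2, e, Category.assoc, hτ₀2]
    have t2 : Ψ.map d ≫ Ψ.map a₀ = Ψ.map b ≫ Ψ.map a := by
      have := congrArg (fun t => Ψ.toFunctor.map t) hd2
      simpa using this
    calc k ≫ τ₀.hom ≫ γ i₀ ≫ Ψ.map a₀
        = (k ≫ τ₀.hom) ≫ γ i₀ ≫ Ψ.map a₀ := by simp only [Category.assoc]
      _ = ε.hom ≫ (Φ.map d ≫ γ i₀) ≫ Ψ.map a₀ := by rw [← e1]; simp only [Category.assoc]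
      _ = ε.hom ≫ γ j ≫ Ψ.map d ≫ Ψ.map a₀ := by rw [hnat j i₀ d]; simp only [Category.assoc]
      _ = ε.hom ≫ (γ j ≫ Ψ.map b) ≫ Ψ.map a := by rw [t2]; simp only [Category.assoc]
      _ = (ε.hom ≫ Φ.map b) ≫ γ i ≫ Ψ.map a := by rw [← hnat j i b]; simp only [Category.assoc]
      _ = τ ≫ γ i ≫ Ψ.map a := by rw [hε2]
  · -- local uniqueness
    intro V f hf z l m m' hl _ _ Pm Pm'
    obtain ⟨i, a, ha⟩ := hf
    have hΦa : 𝒴'.p.IsHomLift f (Φ.map a) := map_isHomLift Φ _ _ ha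
    obtain ⟨τ, -, hτ⟩ := exists_iso_of_lifts h𝒴'fg f l hl (Φ.map a) hΦa
    have e1 := Pm z (𝟙 z) i a τ.hom (by rw [hτ, Category.id_comp])
    have e2 := Pm' z (𝟙 z) i a τ.hom (by rw [hτ, Category.id_comp])
    rw [Category.id_comp] at e1 e2
    rw [e1, e2]
  · -- stability under precomposition
    intro z z' k₀ l m hm z'' k i a τ e
    have := hm z'' (k ≫ k₀) i a τ (by rw [e, Category.assoc])
    rw [Category.assoc] at this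
    exact this

include h𝒴 h𝒴' hγ hnat hpb hcov in
/-- A natural transformation over identities defined on a family of test objects, stable under pullback
and locally generating, extends to all objects, naturally on fibres. -/
theorem exists_extension :
    ∃ ρ : ∀ y : 𝒴.obj, Φ.obj y ⟶ Ψ.obj y,
      (∀ y, 𝒴'.p.IsHomLift (𝟙 (𝒴.p.obj y)) (ρ y)) ∧
      (∀ (y : 𝒴.obj) (i : I) (a : o i ⟶ y), Φ.map a ≫ ρ y = γ i ≫ Ψ.map a) ∧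
      (∀ (y y' : 𝒴.obj) (h : y ⟶ y'), 𝒴.p.IsHomLift (𝟙 (𝒴.p.obj y)) h →
        Φ.map h ≫ ρ y' = ρ y ≫ Ψ.map h) := by
  have h𝒴'fg := h𝒴'.1
  choose ρ hρ1 hρ2 using exists_extension_at J h𝒴 h𝒴' Φ Ψ o γ hγ hnat hpb hcov
  refine ⟨ρ, hρ1, hρ2, ?_⟩
  intro y y' h hh
  have hy' : 𝒴.p.obj y' = 𝒴.p.obj y := IsHomLift.codomain_eq 𝒴.p (𝟙 (𝒴.p.obj y)) h
  have l1 : 𝒴'.p.IsHomLift (𝟙 (𝒴.p.obj y)) (Φ.map h) := map_isHomLift Φ _ _ hh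
  have l2 : 𝒴'.p.IsHomLift (𝟙 (𝒴.p.obj y)) (Ψ.map h) := map_isHomLift Ψ _ _ hh
  have l3 : 𝒴'.p.IsHomLift (𝟙 (𝒴.p.obj y)) (ρ y') := isHomLift_id_of_eq' hy' _ (hρ1 y')
  have l4 := hρ1 y
  have m1 : 𝒴'.p.IsHomLift (𝟙 (𝒴.p.obj y)) (Φ.map h ≫ ρ y') := inferInstance
  have m2 : 𝒴'.p.IsHomLift (𝟙 (𝒴.p.obj y)) (ρ y ≫ Ψ.map h) := inferInstance
  obtain ⟨R, hR, HR⟩ := hcov y
  have hst : (Stk.resSieve R 𝒴').IsEquivalence := h𝒴'.2 R hR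
  refine eq_of_locally h𝒴'fg (Φ.obj y) (Ψ.obj y') (Φ.w_obj y) R inferInstance _ _ m1 m2 ?_
  intro V f hf
  obtain ⟨i, a, ha⟩ := HR f hf
  refine ⟨Φ.obj (o i), Φ.map a, map_isHomLift Φ _ _ ha, ?_⟩
  have e1 : Φ.map a ≫ Φ.map h = Φ.map (a ≫ h) := (Φ.toFunctor.map_comp a h).symm
  have e2 : Ψ.map a ≫ Ψ.map h = Ψ.map (a ≫ h) := (Ψ.toFunctor.map_comp a h).symm
  rw [← Category.assoc, e1, hρ2 y' i (a ≫ h), ← e2, ← Category.assoc, ← hρ2 y i a,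
    Category.assoc]

end

end Groth.Agent.Lib.Helper62.StkExtend
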