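import Groth.Prelude.Def_W4stkcategoriessitesFib
import Groth.Agent.Lib.Helper17.FibGrpd
import Groth.Agent.Lib.Helper86.TwoYoneda

/-!
# Fully faithful functors between categories fibred in groupoids, fibrewise (helper62)
-/

set_option autoImplicit false
set_option backward.isDefEq.respectTransparency false
set_option backward.isDefEq.respectTransparency.types false
universe v₃ u₃ v₂ u₂ v u
open CategoryTheory CategoryTheory.Functor FibCat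

namespace Groth.Agent.Lib.Helper62.StkFF

open Groth.Agent.Lib.Helper17 Groth.Agent.Lib.Helper17.FG

section General

variable {A B A' B' : Type*} [Category A] [Category B] [Category A'] [Category B']

/-- In a square `P ⋙ E₂ ≅ E₁ ⋙ Φ` with `E₁`, `E₂` equivalences, `P` is fully faithful iff `Φ` is. -/
theorem ff_iff_of_square (P : A ⥤ A') (Φ : B ⥤ B') (E₁ : A ⥤ B) (E₂ : A' ⥤ B')
    [E₁.IsEquivalence] [E₂.IsEquivalence] (e : P ⋙ E₂ ≅ E₁ ⋙ Φ) :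
    (P.Full ∧ P.Faithful) ↔ (Φ.Full ∧ Φ.Faithful) := by
  constructor
  · rintro ⟨hf, hfa⟩
    have h1 : (E₁ ⋙ Φ).Full := Functor.Full.of_iso e
    have h2 : (E₁ ⋙ Φ).Faithful := Functor.Faithful.of_iso e
    let e' : E₁.inv ⋙ (E₁ ⋙ Φ) ≅ Φ :=
      (Functor.associator _ _ _).symm ≪≫ Functor.isoWhiskerRight E₁.asEquivalence.counitIso Φ ≪≫
        Functor.leftUnitor Φ
    exact ⟨Functor.Full.of_iso e', Functor.Faithful.of_iso e'⟩
  · rintro ⟨hf, hfa⟩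
    have h1 : (P ⋙ E₂).Full := Functor.Full.of_iso e.symm
    have h2 : (P ⋙ E₂).Faithful := Functor.Faithful.of_iso e.symm
    exact ⟨Functor.Full.of_comp_faithful P E₂, Functor.Faithful.of_comp P E₂⟩

end General

variable {C : Type u} [Category.{v} C] {𝒳 : BasedCategory.{v₂, u₂} C} {𝒴 : BasedCategory.{v₃, u₃} C}

/-- `F φ` lies over whatever `φ` lies over. -/
theorem map_isHomLift (F : 𝒳 ⥤ᵇ 𝒴) {R S : C} (f : R ⟶ S) {a b : 𝒳.obj} (φ : a ⟶ b)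
    (h : 𝒳.p.IsHomLift f φ) : 𝒴.p.IsHomLift f (F.map φ) :=
  BasedFunctor.preserves_isHomLift F f φ

/-- `φ` lies over whatever `F φ` lies over. -/
theorem isHomLift_of_map (F : 𝒳 ⥤ᵇ 𝒴) {R S : C} (f : R ⟶ S) {a b : 𝒳.obj} (φ : a ⟶ b)
    (h : 𝒴.p.IsHomLift f (F.map φ)) : 𝒳.p.IsHomLift f φ :=
  (BasedFunctor.isHomLift_iff F f φ).1 h

theorem fiber_ff_of_ff (F : 𝒳 ⥤ᵇ 𝒴) [F.toFunctor.Full] [F.toFunctor.Faithful] (U : C) :
    (fiberFunctor F U).Full ∧ (fiberFunctor F U).Faithful := by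
  constructor
  · constructor
    intro x y ψ
    obtain ⟨φ, hφ⟩ := F.toFunctor.map_surjective ψ.1
    have hψ : 𝒴.p.IsHomLift (𝟙 U) ψ.1 := ψ.2
    have h1 : 𝒳.p.IsHomLift (𝟙 U) φ := isHomLift_of_map F (𝟙 U) φ (by rw [hφ]; exact hψ)
    exact ⟨⟨φ, h1⟩, Subtype.ext hφ⟩
  · constructor
    intro x y φ ψ h
    apply Subtype.ext
    apply F.toFunctor.map_injective
    exact congrArg Subtype.val h

theorem ff_of_fiber_ff (h𝒳 : IsFibGrpd 𝒳.p) (h𝒴 : IsFibGrpd 𝒴.p) (F : 𝒳 ⥤ᵇ 𝒴)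
    (h : ∀ U : C, (fiberFunctor F U).Full ∧ (fiberFunctor F U).Faithful) :
    F.toFunctor.Full ∧ F.toFunctor.Faithful := by
  constructor
  · constructor
    intro x y ψ
    -- `ψ : F x ⟶ F y` lies over `f`
    have hx : 𝒴.p.obj (F.obj x) = 𝒳.p.obj x := F.w_obj x
    have hy : 𝒴.p.obj (F.obj y) = 𝒳.p.obj y := F.w_obj y
    let f : 𝒳.p.obj x ⟶ 𝒳.p.obj y := eqToHom hx.symm ≫ 𝒴.p.map ψ ≫ eqToHom hy
    have hψ : 𝒴.p.IsHomLift f ψ := by
      apply IsHomLift.of_fac 𝒴.p f ψ hx hy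
      simp [f]
    obtain ⟨x', φ₀, hφ₀⟩ := h𝒳.exists_lift f
    have hFφ₀ : 𝒴.p.IsHomLift f (F.map φ₀) := map_isHomLift F f φ₀ hφ₀
    obtain ⟨θ, hθ1, hθ2, -⟩ := exists_factor h𝒴 f (F.map φ₀) hFφ₀ ψ hψ
    -- θ : F x ⟶ F x' over 𝟙
    have hx' : 𝒳.p.obj x' = 𝒳.p.obj x := IsHomLift.domain_eq 𝒳.p f φ₀
    let X : 𝒳.p.Fiber (𝒳.p.obj x) := ⟨x, rfl⟩
    let X' : 𝒳.p.Fiber (𝒳.p.obj x) := ⟨x', hx'⟩
    have hfull := (h (𝒳.p.obj x)).1
    obtain ⟨χ, hχ⟩ := (fiberFunctor F (𝒳.p.obj x)).map_surjective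
      (X := X) (Y := X') ⟨θ, hθ1⟩
    refine ⟨χ.1 ≫ φ₀, ?_⟩
    have e1 : F.map χ.1 = θ := congrArg Subtype.val hχ
    rw [Functor.map_comp]
    change F.map χ.1 ≫ F.map φ₀ = ψ
    rw [e1, hθ2]
  · constructor
    intro x y φ₁ φ₂ heq
    have heq' : F.map φ₁ = F.map φ₂ := heq
    -- both lie over `f := p φ₂`
    have h2 : 𝒳.p.IsHomLift (𝒳.p.map φ₂) φ₂ := inferInstance
    have h1 : 𝒳.p.IsHomLift (𝒳.p.map φ₂) φ₁ := by
      apply isHomLift_of_map F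
      rw [heq']
      exact map_isHomLift F _ φ₂ h2
    obtain ⟨θ, hθ1, hθ2, -⟩ := exists_factor h𝒳 (𝒳.p.map φ₂) φ₂ h2 φ₁ h1
    -- θ : x ⟶ x over 𝟙 with θ ≫ φ₂ = φ₁; F θ = 𝟙
    have hFθ : F.map θ = 𝟙 _ := by
      have hsc := sc_all h𝒴 (𝒳.p.map φ₂) (F.map φ₂) (map_isHomLift F _ φ₂ h2)
      have hFθ1 : 𝒴.p.IsHomLift (𝟙 (𝒳.p.obj x)) (F.map θ) := map_isHomLift F _ θ hθ1
      have hid : 𝒴.p.IsHomLift (𝟙 (𝒳.p.obj x)) (𝟙 (F.obj x)) := IsHomLift.id (F.w_obj x)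
      obtain ⟨χ, -, huniq⟩ := IsStronglyCartesian.universal_property 𝒴.p (𝒳.p.map φ₂) (F.map φ₂)
        (𝟙 _) (𝒳.p.map φ₂) (Category.id_comp _).symm (F.map φ₂)
      have a1 := huniq (F.map θ) ⟨hFθ1, by rw [← F.toFunctor.map_comp]; change F.map (θ ≫ φ₂) = _; rw [hθ2, heq']⟩
      have a2 := huniq (𝟙 _) ⟨hid, Category.id_comp _⟩
      rw [a1, a2]
    let X : 𝒳.p.Fiber (𝒳.p.obj x) := ⟨x, rfl⟩
    have hfa := (h (𝒳.p.obj x)).2
    have e3 : (⟨θ, hθ1⟩ : X ⟶ X) = 𝟙 X := by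
      apply (fiberFunctor F (𝒳.p.obj x)).map_injective
      apply Subtype.ext
      change F.map θ = F.map (𝟙 x)
      rw [hFθ]
      exact (F.toFunctor.map_id x).symm
    have e4 : θ = 𝟙 x := congrArg Subtype.val e3
    rw [← hθ2, e4, Category.id_comp]

section Square

variable {C : Type u} [Category.{v} C] {𝒳 𝒴 : BasedCategory.{v, max u v} C}

/-- The 2-Yoneda square: postcomposition with `F` followed by evaluation at the identity is
evaluation at the identity followed by the fibre functor of `F`. -/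
def postcompEvalIso (F : 𝒳 ⟶ 𝒴) (U : C) :
    Bicategory.postcomp (FibCat.overCat U) F ⋙ FibCat.evalAtId 𝒴 U ≅
      FibCat.evalAtId 𝒳 U ⋙ FibCat.fiberFunctor F U :=
  NatIso.ofComponents (fun G => Iso.refl _) (by
    intro G H α
    apply Subtype.ext
    simp
    rfl)

end Square

end Groth.Agent.Lib.Helper62.StkFF
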