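import Groth.Agent.Lib.Helper62.StkGlueHom

/-!
# Gluing natural families of automorphisms on a stack from local specifications (helper62)
-/

set_option autoImplicit false
set_option backward.isDefEq.respectTransparency false
set_option backward.isDefEq.respectTransparency.types false
universe v u
open CategoryTheory CategoryTheory.Functor FibCat

namespace Groth.Agent.Lib.Helper62.StkFamGlue

open Groth.Agent.Lib.Helper17 Groth.Agent.Lib.Helper17.FG Groth.Agent.Lib.Helper62.StkFF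
open Groth.Agent.Lib.Helper62.StkGlue Groth.Agent.Lib.Helper62.StkLocTriv
open Groth.Agent.Lib.Helper62.StkCone Groth.Agent.Lib.Helper62.StkGlueHom

variable {C : Type u} [Category.{v} C] (J : GrothendieckTopology C)
  {𝒮 : BasedCategory.{v, max u v} C}

section FGL

variable (h𝒮 : Stk.IsStack J 𝒮) {U : C}
  (T : ∀ (z : 𝒮.obj), (𝒮.p.obj z ⟶ U) → Prop)
  (τ : ∀ (z : 𝒮.obj) (f : 𝒮.p.obj z ⟶ U), T z f → (z ⟶ z))
  (hτ : ∀ (z : 𝒮.obj) (f : 𝒮.p.obj z ⟶ U) (h : T z f), 𝒮.p.IsHomLift (𝟙 (𝒮.p.obj z)) (τ z f h))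
  (hT : ∀ {z' z : 𝒮.obj} (k : z' ⟶ z) (f : 𝒮.p.obj z ⟶ U), T z f → T z' (𝒮.p.map k ≫ f))
  (hnat : ∀ {z' z : 𝒮.obj} (k : z' ⟶ z) (f : 𝒮.p.obj z ⟶ U) (h : T z f)
    (h' : T z' (𝒮.p.map k ≫ f)), τ z' (𝒮.p.map k ≫ f) h' ≫ k = k ≫ τ z f h)
  (hloc : ∀ (y : 𝒮.obj) (f : 𝒮.p.obj y ⟶ U), ∃ R ∈ J (𝒮.p.obj y),
    ∀ ⦃V : C⦄ (r : V ⟶ 𝒮.p.obj y), R r →
      ∃ (z : 𝒮.obj) (ψ : z ⟶ y), 𝒮.p.IsHomLift r ψ ∧ T z (𝒮.p.map ψ ≫ f))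

theorem T_congr {z : 𝒮.obj} {f f' : 𝒮.p.obj z ⟶ U} (e : f = f') (h : T z f) : T z f' := e ▸ h

theorem τ_congr {z : 𝒮.obj} {f f' : 𝒮.p.obj z ⟶ U} (e : f = f') (h : T z f) (h' : T z f') :
    τ z f h = τ z f' h' := by
  subst e; rfl

include h𝒮 hτ hT hnat hloc in
theorem exists_local (y : 𝒮.obj) (f : 𝒮.p.obj y ⟶ U) :
    ∃ θ : y ⟶ y, 𝒮.p.IsHomLift (𝟙 (𝒮.p.obj y)) θ ∧
      (∀ (z : 𝒮.obj) (ψ : z ⟶ y) (h : T z (𝒮.p.map ψ ≫ f)), ψ ≫ θ = τ z _ h ≫ ψ) := by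
  have h𝒮fg := h𝒮.1
  let Ryf : Sieve (𝒮.p.obj y) :=
    { arrows := fun V r => ∃ (z : 𝒮.obj) (ψ : z ⟶ y), 𝒮.p.IsHomLift r ψ ∧ T z (𝒮.p.map ψ ≫ f)
      downward_closed := by
        rintro V W r ⟨z, ψ, hψ, hTψ⟩ g
        have hV : 𝒮.p.obj z = V := IsHomLift.domain_eq 𝒮.p r ψ
        obtain ⟨z', k, hk⟩ := h𝒮fg.exists_lift (x := z) (g ≫ eqToHom hV.symm)
        have hk' : 𝒮.p.IsHomLift g k := (IsHomLift.lift_comp_eqToHom_iff 𝒮.p g k _).1 hk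
        refine ⟨z', k ≫ ψ, inferInstance, ?_⟩
        refine T_congr T ?_ (hT k _ hTψ)
        rw [Functor.map_comp, Category.assoc] }
  have hRyf : Ryf ∈ J (𝒮.p.obj y) := by
    obtain ⟨R, hR, HR⟩ := hloc y f
    exact J.superset_covering (fun V r hr => HR r hr) hR
  have hst : (Stk.resSieve Ryf 𝒮).IsEquivalence := h𝒮.2 Ryf hRyf
  -- every lift of an arrow of the sieve is a test pair
  have hTl : ∀ ⦃V : C⦄ (r : V ⟶ 𝒮.p.obj y), Ryf r → ∀ {z : 𝒮.obj} (l : z ⟶ y),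
      𝒮.p.IsHomLift r l → T z (𝒮.p.map l ≫ f) := by
    rintro V r ⟨z₀, ψ₀, hψ₀, hT₀⟩ z l hl
    obtain ⟨ι, -, hι⟩ := exists_iso_of_lifts h𝒮fg r l hl ψ₀ hψ₀
    refine T_congr T ?_ (hT ι.hom _ hT₀)
    rw [← Category.assoc, ← Functor.map_comp, hι]
  have key := glue_unique h𝒮fg Ryf inferInstance y y rfl rfl
    (fun {z} l m => ∀ (z' : 𝒮.obj) (k : z' ⟶ z) (h : T z' (𝒮.p.map (k ≫ l) ≫ f)),
      k ≫ m = τ z' _ h ≫ k ≫ l) ?_ ?_ ?_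
  · obtain ⟨θ, hθ, hθP⟩ := key
    refine ⟨θ, hθ, ?_⟩
    intro z ψ h
    have hr : Ryf (𝒮.p.map ψ) := ⟨z, ψ, IsHomLift.map _ _, h⟩
    have h1 : T z (𝒮.p.map (𝟙 z ≫ ψ) ≫ f) := T_congr T (by rw [Category.id_comp]) h
    have := hθP (𝒮.p.map ψ) hr ψ (IsHomLift.map _ _) z (𝟙 z) h1
    rw [τ_congr T τ (by rw [Category.id_comp]) h1 h] at this
    simpa using this
  · -- local existence
    intro V r hr z l hl
    have hTz := hTl r hr l hl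
    have hV : 𝒮.p.obj z = V := IsHomLift.domain_eq 𝒮.p r l
    have l1 : 𝒮.p.IsHomLift (𝟙 V) (τ z _ hTz) := isHomLift_id_of_eq' hV _ (hτ z _ hTz)
    have l2 : 𝒮.p.IsHomLift r (τ z _ hTz ≫ l) := inferInstance
    refine ⟨τ z _ hTz ≫ l, l2, ?_⟩
    intro z' k h
    have e : 𝒮.p.map k ≫ (𝒮.p.map l ≫ f) = 𝒮.p.map (k ≫ l) ≫ f := by
      rw [Functor.map_comp, Category.assoc]
    have h'' : T z' (𝒮.p.map k ≫ (𝒮.p.map l ≫ f)) := hT k _ hTz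
    have n := hnat k _ hTz h''
    rw [τ_congr T τ e h'' h] at n
    rw [← Category.assoc, ← n, Category.assoc]
  · -- local uniqueness
    intro V r hr z l m m' hl _ _ Pm Pm'
    have hTz := hTl r hr l hl
    have h1 : T z (𝒮.p.map (𝟙 z ≫ l) ≫ f) := T_congr T (by rw [Category.id_comp]) hTz
    have e1 := Pm z (𝟙 z) h1
    have e2 := Pm' z (𝟙 z) h1
    rw [Category.id_comp] at e1 e2
    rw [e1, e2]
  · -- stability under precomposition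
    intro z z' k₀ l m hm z'' k h
    have e : 𝒮.p.map ((k ≫ k₀) ≫ l) ≫ f = 𝒮.p.map (k ≫ k₀ ≫ l) ≫ f := by
      rw [Category.assoc]
    have h1 : T z'' (𝒮.p.map ((k ≫ k₀) ≫ l) ≫ f) := T_congr T e.symm h
    have := hm z'' (k ≫ k₀) h1
    rw [τ_congr T τ e h1 h] at this
    simp only [Category.assoc] at this
    exact this

include h𝒮 hloc in
theorem local_unique (y : 𝒮.obj) (f : 𝒮.p.obj y ⟶ U) (θ θ' : y ⟶ y)
    (hθ : 𝒮.p.IsHomLift (𝟙 (𝒮.p.obj y)) θ) (hθ' : 𝒮.p.IsHomLift (𝟙 (𝒮.p.obj y)) θ')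
    (h : ∀ (z : 𝒮.obj) (ψ : z ⟶ y), T z (𝒮.p.map ψ ≫ f) → ψ ≫ θ = ψ ≫ θ') : θ = θ' := by
  obtain ⟨R, hR, HR⟩ := hloc y f
  have hst : (Stk.resSieve R 𝒮).IsEquivalence := h𝒮.2 R hR
  refine eq_of_locally h𝒮.1 y y rfl R inferInstance θ θ' hθ hθ' ?_
  intro V r hr
  obtain ⟨z, ψ, hψ, hTψ⟩ := HR r hr
  exact ⟨z, ψ, hψ, h z ψ hTψ⟩

include h𝒮 hτ hT hnat hloc in
/-- a natural family of automorphisms with prescribed values on test pairs -/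
theorem exists_family :
    ∃ a : ∀ (y : 𝒮.obj), (𝒮.p.obj y ⟶ U) → (y ⟶ y),
      (∀ y f, 𝒮.p.IsHomLift (𝟙 (𝒮.p.obj y)) (a y f)) ∧
      (∀ {y' y : 𝒮.obj} (φ : y' ⟶ y) (f : 𝒮.p.obj y ⟶ U),
        a y' (𝒮.p.map φ ≫ f) ≫ φ = φ ≫ a y f) ∧
      (∀ (z : 𝒮.obj) (f : 𝒮.p.obj z ⟶ U) (h : T z f), a z f = τ z f h) := by
  have h𝒮fg := h𝒮.1
  choose a ha1 ha2 using exists_local J h𝒮 T τ hτ hT hnat hloc
  refine ⟨a, ha1, ?_, ?_⟩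
  · intro y' y φ f
    have lφ : 𝒮.p.IsHomLift (𝒮.p.map φ) φ := IsHomLift.map _ _
    have hy' : 𝒮.p.obj y' = 𝒮.p.obj y' := rfl
    -- the restriction of `a y f` along `φ`
    have l0 := ha1 y f
    have l1 : 𝒮.p.IsHomLift (𝒮.p.map φ) (φ ≫ a y f) := inferInstance
    obtain ⟨κ, hκ1, hκ2, -⟩ := exists_factor h𝒮fg (𝒮.p.map φ) φ lφ (φ ≫ a y f) l1
    have e : κ = a y' (𝒮.p.map φ ≫ f) := by
      refine local_unique J h𝒮 T hloc y' (𝒮.p.map φ ≫ f) κ _ hκ1 (ha1 y' _) ?_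
      intro z ψ hTψ
      rw [ha2 y' _ z ψ hTψ]
      have lψ : 𝒮.p.IsHomLift (𝒮.p.map ψ) ψ := IsHomLift.map _ _
      have lτ := hτ z _ hTψ
      have m1 : 𝒮.p.IsHomLift (𝒮.p.map ψ) (ψ ≫ κ) := inferInstance
      have m2 : 𝒮.p.IsHomLift (𝒮.p.map ψ) (τ z _ hTψ ≫ ψ) := inferInstance
      refine eq_of_comp_eq h𝒮fg (𝒮.p.map ψ) (𝒮.p.map φ) φ lφ _ _ m1 m2 ?_
      have e1 : 𝒮.p.map ψ ≫ 𝒮.p.map φ ≫ f = 𝒮.p.map (ψ ≫ φ) ≫ f := by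
        rw [Functor.map_comp, Category.assoc]
      have hT2 : T z (𝒮.p.map (ψ ≫ φ) ≫ f) := T_congr T e1 hTψ
      have := ha2 y f z (ψ ≫ φ) hT2
      rw [Category.assoc, hκ2, ← Category.assoc, this, τ_congr T τ e1 hTψ hT2]
      simp only [Category.assoc]
    rw [← e, hκ2]
  · intro z f h
    have h1 : T z (𝒮.p.map (𝟙 z) ≫ f) := T_congr T (by simp) h
    have := ha2 z f z (𝟙 z) h1
    rw [Category.id_comp, Category.comp_id] at this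
    rw [this, τ_congr T τ (by simp) h1 h]

include h𝒮 hloc in
/-- natural families of automorphisms agreeing on test pairs are equal -/
theorem family_unique (a a' : ∀ (y : 𝒮.obj), (𝒮.p.obj y ⟶ U) → (y ⟶ y))
    (ha : ∀ y f, 𝒮.p.IsHomLift (𝟙 (𝒮.p.obj y)) (a y f))
    (ha' : ∀ y f, 𝒮.p.IsHomLift (𝟙 (𝒮.p.obj y)) (a' y f))
    (hn : ∀ {y' y : 𝒮.obj} (φ : y' ⟶ y) (f : 𝒮.p.obj y ⟶ U),
        a y' (𝒮.p.map φ ≫ f) ≫ φ = φ ≫ a y f)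
    (hn' : ∀ {y' y : 𝒮.obj} (φ : y' ⟶ y) (f : 𝒮.p.obj y ⟶ U),
        a' y' (𝒮.p.map φ ≫ f) ≫ φ = φ ≫ a' y f)
    (h : ∀ (z : 𝒮.obj) (f : 𝒮.p.obj z ⟶ U), T z f → a z f = a' z f)
    (y : 𝒮.obj) (f : 𝒮.p.obj y ⟶ U) : a y f = a' y f := by
  refine local_unique J h𝒮 T hloc y f _ _ (ha y f) (ha' y f) ?_
  intro z ψ hTψ
  rw [← hn ψ f, ← hn' ψ f, h z _ hTψ]

end FGL

end Groth.Agent.Lib.Helper62.StkFamGlue
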