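import Groth.Agent.Lib.Helper62.StkExtend
import Groth.Agent.Lib.Helper62.StkGerbeEquiv

/-!
# Endofunctors of gerbes acting trivially on an automorphism sheaf are fibrewise the identity (helper62)
-/

set_option autoImplicit false
set_option backward.isDefEq.respectTransparency false
set_option backward.isDefEq.respectTransparency.types false
universe v u
open CategoryTheory CategoryTheory.Functor FibCat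

namespace Groth.Agent.Lib.Helper62.StkGerbeNat

open Groth.Agent.Lib.Helper17 Groth.Agent.Lib.Helper17.FG Groth.Agent.Lib.Helper62.StkFF
open Groth.Agent.Lib.Helper62.StkGlue Groth.Agent.Lib.Helper62.StkLocTriv
open Groth.Agent.Lib.Helper62.StkCone Groth.Agent.Lib.Helper62.StkGlueHom
open Groth.Agent.Lib.Helper62.StkGerbeEquiv Groth.Agent.Lib.Helper62.StkExtend

variable {C : Type u} [Category.{v} C] (J : GrothendieckTopology C)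
  {𝒳 𝒴 : BasedCategory.{v, max u v} C}

section K

variable (h𝒳 : IsFibGrpd 𝒳.p) (Θ : 𝒳 ⥤ᵇ 𝒳) (x : 𝒳.obj) (hT : Limits.IsTerminal (𝒳.p.obj x))
  (g : Θ.obj x ⟶ x) (hg : 𝒳.p.IsHomLift (𝟙 (𝒳.p.obj x)) g)
  (hconj : ∀ (x' : 𝒳.obj) (c : x' ⟶ x) (g' : Θ.obj x' ⟶ x'), 𝒳.p.IsHomLift (𝟙 (𝒳.p.obj x')) g' →
      Θ.map c ≫ g = g' ≫ c → ∀ α : Gerb.AutO x', Θ.map α.hom.1 ≫ g' = g' ≫ α.hom.1)

include h𝒳 hT hconj in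
/-- the pullbacks of `g` are natural with respect to all morphisms between pullbacks of `x` -/
theorem pullback_natural {x' x'' : 𝒳.obj} (c : x' ⟶ x) (c'' : x'' ⟶ x)
    (g' : Θ.obj x' ⟶ x') (g'' : Θ.obj x'' ⟶ x'')
    (hg' : 𝒳.p.IsHomLift (𝟙 (𝒳.p.obj x')) g') (hg'' : 𝒳.p.IsHomLift (𝟙 (𝒳.p.obj x'')) g'')
    (e' : Θ.map c ≫ g = g' ≫ c) (e'' : Θ.map c'' ≫ g = g'' ≫ c'') (u : x' ⟶ x'') :
    Θ.map u ≫ g'' = g' ≫ u := by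
  have l1 : 𝒳.p.IsHomLift (𝒳.p.map c) c := IsHomLift.map _ _
  have l2 : 𝒳.p.IsHomLift (𝒳.p.map (u ≫ c'')) (u ≫ c'') := IsHomLift.map _ _
  have hb : 𝒳.p.map (u ≫ c'') = 𝒳.p.map c := hT.hom_ext _ _
  have l3 : 𝒳.p.IsHomLift (𝒳.p.map c) (u ≫ c'') := isHomLift_congr'' hb l2
  obtain ⟨α, hα, eα, hαi⟩ := exists_factor h𝒳 (𝒳.p.map c) (u ≫ c'') l3 c l1
  have hcj := hconj x' c g' hg' e' (mkAut h𝒳 x' α hα)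
  have hcj' : Θ.map α ≫ g' = g' ≫ α := hcj
  -- the two composites with `c''`
  have lu : 𝒳.p.IsHomLift (𝒳.p.map u) u := IsHomLift.map _ _
  have lΘu : 𝒳.p.IsHomLift (𝒳.p.map u) (Θ.map u) := map_isHomLift Θ _ _ lu
  have lΘα : 𝒳.p.IsHomLift (𝟙 (𝒳.p.obj x')) (Θ.map α) := map_isHomLift Θ _ _ hα
  have m1 : 𝒳.p.IsHomLift (𝒳.p.map u) (α ≫ u) := inferInstance
  have m2 : 𝒳.p.IsHomLift (𝒳.p.map u) (g' ≫ α ≫ u) := inferInstance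
  have m3 : 𝒳.p.IsHomLift (𝒳.p.map u) (Θ.map u ≫ g'') := inferInstance
  have m4 : 𝒳.p.IsHomLift (𝒳.p.map u) (Θ.map α ≫ Θ.map u ≫ g'') := inferInstance
  have lc'' : 𝒳.p.IsHomLift (𝒳.p.map c'') c'' := IsHomLift.map _ _
  have key : g' ≫ α ≫ u = Θ.map α ≫ Θ.map u ≫ g'' := by
    refine eq_of_comp_eq h𝒳 (𝒳.p.map u) (𝒳.p.map c'') c'' lc'' _ _ m2 m4 ?_
    have t1 : Θ.map c = Θ.map α ≫ Θ.map u ≫ Θ.map c'' := by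
      rw [← eα]
      change Θ.toFunctor.map (α ≫ u ≫ c'') = _
      rw [Functor.map_comp, Functor.map_comp]
    calc (g' ≫ α ≫ u) ≫ c'' = g' ≫ (α ≫ u ≫ c'') := by simp only [Category.assoc]
      _ = Θ.map c ≫ g := by rw [eα, e']
      _ = Θ.map α ≫ Θ.map u ≫ (Θ.map c'' ≫ g) := by rw [t1]; simp only [Category.assoc]
      _ = (Θ.map α ≫ Θ.map u ≫ g'') ≫ c'' := by rw [e'']; simp only [Category.assoc]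
  have hi : IsIso (Θ.map α) := by
    change IsIso (Θ.toFunctor.map α)
    infer_instance
  have fin : Θ.map α ≫ (Θ.map u ≫ g'') = Θ.map α ≫ (g' ≫ u) := by
    rw [← key, ← Category.assoc g' α u, ← hcj', Category.assoc]
  exact (cancel_epi (Θ.map α)).1 fin

/-- the pullbacks of `x` -/
abbrev Good (x : 𝒳.obj) : Type (max u v) := {x' : 𝒳.obj // Nonempty (x' ⟶ x)}

include h𝒳 hg in
theorem exists_pullback_g (x' : 𝒳.obj) (c : x' ⟶ x) :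
    ∃ g' : Θ.obj x' ⟶ x', 𝒳.p.IsHomLift (𝟙 (𝒳.p.obj x')) g' ∧ Θ.map c ≫ g = g' ≫ c := by
  have l1 : 𝒳.p.IsHomLift (𝒳.p.map c) c := IsHomLift.map _ _
  have l2 : 𝒳.p.IsHomLift (𝒳.p.map c) (Θ.map c) := map_isHomLift Θ _ _ l1
  have l3 : 𝒳.p.IsHomLift (𝒳.p.map c) (Θ.map c ≫ g) := inferInstance
  obtain ⟨θ, h1, h2, -⟩ := exists_factor h𝒳 (𝒳.p.map c) c l1 (Θ.map c ≫ g) l3
  exact ⟨θ, h1, h2.symm⟩

end K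

section Endo

variable (h𝒳 : Gerb.IsGerbe J 𝒳) (φ : 𝒳 ⥤ᵇ 𝒳) (x : 𝒳.obj) (hT : Limits.IsTerminal (𝒳.p.obj x))
  (g : φ.obj x ⟶ x) (hg : 𝒳.p.IsHomLift (𝟙 (𝒳.p.obj x)) g)
  (hconj : ∀ (x' : 𝒳.obj) (c : x' ⟶ x) (g' : φ.obj x' ⟶ x'), 𝒳.p.IsHomLift (𝟙 (𝒳.p.obj x')) g' →
      φ.map c ≫ g = g' ≫ c → ∀ α : Gerb.AutO x', φ.map α.hom.1 ≫ g' = g' ≫ α.hom.1)

include h𝒳 hT hg hconj in
/-- An endofunctor of a gerbe with a global object `x`, with an isomorphism `g : φ x ≅ x` such that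
conjugation by `g` after `φ` is the identity on the automorphism sheaf of `x`, is isomorphic to the
identity on every fibre. -/
theorem exists_fibrewise_iso_id :
    ∃ ρ : ∀ y : 𝒳.obj, φ.obj y ⟶ y,
      (∀ y, IsIso (ρ y) ∧ 𝒳.p.IsHomLift (𝟙 (𝒳.p.obj y)) (ρ y)) ∧
      (∀ (y y' : 𝒳.obj) (f : y ⟶ y'), 𝒳.p.IsHomLift (𝟙 (𝒳.p.obj y)) f →
        φ.map f ≫ ρ y' = ρ y ≫ f) := by
  have h𝒳fg := h𝒳.1.1
  have hex : ∀ i : Good x, ∃ g' : φ.obj i.1 ⟶ i.1, 𝒳.p.IsHomLift (𝟙 (𝒳.p.obj i.1)) g' ∧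
      φ.map i.2.some ≫ g = g' ≫ i.2.some := fun i => exists_pullback_g h𝒳fg φ x g hg i.1 i.2.some
  choose γ₀ hγ₀1 hγ₀2 using hex
  obtain ⟨ρ, hρ1, -, hρ3⟩ := exists_extension J h𝒳fg h𝒳.1 φ (BasedFunctor.id 𝒳) (I := Good x)
    (fun i => i.1) γ₀ hγ₀1
    (fun i j u => pullback_natural h𝒳fg φ x hT g hconj i.2.some j.2.some (γ₀ i) (γ₀ j)
      (hγ₀1 i) (hγ₀1 j) (hγ₀2 i) (hγ₀2 j) u)
    (fun i V g₁ => by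
      obtain ⟨w, b, hb⟩ := h𝒳fg.exists_lift (x := i.1) g₁
      exact ⟨⟨w, ⟨b ≫ i.2.some⟩⟩, b, hb⟩)
    (fun y => by
      obtain ⟨R, hR, HR⟩ := good_cover J h𝒳fg h𝒳.2.2 x hT y y rfl rfl
      refine ⟨R, hR, fun V f hf => ?_⟩
      obtain ⟨x₀, c, a₁, -, h1, -⟩ := HR f hf
      exact ⟨⟨x₀, ⟨c⟩⟩, a₁, h1⟩)
  exact ⟨ρ, fun y => ⟨isIso_of_lift_id h𝒳fg (ρ y) (hρ1 y), hρ1 y⟩, hρ3⟩

end Endo


section Comp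

variable (h𝒳 : Gerb.IsGerbe J 𝒳) (h𝒴 : Gerb.IsGerbe J 𝒴) (φ : 𝒳 ⥤ᵇ 𝒴) (ψ : 𝒴 ⥤ᵇ 𝒳) (x : 𝒳.obj)
  (hT : Limits.IsTerminal (𝒳.p.obj x))
  (hφ : ∀ (x' : 𝒳.obj) (_ : x' ⟶ x), Function.Surjective (Gerb.autMap φ x'))
  (g : ψ.obj (φ.obj x) ⟶ x) (hg : 𝒳.p.IsHomLift (𝟙 (𝒳.p.obj x)) g)
  (hconj : ∀ (x' : 𝒳.obj) (c : x' ⟶ x) (g' : ψ.obj (φ.obj x') ⟶ x'),
      𝒳.p.IsHomLift (𝟙 (𝒳.p.obj x')) g' → ψ.map (φ.map c) ≫ g = g' ≫ c →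
      ∀ α : Gerb.AutO x', ψ.map (φ.map α.hom.1) ≫ g' = g' ≫ α.hom.1)

include h𝒳 h𝒴 hT hφ hg hconj in
theorem exists_fibrewise_iso_id_comp :
    ∃ σ : ∀ z : 𝒴.obj, φ.obj (ψ.obj z) ⟶ z,
      (∀ z, IsIso (σ z) ∧ 𝒴.p.IsHomLift (𝟙 (𝒴.p.obj z)) (σ z)) ∧
      (∀ (z z' : 𝒴.obj) (f : z ⟶ z'), 𝒴.p.IsHomLift (𝟙 (𝒴.p.obj z)) f →
        φ.map (ψ.map f) ≫ σ z' = σ z ≫ f) := by
  have h𝒳fg := h𝒳.1.1
  have h𝒴fg := h𝒴.1.1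
  let Θ : 𝒳 ⥤ᵇ 𝒳 := BasedFunctor.comp φ ψ
  let Φ : 𝒴 ⥤ᵇ 𝒴 := BasedFunctor.comp ψ φ
  have hΘmap : ∀ {a b : 𝒳.obj} (k : a ⟶ b), Θ.map k = ψ.map (φ.map k) := fun k => rfl
  have hΦmap : ∀ {a b : 𝒴.obj} (k : a ⟶ b), Φ.map k = φ.map (ψ.map k) := fun k => rfl
  have hΦφ : ∀ {a b : 𝒳.obj} (k : a ⟶ b), Φ.map (φ.map k) = φ.map (Θ.map k) := fun k => rfl
  have hφcomp : ∀ {a b c : 𝒳.obj} (k : a ⟶ b) (l : b ⟶ c), φ.map (k ≫ l) = φ.map k ≫ φ.map l :=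
    fun k l => φ.toFunctor.map_comp k l
  have hΦcomp : ∀ {a b c : 𝒴.obj} (k : a ⟶ b) (l : b ⟶ c), Φ.map (k ≫ l) = Φ.map k ≫ Φ.map l :=
    fun k l => Φ.toFunctor.map_comp k l
  have hex : ∀ i : Good x, ∃ g' : Θ.obj i.1 ⟶ i.1, 𝒳.p.IsHomLift (𝟙 (𝒳.p.obj i.1)) g' ∧
      Θ.map i.2.some ≫ g = g' ≫ i.2.some := fun i => exists_pullback_g h𝒳fg Θ x g hg i.1 i.2.some
  choose γ₀ hγ₀1 hγ₀2 using hex
  have K : ∀ (i j : Good x) (u : i.1 ⟶ j.1), Θ.map u ≫ γ₀ j = γ₀ i ≫ u := fun i j u =>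
    pullback_natural h𝒳fg Θ x hT g hconj i.2.some j.2.some (γ₀ i) (γ₀ j)
      (hγ₀1 i) (hγ₀1 j) (hγ₀2 i) (hγ₀2 j) u
  have Kφ : ∀ (i j : Good x) (u : i.1 ⟶ j.1),
      Φ.map (φ.map u) ≫ φ.map (γ₀ j) = φ.map (γ₀ i) ≫ φ.map u := by
    intro i j u
    rw [hΦφ, ← hφcomp, K i j u, hφcomp]
  have key := exists_extension J h𝒴fg h𝒴.1 Φ (BasedFunctor.id 𝒴) (I := Good x)
    (fun i => φ.obj i.1) (fun i => φ.map (γ₀ i)) ?_ ?_ ?_ ?_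
  · obtain ⟨σ, hσ1, -, hσ3⟩ := key
    exact ⟨σ, fun z => ⟨isIso_of_lift_id h𝒴fg (σ z) (hσ1 z), hσ1 z⟩, hσ3⟩
  · -- the test transformation lies over identities
    intro i
    have : 𝒴.p.IsHomLift (𝟙 (𝒳.p.obj i.1)) (φ.map (γ₀ i)) := map_isHomLift φ _ _ (hγ₀1 i)
    exact isHomLift_id_of_eq' (φ.w_obj i.1).symm _ this
  · -- naturality on test objects
    intro i j u
    change Φ.map u ≫ φ.map (γ₀ j) = φ.map (γ₀ i) ≫ u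
    let pu : 𝒳.p.obj i.1 ⟶ 𝒳.p.obj j.1 :=
      eqToHom (φ.w_obj i.1).symm ≫ 𝒴.p.map u ≫ eqToHom (φ.w_obj j.1)
    have hu : 𝒴.p.IsHomLift pu u := inferInstance
    obtain ⟨w, b, hb⟩ := h𝒳fg.exists_lift (x := j.1) pu
    have hw : 𝒳.p.obj w = 𝒳.p.obj i.1 := IsHomLift.domain_eq 𝒳.p pu b
    let jw : Good x := ⟨w, ⟨b ≫ j.2.some⟩⟩
    have hφb : 𝒴.p.IsHomLift pu (φ.map b) := map_isHomLift φ _ _ hb
    obtain ⟨ε, hε1, hε2, -⟩ := exists_factor h𝒴fg pu (φ.map b) hφb u hu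
    -- Step A
    have stepA : Φ.map (φ.map b) ≫ φ.map (γ₀ j) = φ.map (γ₀ jw) ≫ φ.map b := Kφ jw j b
    -- Step B
    have stepB : Φ.map ε ≫ φ.map (γ₀ jw) = φ.map (γ₀ i) ≫ ε := by
      obtain ⟨R', hR', HR'⟩ := exists_common J h𝒳.2.2 i.1 w rfl hw
      have hst : (Stk.resSieve R' 𝒴).IsEquivalence := h𝒴.1.2 R' hR'
      have lΦε : 𝒴.p.IsHomLift (𝟙 (𝒳.p.obj i.1)) (Φ.map ε) := map_isHomLift Φ _ _ hε1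
      have lγw : 𝒴.p.IsHomLift (𝟙 (𝒳.p.obj i.1)) (φ.map (γ₀ jw)) :=
        isHomLift_id_of_eq' hw _ (map_isHomLift φ _ _ (hγ₀1 jw))
      have lγi : 𝒴.p.IsHomLift (𝟙 (𝒳.p.obj i.1)) (φ.map (γ₀ i)) := map_isHomLift φ _ _ (hγ₀1 i)
      have n1 : 𝒴.p.IsHomLift (𝟙 (𝒳.p.obj i.1)) (Φ.map ε ≫ φ.map (γ₀ jw)) := inferInstance
      have n2 : 𝒴.p.IsHomLift (𝟙 (𝒳.p.obj i.1)) (φ.map (γ₀ i) ≫ ε) := inferInstance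
      have hsrc : 𝒴.p.obj (Φ.obj (φ.obj i.1)) = 𝒳.p.obj i.1 :=
        (Φ.w_obj (φ.obj i.1)).trans (φ.w_obj i.1)
      refine eq_of_locally h𝒴fg (Φ.obj (φ.obj i.1)) (φ.obj w) hsrc R' inferInstance _ _ n1 n2 ?_
      intro V f hf
      obtain ⟨x₀, a₁, a₂, ha₁, ha₂⟩ := HR' f hf
      let i₀ : Good x := ⟨x₀, ⟨a₁ ≫ i.2.some⟩⟩
      have hV : 𝒳.p.obj x₀ = V := IsHomLift.domain_eq 𝒳.p f a₁
      have lφa₁ : 𝒴.p.IsHomLift f (φ.map a₁) := map_isHomLift φ _ _ ha₁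
      have lφa₂ : 𝒴.p.IsHomLift f (φ.map a₂) := map_isHomLift φ _ _ ha₂
      have lΦφa₁ : 𝒴.p.IsHomLift f (Φ.map (φ.map a₁)) := map_isHomLift Φ _ _ lφa₁
      refine ⟨Φ.obj (φ.obj x₀), Φ.map (φ.map a₁), lΦφa₁, ?_⟩
      have l1 : 𝒴.p.IsHomLift f (φ.map a₁ ≫ ε) := inferInstance
      obtain ⟨β, hβ1, hβ2, -⟩ := exists_factor h𝒴fg f (φ.map a₂) lφa₂ (φ.map a₁ ≫ ε) l1
      obtain ⟨α, hα, eα⟩ := surj_of_autMap h𝒴fg φ x₀ (hφ x₀ (a₁ ≫ i.2.some)) β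
        (isHomLift_id_of_eq' hV.symm β hβ1)
      have e1 : φ.map a₁ ≫ ε = φ.map (α ≫ a₂) := by rw [hφcomp, eα, hβ2]
      calc Φ.map (φ.map a₁) ≫ Φ.map ε ≫ φ.map (γ₀ jw)
          = Φ.map (φ.map a₁ ≫ ε) ≫ φ.map (γ₀ jw) := by rw [hΦcomp, Category.assoc]
        _ = Φ.map (φ.map (α ≫ a₂)) ≫ φ.map (γ₀ jw) := by rw [e1]
        _ = φ.map (γ₀ i₀) ≫ φ.map (α ≫ a₂) := Kφ i₀ jw (α ≫ a₂)
        _ = φ.map (γ₀ i₀) ≫ φ.map a₁ ≫ ε := by rw [e1]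
        _ = (Φ.map (φ.map a₁) ≫ φ.map (γ₀ i)) ≫ ε := by rw [Kφ i₀ i a₁, Category.assoc]
        _ = Φ.map (φ.map a₁) ≫ φ.map (γ₀ i) ≫ ε := by rw [Category.assoc]
    calc Φ.map u ≫ φ.map (γ₀ j) = Φ.map (ε ≫ φ.map b) ≫ φ.map (γ₀ j) := by rw [hε2]
      _ = Φ.map ε ≫ Φ.map (φ.map b) ≫ φ.map (γ₀ j) := by rw [hΦcomp, Category.assoc]
      _ = (Φ.map ε ≫ φ.map (γ₀ jw)) ≫ φ.map b := by rw [stepA, Category.assoc]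
      _ = φ.map (γ₀ i) ≫ ε ≫ φ.map b := by rw [stepB, Category.assoc]
      _ = φ.map (γ₀ i) ≫ u := by rw [hε2]
  · -- test objects are stable under pullback
    intro i V g₁
    obtain ⟨w, b, hb⟩ := h𝒳fg.exists_lift (x := i.1) (g₁ ≫ eqToHom (φ.w_obj i.1))
    have hb' : 𝒴.p.IsHomLift (g₁ ≫ eqToHom (φ.w_obj i.1)) (φ.map b) := map_isHomLift φ _ _ hb
    exact ⟨⟨w, ⟨b ≫ i.2.some⟩⟩, φ.map b, (IsHomLift.lift_comp_eqToHom_iff 𝒴.p g₁ (φ.map b) _).1 hb'⟩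
  · -- every object is locally a test object
    intro z
    obtain ⟨sU, cU, hcU⟩ := h𝒳fg.exists_lift (x := x) (hT.from (𝒴.p.obj z))
    have hsU : 𝒳.p.obj sU = 𝒴.p.obj z := IsHomLift.domain_eq 𝒳.p (hT.from (𝒴.p.obj z)) cU
    obtain ⟨R, hR, HR⟩ := exists_common J h𝒴.2.2 z (φ.obj sU) rfl ((φ.w_obj sU).trans hsU)
    refine ⟨R, hR, fun V f hf => ?_⟩
    obtain ⟨y₀, a, b, ha, hb⟩ := HR f hf
    obtain ⟨x₀, d, hd⟩ := h𝒳fg.exists_lift (x := sU) (f ≫ eqToHom hsU.symm)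
    have hd' : 𝒴.p.IsHomLift (f ≫ eqToHom hsU.symm) (φ.map d) := map_isHomLift φ _ _ hd
    have hd'' : 𝒴.p.IsHomLift f (φ.map d) :=
      (IsHomLift.lift_comp_eqToHom_iff 𝒴.p f (φ.map d) _).1 hd'
    obtain ⟨τ, hτ1, hτ2⟩ := exists_iso_of_lifts h𝒴fg f (φ.map d) hd'' b hb
    have : 𝒴.p.IsHomLift f (τ.hom ≫ a) := inferInstance
    exact ⟨⟨x₀, ⟨d ≫ cU⟩⟩, τ.hom ≫ a, this⟩

end Comp

end Groth.Agent.Lib.Helper62.StkGerbeNat
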