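import Groth.Prelude.Def_AlgSt
import Groth.Prelude.Def_W4stkcategoriessitesFib
import Groth.Agent.Lib.Helper17.FibGrpd
import Groth.Agent.Lib.Helper86.TwoYoneda
import Groth.Agent.Lib.Helper98.StkPost
import Groth.Agent.Lib.Helper62.StkFF

/-!
# Gluing tools for stacks in groupoids (helper62)

* `exists_iso_of_lifts`: two lifts of the same arrow with the same target are isomorphic over the identity.
* `exists_factor_of_ff`: a functor over `C` landing fibrewise in the essential image of a fully faithful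
  functor over `C` factors through it up to isomorphism over `C`.
* `post_full`, `post_faithful`: postcomposition with a fully faithful functor over `C` is fully faithful.
* `exists_yoneda`: the 2-Yoneda functor `C/U ⟶ 𝒴` attached to an object over `U` together with its
  structure maps.
-/

set_option autoImplicit false
set_option backward.isDefEq.respectTransparency false
set_option backward.isDefEq.respectTransparency.types false
universe v₅ u₅ v₄ u₄ v₃ u₃ v₂ u₂ v u
open CategoryTheory CategoryTheory.Functor FibCat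

namespace Groth.Agent.Lib.Helper62.StkGlue

open Groth.Agent.Lib.Helper17 Groth.Agent.Lib.Helper17.FG Groth.Agent.Lib.Helper62.StkFF
open Groth.Agent.Lib.Helper98.StkPost

variable {C : Type u} [Category.{v} C]

section Lifts

variable {𝒳 : BasedCategory.{v₂, u₂} C}

/-- Two lifts of `f` with the same target are isomorphic over the identity, compatibly. -/
theorem exists_iso_of_lifts (h𝒳 : IsFibGrpd 𝒳.p) {x a b : 𝒳.obj} {R S : C} (f : R ⟶ S)
    (φ : a ⟶ x) (hφ : 𝒳.p.IsHomLift f φ) (ψ : b ⟶ x) (hψ : 𝒳.p.IsHomLift f ψ) :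
    ∃ τ : a ≅ b, 𝒳.p.IsHomLift (𝟙 R) τ.hom ∧ τ.hom ≫ ψ = φ := by
  obtain ⟨θ, h1, h2, h3⟩ := exists_factor h𝒳 f ψ hψ φ hφ
  exact ⟨@asIso _ _ _ _ θ h3, h1, h2⟩

/-- Uniqueness of a factorisation through a lift, in a category fibred in groupoids. -/
theorem eq_of_comp_eq (h𝒳 : IsFibGrpd 𝒳.p) {x y z : 𝒳.obj} {R S T : C} (g : R ⟶ S) (f : S ⟶ T)
    (φ : y ⟶ x) (hφ : 𝒳.p.IsHomLift f φ) (α β : z ⟶ y) (hα : 𝒳.p.IsHomLift g α)
    (hβ : 𝒳.p.IsHomLift g β) (h : α ≫ φ = β ≫ φ) : α = β := by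
  have hsc := sc_all h𝒳 f φ hφ
  obtain ⟨χ, -, huniq⟩ := IsStronglyCartesian.universal_property 𝒳.p f φ g (g ≫ f) rfl (β ≫ φ)
  rw [huniq α ⟨hα, h⟩, huniq β ⟨hβ, rfl⟩]

end Lifts

section Factor

variable {𝒜 : BasedCategory.{v₅, u₅} C} {𝒳 : BasedCategory.{v₂, u₂} C} {𝒴 : BasedCategory.{v₃, u₃} C}

/-- A functor over `C` whose values are, over identities, isomorphic to values of a fully faithful functor
`F` over `C` factors through `F` up to an isomorphism over `C`. -/
theorem exists_factor_of_ff (F : 𝒳 ⥤ᵇ 𝒴) [F.toFunctor.Full] [F.toFunctor.Faithful] (E : 𝒜 ⥤ᵇ 𝒴)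
    (h : ∀ a : 𝒜.obj, ∃ (x : 𝒳.obj) (τ : F.obj x ≅ E.obj a), 𝒴.p.IsHomLift (𝟙 (𝒜.p.obj a)) τ.hom) :
    ∃ D : 𝒜 ⥤ᵇ 𝒳, Nonempty (BasedFunctor.comp D F ≅ E) := by
  choose X τ hτ using h
  have hτi : ∀ a, 𝒴.p.IsHomLift (𝟙 (𝒜.p.obj a)) (τ a).inv := fun a => by
    have := hτ a
    exact IsHomLift.lift_id_inv (p := 𝒴.p) (𝒜.p.obj a) (τ a)
  let Dfun : 𝒜.obj ⥤ 𝒳.obj :=
    { obj := X
      map := fun {a b} k => F.toFunctor.preimage ((τ a).hom ≫ E.map k ≫ (τ b).inv)
      map_id := fun a => by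
        apply F.toFunctor.map_injective
        rw [Functor.map_preimage]
        simp
      map_comp := fun {a b c} k l => by
        apply F.toFunctor.map_injective
        simp only [Functor.map_preimage, Functor.map_comp]
        simp }
  have hmap : ∀ {a b : 𝒜.obj} (k : a ⟶ b), F.map (Dfun.map k) = (τ a).hom ≫ E.map k ≫ (τ b).inv :=
    fun k => Functor.map_preimage _ _
  have hlift : ∀ {a b : 𝒜.obj} (k : a ⟶ b), 𝒳.p.IsHomLift (𝒜.p.map k) (Dfun.map k) := by
    intro a b k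
    apply isHomLift_of_map F
    rw [hmap]
    have h1 := hτ a
    have h2 := hτi b
    have h3 : 𝒴.p.IsHomLift (𝒜.p.map k) (E.map k) := inferInstance
    have h4 : 𝒴.p.IsHomLift (𝒜.p.map k) (E.map k ≫ (τ b).inv) := inferInstance
    infer_instance
  have hobj : ∀ a, 𝒳.p.obj (X a) = 𝒜.p.obj a := fun a => by
    have := hτ a
    exact (F.w_obj (X a)).symm.trans (IsHomLift.domain_eq 𝒴.p (𝟙 (𝒜.p.obj a)) (τ a).hom)
  let D : 𝒜 ⥤ᵇ 𝒳 :=
    { toFunctor := Dfun
      w := CategoryTheory.Functor.ext hobj (fun a b k => by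
        have := hlift k
        exact IsHomLift.fac' 𝒳.p (𝒜.p.map k) (Dfun.map k)) }
  refine ⟨D, ⟨BasedNatIso.mkNatIso (NatIso.ofComponents τ ?_) ?_⟩⟩
  · intro a b k
    change F.map (Dfun.map k) ≫ (τ b).hom = (τ a).hom ≫ E.map k
    rw [hmap]
    simp
  · intro a
    exact hτ a

end Factor

section Post

variable {ℬ : BasedCategory.{v₅, u₅} C} {𝒳 : BasedCategory.{v₂, u₂} C} {𝒴 : BasedCategory.{v₃, u₃} C}

theorem post_faithful (F : 𝒳 ⥤ᵇ 𝒴) [F.toFunctor.Faithful] : (post ℬ F).Faithful := by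
  constructor
  intro H H' α β h
  apply BasedNatTrans.homCategory.ext
  ext a
  apply F.toFunctor.map_injective
  exact congrArg (fun t => t.toNatTrans.app a) h

theorem post_full (F : 𝒳 ⥤ᵇ 𝒴) [F.toFunctor.Full] [F.toFunctor.Faithful] : (post ℬ F).Full := by
  constructor
  intro H H' γ
  refine ⟨{ toNatTrans := { app := fun a => F.toFunctor.preimage (γ.toNatTrans.app a), naturality := ?_ }, isHomLift' := ?_ }, ?_⟩
  · intro a b k
    apply F.toFunctor.map_injective
    rw [Functor.map_comp, Functor.map_comp, Functor.map_preimage, Functor.map_preimage]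
    exact γ.toNatTrans.naturality k
  · intro a
    apply isHomLift_of_map F
    rw [Functor.map_preimage]
    exact γ.isHomLift' a
  · apply BasedNatTrans.homCategory.ext
    ext a
    exact Functor.map_preimage _ _

end Post

section Yoneda

variable {𝒴 : BasedCategory.{v, max u v} C}

/-- The 2-Yoneda functor of an object `y` over `U`, with its structure maps to `y`. -/
theorem exists_yoneda (h𝒴 : IsFibGrpd 𝒴.p) {U : C} (y : 𝒴.obj) (hy : 𝒴.p.obj y = U) :
    ∃ (Y : overCat U ⥤ᵇ 𝒴) (π : ∀ a : Over U, Y.obj a ⟶ y),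
      (∀ a : Over U, 𝒴.p.IsHomLift a.hom (π a)) ∧
      (∀ {a b : Over U} (k : a ⟶ b), Y.map k ≫ π b = π a) := by
  have := Groth.Agent.Lib.Helper86.TwoYoneda.isFibered_of_isFibGrpd h𝒴
  refine ⟨Groth.Agent.Lib.Helper86.TwoYoneda.pbB ⟨y, hy⟩,
    fun a => Groth.Agent.Lib.Helper86.TwoYoneda.pbMap ⟨y, hy⟩ a, ?_, ?_⟩
  · intro a
    exact (Groth.Agent.Lib.Helper86.TwoYoneda.pbMap_sc ⟨y, hy⟩ a).toIsHomLift
  · intro a b k
    exact Groth.Agent.Lib.Helper86.TwoYoneda.pbHom_fac ⟨y, hy⟩ k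

end Yoneda

end Groth.Agent.Lib.Helper62.StkGlue
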