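import Groth.Agent.Lib.Helper62.StkGlue
import Groth.Agent.S12801
import Mathlib.CategoryTheory.Sites.CoverPreserving
import Mathlib.CategoryTheory.Sites.CoverLifting

/-!
# Functors over `C` and the inherited topologies (helper62)
-/

set_option autoImplicit false
set_option backward.isDefEq.respectTransparency false
set_option backward.isDefEq.respectTransparency.types false
universe w v₃ u₃ v₂ u₂ v u
open CategoryTheory CategoryTheory.Functor FibCat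

namespace Groth.Agent.Lib.Helper62.StkInherited

open Groth.Agent.Lib.Helper17 Groth.Agent.Lib.Helper17.FG Groth.Agent.Lib.Helper62.StkFF
open Groth.Agent.Lib.Helper62.StkGlue

variable {C : Type u} [Category.{v} C] (J : GrothendieckTopology C)
  {𝒳 : BasedCategory.{v₂, u₂} C} {𝒴 : BasedCategory.{v₃, u₃} C}

theorem mem_iff (h𝒳 : IsFibGrpd 𝒳.p) {x : 𝒳.obj} (S : Sieve x) :
    S ∈ 𝒳.p.restrictedTopology J x ↔ S.functorPushforward 𝒳.p ∈ J (𝒳.p.obj x) :=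
  Groth.Agent.S12801.result 𝒳.p h𝒳 J S

theorem pushforward_aux {x : 𝒳.obj} (S : Sieve x) (q : 𝒳.obj ⥤ C) (h : q = 𝒳.p)
    (hS : S.functorPushforward 𝒳.p ∈ J (𝒳.p.obj x)) : S.functorPushforward q ∈ J (q.obj x) := by
  subst h; exact hS

theorem coverPreserving (h𝒳 : IsFibGrpd 𝒳.p) (h𝒴 : IsFibGrpd 𝒴.p) (F : 𝒳 ⥤ᵇ 𝒴) :
    CoverPreserving (𝒳.p.restrictedTopology J) (𝒴.p.restrictedTopology J) F.toFunctor := by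
  constructor
  intro x S hS
  rw [mem_iff J h𝒳] at hS
  rw [mem_iff J h𝒴, ← Sieve.functorPushforward_comp]
  exact pushforward_aux J S (F.toFunctor ⋙ 𝒴.p) F.w hS

theorem isCocontinuous (h𝒳 : IsFibGrpd 𝒳.p) (h𝒴 : IsFibGrpd 𝒴.p) (F : 𝒳 ⥤ᵇ 𝒴) :
    F.toFunctor.IsCocontinuous (𝒳.p.restrictedTopology J) (𝒴.p.restrictedTopology J) := by
  constructor
  intro x T hT
  rw [mem_iff J h𝒴] at hT
  rw [mem_iff J h𝒳]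
  have e : 𝒴.p.obj (F.obj x) = 𝒳.p.obj x := F.w_obj x
  refine J.superset_covering ?_ (J.pullback_stable (eqToHom e.symm) hT)
  intro W g₀ hg₀
  obtain ⟨z, ψ, α, hψ, hfac⟩ := hg₀
  obtain ⟨y, φ, hφ⟩ := h𝒳.exists_lift g₀
  have l1 : 𝒴.p.IsHomLift g₀ (F.map φ) := map_isHomLift F g₀ φ hφ
  have l2 : 𝒴.p.IsHomLift (g₀ ≫ eqToHom e.symm) (F.map φ) := inferInstance
  have l3 : 𝒴.p.IsHomLift (α ≫ 𝒴.p.map ψ) (F.map φ) := by rw [← hfac]; exact l2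
  have hsc := h𝒴.isStronglyCartesian ψ
  obtain ⟨χ, ⟨-, hχ⟩, -⟩ :=
    IsStronglyCartesian.universal_property 𝒴.p (𝒴.p.map ψ) ψ α (α ≫ 𝒴.p.map ψ) rfl (F.map φ)
  have hT' : T (F.map φ) := by rw [← hχ]; exact T.downward_closed hψ χ
  refine ⟨y, φ, eqToHom (IsHomLift.domain_eq 𝒳.p g₀ φ).symm, hT', ?_⟩
  have := IsHomLift.fac 𝒳.p g₀ φ
  refine this.trans ?_
  simp

theorem base_unique {a b : 𝒳.obj} {R S : C} (f f' : R ⟶ S) (φ φ' : a ⟶ b) (h : φ = φ')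
    (hf : 𝒳.p.IsHomLift f φ) (hf' : 𝒳.p.IsHomLift f' φ') : f = f' := by
  subst h
  exact (IsHomLift.fac 𝒳.p f φ).trans (IsHomLift.fac 𝒳.p f' φ).symm

theorem compatiblePreserving (h𝒳 : IsFibGrpd 𝒳.p) (h𝒴 : IsFibGrpd 𝒴.p) (F : 𝒳 ⥤ᵇ 𝒴)
    (K : GrothendieckTopology 𝒴.obj) : CompatiblePreserving.{w} K F.toFunctor := by
  constructor
  intro ℱ Z T x hx Y₁ Y₂ X f₁ f₂ g₁ g₂ hg₁ hg₂ heq
  let d₁ : 𝒳.p.obj Y₁ ⟶ 𝒳.p.obj Z := 𝒳.p.map g₁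
  let d₂ : 𝒳.p.obj Y₂ ⟶ 𝒳.p.obj Z := 𝒳.p.map g₂
  let c₁ : 𝒴.p.obj X ⟶ 𝒳.p.obj Y₁ := 𝒴.p.map f₁ ≫ eqToHom (F.w_obj Y₁)
  let c₂ : 𝒴.p.obj X ⟶ 𝒳.p.obj Y₂ := 𝒴.p.map f₂ ≫ eqToHom (F.w_obj Y₂)
  have lf₁ : 𝒴.p.IsHomLift c₁ f₁ := inferInstance
  have lf₂ : 𝒴.p.IsHomLift c₂ f₂ := inferInstance
  have lg₁ : 𝒳.p.IsHomLift d₁ g₁ := inferInstance
  have lg₂ : 𝒳.p.IsHomLift d₂ g₂ := inferInstance
  have lFg₁ : 𝒴.p.IsHomLift d₁ (F.map g₁) := map_isHomLift F d₁ g₁ lg₁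
  have lFg₂ : 𝒴.p.IsHomLift d₂ (F.map g₂) := map_isHomLift F d₂ g₂ lg₂
  have lh₁ : 𝒴.p.IsHomLift (c₁ ≫ d₁) (f₁ ≫ F.map g₁) := inferInstance
  have lh₂ : 𝒴.p.IsHomLift (c₂ ≫ d₂) (f₂ ≫ F.map g₂) := inferInstance
  have hb : c₁ ≫ d₁ = c₂ ≫ d₂ := base_unique _ _ _ _ heq lh₁ lh₂
  obtain ⟨W, φ, hφ⟩ := h𝒳.exists_lift (c₁ ≫ d₁)
  have lFφ : 𝒴.p.IsHomLift (c₁ ≫ d₁) (F.map φ) := map_isHomLift F _ φ hφ
  obtain ⟨θ, hθ1, hθ2⟩ := exists_iso_of_lifts h𝒴 (c₁ ≫ d₁) (f₁ ≫ F.map g₁) lh₁ (F.map φ) lFφ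
  have hsc₁ := h𝒳.isStronglyCartesian g₁
  have hsc₂ := h𝒳.isStronglyCartesian g₂
  obtain ⟨k₁, ⟨hk₁l, hk₁⟩, -⟩ :=
    IsStronglyCartesian.universal_property 𝒳.p d₁ g₁ c₁ (c₁ ≫ d₁) rfl φ
  obtain ⟨k₂, ⟨hk₂l, hk₂⟩, -⟩ :=
    IsStronglyCartesian.universal_property 𝒳.p d₂ g₂ c₂ (c₁ ≫ d₁) hb φ
  have lFk₁ : 𝒴.p.IsHomLift c₁ (F.map k₁) := map_isHomLift F c₁ k₁ hk₁l
  have lFk₂ : 𝒴.p.IsHomLift c₂ (F.map k₂) := map_isHomLift F c₂ k₂ hk₂l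
  have lθk₁ : 𝒴.p.IsHomLift c₁ (θ.hom ≫ F.map k₁) := inferInstance
  have lθk₂ : 𝒴.p.IsHomLift c₂ (θ.hom ≫ F.map k₂) := inferInstance
  have hF₁ : f₁ = θ.hom ≫ F.map k₁ := by
    refine eq_of_comp_eq h𝒴 c₁ d₁ (F.map g₁) lFg₁ _ _ lf₁ lθk₁ ?_
    have : F.map k₁ ≫ F.map g₁ = F.map φ := by
      rw [← hk₁]; exact (F.toFunctor.map_comp k₁ g₁).symm
    rw [Category.assoc, this, hθ2]
  have hF₂ : f₂ = θ.hom ≫ F.map k₂ := by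
    refine eq_of_comp_eq h𝒴 c₂ d₂ (F.map g₂) lFg₂ _ _ lf₂ lθk₂ ?_
    have : F.map k₂ ≫ F.map g₂ = F.map φ := by
      rw [← hk₂]; exact (F.toFunctor.map_comp k₂ g₂).symm
    rw [Category.assoc, this, hθ2]
    exact heq.symm
  have compat := hx k₁ k₂ hg₁ hg₂ (hk₁.trans hk₂.symm)
  have compat' : ℱ.obj.map (F.map k₁).op (x g₁ hg₁) = ℱ.obj.map (F.map k₂).op (x g₂ hg₂) := compat
  rw [hF₁, hF₂]
  simp only [op_comp, Functor.map_comp]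
  exact congrArg (ℱ.obj.map θ.hom.op) compat'

theorem isContinuous (h𝒳 : IsFibGrpd 𝒳.p) (h𝒴 : IsFibGrpd 𝒴.p) (F : 𝒳 ⥤ᵇ 𝒴) :
    F.toFunctor.IsContinuous (𝒳.p.restrictedTopology J) (𝒴.p.restrictedTopology J) :=
  Functor.isContinuous_of_coverPreserving (compatiblePreserving h𝒳 h𝒴 F _)
    (coverPreserving J h𝒳 h𝒴 F)


end Groth.Agent.Lib.Helper62.StkInherited
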