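import Groth.Agent.Lib.Helper62.StkCone
import Groth.Agent.Lib.Helper62.StkInherited

/-!
# A stack over a stack is a stack for the inherited topology (helper62)
-/

set_option autoImplicit false
set_option backward.isDefEq.respectTransparency false
set_option backward.isDefEq.respectTransparency.types false
universe v u
open CategoryTheory CategoryTheory.Functor FibCat

namespace Groth.Agent.Lib.Helper62.StkOver

open Groth.Agent.Lib.Helper17 Groth.Agent.Lib.Helper17.FG Groth.Agent.Lib.Helper62.StkFF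
open Groth.Agent.Lib.Helper62.StkGlue Groth.Agent.Lib.Helper62.StkLocTriv
open Groth.Agent.Lib.Helper62.StkCone

variable {C : Type u} [Category.{v} C] {𝒳 𝒴 : BasedCategory.{v, max u v} C}

/-- `𝒳` as a category over `𝒴` through `F` -/
abbrev rel (F : 𝒳 ⥤ᵇ 𝒴) : BasedCategory.{v, max u v} 𝒴.obj := BasedCategory.ofFunctor F.toFunctor

theorem isHomLift_comp_base (F : 𝒳 ⥤ᵇ 𝒴) {R S : C} {f : R ⟶ S} {y₁ y₂ : 𝒴.obj} {g : y₁ ⟶ y₂}
    {x₁ x₂ : 𝒳.obj} {φ : x₁ ⟶ x₂} (h1 : F.toFunctor.IsHomLift g φ) (h2 : 𝒴.p.IsHomLift f g) :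
    𝒳.p.IsHomLift f φ := by
  obtain ⟨⟩ := h1
  exact isHomLift_of_map F f φ h2

theorem isHomLift_congr {p : 𝒳.obj ⥤ C} {R S : C} {f f' : R ⟶ S} (h : f = f') {a b : 𝒳.obj}
    {φ : a ⟶ b} (hf : p.IsHomLift f φ) : p.IsHomLift f' φ := by
  subst h; exact hf

section Section

variable (h𝒴 : IsFibGrpd 𝒴.p) {y : 𝒴.obj} (R' : Sieve y)

include h𝒴

/-- a sieve on `y` is the pull back of its image -/
theorem mem_of_base_mem {z : 𝒴.obj} (l : z ⟶ y) {V : C} (f : V ⟶ 𝒴.p.obj y)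
    (hl : 𝒴.p.IsHomLift f l) (hf : R'.functorPushforward 𝒴.p f) : R' l := by
  obtain ⟨w, ψ, α, hψ, hfac⟩ := hf
  have hsc := h𝒴.isStronglyCartesian ψ
  have l1 : 𝒴.p.IsHomLift (α ≫ 𝒴.p.map ψ) l := by rw [← hfac]; exact hl
  obtain ⟨χ, ⟨-, hχ⟩, -⟩ :=
    IsStronglyCartesian.universal_property 𝒴.p (𝒴.p.map ψ) ψ α (α ≫ 𝒴.p.map ψ) rfl l
  rw [← hχ]
  exact R'.downward_closed hψ χ

/-- the image sieve -/
abbrev img : Sieve (𝒴.p.obj y) := R'.functorPushforward 𝒴.p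

theorem exists_liftData (a : (Stk.sieveCat (img R')).obj) :
    ∃ (z : 𝒴.obj) (l : z ⟶ y), 𝒴.p.IsHomLift a.obj.hom l :=
  h𝒴.exists_lift (x := y) a.obj.hom

noncomputable def liftObj (a : (Stk.sieveCat (img R')).obj) : 𝒴.obj :=
  (exists_liftData h𝒴 R' a).choose

noncomputable def liftHom (a : (Stk.sieveCat (img R')).obj) : liftObj h𝒴 R' a ⟶ y :=
  (exists_liftData h𝒴 R' a).choose_spec.choose

theorem liftHom_lift (a : (Stk.sieveCat (img R')).obj) :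
    𝒴.p.IsHomLift a.obj.hom (liftHom h𝒴 R' a) :=
  (exists_liftData h𝒴 R' a).choose_spec.choose_spec

theorem liftHom_mem (a : (Stk.sieveCat (img R')).obj) : R' (liftHom h𝒴 R' a) :=
  mem_of_base_mem h𝒴 R' _ a.obj.hom (liftHom_lift h𝒴 R' a) a.property

theorem exists_liftMap {a b : (Stk.sieveCat (img R')).obj} (k : a ⟶ b) :
    ∃ m : liftObj h𝒴 R' a ⟶ liftObj h𝒴 R' b, 𝒴.p.IsHomLift k.hom.left m ∧
      m ≫ liftHom h𝒴 R' b = liftHom h𝒴 R' a := by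
  have hsc := sc_all h𝒴 b.obj.hom (liftHom h𝒴 R' b) (liftHom_lift h𝒴 R' b)
  have := liftHom_lift h𝒴 R' a
  obtain ⟨m, hm, -⟩ := IsStronglyCartesian.universal_property 𝒴.p b.obj.hom (liftHom h𝒴 R' b)
    k.hom.left a.obj.hom (Over.w k.hom).symm (liftHom h𝒴 R' a)
  exact ⟨m, hm⟩

noncomputable def liftMap {a b : (Stk.sieveCat (img R')).obj} (k : a ⟶ b) :
    liftObj h𝒴 R' a ⟶ liftObj h𝒴 R' b := (exists_liftMap h𝒴 R' k).choose

theorem liftMap_lift {a b : (Stk.sieveCat (img R')).obj} (k : a ⟶ b) :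
    𝒴.p.IsHomLift k.hom.left (liftMap h𝒴 R' k) := (exists_liftMap h𝒴 R' k).choose_spec.1

theorem liftMap_fac {a b : (Stk.sieveCat (img R')).obj} (k : a ⟶ b) :
    liftMap h𝒴 R' k ≫ liftHom h𝒴 R' b = liftHom h𝒴 R' a := (exists_liftMap h𝒴 R' k).choose_spec.2

/-- the section of the projection of sieves -/
noncomputable def sec : (Stk.sieveCat (img R')).obj ⥤ (Stk.sieveCat R').obj where
  obj a := ⟨Over.mk (liftHom h𝒴 R' a), liftHom_mem h𝒴 R' a⟩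
  map {a b} k := ObjectProperty.homMk (Over.homMk (liftMap h𝒴 R' k) (liftMap_fac h𝒴 R' k))
  map_id a := by
    apply ObjectProperty.hom_ext
    apply Over.OverMorphism.ext
    change liftMap h𝒴 R' (𝟙 a) = 𝟙 _
    have l1 := liftMap_lift h𝒴 R' (𝟙 a)
    have l0 := liftHom_lift h𝒴 R' a
    have l2 : 𝒴.p.IsHomLift (𝟙 a.obj.left) (𝟙 (liftObj h𝒴 R' a)) :=
      IsHomLift.id (IsHomLift.domain_eq 𝒴.p a.obj.hom (liftHom h𝒴 R' a))
    refine eq_of_comp_eq h𝒴 (𝟙 a.obj.left) a.obj.hom (liftHom h𝒴 R' a) (liftHom_lift h𝒴 R' a) _ _ l1 l2 ?_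
    rw [liftMap_fac, Category.id_comp]
  map_comp {a b c} k k' := by
    apply ObjectProperty.hom_ext
    apply Over.OverMorphism.ext
    change liftMap h𝒴 R' (k ≫ k') = liftMap h𝒴 R' k ≫ liftMap h𝒴 R' k'
    have l1 := liftMap_lift h𝒴 R' (k ≫ k')
    have l2 := liftMap_lift h𝒴 R' k
    have l3 := liftMap_lift h𝒴 R' k'
    have l4 : 𝒴.p.IsHomLift (k.hom.left ≫ k'.hom.left) (liftMap h𝒴 R' k ≫ liftMap h𝒴 R' k') :=
      inferInstance
    refine eq_of_comp_eq h𝒴 (k.hom.left ≫ k'.hom.left) c.obj.hom (liftHom h𝒴 R' c)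
      (liftHom_lift h𝒴 R' c) _ _ l1 l4 ?_
    rw [liftMap_fac, Category.assoc, liftMap_fac, liftMap_fac]

end Section

section Pull

variable (F : 𝒳 ⥤ᵇ 𝒴) (h𝒴 : IsFibGrpd 𝒴.p) {y : 𝒴.obj} (R' : Sieve y)

theorem sec_map_lift {a b : (Stk.sieveCat (img R')).obj} (k : a ⟶ b) :
    (Stk.sieveCat R').p.IsHomLift (liftMap h𝒴 R' k) ((sec h𝒴 R').map k) :=
  hl_of_eq (p := (Stk.sieveCat R').p) (a := (sec h𝒴 R').obj a) (b := (sec h𝒴 R').obj b)
    (f := liftMap h𝒴 R' k) (φ := (sec h𝒴 R').map k) rfl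

/-- a descent datum over `𝒴` along `R'` gives one over `C` along the image sieve -/
noncomputable def pullD (D' : Stk.sieveCat R' ⥤ᵇ rel F) : Stk.sieveCat (img R') ⥤ᵇ 𝒳 where
  toFunctor := sec h𝒴 R' ⋙ D'.toFunctor
  w := CategoryTheory.Functor.ext
    (fun a => by
      have l0 := liftHom_lift h𝒴 R' a
      exact ((F.w_obj _).symm.trans (congrArg 𝒴.p.obj (D'.w_obj ((sec h𝒴 R').obj a)))).trans
        (IsHomLift.domain_eq 𝒴.p a.obj.hom (liftHom h𝒴 R' a)))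
    (fun a b k => by
      have l1 : (rel F).p.IsHomLift (liftMap h𝒴 R' k) (D'.map ((sec h𝒴 R').map k)) :=
        map_isHomLift D' _ _ (sec_map_lift h𝒴 R' k)
      have l2 : 𝒳.p.IsHomLift k.hom.left (D'.map ((sec h𝒴 R').map k)) :=
        isHomLift_comp_base F l1 (liftMap_lift h𝒴 R' k)
      exact IsHomLift.fac' 𝒳.p k.hom.left (D'.map ((sec h𝒴 R').map k)))

/-- a cone over `𝒴` gives a cone over `C` -/
noncomputable def pushCone {D' : Stk.sieveCat R' ⥤ᵇ rel F} (c : Cone D') : Cone (pullD F h𝒴 R' D') where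
  pt := c.pt
  hpt := (F.w_obj c.pt).symm.trans (congrArg 𝒴.p.obj c.hpt)
  π a := c.π ((sec h𝒴 R').obj a)
  lift a := isHomLift_comp_base F (c.lift ((sec h𝒴 R').obj a)) (liftHom_lift h𝒴 R' a)
  nat {a b} k := c.nat ((sec h𝒴 R').map k)

/-- the projection of an arrow of `R'` to the image sieve -/
def pa (a' : (Stk.sieveCat R').obj) : (Stk.sieveCat (img R')).obj :=
  ⟨Over.mk (𝒴.p.map a'.obj.hom), Sieve.image_mem_functorPushforward 𝒴.p R' a'.property⟩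

def paMap {a' b' : (Stk.sieveCat R').obj} (k' : a' ⟶ b') : pa R' a' ⟶ pa R' b' :=
  ObjectProperty.homMk (Over.homMk (𝒴.p.map k'.hom.left) (by
    change 𝒴.p.map k'.hom.left ≫ 𝒴.p.map b'.obj.hom = 𝒴.p.map a'.obj.hom
    rw [← Functor.map_comp, Over.w]))

theorem exists_sigma (a' : (Stk.sieveCat R').obj) :
    ∃ σ : a'.obj.left ⟶ liftObj h𝒴 R' (pa R' a'), 𝒴.p.IsHomLift (𝟙 (𝒴.p.obj a'.obj.left)) σ ∧
      σ ≫ liftHom h𝒴 R' (pa R' a') = a'.obj.hom := by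
  have l1 : 𝒴.p.IsHomLift (𝒴.p.map a'.obj.hom) a'.obj.hom := IsHomLift.map a'.obj.hom
  obtain ⟨σ, h1, h2, -⟩ := exists_factor h𝒴 (𝒴.p.map a'.obj.hom) (liftHom h𝒴 R' (pa R' a'))
    (liftHom_lift h𝒴 R' (pa R' a')) a'.obj.hom l1
  exact ⟨σ, h1, h2⟩

noncomputable def sigma (a' : (Stk.sieveCat R').obj) : a'.obj.left ⟶ liftObj h𝒴 R' (pa R' a') :=
  (exists_sigma h𝒴 R' a').choose

theorem sigma_lift (a' : (Stk.sieveCat R').obj) :
    𝒴.p.IsHomLift (𝟙 (𝒴.p.obj a'.obj.left)) (sigma h𝒴 R' a') := (exists_sigma h𝒴 R' a').choose_spec.1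

theorem sigma_fac (a' : (Stk.sieveCat R').obj) :
    sigma h𝒴 R' a' ≫ liftHom h𝒴 R' (pa R' a') = a'.obj.hom := (exists_sigma h𝒴 R' a').choose_spec.2

/-- the comparison `a' ⟶ sec (pa a')` in the sieve -/
noncomputable def sigmaT (a' : (Stk.sieveCat R').obj) : a' ⟶ (sec h𝒴 R').obj (pa R' a') :=
  ObjectProperty.homMk (Over.homMk (sigma h𝒴 R' a') (sigma_fac h𝒴 R' a'))

theorem sigmaT_lift (a' : (Stk.sieveCat R').obj) :
    (Stk.sieveCat R').p.IsHomLift (sigma h𝒴 R' a') (sigmaT h𝒴 R' a') :=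
  hl_of_eq (p := (Stk.sieveCat R').p) (a := a') (b := (sec h𝒴 R').obj (pa R' a'))
    (f := sigma h𝒴 R' a') (φ := sigmaT h𝒴 R' a') rfl

theorem sigmaT_nat {a' b' : (Stk.sieveCat R').obj} (k' : a' ⟶ b') :
    sigmaT h𝒴 R' a' ≫ (sec h𝒴 R').map (paMap R' k') = k' ≫ sigmaT h𝒴 R' b' := by
  apply ObjectProperty.hom_ext
  apply Over.OverMorphism.ext
  change sigma h𝒴 R' a' ≫ liftMap h𝒴 R' (paMap R' k') = k'.hom.left ≫ sigma h𝒴 R' b'
  have l1 := sigma_lift h𝒴 R' a'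
  have l2 : 𝒴.p.IsHomLift (𝒴.p.map k'.hom.left) (liftMap h𝒴 R' (paMap R' k')) :=
    liftMap_lift h𝒴 R' (paMap R' k')
  have l3 := sigma_lift h𝒴 R' b'
  have l4 : 𝒴.p.IsHomLift (𝒴.p.map k'.hom.left) k'.hom.left := IsHomLift.map k'.hom.left
  have m1 : 𝒴.p.IsHomLift (𝒴.p.map k'.hom.left)
      (sigma h𝒴 R' a' ≫ liftMap h𝒴 R' (paMap R' k')) := inferInstance
  have m2 : 𝒴.p.IsHomLift (𝒴.p.map k'.hom.left) (k'.hom.left ≫ sigma h𝒴 R' b') := inferInstance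
  refine eq_of_comp_eq h𝒴 (𝒴.p.map k'.hom.left) (𝒴.p.map b'.obj.hom) (liftHom h𝒴 R' (pa R' b'))
    (liftHom_lift h𝒴 R' (pa R' b')) _ _ m1 m2 ?_
  rw [Category.assoc, liftMap_fac, sigma_fac, Category.assoc, sigma_fac, Over.w]

end Pull

section Main

variable (F : 𝒳 ⥤ᵇ 𝒴) (hF : IsFibGrpd F.toFunctor) (h𝒳 : IsFibGrpd 𝒳.p) (h𝒴 : IsFibGrpd 𝒴.p)
  {y : 𝒴.obj} (R' : Sieve y)

/-- the image in `𝒴` of a cone over `C` -/
def mapCone {D : Stk.sieveCat (img R') ⥤ᵇ 𝒳} (c : Cone D) : Cone (BasedFunctor.comp D F) where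
  pt := F.obj c.pt
  hpt := (F.w_obj _).trans c.hpt
  π a := F.map (c.π a)
  lift a := map_isHomLift F _ _ (c.lift a)
  nat {a b} k := by
    change F.map (D.map k) ≫ F.map (c.π b) = F.map (c.π a)
    rw [← c.nat k]
    exact (F.toFunctor.map_comp _ _).symm

theorem hobj (D' : Stk.sieveCat R' ⥤ᵇ rel F) (a : (Stk.sieveCat (img R')).obj) :
    F.obj (D'.obj ((sec h𝒴 R').obj a)) = liftObj h𝒴 R' a := D'.w_obj ((sec h𝒴 R').obj a)

theorem F_map_sec (D' : Stk.sieveCat R' ⥤ᵇ rel F) {a b : (Stk.sieveCat (img R')).obj} (k : a ⟶ b) :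
    F.map (D'.map ((sec h𝒴 R').map k)) =
      eqToHom (hobj F h𝒴 R' D' a) ≫ liftMap h𝒴 R' k ≫ eqToHom (hobj F h𝒴 R' D' b).symm :=
  Functor.congr_hom D'.w ((sec h𝒴 R').map k)

/-- the tautological cone in `𝒴` with vertex `y` -/
noncomputable def tautCone (D' : Stk.sieveCat R' ⥤ᵇ rel F) :
    Cone (BasedFunctor.comp (pullD F h𝒴 R' D') F) where
  pt := y
  hpt := rfl
  π a := eqToHom (hobj F h𝒴 R' D' a) ≫ liftHom h𝒴 R' a
  lift a := by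
    have := liftHom_lift h𝒴 R' a
    infer_instance
  nat {a b} k := by
    change F.map (D'.map ((sec h𝒴 R').map k)) ≫ eqToHom (hobj F h𝒴 R' D' b) ≫ liftHom h𝒴 R' b =
      eqToHom (hobj F h𝒴 R' D' a) ≫ liftHom h𝒴 R' a
    rw [F_map_sec]
    simp only [Category.assoc, eqToHom_trans_assoc, eqToHom_refl, Category.id_comp, liftMap_fac]

include hF h𝒳 h𝒴 in
theorem exists_cone (h𝒳s : Stk.IsStackFor (img R') 𝒳) (h𝒴s : Stk.IsStackFor (img R') 𝒴)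
    (D' : Stk.sieveCat R' ⥤ᵇ rel F) : Nonempty (Cone D') := by
  obtain ⟨c₀⟩ := ((isStackFor_iff_cones h𝒳).1 h𝒳s).1 (pullD F h𝒴 R' D')
  obtain ⟨φ, ⟨hφ, hφc⟩, -⟩ := ((isStackFor_iff_cones h𝒴).1 h𝒴s).2 _ (mapCone F R' c₀)
    (tautCone F h𝒴 R' D')
  have hφc' : ∀ a, F.map (c₀.π a) ≫ φ = eqToHom (hobj F h𝒴 R' D' a) ≫ liftHom h𝒴 R' a := hφc
  have hφi : IsIso φ := isIso_of_lift_id h𝒴 φ hφ
  obtain ⟨x, ψ, hψ⟩ := hF.exists_lift (x := c₀.pt) (inv φ)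
  have hψi : IsIso ψ := isIso_of_lift_iso (𝒳 := rel F) hF (inv φ) ψ hψ
  have hψ' : F.toFunctor.IsHomLift (asIso φ).symm.hom (asIso ψ).hom := hψ
  have hχ : F.toFunctor.IsHomLift φ (inv ψ) :=
    IsHomLift.inv_lift_inv (p := F.toFunctor) (asIso φ).symm (asIso ψ)
  have hx : F.obj x = y := IsHomLift.domain_eq F.toFunctor (inv φ) ψ
  refine ⟨{ pt := x, hpt := hx,
            π := fun a' => D'.map (sigmaT h𝒴 R' a') ≫ c₀.π (pa R' a') ≫ inv ψ,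
            lift := ?_, nat := ?_ }⟩
  · intro a'
    have l1 : F.toFunctor.IsHomLift (sigma h𝒴 R' a') (D'.map (sigmaT h𝒴 R' a')) :=
      map_isHomLift D' _ _ (sigmaT_lift h𝒴 R' a')
    have l2 : F.toFunctor.IsHomLift
        (eqToHom (hobj F h𝒴 R' D' (pa R' a')).symm ≫ F.map (c₀.π (pa R' a'))) (c₀.π (pa R' a')) :=
      inferInstance
    have l3 : F.toFunctor.IsHomLift
        ((eqToHom (hobj F h𝒴 R' D' (pa R' a')).symm ≫ F.map (c₀.π (pa R' a'))) ≫ φ)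
        (c₀.π (pa R' a') ≫ inv ψ) := inferInstance
    have l4 : F.toFunctor.IsHomLift
        (sigma h𝒴 R' a' ≫ (eqToHom (hobj F h𝒴 R' D' (pa R' a')).symm ≫
          F.map (c₀.π (pa R' a'))) ≫ φ)
        (D'.map (sigmaT h𝒴 R' a') ≫ c₀.π (pa R' a') ≫ inv ψ) := inferInstance
    refine isHomLift_congr ?_ l4
    rw [Category.assoc, hφc' (pa R' a')]
    simp only [eqToHom_trans_assoc, eqToHom_refl, Category.id_comp]
    exact sigma_fac h𝒴 R' a'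
  · intro a' b' k'
    have e1 : D'.map k' ≫ D'.map (sigmaT h𝒴 R' b') =
        D'.map (sigmaT h𝒴 R' a') ≫ D'.map ((sec h𝒴 R').map (paMap R' k')) := by
      rw [← Functor.map_comp, ← Functor.map_comp, sigmaT_nat]
    have e2 : D'.map ((sec h𝒴 R').map (paMap R' k')) ≫ c₀.π (pa R' b') = c₀.π (pa R' a') :=
      c₀.nat (paMap R' k')
    calc D'.map k' ≫ D'.map (sigmaT h𝒴 R' b') ≫ c₀.π (pa R' b') ≫ inv ψ
        = (D'.map k' ≫ D'.map (sigmaT h𝒴 R' b')) ≫ c₀.π (pa R' b') ≫ inv ψ := by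
          simp only [Category.assoc]
      _ = D'.map (sigmaT h𝒴 R' a') ≫
            (D'.map ((sec h𝒴 R').map (paMap R' k')) ≫ c₀.π (pa R' b')) ≫ inv ψ := by
          rw [e1]; simp only [Category.assoc]
      _ = D'.map (sigmaT h𝒴 R' a') ≫ c₀.π (pa R' a') ≫ inv ψ := by rw [e2]

include h𝒳 h𝒴 in
theorem cone_existsUnique (h𝒳p : Stk.IsPrestackFor (img R') 𝒳)
    (h𝒴fa : (Stk.resSieve (img R') 𝒴).Faithful)
    (D' : Stk.sieveCat R' ⥤ᵇ rel F) (c c' : Cone D') :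
    ∃! φ : c.pt ⟶ c'.pt, F.toFunctor.IsHomLift (𝟙 y) φ ∧ ∀ a', c.π a' ≫ φ = c'.π a' := by
  obtain ⟨φ, hφ, hφc⟩ := cone_hom_exists h𝒳 h𝒳p.1 (pushCone F h𝒴 R' c) (pushCone F h𝒴 R' c')
  have hφc' : ∀ a, c.π ((sec h𝒴 R').obj a) ≫ φ = c'.π ((sec h𝒴 R').obj a) := hφc
  have hFφ0 : 𝒴.p.IsHomLift (𝟙 (𝒴.p.obj y)) (F.map φ) := map_isHomLift F _ φ hφ
  have hθ : 𝒴.p.IsHomLift (𝟙 (𝒴.p.obj y)) (eqToHom c.hpt.symm ≫ F.map φ ≫ eqToHom c'.hpt) := by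
    have : 𝒴.p.IsHomLift (𝟙 (𝒴.p.obj y)) (F.map φ ≫ eqToHom c'.hpt) := inferInstance
    infer_instance
  have hθ1 : eqToHom c.hpt.symm ≫ F.map φ ≫ eqToHom c'.hpt = 𝟙 y := by
    refine eq_id_of_locally h𝒴 y rfl (img R') h𝒴fa _ hθ ?_
    intro V f hf s l hl
    let a : (Stk.sieveCat (img R')).obj := ⟨Over.mk f, hf⟩
    obtain ⟨τ, -, hτ⟩ := exists_iso_of_lifts h𝒴 f l hl (liftHom h𝒴 R' a) (liftHom_lift h𝒴 R' a)
    have i1 : F.toFunctor.IsHomLift (liftHom h𝒴 R' a) (c.π ((sec h𝒴 R').obj a)) :=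
      c.lift ((sec h𝒴 R').obj a)
    have i2 : F.toFunctor.IsHomLift (liftHom h𝒴 R' a) (c'.π ((sec h𝒴 R').obj a)) :=
      c'.lift ((sec h𝒴 R').obj a)
    have fac1 : liftHom h𝒴 R' a = eqToHom (hobj F h𝒴 R' D' a).symm ≫
        F.map (c.π ((sec h𝒴 R').obj a)) ≫ eqToHom c.hpt :=
      IsHomLift.fac F.toFunctor (liftHom h𝒴 R' a) (c.π ((sec h𝒴 R').obj a))
    have fac2 : liftHom h𝒴 R' a = eqToHom (hobj F h𝒴 R' D' a).symm ≫
        F.map (c'.π ((sec h𝒴 R').obj a)) ≫ eqToHom c'.hpt :=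
      IsHomLift.fac F.toFunctor (liftHom h𝒴 R' a) (c'.π ((sec h𝒴 R').obj a))
    have e3 : F.map (c.π ((sec h𝒴 R').obj a)) ≫ F.map φ = F.map (c'.π ((sec h𝒴 R').obj a)) := by
      rw [← hφc' a]; exact (F.toFunctor.map_comp _ _).symm
    have key : liftHom h𝒴 R' a ≫ eqToHom c.hpt.symm ≫ F.map φ ≫ eqToHom c'.hpt =
        liftHom h𝒴 R' a := by
      calc liftHom h𝒴 R' a ≫ eqToHom c.hpt.symm ≫ F.map φ ≫ eqToHom c'.hpt
          = (eqToHom (hobj F h𝒴 R' D' a).symm ≫ F.map (c.π ((sec h𝒴 R').obj a)) ≫ eqToHom c.hpt) ≫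
              eqToHom c.hpt.symm ≫ F.map φ ≫ eqToHom c'.hpt := by rw [← fac1]
        _ = eqToHom (hobj F h𝒴 R' D' a).symm ≫
              (F.map (c.π ((sec h𝒴 R').obj a)) ≫ F.map φ) ≫ eqToHom c'.hpt := by
            simp only [Category.assoc, eqToHom_trans_assoc, eqToHom_refl, Category.id_comp]
        _ = liftHom h𝒴 R' a := by rw [e3, ← fac2]
    rw [← hτ, Category.assoc, key]
  have hFφ : F.toFunctor.IsHomLift (𝟙 y) φ := by
    apply IsHomLift.of_fac' F.toFunctor (𝟙 y) φ c.hpt c'.hpt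
    have : F.map φ = eqToHom c.hpt ≫ (eqToHom c.hpt.symm ≫ F.map φ ≫ eqToHom c'.hpt) ≫
        eqToHom c'.hpt.symm := by
      simp only [Category.assoc, eqToHom_trans, eqToHom_refl, Category.comp_id,
        eqToHom_trans_assoc, Category.id_comp]
    rw [hθ1] at this
    exact this
  have hcompat : ∀ a', c.π a' ≫ φ = c'.π a' := by
    intro a'
    rw [← c.nat (sigmaT h𝒴 R' a'), Category.assoc, hφc' (pa R' a'), c'.nat (sigmaT h𝒴 R' a')]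
  refine ⟨φ, ⟨hFφ, hcompat⟩, ?_⟩
  rintro φ₂ ⟨h₂, e₂⟩
  have hid : 𝒴.p.IsHomLift (𝟙 (𝒴.p.obj y)) (𝟙 y) := IsHomLift.id rfl
  exact cone_hom_unique h𝒳 h𝒳p.2 (pushCone F h𝒴 R' c) (pushCone F h𝒴 R' c') φ₂ φ
    (isHomLift_comp_base F h₂ hid) hφ (fun a => e₂ ((sec h𝒴 R').obj a)) hφc

include hF h𝒳 h𝒴 in
/-- The stack condition over `𝒴` along `R'` follows from the stack conditions over `C` along the
image sieve. -/
theorem isStackFor_rel (h𝒳s : Stk.IsStackFor (img R') 𝒳) (h𝒴s : Stk.IsStackFor (img R') 𝒴) :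
    Stk.IsStackFor R' (rel F) := by
  have h1 : (Stk.resSieve (img R') 𝒳).IsEquivalence := h𝒳s
  have h2 : (Stk.resSieve (img R') 𝒴).IsEquivalence := h𝒴s
  refine (isStackFor_iff_cones (𝒳 := rel F) hF).2 ⟨?_, ?_⟩
  · intro D'
    exact exists_cone F hF h𝒳 h𝒴 R' h𝒳s h𝒴s D'
  · intro D' c c'
    exact cone_existsUnique F h𝒳 h𝒴 R' ⟨inferInstance, inferInstance⟩ inferInstance D' c c'

end Main

end Groth.Agent.Lib.Helper62.StkOver
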