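import Groth.Prelude.Def_FibCat2
import Groth.Agent.Lib.Helper17.HomLift
import Mathlib.CategoryTheory.Comma.Over.Basic

/-!
# `Over.post p` is an equivalence for `p` fibred in groupoids (helper62)
-/

set_option autoImplicit false
set_option backward.isDefEq.respectTransparency false
set_option backward.isDefEq.respectTransparency.types false
universe v₂ u₂ v u
open CategoryTheory CategoryTheory.Functor FibCat

namespace Groth.Agent.Lib.Helper62.StkOverPost

open Groth.Agent.Lib.Helper17

variable {C : Type u} [Category.{v} C] {𝒳 : Type u₂} [Category.{v₂} 𝒳] (p : 𝒳 ⥤ C)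

theorem post_faithful (hp : IsFibGrpd p) (x : 𝒳) : (Over.post p : Over x ⥤ Over (p.obj x)).Faithful := by
  constructor
  intro a b k k' h
  have h1 : p.map k.left = p.map k'.left := congrArg (fun m => m.left) h
  apply Over.OverMorphism.ext
  have hsc := hp.isStronglyCartesian b.hom
  have l1 : p.IsHomLift (p.map k.left) k.left := inferInstance
  have l2 : p.IsHomLift (p.map k.left) k'.left := by rw [h1]; infer_instance
  apply IsStronglyCartesian.ext p (p.map b.hom) b.hom (p.map k.left)
  rw [Over.w k, Over.w k']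

theorem post_full (hp : IsFibGrpd p) (x : 𝒳) : (Over.post p : Over x ⥤ Over (p.obj x)).Full := by
  constructor
  intro a b m
  have hsc := hp.isStronglyCartesian b.hom
  have hm : m.left ≫ p.map b.hom = p.map a.hom := Over.w m
  have l1 : p.IsHomLift (p.map a.hom) a.hom := IsHomLift.map a.hom
  obtain ⟨χ, ⟨hχ1, hχ2⟩, -⟩ :=
    IsStronglyCartesian.universal_property p (p.map b.hom) b.hom m.left (p.map a.hom) hm.symm a.hom
  refine ⟨Over.homMk χ hχ2, ?_⟩
  apply Over.OverMorphism.ext
  exact (IsHomLift.eq_of_isHomLift p m.left χ).symm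

theorem post_essSurj (hp : IsFibGrpd p) (x : 𝒳) : (Over.post p : Over x ⥤ Over (p.obj x)).EssSurj := by
  constructor
  intro c
  obtain ⟨y, φ, hφ⟩ := hp.exists_lift c.hom
  refine ⟨Over.mk φ, ⟨Over.isoMk (eqToIso (IsHomLift.domain_eq p c.hom φ)) ?_⟩⟩
  have := IsHomLift.fac' p c.hom φ
  change eqToHom (IsHomLift.domain_eq p c.hom φ) ≫ c.hom = p.map φ
  rw [this]
  simp

theorem post_isEquivalence (hp : IsFibGrpd p) (x : 𝒳) :
    (Over.post p : Over x ⥤ Over (p.obj x)).IsEquivalence :=
  { faithful := post_faithful p hp x, full := post_full p hp x, essSurj := post_essSurj p hp x }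

end Groth.Agent.Lib.Helper62.StkOverPost
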