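import Groth.Agent.Lib.Helper62.StkGlueHom

/-!
# Stack criterion through 2-fibre products over slices (helper62)
-/

set_option autoImplicit false
set_option backward.isDefEq.respectTransparency false
set_option backward.isDefEq.respectTransparency.types false
universe v u
open CategoryTheory CategoryTheory.Functor FibCat

namespace Groth.Agent.Lib.Helper62.StkRel

open Groth.Agent.Lib.Helper17 Groth.Agent.Lib.Helper17.FG Groth.Agent.Lib.Helper62.StkFF
open Groth.Agent.Lib.Helper62.StkGlue Groth.Agent.Lib.Helper62.StkLocTriv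
open Groth.Agent.Lib.Helper62.StkCone Groth.Agent.Lib.Helper62.StkGlueHom

variable {C : Type u} [Category.{v} C] {𝒮 𝒯 : BasedCategory.{v, max u v} C} (F : 𝒮 ⥤ᵇ 𝒯)
  {U : C} (y : overCat U ⥤ᵇ 𝒯)

/-- the 2-fibre product `(C/U) ×_𝒯 𝒮` as a category over the slice `C/U` -/
abbrev Pc : BasedCategory.{v, max u v} (Over U) :=
  BasedCategory.ofFunctor ((fpFst y F).toFunctor : (fp y F).obj ⥤ Over U)

/-- the terminal object of the slice -/
abbrev Tm (U : C) : Over U := Over.mk (𝟙 U)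

/-- the sieve on the terminal object of the slice attached to a sieve on `U` -/
def Rt (R : Sieve U) : Sieve (Tm U) := (Sieve.overEquiv (Tm U)).symm R

theorem Rt_iff (R : Sieve U) {Z : Over U} (g : Z ⟶ Tm U) : Rt R g ↔ R g.left :=
  Sieve.overEquiv_symm_iff R g

theorem Rt_mem (J : GrothendieckTopology C) (R : Sieve U) (hR : R ∈ J U) :
    Rt R ∈ (J.over U) (Tm U) :=
  GrothendieckTopology.overEquiv_symm_mem_over J (Tm U) R hR

theorem hom_left_eq {Z : Over U} (g : Z ⟶ Tm U) : g.left = Z.hom := by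
  have := Over.w g
  simpa using this

variable (R : Sieve U)

def qObj (a' : (Stk.sieveCat (Rt R)).obj) : (Stk.sieveCat R).obj :=
  ⟨a'.obj.left, by
    have h1 := (Rt_iff R a'.obj.hom).1 a'.property
    rwa [hom_left_eq] at h1⟩

def qMap {a' b' : (Stk.sieveCat (Rt R)).obj} (k' : a' ⟶ b') : qObj R a' ⟶ qObj R b' :=
  ObjectProperty.homMk k'.hom.left

theorem qMap_id (a' : (Stk.sieveCat (Rt R)).obj) : qMap R (𝟙 a') = 𝟙 (qObj R a') := rfl

theorem qMap_comp {a' b' c' : (Stk.sieveCat (Rt R)).obj} (k' : a' ⟶ b') (l' : b' ⟶ c') :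
    qMap R (k' ≫ l') = qMap R k' ≫ qMap R l' := rfl

/-- an arrow of the sieve as an arrow of the sieve on the terminal object of the slice -/
def liftObj (a : (Stk.sieveCat R).obj) : (Stk.sieveCat (Rt R)).obj :=
  ⟨Over.mk (toT a.obj), (Rt_iff R (toT a.obj)).2 a.property⟩

theorem qObj_liftObj (a : (Stk.sieveCat R).obj) : qObj R (liftObj R a) = a := rfl

variable {R}

/-- a descent datum for `𝒮` along `R` together with compatible identifications of its image in `𝒯`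
with the restriction of `y` -/
structure RelDatum (D : Stk.sieveCat R ⥤ᵇ 𝒮) where
  ι : ∀ a : (Stk.sieveCat R).obj, y.obj a.obj ≅ F.obj (D.obj a)
  lift : ∀ a : (Stk.sieveCat R).obj, 𝒯.p.IsHomLift (𝟙 a.obj.left) (ι a).hom
  nat : ∀ {a b : (Stk.sieveCat R).obj} (k : a ⟶ b),
    y.map k.hom ≫ (ι b).hom = (ι a).hom ≫ F.map (D.map k)

variable {F y}

/-- the descent datum for the fibre product over the slice -/
def RelDatum.functor {D : Stk.sieveCat R ⥤ᵇ 𝒮} (d : RelDatum F y D) :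
    Stk.sieveCat (Rt R) ⥤ᵇ Pc F y where
  toFunctor :=
    { obj := fun a' => ⟨{ fst := a'.obj.left, snd := D.obj (qObj R a'), iso := d.ι (qObj R a') },
        d.lift (qObj R a')⟩
      map := fun {a' b'} k' => ObjectProperty.homMk
        { fst := k'.hom.left, snd := D.map (qMap R k'), w := d.nat (qMap R k') }
      map_id := fun a' => by
        apply ObjectProperty.hom_ext
        apply CategoryTheory.Limits.CategoricalPullback.hom_ext
        · rfl
        · change D.map (qMap R (𝟙 a')) = 𝟙 _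
          rw [qMap_id]
          exact D.toFunctor.map_id _
      map_comp := fun {a' b' c'} k' l' => by
        apply ObjectProperty.hom_ext
        apply CategoryTheory.Limits.CategoricalPullback.hom_ext
        · rfl
        · change D.map (qMap R (k' ≫ l')) = D.map (qMap R k') ≫ D.map (qMap R l')
          rw [qMap_comp]
          exact D.toFunctor.map_comp _ _ }
  w := rfl


theorem toT_left_eq (a' : (Stk.sieveCat (Rt R)).obj) : toT a'.obj.left = a'.obj.hom := by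
  apply Over.OverMorphism.ext
  exact (hom_left_eq a'.obj.hom).symm

/-- a cone on the relative datum from a cone on the descent datum -/
def RelDatum.cone {D : Stk.sieveCat R ⥤ᵇ 𝒮} (d : RelDatum F y D) (c : Cone D)
    (e : y.obj (Tm U) ≅ F.obj c.pt) (he : 𝒯.p.IsHomLift (𝟙 U) e.hom)
    (hc : ∀ a : (Stk.sieveCat R).obj, y.map (toT a.obj) ≫ e.hom = (d.ι a).hom ≫ F.map (c.π a)) :
    Cone d.functor where
  pt := ⟨{ fst := Tm U, snd := c.pt, iso := e }, he⟩
  hpt := rfl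
  π a' := ObjectProperty.homMk
    { fst := a'.obj.hom
      snd := c.π (qObj R a')
      w := by
        have := hc (qObj R a')
        rw [← toT_left_eq a']
        exact this }
  lift a' := hl_of_eq (p := (Pc F y).p) rfl
  nat {a' b'} k' := by
    apply ObjectProperty.hom_ext
    apply CategoryTheory.Limits.CategoricalPullback.hom_ext
    · exact Over.w k'.hom
    · exact c.nat (qMap R k')

/-- the morphism of the sieve on the terminal object attached to a morphism of the sieve -/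
def liftMap {a b : (Stk.sieveCat R).obj} (k : a ⟶ b) : liftObj R a ⟶ liftObj R b :=
  ObjectProperty.homMk (Over.homMk k.hom (toT_comp k.hom))

theorem qMap_liftMap {a b : (Stk.sieveCat R).obj} (k : a ⟶ b) : qMap R (liftMap k) = k := rfl

theorem RelDatum.exists_cone {D : Stk.sieveCat R ⥤ᵇ 𝒮} (d : RelDatum F y D)
    (h : Nonempty (Cone d.functor)) : Nonempty (Cone D) := by
  obtain ⟨⟨pt, hpt, π, lift, nat⟩⟩ := h
  obtain ⟨⟨fst, snd, iso⟩, prop⟩ := pt
  change fst = Tm U at hpt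
  subst hpt
  have prop' : 𝒯.p.IsHomLift (𝟙 U) iso.hom := prop
  have hfst : ∀ a : (Stk.sieveCat R).obj, (π (liftObj R a)).hom.fst = toT a.obj := fun a =>
    (hl_eq (p := (Pc F y).p) (lift (liftObj R a))).symm
  refine ⟨{ pt := snd
            hpt := (F.w_obj snd).symm.trans (IsHomLift.codomain_eq 𝒯.p (𝟙 U) iso.hom)
            π := fun a => (π (liftObj R a)).hom.snd
            lift := fun a => ?_
            nat := fun {a b} k => ?_ }⟩
  · have h1 : 𝒮.p.IsHomLift ((fp y F).p.map (π (liftObj R a))) (π (liftObj R a)).hom.snd :=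
      fp_isHomLift_snd y F (π (liftObj R a))
    have h2 : (fp y F).p.map (π (liftObj R a)) = a.obj.hom := by
      change ((π (liftObj R a)).hom.fst).left = a.obj.hom
      rw [hfst a]
      rfl
    rw [h2] at h1
    exact h1
  · have := congrArg (fun t => t.hom.snd) (nat (liftMap k))
    exact this


/-- the image of a cone under a functor over the base -/
def mapCone {𝒵 𝒲 : BasedCategory.{v, max u v} C} (G : 𝒵 ⥤ᵇ 𝒲)
    {D : Stk.sieveCat R ⥤ᵇ 𝒵} (c : Cone D) : Cone (BasedFunctor.comp D G) where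
  pt := G.obj c.pt
  hpt := (G.w_obj c.pt).trans c.hpt
  π a := G.map (c.π a)
  lift a := map_isHomLift G _ _ (c.lift a)
  nat {a b} k := by
    change G.map (D.map k) ≫ G.map (c.π b) = G.map (c.π a)
    rw [← c.nat k]
    exact (G.toFunctor.map_comp _ _).symm

variable (F) in
/-- a cone in `𝒯` on the image of a descent datum, and a 2-Yoneda functor for its vertex, give a
relative datum -/
theorem exists_relDatum (h𝒯 : IsFibGrpd 𝒯.p) (D : Stk.sieveCat R ⥤ᵇ 𝒮)
    (c : Cone (BasedFunctor.comp D F)) (y : overCat U ⥤ᵇ 𝒯) (π : ∀ a : Over U, y.obj a ⟶ c.pt)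
    (hπ : ∀ a : Over U, 𝒯.p.IsHomLift a.hom (π a))
    (hπc : ∀ {a b : Over U} (k : a ⟶ b), y.map k ≫ π b = π a) :
    ∃ d : RelDatum F y D, ∀ a : (Stk.sieveCat R).obj, (d.ι a).hom ≫ c.π a = π a.obj := by
  have hex : ∀ a : (Stk.sieveCat R).obj, ∃ τ : y.obj a.obj ≅ F.obj (D.obj a),
      𝒯.p.IsHomLift (𝟙 a.obj.left) τ.hom ∧ τ.hom ≫ c.π a = π a.obj := fun a =>
    exists_iso_of_lifts h𝒯 a.obj.hom (π a.obj) (hπ a.obj) (c.π a) (c.lift a)
  choose ι hι1 hι2 using hex
  refine ⟨{ ι := ι, lift := hι1, nat := ?_ }, hι2⟩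
  intro a b k
  have l1 : 𝒯.p.IsHomLift k.hom.left (y.map k.hom) :=
    map_isHomLift y _ _ (hl_of_eq (p := (overCat U).p) rfl)
  have l2 : 𝒯.p.IsHomLift k.hom.left (F.map (D.map k)) :=
    map_isHomLift (BasedFunctor.comp D F) _ _ (sieve_map_lift k)
  have hb := hι1 b
  have ha := hι1 a
  have m1 : 𝒯.p.IsHomLift k.hom.left (y.map k.hom ≫ (ι b).hom) := inferInstance
  have m2 : 𝒯.p.IsHomLift k.hom.left ((ι a).hom ≫ F.map (D.map k)) := inferInstance
  refine eq_of_comp_eq h𝒯 k.hom.left b.obj.hom (c.π b) (c.lift b) _ _ m1 m2 ?_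
  have n : F.map (D.map k) ≫ c.π b = c.π a := c.nat k
  rw [Category.assoc, hι2, hπc, Category.assoc, n, hι2]

section Main

variable (J : GrothendieckTopology C) (h𝒮 : IsFibGrpd 𝒮.p) (h𝒯 : Stk.IsStack J 𝒯)
  (h3 : ∀ (U : C) (y : overCat U ⥤ᵇ 𝒯), Stk.IsStack (J.over U) (Pc F y))

include h𝒯 h3 in
theorem exists_cone_rel (hR : R ∈ J U) (D : Stk.sieveCat R ⥤ᵇ 𝒮) : Nonempty (Cone D) := by
  have hT := (isStackFor_iff_cones h𝒯.1).1 (h𝒯.2 R hR)
  obtain ⟨c⟩ := hT.1 (BasedFunctor.comp D F)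
  obtain ⟨y, π, hπ, hπc⟩ := exists_yoneda h𝒯.1 c.pt c.hpt
  obtain ⟨d, -⟩ := exists_relDatum F h𝒯.1 D c y π hπ hπc
  have hP := (isStackFor_iff_cones (h3 U y).1).1 ((h3 U y).2 (Rt R) (Rt_mem J R hR))
  exact d.exists_cone (hP.1 d.functor)

include h𝒯 h3 in
theorem exists_hom_rel (hR : R ∈ J U) (D : Stk.sieveCat R ⥤ᵇ 𝒮) (c c' : Cone D) :
    ∃ φ : c.pt ⟶ c'.pt, 𝒮.p.IsHomLift (𝟙 U) φ ∧ ∀ a, c.π a ≫ φ = c'.π a := by
  have h𝒯fg := h𝒯.1
  have hT := (isStackFor_iff_cones h𝒯.1).1 (h𝒯.2 R hR)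
  obtain ⟨τ, ⟨hτ, hτc⟩, -⟩ := hT.2 (BasedFunctor.comp D F) (mapCone F c) (mapCone F c')
  have hτc' : ∀ a, F.map (c.π a) ≫ τ = F.map (c'.π a) := hτc
  have hτi : IsIso τ := isIso_of_lift_id h𝒯fg τ hτ
  obtain ⟨y, π, hπ, hπc⟩ := exists_yoneda h𝒯.1 (mapCone F c').pt (mapCone F c').hpt
  obtain ⟨d, hd⟩ := exists_relDatum F h𝒯.1 D (mapCone F c') y π hπ hπc
  have hd' : ∀ a : (Stk.sieveCat R).obj, (d.ι a).hom ≫ F.map (c'.π a) = π a.obj := hd
  have hπT : 𝒯.p.IsHomLift (𝟙 U) (π (Tm U)) := hπ (Tm U)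
  have hπTi : IsIso (π (Tm U)) := isIso_of_lift_id h𝒯fg _ hπT
  have hτinv : 𝒯.p.IsHomLift (𝟙 U) (inv τ) := IsHomLift.lift_id_inv_isIso (p := 𝒯.p) U τ
  let e' : y.obj (Tm U) ≅ F.obj c'.pt := asIso (π (Tm U))
  let e : y.obj (Tm U) ≅ F.obj c.pt := asIso (π (Tm U)) ≪≫ (asIso τ).symm
  have he : 𝒯.p.IsHomLift (𝟙 U) e.hom := by
    change 𝒯.p.IsHomLift (𝟙 U) (π (Tm U) ≫ inv τ)
    infer_instance
  let K' : Cone d.functor := d.cone c' e' hπT (fun a => by
    change y.map (toT a.obj) ≫ π (Tm U) = _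
    rw [hπc, hd'])
  let K : Cone d.functor := d.cone c e he (fun a => by
    change y.map (toT a.obj) ≫ π (Tm U) ≫ inv τ = _
    rw [← Category.assoc, hπc, ← hd', ← hτc', Category.assoc, Category.assoc, IsIso.hom_inv_id,
      Category.comp_id])
  have hP := (isStackFor_iff_cones (h3 U y).1).1 ((h3 U y).2 (Rt R) (Rt_mem J R hR))
  obtain ⟨Θ, ⟨hΘ, hΘc⟩, -⟩ := hP.2 d.functor K K'
  have hfst : Θ.hom.fst = 𝟙 (Tm U) := (hl_eq (p := (Pc F y).p) hΘ).symm
  refine ⟨Θ.hom.snd, ?_, ?_⟩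
  · have h1 : 𝒮.p.IsHomLift ((fp y F).p.map Θ) Θ.hom.snd := fp_isHomLift_snd y F Θ
    have h2 : (fp y F).p.map Θ = 𝟙 U := by
      change (Θ.hom.fst).left = 𝟙 U
      rw [hfst]
      rfl
    rw [h2] at h1
    exact h1
  · intro a
    have := congrArg (fun t => t.hom.snd) (hΘc (liftObj R a))
    exact this

include h𝒮 h𝒯 h3 in
/-- Let `F : 𝒮 ⟶ 𝒯` be a faithful functor over `C` from a category fibred in groupoids to a stack. If all
the 2-fibre products `(C/U) ×_𝒯 𝒮` are stacks over the slices, then `𝒮` is a stack. -/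
theorem isStack_of_rel [F.toFunctor.Faithful] : Stk.IsStack J 𝒮 := by
  refine ⟨h𝒮, fun U R hR => ?_⟩
  rw [isStackFor_iff_cones h𝒮]
  refine ⟨fun D => exists_cone_rel J h𝒯 h3 hR D, ?_⟩
  intro D c c'
  obtain ⟨φ, hφ, hφc⟩ := exists_hom_rel J h𝒯 h3 hR D c c'
  refine ⟨φ, ⟨hφ, hφc⟩, ?_⟩
  rintro φ₂ ⟨hφ₂, hφ₂c⟩
  have hT := (isStackFor_iff_cones h𝒯.1).1 (h𝒯.2 R hR)
  obtain ⟨τ, -, hτu⟩ := hT.2 (BasedFunctor.comp D F) (mapCone F c) (mapCone F c')
  have e1 : F.map φ = τ := hτu (F.map φ) ⟨map_isHomLift F _ _ hφ, fun a => by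
    change F.map (c.π a) ≫ F.map φ = F.map (c'.π a)
    rw [← hφc a]
    exact (F.toFunctor.map_comp _ _).symm⟩
  have e2 : F.map φ₂ = τ := hτu (F.map φ₂) ⟨map_isHomLift F _ _ hφ₂, fun a => by
    change F.map (c.π a) ≫ F.map φ₂ = F.map (c'.π a)
    rw [← hφ₂c a]
    exact (F.toFunctor.map_comp _ _).symm⟩
  exact F.toFunctor.map_injective (e2.trans e1.symm)

end Main

end Groth.Agent.Lib.Helper62.StkRel
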