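import Mathlib
import Groth.Agent.Lib.Helper62.FFDev

/-!
Exact fully faithful `ι : A' ⥤ A` such that `A'` has enough `A`-injectives:
`D⁺(A') ⥤ D⁺(A)` is fully faithful.
-/

set_option autoImplicit false
universe w w' v v' u u'

open CategoryTheory CategoryTheory.Limits CategoryTheory.Pretriangulated DerivedCategory

namespace Groth.Agent.Lib.Helper62.ThickInj

section General

variable {C : Type u} [Category.{v} C] [Abelian C] [HasDerivedCategory.{w} C]

lemma exists_Q_map_eq (K J : CochainComplex C ℤ) [J.IsKInjective] (φ : Q.obj K ⟶ Q.obj J) :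
    ∃ f : K ⟶ J, Q.map f = φ := by
  obtain ⟨g, hg⟩ := (CochainComplex.IsKInjective.Qh_map_bijective
    ((HomotopyCategory.quotient C (ComplexShape.up ℤ)).obj K) J).2
    ((quotientCompQhIso C).hom.app K ≫ φ ≫ (quotientCompQhIso C).inv.app J)
  obtain ⟨f, rfl⟩ := (HomotopyCategory.quotient C (ComplexShape.up ℤ)).map_surjective g
  refine ⟨f, ?_⟩
  have nat : Qh.map ((HomotopyCategory.quotient C (ComplexShape.up ℤ)).map f) ≫
      (quotientCompQhIso C).hom.app J = (quotientCompQhIso C).hom.app K ≫ Q.map f :=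
    (quotientCompQhIso C).hom.naturality f
  rw [hg] at nat
  simp only [Category.assoc, Iso.inv_hom_id_app, Category.comp_id] at nat
  exact ((cancel_epi ((quotientCompQhIso C).hom.app K)).1 nat).symm

lemma homotopy_of_Q_map_eq {K J : CochainComplex C ℤ} [J.IsKInjective] (f g : K ⟶ J)
    (h : Q.map f = Q.map g) : Nonempty (Homotopy f g) := by
  have h1 : Qh.map ((HomotopyCategory.quotient C (ComplexShape.up ℤ)).map f) =
      Qh.map ((HomotopyCategory.quotient C (ComplexShape.up ℤ)).map g) := by
    have natf : Qh.map ((HomotopyCategory.quotient C (ComplexShape.up ℤ)).map f) ≫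
        (quotientCompQhIso C).hom.app J = (quotientCompQhIso C).hom.app K ≫ Q.map f :=
      (quotientCompQhIso C).hom.naturality f
    have natg : Qh.map ((HomotopyCategory.quotient C (ComplexShape.up ℤ)).map g) ≫
        (quotientCompQhIso C).hom.app J = (quotientCompQhIso C).hom.app K ≫ Q.map g :=
      (quotientCompQhIso C).hom.naturality g
    rw [← cancel_mono ((quotientCompQhIso C).hom.app J), natf, natg, h]
  exact ⟨HomotopyCategory.homotopyOfEq _ _
    ((CochainComplex.IsKInjective.Qh_map_bijective _ J).1 h1)⟩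

end General

variable {A' : Type u'} [Category.{v'} A'] [Abelian A'] [HasDerivedCategory.{w'} A']
  {A : Type u} [Category.{v} A] [Abelian A] [HasDerivedCategory.{w} A]
  (ι : A' ⥤ A) [ι.Additive] [PreservesFiniteLimits ι] [PreservesFiniteColimits ι]
  [ι.Full] [ι.Faithful]

omit [HasDerivedCategory.{w'} A'] [HasDerivedCategory.{w} A] [ι.Additive]
  [PreservesFiniteColimits ι] [Abelian A'] [Abelian A] in
lemma injective_of_injective_obj (Y' : A') (h : Injective (ι.obj Y')) : Injective Y' where
  factors {X Y} g f _ := by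
    have : Mono (ι.map f) := inferInstance
    refine ⟨ι.preimage (Injective.factorThru (ι.map g) (ι.map f)), ι.map_injective ?_⟩
    rw [Functor.map_comp, Functor.map_preimage, Injective.comp_factorThru]

omit [HasDerivedCategory.{w'} A'] [HasDerivedCategory.{w} A] [ι.Additive]
  [PreservesFiniteColimits ι] in
lemma enoughInjectives
    (hinj : ∀ X' : A', ∃ (Y' : A') (i : X' ⟶ Y'), Mono i ∧ Injective (ι.obj Y')) :
    EnoughInjectives A' where
  presentation X' := by
    obtain ⟨Y', i, hi, hY'⟩ := hinj X'
    exact ⟨{ J := Y', injective := injective_of_injective_obj ι Y' hY', f := i, mono := hi }⟩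

omit [HasDerivedCategory.{w'} A'] [HasDerivedCategory.{w} A] [ι.Additive]
  [PreservesFiniteLimits ι] [PreservesFiniteColimits ι] [ι.Full] [ι.Faithful]
  [Abelian A'] [Abelian A] in
lemma injective_obj_of_injective
    (hinj : ∀ X' : A', ∃ (Y' : A') (i : X' ⟶ Y'), Mono i ∧ Injective (ι.obj Y'))
    (J' : A') [Injective J'] : Injective (ι.obj J') := by
  obtain ⟨Y', i, hi, hY'⟩ := hinj J'
  have r : Retract J' Y' :=
    { i := i, r := Injective.factorThru (𝟙 J') i, retract := Injective.comp_factorThru _ _ }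
  exact (r.map ι).injective

/-- Full faithfulness on `Hom(Q K, Q J)` when `J` and `ι J` are K-injective. -/
theorem ff_of_isKInjective (K J : CochainComplex A' ℤ) [J.IsKInjective]
    [CochainComplex.IsKInjective ((ι.mapHomologicalComplex (ComplexShape.up ℤ)).obj J)] :
    FFD.FF ι.mapDerivedCategory (Q.obj K) (Q.obj J) := by
  constructor
  · intro φ φ' h
    change ι.mapDerivedCategory.map φ = ι.mapDerivedCategory.map φ' at h
    obtain ⟨f, rfl⟩ := exists_Q_map_eq K J φ
    obtain ⟨f', rfl⟩ := exists_Q_map_eq K J φ'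
    have h1 : Q.map ((ι.mapHomologicalComplex (ComplexShape.up ℤ)).map f) =
        Q.map ((ι.mapHomologicalComplex (ComplexShape.up ℤ)).map f') := by
      have n1 := ι.mapDerivedCategoryFactors_hom_naturality f
      have n2 := ι.mapDerivedCategoryFactors_hom_naturality f'
      rw [h] at n1
      rw [← cancel_epi (ι.mapDerivedCategoryFactors.hom.app K), ← n1, ← n2]
    obtain ⟨H⟩ := homotopy_of_Q_map_eq _ _ h1
    exact Q_map_eq_of_homotopy A' (ι.preimageHomotopy H)
  · intro ψ
    obtain ⟨g, hg⟩ := exists_Q_map_eq _ _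
      (ι.mapDerivedCategoryFactors.inv.app K ≫ ψ ≫ ι.mapDerivedCategoryFactors.hom.app J)
    obtain ⟨f, rfl⟩ := (ι.mapHomologicalComplex (ComplexShape.up ℤ)).map_surjective g
    refine ⟨Q.map f, ?_⟩
    change ι.mapDerivedCategory.map (Q.map f) = ψ
    have n1 := ι.mapDerivedCategoryFactors_hom_naturality f
    rw [hg] at n1
    simp only [Iso.hom_inv_id_app_assoc] at n1
    exact (cancel_mono (ι.mapDerivedCategoryFactors.hom.app J)).1 n1

/-- `D⁺(A') ⥤ D⁺(A)` is fully faithful when `A'` has enough `A`-injectives. -/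
theorem ff_of_isGE
    (hinj : ∀ X' : A', ∃ (Y' : A') (i : X' ⟶ Y'), Mono i ∧ Injective (ι.obj Y'))
    (X Y : DerivedCategory A') (b : ℤ) [Y.IsGE b] :
    FFD.FF ι.mapDerivedCategory X Y := by
  have := enoughInjectives ι hinj
  obtain ⟨K, _, ⟨e⟩⟩ := Y.exists_iso_Q_obj_of_isGE b
  obtain ⟨J, i, hi, hJ, hge⟩ :=
    CochainComplex.Plus.modelCategoryQuillen.exists_quasiIso_injective K b
  have : IsIso (Q.map i) := (isIso_Q_map_iff_quasiIso A' i).2 hi
  have hK : J.IsKInjective := CochainComplex.isKInjective_of_injective J b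
  have hJ' : ∀ n, Injective (((ι.mapHomologicalComplex (ComplexShape.up ℤ)).obj J).X n) :=
    fun n => by
      have := hJ n
      exact injective_obj_of_injective ι hinj (J.X n)
  have hge' : CochainComplex.IsStrictlyGE
      ((ι.mapHomologicalComplex (ComplexShape.up ℤ)).obj J) b := by
    rw [CochainComplex.isStrictlyGE_iff]
    intro n hn
    exact ι.map_isZero (J.isZero_of_isStrictlyGE b n hn)
  have hK' : CochainComplex.IsKInjective ((ι.mapHomologicalComplex (ComplexShape.up ℤ)).obj J) :=
    CochainComplex.isKInjective_of_injective _ b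
  exact FFD.ff_of_iso ι.mapDerivedCategory (Q.objObjPreimageIso X)
    ((asIso (Q.map i)).symm ≪≫ e.symm) (ff_of_isKInjective ι (Q.objPreimage X) J)

end Groth.Agent.Lib.Helper62.ThickInj
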