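import Groth.Prelude.Def_SGA4c
import Mathlib.CategoryTheory.MorphismProperty.Limits

set_option autoImplicit false

universe u

open CategoryTheory CategoryTheory.Limits Opposite

namespace Groth.Agent.Lib.Helper62

variable {C : Type u} [SmallCategory C] {J : GrothendieckTopology C}

lemma isQC_of_iso {X X' : ToposFin.Sh J} (e : X ≅ X') (h : ToposFin.IsQC X) : ToposFin.IsQC X' := by
  intro ι F π hπ
  have h1 : Limits.Sigma.desc (fun i ↦ π i ≫ e.inv) = Limits.Sigma.desc π ≫ e.inv := by
    apply Limits.Sigma.hom_ext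
    intro i
    rw [Limits.Sigma.ι_desc, Limits.Sigma.ι_desc_assoc]
  have h2 : Epi (Limits.Sigma.desc (fun i ↦ π i ≫ e.inv)) := by
    rw [h1]; exact epi_comp _ _
  obtain ⟨s, hs⟩ := h ι F (fun i ↦ π i ≫ e.inv) h2
  refine ⟨s, ?_⟩
  have h3 : Limits.Sigma.desc (fun i : s ↦ π i) =
      Limits.Sigma.desc (fun i : s ↦ π i ≫ e.inv) ≫ e.hom := by
    apply Limits.Sigma.hom_ext
    intro i
    rw [Limits.Sigma.ι_desc, Limits.Sigma.ι_desc_assoc, Category.assoc, e.inv_hom_id, Category.comp_id]
  rw [h3]
  exact epi_comp _ _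

lemma isQCHom_of_isIso {X Y : ToposFin.Sh J} (f : X ⟶ Y) [IsIso f] : ToposFin.IsQCHom f := by
  intro Y' g hY'
  exact isQC_of_iso (asIso (pullback.snd f g)).symm hY'

lemma isQC_of_isPullback {X Y P Y' : ToposFin.Sh J} {f : X ⟶ Y} (hf : ToposFin.IsQCHom f)
    {fst : P ⟶ X} {snd : P ⟶ Y'} {g : Y' ⟶ Y} (sq : IsPullback fst snd f g)
    (hY' : ToposFin.IsQC Y') : ToposFin.IsQC P :=
  isQC_of_iso sq.isoPullback.symm (hf Y' g hY')

/-- quasi-compact morphisms as a morphism property -/
def qcHom (J : GrothendieckTopology C) : MorphismProperty (ToposFin.Sh J) :=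
  fun _ _ f ↦ ToposFin.IsQCHom f

instance : (qcHom J).IsStableUnderBaseChange where
  of_isPullback {X Y Y' X'} f g f' g' sq hg := by
    intro Z h hZ
    have s := IsPullback.of_hasPullback g' h
    have := (s.paste_horiz sq)
    exact isQC_of_isPullback hg this hZ

instance : (qcHom J).IsStableUnderComposition where
  comp_mem {X Y Z} f g hf hg := by
    intro W h hW
    have t := IsPullback.of_hasPullback g h
    have hP1 : ToposFin.IsQC (pullback g h) := hg W h hW
    have s := IsPullback.of_hasPullback f (pullback.fst g h)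
    have hP2 : ToposFin.IsQC (pullback f (pullback.fst g h)) := hf _ _ hP1
    exact isQC_of_iso (s.paste_vert t).isoPullback hP2

instance : (qcHom J).ContainsIdentities where
  id_mem X := isQCHom_of_isIso (𝟙 X)

instance : (qcHom J).RespectsIso :=
  MorphismProperty.IsStableUnderBaseChange.respectsIso

/-- quasi-separated morphisms as a morphism property -/
def qsHom (J : GrothendieckTopology C) : MorphismProperty (ToposFin.Sh J) := (qcHom J).diagonal

lemma qsHom_iff {X Y : ToposFin.Sh J} (f : X ⟶ Y) : qsHom J f ↔ ToposFin.IsQSHom f := Iff.rfl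

instance : (qsHom J).IsStableUnderBaseChange := by
  unfold qsHom; infer_instance

instance : (qsHom J).IsStableUnderComposition := by
  unfold qsHom; infer_instance

instance : (qsHom J).RespectsIso := by
  unfold qsHom; infer_instance

end Groth.Agent.Lib.Helper62
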