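import Groth.Agent.Lib.Helper62.UppFrac
import Groth.Agent.Lib.Helper62.LocCart
import Groth.Agent.Lib.Helper17.FibGrpd

/-!
# The localisation `u_p 𝒮` is fibred over `D` (helper62)

* `ore_gen`, `exists_H1`: the lifting property in `u_pp 𝒮` needed by `LocCart.isStronglyCartesian_Q_map`.
* `sc_Q_map`: the image in `u_p 𝒮` of a morphism with strongly cartesian `𝒮`-component is strongly cartesian.
* `up_isFibered`, `up_isFibGrpd`.
-/

set_option autoImplicit false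
set_option backward.isDefEq.respectTransparency false
set_option backward.isDefEq.respectTransparency.types false
universe v₃ u₃ v₂ u₂ v u
open CategoryTheory CategoryTheory.Functor CategoryTheory.Limits

namespace Groth.Agent.Lib.Helper62.UppFib

open Stk Groth.Agent.Lib.Helper17 Groth.Agent.Lib.Helper17.FG Groth.Agent.Lib.Helper62.UppFrac
  Groth.Agent.Lib.Helper62.LocCart Localization.Construction

variable {C : Type u} [Category.{v} C] {D : Type u₂} [Category.{v₂} D] {u : C ⥤ D}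
  {𝒮 : BasedCategory.{v₃, u₃} C}

theorem ore_gen [PreservesLimitsOfShape WalkingCospan u] {X Y' Y : UppObj u 𝒮} (f : X ⟶ Y')
    (s : Y ⟶ Y') (hs : SCm s.top) (g : X.V ⟶ Y.V) (hg : g ≫ s.bot = f.bot)
    {x'' : 𝒮.obj} (t : x'' ⟶ X.x) (ht : SCm t) (π₂ : 𝒮.p.obj x'' ⟶ 𝒮.p.obj Y.x)
    (hpb : IsPullback (𝒮.p.map t) π₂ (𝒮.p.map f.top) (𝒮.p.map s.top)) :
    ∃ (X'' : UppObj u 𝒮) (s' : X'' ⟶ X) (_ : uppR u 𝒮 s') (f' : X'' ⟶ Y),
      f' ≫ s = s' ≫ f ∧ f'.bot = s'.bot ≫ g := by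
  have hlift : 𝒮.p.IsHomLift (π₂ ≫ 𝒮.p.map s.top) (t ≫ f.top) := by
    rw [← hpb.w, ← Functor.map_comp]; infer_instance
  obtain ⟨b, ⟨hb1, hb2⟩, -⟩ := IsStronglyCartesian.universal_property 𝒮.p (𝒮.p.map s.top) s.top π₂
    (π₂ ≫ 𝒮.p.map s.top) rfl (t ≫ f.top)
  have hb : 𝒮.p.map b = π₂ := (hl_eq hb1).symm
  have hpb' := hpb.map u
  have compat : X.φ ≫ u.map (𝒮.p.map f.top) = (g ≫ Y.φ) ≫ u.map (𝒮.p.map s.top) := by
    rw [f.w, Category.assoc, s.w, ← Category.assoc, hg]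
  let X'' : UppObj u 𝒮 := ⟨x'', X.V, hpb'.lift X.φ (g ≫ Y.φ) compat⟩
  let s' : X'' ⟶ X := ⟨t, 𝟙 _, by
    change hpb'.lift X.φ (g ≫ Y.φ) compat ≫ u.map (𝒮.p.map t) = 𝟙 _ ≫ X.φ
    rw [hpb'.lift_fst, Category.id_comp]⟩
  let f' : X'' ⟶ Y := ⟨b, g, by
    change hpb'.lift X.φ (g ≫ Y.φ) compat ≫ u.map (𝒮.p.map b) = _
    rw [hb, hpb'.lift_snd]⟩
  refine ⟨X'', s', ⟨ht, (inferInstance : IsIso (𝟙 X.V))⟩, f', ?_, ?_⟩
  · apply UppObj.hom_ext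
    · exact hb2
    · change g ≫ s.bot = 𝟙 _ ≫ f.bot
      rw [Category.id_comp, hg]
  · change g = 𝟙 _ ≫ g
    rw [Category.id_comp]

theorem exists_H1 [𝒮.p.IsFibered] [HasPullbacks C] [PreservesLimitsOfShape WalkingCospan u]
    {Y X : UppObj u 𝒮} (f : Y ⟶ X) (hf : SCm f.top) (Z : UppObj u 𝒮) (h : Z ⟶ X)
    (g : Z.V ⟶ Y.V) (hg : g ≫ f.bot = h.bot) :
    ∃ (Z' : UppObj u 𝒮) (t : Z' ⟶ Z) (_ : uppR u 𝒮 t) (k : Z' ⟶ Y),
      k ≫ f = t ≫ h ∧ k.bot = t.bot ≫ g := by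
  obtain ⟨P, π₁, π₂, hpb⟩ : ∃ (P : C) (π₁ : P ⟶ 𝒮.p.obj Z.x) (π₂ : P ⟶ 𝒮.p.obj Y.x),
      IsPullback π₁ π₂ (𝒮.p.map h.top) (𝒮.p.map f.top) :=
    ⟨_, _, _, IsPullback.of_hasPullback _ _⟩
  obtain ⟨x'', t, ht⟩ := exists_sc_lift Z.x π₁
  have hP := IsHomLift.domain_eq 𝒮.p π₁ t
  subst hP
  have e : π₁ = 𝒮.p.map t := hl_eq ht.toIsHomLift
  subst e
  exact ore_gen h f hf g hg t (scm_of_sc _ t ht) π₂ hpb

section Main

variable (u 𝒮)
variable [𝒮.p.IsFibered] [HasPullbacks C] [HasEqualizers C]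
  [PreservesLimitsOfShape WalkingCospan u] [PreservesLimitsOfShape WalkingParallelPair u]

/-- the structure functor of `u_p 𝒮` -/
noncomputable abbrev upP : (uppR u 𝒮).Localization ⥤ D :=
  lift (UppObj.forget u 𝒮) (uppR_isInvertedBy u 𝒮)

theorem sc_Q_map {Y X : UppObj u 𝒮} (f : Y ⟶ X) (hf : SCm f.top) :
    (upP u 𝒮).IsStronglyCartesian f.bot ((uppR u 𝒮).Q.map f) := by
  have := hasRightCalculusOfFractions u 𝒮
  refine isStronglyCartesian_Q_map (uppR u 𝒮) (UppObj.forget u 𝒮) (uppR_isInvertedBy u 𝒮) f ?_ ?_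
  · intro Z h g hg
    exact exists_H1 f hf Z h g hg
  · intro Z k₁ k₂ hk hkf
    exact ext_aux k₁ k₂ f.top hf hk (congrArg UppObj.Hom.top hkf)

theorem exists_sc_lift_up (a : (uppR u 𝒮).Localization) (R : D) (f : R ⟶ (upP u 𝒮).obj a) :
    ∃ (b : (uppR u 𝒮).Localization) (φ : b ⟶ a), (upP u 𝒮).IsStronglyCartesian f φ := by
  obtain ⟨X, rfl⟩ := (objEquiv (uppR u 𝒮)).surjective a
  change R ⟶ X.V at f
  let X' : UppObj u 𝒮 := ⟨X.x, R, f ≫ X.φ⟩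
  let m : X' ⟶ X := ⟨𝟙 X.x, f, by
    change (f ≫ X.φ) ≫ u.map (𝒮.p.map (𝟙 X.x)) = f ≫ X.φ
    rw [CategoryTheory.Functor.map_id, CategoryTheory.Functor.map_id, Category.comp_id]⟩
  exact ⟨(uppR u 𝒮).Q.obj X', (uppR u 𝒮).Q.map m, sc_Q_map u 𝒮 m (scm_id X.x)⟩

theorem up_isFibered : (Stk.up u 𝒮).p.IsFibered := by
  change (upP u 𝒮).IsFibered
  exact IsFibered.of_exists_isStronglyCartesian (exists_sc_lift_up u 𝒮)

end Main

/-- hypotheses of the row S12813 -/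
theorem up_isFibered' (u : C ⥤ D) (𝒮 : BasedCategory.{v₃, u₃} C) [𝒮.p.IsFibered]
    (hC : ∀ (I : Type) [SmallCategory I] [FinCategory I], Nonempty I → HasLimitsOfShape I C)
    (hu : ∀ (I : Type) [SmallCategory I] [FinCategory I], Nonempty I → PreservesLimitsOfShape I u) :
    (Stk.up u 𝒮).p.IsFibered := by
  have : HasPullbacks C := hC WalkingCospan ⟨WalkingCospan.left⟩
  have : HasEqualizers C := hC WalkingParallelPair ⟨WalkingParallelPair.zero⟩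
  have : PreservesLimitsOfShape WalkingCospan u := hu WalkingCospan ⟨WalkingCospan.left⟩
  have : PreservesLimitsOfShape WalkingParallelPair u :=
    hu WalkingParallelPair ⟨WalkingParallelPair.zero⟩
  exact up_isFibered u 𝒮

theorem isFibered_of_isFibGrpd (h𝒮 : FibCat.IsFibGrpd 𝒮.p) : 𝒮.p.IsFibered :=
  IsFibered.of_exists_isStronglyCartesian (fun a R f => by
    obtain ⟨y, φ, hφ⟩ := h𝒮.exists_lift f
    exact ⟨y, φ, sc_all h𝒮 f φ hφ⟩)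

/-- hypotheses of the row S12814 -/
theorem up_isFibGrpd' (u : C ⥤ D) (𝒮 : BasedCategory.{v₃, u₃} C) (h𝒮 : FibCat.IsFibGrpd 𝒮.p)
    (hC : ∀ (I : Type) [SmallCategory I] [FinCategory I], Nonempty I → HasLimitsOfShape I C)
    (hu : ∀ (I : Type) [SmallCategory I] [FinCategory I], Nonempty I → PreservesLimitsOfShape I u) :
    FibCat.IsFibGrpd (Stk.up u 𝒮).p := by
  have : HasPullbacks C := hC WalkingCospan ⟨WalkingCospan.left⟩
  have : HasEqualizers C := hC WalkingParallelPair ⟨WalkingParallelPair.zero⟩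
  have : PreservesLimitsOfShape WalkingCospan u := hu WalkingCospan ⟨WalkingCospan.left⟩
  have : PreservesLimitsOfShape WalkingParallelPair u :=
    hu WalkingParallelPair ⟨WalkingParallelPair.zero⟩
  have := isFibered_of_isFibGrpd h𝒮
  have := hasRightCalculusOfFractions u 𝒮
  change FibCat.IsFibGrpd (upP u 𝒮)
  refine ⟨?_, ?_⟩
  · intro x V f
    obtain ⟨b, φ, hφ⟩ := exists_sc_lift_up u 𝒮 x V f
    exact ⟨b, φ, hφ.toIsHomLift⟩
  · intro y x φ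
    obtain ⟨Y, rfl⟩ := (objEquiv (uppR u 𝒮)).surjective y
    obtain ⟨X, rfl⟩ := (objEquiv (uppR u 𝒮)).surjective x
    change (uppR u 𝒮).Q.obj Y ⟶ (uppR u 𝒮).Q.obj X at φ
    obtain ⟨ρ, hρ⟩ := Localization.exists_rightFraction (uppR u 𝒮).Q (uppR u 𝒮) φ
    have : IsIso ((uppR u 𝒮).Q.map ρ.s) := Localization.inverts (uppR u 𝒮).Q (uppR u 𝒮) _ ρ.hs
    have : IsIso ρ.s.bot := ρ.hs.2
    have h0 : (upP u 𝒮).IsHomLift ρ.s.bot ((uppR u 𝒮).Q.map ρ.s) :=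
      isHomLift_Q_map (uppR u 𝒮) (UppObj.forget u 𝒮) (uppR_isInvertedBy u 𝒮) ρ.s
    have h1 : (upP u 𝒮).IsStronglyCartesian ρ.f.bot ((uppR u 𝒮).Q.map ρ.f) :=
      sc_Q_map u 𝒮 ρ.f (h𝒮.isStronglyCartesian ρ.f.top)
    have h2 : (upP u 𝒮).IsHomLift (inv ρ.s.bot) (inv ((uppR u 𝒮).Q.map ρ.s)) := inferInstance
    have h3 : (upP u 𝒮).IsStronglyCartesian (inv ρ.s.bot) (inv ((uppR u 𝒮).Q.map ρ.s)) :=
      inferInstance
    have h4 : (upP u 𝒮).IsStronglyCartesian (inv ρ.s.bot ≫ ρ.f.bot)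
      (inv ((uppR u 𝒮).Q.map ρ.s) ≫ (uppR u 𝒮).Q.map ρ.f) := inferInstance
    have h5 : φ = inv ((uppR u 𝒮).Q.map ρ.s) ≫ (uppR u 𝒮).Q.map ρ.f := hρ
    rw [h5]
    exact sc_map_of_sc h4

end Groth.Agent.Lib.Helper62.UppFib
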