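import Groth.Prelude.Def_W4stkalgstUpp
import Groth.Agent.Lib.Helper17.HomLift
import Mathlib.CategoryTheory.FiberedCategory.Fibered
import Mathlib.CategoryTheory.Localization.CalculusOfFractions
import Mathlib.CategoryTheory.Limits.Shapes.Pullback.IsPullback.Basic
import Mathlib.CategoryTheory.Limits.Preserves.Shapes.Pullbacks
import Mathlib.CategoryTheory.Limits.Preserves.Shapes.Equalizers
import Mathlib.CategoryTheory.Limits.Shapes.FiniteLimits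

/-!
# Right calculus of fractions for the class `R` of `u_pp 𝒮` (helper62)

* `SCm t`: `t` is strongly cartesian over its own image.
* `uppR_isMultiplicative`, `exists_rightFraction`, `ext_aux`, `hasRightCalculusOfFractions`.
-/

set_option autoImplicit false
universe v₃ u₃ v₂ u₂ v u
open CategoryTheory CategoryTheory.Functor CategoryTheory.Limits

namespace Groth.Agent.Lib.Helper62.UppFrac

open Stk Groth.Agent.Lib.Helper17

variable {C : Type u} [Category.{v} C] {D : Type u₂} [Category.{v₂} D] (u : C ⥤ D)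
  (𝒮 : BasedCategory.{v₃, u₃} C)

section Basic

variable {𝒮}

/-- strongly cartesian over its own image -/
abbrev SCm {x y : 𝒮.obj} (t : x ⟶ y) : Prop := 𝒮.p.IsStronglyCartesian (𝒮.p.map t) t

theorem scm_of_sc {x y : 𝒮.obj} {R S : C} (f : R ⟶ S) (t : x ⟶ y)
    (h : 𝒮.p.IsStronglyCartesian f t) : SCm t := sc_map_of_sc h

theorem scm_id (x : 𝒮.obj) : SCm (𝟙 x) := by
  unfold SCm; infer_instance

theorem scm_comp {x y z : 𝒮.obj} (t : x ⟶ y) (t' : y ⟶ z) (h : SCm t) (h' : SCm t') :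
    SCm (t ≫ t') := by
  have : 𝒮.p.IsStronglyCartesian (𝒮.p.map t ≫ 𝒮.p.map t') (t ≫ t') := inferInstance
  unfold SCm
  rwa [Functor.map_comp]

theorem exists_sc_lift [𝒮.p.IsFibered] (x : 𝒮.obj) {R : C} (f : R ⟶ 𝒮.p.obj x) :
    ∃ (y : 𝒮.obj) (t : y ⟶ x), 𝒮.p.IsStronglyCartesian f t :=
  ⟨IsPreFibered.pullbackObj rfl f, IsPreFibered.pullbackMap rfl f, inferInstance⟩

end Basic

instance uppR_isMultiplicative : (uppR u 𝒮).IsMultiplicative where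
  id_mem X := ⟨scm_id X.x, (inferInstance : IsIso (𝟙 X.V))⟩
  comp_mem f g hf hg := ⟨scm_comp _ _ hf.1 hg.1, by
    have := hf.2
    have := hg.2
    exact (inferInstance : IsIso (f.bot ≫ g.bot))⟩

section Ore

variable {u 𝒮}

theorem ore_aux [PreservesLimitsOfShape WalkingCospan u] {X Y' Y : UppObj u 𝒮} (f : X ⟶ Y')
    (s : Y ⟶ Y') (hs : uppR u 𝒮 s) {x'' : 𝒮.obj} (t : x'' ⟶ X.x) (ht : SCm t)
    (π₂ : 𝒮.p.obj x'' ⟶ 𝒮.p.obj Y.x)
    (hpb : IsPullback (𝒮.p.map t) π₂ (𝒮.p.map f.top) (𝒮.p.map s.top)) :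
    ∃ ψ : (uppR u 𝒮).RightFraction X Y, ψ.s ≫ f = ψ.f ≫ s := by
  have := hs.2
  have hsc := hs.1
  have hlift : 𝒮.p.IsHomLift (π₂ ≫ 𝒮.p.map s.top) (t ≫ f.top) := by
    rw [← hpb.w, ← Functor.map_comp]; infer_instance
  obtain ⟨b, ⟨hb1, hb2⟩, -⟩ := IsStronglyCartesian.universal_property 𝒮.p (𝒮.p.map s.top) s.top π₂
    (π₂ ≫ 𝒮.p.map s.top) rfl (t ≫ f.top)
  have hb : 𝒮.p.map b = π₂ := (hl_eq hb1).symm
  have hpb' := hpb.map u
  have compat : X.φ ≫ u.map (𝒮.p.map f.top) =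
      (f.bot ≫ inv s.bot ≫ Y.φ) ≫ u.map (𝒮.p.map s.top) := by
    rw [f.w, Category.assoc, Category.assoc, s.w, IsIso.inv_hom_id_assoc]
  let X'' : UppObj u 𝒮 := ⟨x'', X.V, hpb'.lift X.φ (f.bot ≫ inv s.bot ≫ Y.φ) compat⟩
  let s' : X'' ⟶ X := ⟨t, 𝟙 _, by
    change hpb'.lift X.φ (f.bot ≫ inv s.bot ≫ Y.φ) compat ≫ u.map (𝒮.p.map t) = 𝟙 _ ≫ X.φ
    rw [hpb'.lift_fst, Category.id_comp]⟩
  let f' : X'' ⟶ Y := ⟨b, f.bot ≫ inv s.bot, by
    change hpb'.lift X.φ (f.bot ≫ inv s.bot ≫ Y.φ) compat ≫ u.map (𝒮.p.map b) = _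
    rw [hb, hpb'.lift_snd, Category.assoc]⟩
  refine ⟨⟨s', ⟨ht, (inferInstance : IsIso (𝟙 X.V))⟩, f'⟩, ?_⟩
  apply UppObj.hom_ext
  · exact hb2.symm
  · change 𝟙 _ ≫ f.bot = (f.bot ≫ inv s.bot) ≫ s.bot
    rw [Category.id_comp, Category.assoc, IsIso.inv_hom_id, Category.comp_id]

theorem exists_rightFraction [𝒮.p.IsFibered] [HasPullbacks C]
    [PreservesLimitsOfShape WalkingCospan u] {X Y : UppObj u 𝒮}
    (φ : (uppR u 𝒮).LeftFraction X Y) :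
    ∃ ψ : (uppR u 𝒮).RightFraction X Y, ψ.s ≫ φ.f = ψ.f ≫ φ.s := by
  obtain ⟨P, π₁, π₂, hpb⟩ : ∃ (P : C) (π₁ : P ⟶ 𝒮.p.obj X.x) (π₂ : P ⟶ 𝒮.p.obj Y.x),
      IsPullback π₁ π₂ (𝒮.p.map φ.f.top) (𝒮.p.map φ.s.top) :=
    ⟨_, _, _, IsPullback.of_hasPullback _ _⟩
  obtain ⟨x'', t, ht⟩ := exists_sc_lift X.x π₁
  have hP := IsHomLift.domain_eq 𝒮.p π₁ t
  subst hP
  have e : π₁ = 𝒮.p.map t := hl_eq ht.toIsHomLift
  subst e
  exact ore_aux φ.f φ.s φ.hs t (scm_of_sc _ t ht) π₂ hpb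

theorem ext_aux [𝒮.p.IsFibered] [HasEqualizers C] [PreservesLimitsOfShape WalkingParallelPair u]
    {X Y : UppObj u 𝒮} (f₁ f₂ : X ⟶ Y) {z : 𝒮.obj} (s : Y.x ⟶ z) (hs : SCm s)
    (hbot : f₁.bot = f₂.bot) (htop : f₁.top ≫ s = f₂.top ≫ s) :
    ∃ (X' : UppObj u 𝒮) (t : X' ⟶ X) (_ : uppR u 𝒮 t), t ≫ f₁ = t ≫ f₂ := by
  obtain ⟨E, ι, hι, hlift⟩ : ∃ (E : C) (ι : E ⟶ 𝒮.p.obj X.x),
      ι ≫ 𝒮.p.map f₁.top = ι ≫ 𝒮.p.map f₂.top ∧
      ∀ (V : D) (φ : V ⟶ u.obj (𝒮.p.obj X.x)),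
        φ ≫ u.map (𝒮.p.map f₁.top) = φ ≫ u.map (𝒮.p.map f₂.top) →
        ∃ φ' : V ⟶ u.obj E, φ' ≫ u.map ι = φ := by
    refine ⟨equalizer (𝒮.p.map f₁.top) (𝒮.p.map f₂.top), equalizer.ι _ _,
      equalizer.condition _ _, fun V φ hφ => ?_⟩
    have hl := isLimitOfHasEqualizerOfPreservesLimit u (𝒮.p.map f₁.top) (𝒮.p.map f₂.top)
    exact ⟨(Fork.IsLimit.lift' hl φ hφ).1, (Fork.IsLimit.lift' hl φ hφ).2⟩
  obtain ⟨x', t, ht⟩ := exists_sc_lift X.x ι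
  have hE := IsHomLift.domain_eq 𝒮.p ι t
  subst hE
  have e : ι = 𝒮.p.map t := hl_eq ht.toIsHomLift
  subst e
  obtain ⟨φ', hφ'⟩ := hlift X.V X.φ (by rw [f₁.w, f₂.w, hbot])
  refine ⟨⟨x', X.V, φ'⟩, ⟨t, 𝟙 _, by rw [hφ', Category.id_comp]⟩,
    ⟨scm_of_sc _ t ht, (inferInstance : IsIso (𝟙 X.V))⟩, ?_⟩
  apply UppObj.hom_ext
  · change t ≫ f₁.top = t ≫ f₂.top
    have h1 : 𝒮.p.IsHomLift (𝒮.p.map t ≫ 𝒮.p.map f₁.top) (t ≫ f₁.top) := inferInstance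
    have h2 : 𝒮.p.IsHomLift (𝒮.p.map t ≫ 𝒮.p.map f₁.top) (t ≫ f₂.top) := by
      rw [hι]; infer_instance
    exact IsStronglyCartesian.ext 𝒮.p (𝒮.p.map s) s (𝒮.p.map t ≫ 𝒮.p.map f₁.top)
      (by rw [Category.assoc, Category.assoc, htop])
  · change 𝟙 _ ≫ f₁.bot = 𝟙 _ ≫ f₂.bot
    rw [hbot]

end Ore

theorem hasRightCalculusOfFractions [𝒮.p.IsFibered] [HasPullbacks C] [HasEqualizers C]
    [PreservesLimitsOfShape WalkingCospan u] [PreservesLimitsOfShape WalkingParallelPair u] :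
    (uppR u 𝒮).HasRightCalculusOfFractions where
  exists_rightFraction _ _ φ := exists_rightFraction φ
  ext X Y Z f₁ f₂ s hs h := by
    have := hs.2
    have hb : f₁.bot = f₂.bot := by
      have := congrArg UppObj.Hom.bot h
      change f₁.bot ≫ s.bot = f₂.bot ≫ s.bot at this
      exact (cancel_mono s.bot).1 this
    exact ext_aux f₁ f₂ s.top hs.1 hb (congrArg UppObj.Hom.top h)

/-- hypotheses of the rows -/
theorem hasRightCalculusOfFractions' [𝒮.p.IsFibered]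
    (hC : ∀ (I : Type) [SmallCategory I] [FinCategory I], Nonempty I → HasLimitsOfShape I C)
    (hu : ∀ (I : Type) [SmallCategory I] [FinCategory I], Nonempty I → PreservesLimitsOfShape I u) :
    (uppR u 𝒮).HasRightCalculusOfFractions := by
  have : HasPullbacks C := hC WalkingCospan ⟨WalkingCospan.left⟩
  have : HasEqualizers C := hC WalkingParallelPair ⟨WalkingParallelPair.zero⟩
  have : PreservesLimitsOfShape WalkingCospan u := hu WalkingCospan ⟨WalkingCospan.left⟩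
  have : PreservesLimitsOfShape WalkingParallelPair u :=
    hu WalkingParallelPair ⟨WalkingParallelPair.zero⟩
  exact hasRightCalculusOfFractions u 𝒮

end Groth.Agent.Lib.Helper62.UppFrac
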