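import Mathlib
import Groth.Prelude.Def_Hyper
import Groth.Prelude.Def_Hyper2
import Groth.Prelude.Def_CohSite
import Groth.Agent.Lib.Helper62.CechDies
import Groth.Agent.Lib.Helper62.ExtSec
import Groth.Agent.Lib.Helper62.CechAcyclic
import Groth.Agent.Lib.Helper62.BHyperOver
import Groth.Agent.Lib.Helper62.BHyperOver2

/-! # Sheaf cohomology vanishes iff Cech classes die on refinements of hypercoverings -/

set_option autoImplicit false
set_option backward.isDefEq.respectTransparency false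
set_option backward.isDefEq.respectTransparency.types false

open CategoryTheory CategoryTheory.Limits Opposite Simplicial SimplexCategory

universe u

namespace Groth.Agent.Lib.Helper62.VerdierCmp

open CechE ECalc CechChase RefineGood CechDies SecHom SecExact ExtSec SheafExactLocal Abelian

variable {C : Type u} [SmallCategory C] (J : GrothendieckTopology C) [HasPullbacks C] (X : C)
  [∀ (n : ℕ) (G : (SimplexCategory.Truncated n)ᵒᵖ ⥤ FormalCoproduct.{u} (Over X)),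
      (SimplexCategory.Truncated.inclusion n).op.HasRightKanExtension G]

/-! ### Presheaves versus their sheafification -/

theorem diesC_iff_of_loc {N N' : Cᵒᵖ ⥤ AddCommGrpCat.{u}} (θ : N ⟶ N')
    (hi : Presheaf.IsLocallyInjective J θ) (hs : Presheaf.IsLocallySurjective J θ) (q : ℕ) :
    DiesC J X N q ↔ DiesC J X N' q := by
  constructor
  · intro h K hK s' hs0
    obtain ⟨L, f, hL, s, hs1⟩ := liftR J X θ hs K hK q s'
    have hs1' : mp X L θ q s = pb X f N' q s' := hs1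
    have h1 : mp X L θ (q + 1) (dd X L N q s) = 0 := by
      rw [mp_dd, hs1', ← pb_dd, hs0, map_zero]
    obtain ⟨L₁, f₁, hL₁, h2⟩ := killR J X θ hi L hL (q + 1) _ h1
    have h2' : pb X f₁ N (q + 1) (dd X L N q s) = 0 := h2
    have h3 : dd X L₁ N q (pb X f₁ N q s) = 0 := by
      rw [← pb_dd]
      exact h2'
    obtain ⟨L₂, f₂, hL₂, hb⟩ := h L₁ hL₁ _ h3
    refine ⟨L₂, f₂ ≫ f₁ ≫ f, hL₂, ?_⟩
    have h4 := isBdry_mp X L₂ θ q _ hb
    rw [← pb_mp, ← pb_mp, hs1'] at h4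
    rw [pb_comp, pb_comp]
    exact h4
  · intro h K hK s hs0
    obtain ⟨L, f, hL, hb⟩ := h K hK (mp X K θ q s) (by rw [← mp_dd, hs0, map_zero])
    cases q with
    | zero =>
      have hb' : pb X f N' 0 (mp X K θ 0 s) = 0 := hb
      rw [pb_mp] at hb'
      obtain ⟨L', f', hL', h0⟩ := killR J X θ hi L hL 0 (pb X f N 0 s) hb'
      refine ⟨L', f' ≫ f, hL', ?_⟩
      change pb X (f' ≫ f) N 0 s = 0
      rw [pb_comp]
      exact h0
    | succ q =>
      obtain ⟨t', ht'⟩ := hb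
      obtain ⟨L₁, f₁, hL₁, t, ht⟩ := liftR J X θ hs L hL q t'
      have ht1 : mp X L₁ θ q t = pb X f₁ N' q t' := ht
      have hc : mp X L₁ θ (q + 1)
          (pb X f₁ N (q + 1) (pb X f N (q + 1) s) - dd X L₁ N q t) = 0 := by
        rw [map_sub, mp_dd, ht1, ← pb_mp, ← pb_mp, ← pb_dd, ht', sub_self]
      obtain ⟨L₂, f₂, hL₂, h0⟩ := killR J X θ hi L₁ hL₁ (q + 1) _ hc
      have h0' : pb X f₂ N (q + 1)
          (pb X f₁ N (q + 1) (pb X f N (q + 1) s) - dd X L₁ N q t) = 0 := h0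
      refine ⟨L₂, f₂ ≫ f₁ ≫ f, hL₂, pb X f₂ N q t, ?_⟩
      rw [← pb_dd, pb_comp, pb_comp]
      rw [map_sub, sub_eq_zero] at h0'
      exact h0'.symm

theorem diesC_sheafify_iff (G : Cᵒᵖ ⥤ AddCommGrpCat.{u}) (q : ℕ) :
    DiesC J X G q ↔ DiesC J X ((presheafToSheaf J AddCommGrpCat.{u}).obj G).obj q :=
  diesC_iff_of_loc J X (toSheafify J G) inferInstance inferInstance q

/-! ### Degree zero -/

lemma pb_id (K : SimplicialObject (FormalCoproduct.{u} (Over X))) (N : Cᵒᵖ ⥤ AddCommGrpCat.{u})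
    (n : ℕ) (c : (Hyper.cechCx X K N).X n) : pb X (𝟙 K) N n c = c := by
  change ((E (PX X N)).map ((𝟙 K : K ⟶ K).app (op ⦋n⦌)).op).hom c = c
  rw [NatTrans.id_app, op_id, CategoryTheory.Functor.map_id]
  rfl

lemma cocycle_zero_iff (F : Sheaf J AddCommGrpCat.{u})
    (K : SimplicialObject (FormalCoproduct.{u} (Over X)))
    (s : (Hyper.cechCx X K F.obj).X 0) (hs : dd X K F.obj 0 s = 0) :
    ((HyperH0.E J X F).map (K.δ 0).op).hom s = ((HyperH0.E J X F).map (K.δ 1).op).hom s := by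
  have h := HyperH0.d01 J X F K
  have h2 : ((HyperH0.E J X F).map (K.δ 0).op - (HyperH0.E J X F).map (K.δ 1).op).hom s = 0 := by
    rw [← h]
    exact hs
  exact sub_eq_zero.1 h2

/-- the cochain of restrictions of a global section -/
noncomputable abbrev ιc (F : Sheaf J AddCommGrpCat.{u})
    (K : SimplicialObject (FormalCoproduct.{u} (Over X))) (x : F.obj.obj (op X)) :
    (Hyper.cechCx X K F.obj).X 0 :=
  (HyperH0.ι J X F K).hom x

lemma dd_ι (F : Sheaf J AddCommGrpCat.{u}) (K : SimplicialObject (FormalCoproduct.{u} (Over X)))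
    (x : F.obj.obj (op X)) : dd X K F.obj 0 (ιc J X F K x) = 0 := by
  have h := HyperH0.ι_d J X F K
  exact congrArg (fun ψ => ψ.hom x) h

lemma pb_ι (F : Sheaf J AddCommGrpCat.{u}) {K L : SimplicialObject (FormalCoproduct.{u} (Over X))}
    (f : L ⟶ K) (x : F.obj.obj (op X)) :
    pb X f F.obj 0 (ιc J X F K x) = ιc J X F L x := by
  apply E_ext (PX X F.obj)
  intro j
  change cmpE (PX X F.obj) (((E (PX X F.obj)).map (f.app (op ⦋0⦌)).op).hom
    ((HyperH0.ι J X F K).hom x)) j = _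
  rw [cmpE_map]
  have h1 : cmpE (PX X F.obj) ((HyperH0.ι J X F K).hom x) ((f.app (op ⦋0⦌)).f j) =
      (F.obj.map ((K.obj (op ⦋0⦌)).obj ((f.app (op ⦋0⦌)).f j)).hom.op).hom x :=
    HyperH0.ι_apply_π J X F K x _
  have h2 : cmpE (PX X F.obj) ((HyperH0.ι J X F L).hom x) j =
      (F.obj.map ((L.obj (op ⦋0⦌)).obj j).hom.op).hom x :=
    HyperH0.ι_apply_π J X F L x _
  rw [h1, h2]
  change (F.obj.map ((f.app (op ⦋0⦌)).φ j).left.op).hom _ = _
  have h3 : ((f.app (op ⦋0⦌)).φ j).left ≫ ((K.obj (op ⦋0⦌)).obj ((f.app (op ⦋0⦌)).f j)).hom =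
      ((L.obj (op ⦋0⦌)).obj j).hom := Over.w _
  rw [← h3, op_comp, Functor.map_comp]
  rfl

lemma mp_ι {F F' : Sheaf J AddCommGrpCat.{u}} (φ : F ⟶ F')
    (K : SimplicialObject (FormalCoproduct.{u} (Over X))) (x : F.obj.obj (op X)) :
    mp X K φ.hom 0 (ιc J X F K x) = ιc J X F' K ((φ.hom.app (op X)).hom x) := by
  apply E_ext (PX X F'.obj)
  intro j
  change cmpE (PX X F'.obj) ((Eθ (wl X φ.hom) (K.obj (op ⦋0⦌))).hom
    ((HyperH0.ι J X F K).hom x)) j = _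
  rw [cmpE_Eθ]
  have h1 : cmpE (PX X F.obj) ((HyperH0.ι J X F K).hom x) j =
      (F.obj.map ((K.obj (op ⦋0⦌)).obj j).hom.op).hom x :=
    HyperH0.ι_apply_π J X F K x _
  have h2 : cmpE (PX X F'.obj) ((HyperH0.ι J X F' K).hom ((φ.hom.app (op X)).hom x)) j =
      (F'.obj.map ((K.obj (op ⦋0⦌)).obj j).hom.op).hom ((φ.hom.app (op X)).hom x) :=
    HyperH0.ι_apply_π J X F' K _ _
  rw [h1, h2]
  have h3 := φ.hom.naturality ((K.obj (op ⦋0⦌)).obj j).hom.op
  exact congrArg (fun ψ => ψ.hom x) h3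

lemma exists_hyper :
    ∃ K : SimplicialObject (FormalCoproduct.{u} (Over X)), Hyper.IsHypercovering J X K := by
  obtain ⟨K, hK, _⟩ := BHyperOver.exists_hypercovering J Set.univ X (by
    intro U
    refine ⟨PUnit.{u + 1}, fun _ => U, fun _ => 𝟙 U, ?_, fun _ => trivial⟩
    have h : Sieve.ofArrows (fun _ : PUnit.{u + 1} => U) (fun _ => 𝟙 U) = ⊤ :=
      (Sieve.id_mem_iff_eq_top).1
        (Sieve.ofArrows_mk (fun _ : PUnit.{u + 1} => U) (fun _ => 𝟙 U) PUnit.unit)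
    rw [h]
    exact J.top_mem U)
  exact ⟨K, hK⟩

theorem a0 (F : Sheaf J AddCommGrpCat.{u}) :
    Subsingleton (Ext (ZU J X) F 0) ↔ DiesC J X F.obj 0 := by
  rw [subsingleton_ext_zero_iff]
  constructor
  · intro h K hK s hs
    obtain ⟨x, hx⟩ := HyperH0.exists_preimage J X F K hK s (cocycle_zero_iff J X F K s hs)
    refine ⟨K, 𝟙 K, hK, ?_⟩
    change pb X (𝟙 K) F.obj 0 s = 0
    rw [pb_id, ← hx, h x, map_zero]
  · intro h x
    obtain ⟨K, hK⟩ := exists_hyper J X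
    obtain ⟨L, f, hL, hb⟩ := h K hK (ιc J X F K x) (dd_ι J X F K x)
    have hb' : pb X f F.obj 0 (ιc J X F K x) = 0 := hb
    rw [pb_ι] at hb'
    apply HyperH0.ι_injective J X F L hL.1
    exact hb'.trans (map_zero _).symm

/-! ### Dimension shifting -/

section shift

variable {S : ShortComplex (Sheaf J AddCommGrpCat.{u})} (hS : S.ShortExact) [Injective S.X₂]

include hS

lemma mpf_injective (K : SimplicialObject (FormalCoproduct.{u} (Over X))) (n : ℕ) :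
    Function.Injective (mp X K S.f.hom n) := by
  haveI : Mono S.f := hS.mono_f
  exact Mp_injective (wl X S.f.hom) (fun T => injective_app_of_mono J S.f T.left) n

lemma mpg_mpf (K : SimplicialObject (FormalCoproduct.{u} (Over X))) (n : ℕ)
    (y : (Hyper.cechCx X K S.X₁.obj).X n) : mp X K S.g.hom n (mp X K S.f.hom n y) = 0 :=
  Mp_zero (wl X S.f.hom) (wl X S.g.hom) (fun T y => sec_zero S T.left y) n y

lemma mp_exact (K : SimplicialObject (FormalCoproduct.{u} (Over X))) (n : ℕ)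
    (x : (Hyper.cechCx X K S.X₂.obj).X n) (hx : mp X K S.g.hom n x = 0) :
    ∃ y, mp X K S.f.hom n y = x :=
  Mp_exact (wl X S.f.hom) (wl X S.g.hom) (fun T x hx => sec_exact hS T.left x hx) n x hx

lemma g_locSurj : Presheaf.IsLocallySurjective J S.g.hom := by
  haveI : Epi S.g := hS.epi_g
  exact (Sheaf.isLocallySurjective_iff_epi' AddCommGrpCat.{u} S.g).2 inferInstance

omit hS in
lemma inj_exact (K : SimplicialObject (FormalCoproduct.{u} (Over X)))
    (hK : Hyper.IsHypercovering J X K) (p : ℕ) (s : (Hyper.cechCx X K S.X₂.obj).X (p + 1))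
    (hs : dd X K S.X₂.obj (p + 1) s = 0) : ∃ t, dd X K S.X₂.obj p t = s :=
  CechAcyclic.exactAt_injective J X K S.X₂ hK p s hs

theorem step1 (q : ℕ) (h : DiesC J X S.X₃.obj q) : DiesC J X S.X₁.obj (q + 1) := by
  intro K hK s hs
  obtain ⟨a, ha⟩ := inj_exact J X K hK q (mp X K S.f.hom (q + 1) s) (by
    rw [← mp_dd, hs, map_zero])
  have hb : dd X K S.X₃.obj q (mp X K S.g.hom q a) = 0 := by
    rw [← mp_dd, ha, mpg_mpf J X hS]
  obtain ⟨L, f₁, hL, hbd⟩ := h K hK _ hb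
  cases q with
  | zero =>
    have hbd' : pb X f₁ S.X₃.obj 0 (mp X K S.g.hom 0 a) = 0 := hbd
    rw [pb_mp] at hbd'
    obtain ⟨t, ht⟩ := mp_exact J X hS L 0 _ hbd'
    refine ⟨L, f₁, hL, t, ?_⟩
    apply mpf_injective J X hS L 1
    rw [mp_dd, ht, ← pb_dd, ha, pb_mp]
  | succ p =>
    obtain ⟨b', hb'⟩ := hbd
    obtain ⟨L₂, f₂, hL₂, a', ha'⟩ := liftR J X S.g.hom (g_locSurj J hS) L hL p b'
    have ha'1 : mp X L₂ S.g.hom p a' = pb X f₂ S.X₃.obj p b' := ha'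
    have he : mp X L₂ S.g.hom (p + 1)
        (pb X f₂ S.X₂.obj (p + 1) (pb X f₁ S.X₂.obj (p + 1) a) - dd X L₂ S.X₂.obj p a') = 0 := by
      rw [map_sub, mp_dd, ha'1, ← pb_mp, ← pb_mp, ← pb_dd, hb', sub_self]
    obtain ⟨t, ht⟩ := mp_exact J X hS L₂ (p + 1) _ he
    refine ⟨L₂, f₂ ≫ f₁, hL₂, t, ?_⟩
    apply mpf_injective J X hS L₂ (p + 2)
    rw [mp_dd, ht, map_sub, dd_dd, sub_zero, ← pb_dd, ← pb_dd, ha, pb_mp, pb_mp, pb_comp]

theorem step2 (p : ℕ) (h : DiesC J X S.X₁.obj (p + 2)) : DiesC J X S.X₃.obj (p + 1) := by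
  intro K hK b hb
  obtain ⟨L₁, f₁, hL₁, a, ha⟩ := liftR J X S.g.hom (g_locSurj J hS) K hK (p + 1) b
  have ha1 : mp X L₁ S.g.hom (p + 1) a = pb X f₁ S.X₃.obj (p + 1) b := ha
  have h1 : mp X L₁ S.g.hom (p + 2) (dd X L₁ S.X₂.obj (p + 1) a) = 0 := by
    rw [mp_dd, ha1, ← pb_dd, hb, map_zero]
  obtain ⟨s, hs⟩ := mp_exact J X hS L₁ (p + 2) _ h1
  have hds : dd X L₁ S.X₁.obj (p + 2) s = 0 := by
    apply mpf_injective J X hS L₁ (p + 3)
    rw [mp_dd, hs, dd_dd, map_zero]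
  obtain ⟨L₂, f₂, hL₂, t, ht⟩ := h L₁ hL₁ s hds
  have hda : dd X L₂ S.X₂.obj (p + 1)
      (pb X f₂ S.X₂.obj (p + 1) a - mp X L₂ S.f.hom (p + 1) t) = 0 := by
    rw [map_sub, ← pb_dd, ← mp_dd, ht, ← hs, pb_mp, sub_self]
  obtain ⟨a3, ha3⟩ := inj_exact J X L₂ hL₂ p _ hda
  refine ⟨L₂, f₂ ≫ f₁, hL₂, mp X L₂ S.g.hom p a3, ?_⟩
  rw [← mp_dd, ha3, map_sub, mpg_mpf J X hS, sub_zero, ← pb_mp, ha1, pb_comp]

theorem a1_mp (hsurj : Function.Surjective (S.g.hom.app (op X)).hom) :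
    DiesC J X S.X₁.obj 1 := by
  intro K hK s hs
  obtain ⟨a, ha⟩ := inj_exact J X K hK 0 (mp X K S.f.hom 1 s) (by
    rw [← mp_dd, hs, map_zero])
  have hb : dd X K S.X₃.obj 0 (mp X K S.g.hom 0 a) = 0 := by
    rw [← mp_dd, ha, mpg_mpf J X hS]
  obtain ⟨y, hy⟩ := HyperH0.exists_preimage J X S.X₃ K hK _
    (cocycle_zero_iff J X S.X₃ K _ hb)
  obtain ⟨ybar, hybar⟩ := hsurj y
  have hy' : ιc J X S.X₃ K y = mp X K S.g.hom 0 a := hy
  have he : mp X K S.g.hom 0 (a - ιc J X S.X₂ K ybar) = 0 := by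
    rw [map_sub, mp_ι, hybar, hy', sub_self]
  obtain ⟨t, ht⟩ := mp_exact J X hS K 0 _ he
  refine ⟨K, 𝟙 K, hK, t, ?_⟩
  rw [pb_id]
  apply mpf_injective J X hS K 1
  rw [mp_dd, ht, map_sub, dd_ι, sub_zero, ha]

theorem a1_mpr (h : DiesC J X S.X₁.obj 1) :
    Function.Surjective (S.g.hom.app (op X)).hom := by
  intro y
  let Bx : Set (Over X) := {Y | ∃ a : S.X₂.obj.obj (op Y.left),
    (S.g.hom.app (op Y.left)).hom a = (S.X₃.obj.map Y.hom.op).hom y}
  have hcov : ∀ Z : Over X, ∃ R ∈ (J.over X) Z, ∀ ⦃Z' : Over X⦄ (k : Z' ⟶ Z), R.arrows k →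
      ∃ (U : Over X) (_ : U ∈ Bx) (g : Z' ⟶ U) (u : U ⟶ Z), g ≫ u = k := by
    intro Z
    haveI := g_locSurj J hS
    let yZ : S.X₃.obj.obj (op Z.left) := (S.X₃.obj.map Z.hom.op).hom y
    refine ⟨(Sieve.overEquiv Z).symm (Presheaf.imageSieve S.g.hom yZ),
      J.overEquiv_symm_mem_over _ _ (Presheaf.imageSieve_mem J S.g.hom yZ), ?_⟩
    intro Z' k hk
    rw [Sieve.overEquiv_symm_iff] at hk
    obtain ⟨t, ht⟩ := hk
    refine ⟨Z', ⟨t, ?_⟩, 𝟙 Z', k, Category.id_comp k⟩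
    refine ht.trans ?_
    have e : Z'.hom.op = Z.hom.op ≫ k.left.op := by
      rw [← op_comp, Over.w k]
    rw [e, Functor.map_comp]
    rfl
  obtain ⟨K, hK, hKB⟩ := BHyperOver2.exists_hypercovering' J X Bx hcov
  let a : (Hyper.cechCx X K S.X₂.obj).X 0 :=
    mkE (PX X S.X₂.obj) (fun i => (hKB 0 i).choose)
  have hga : mp X K S.g.hom 0 a = ιc J X S.X₃ K y := by
    apply E_ext (PX X S.X₃.obj)
    intro i
    change cmpE (PX X S.X₃.obj) ((Eθ (wl X S.g.hom) (K.obj (op ⦋0⦌))).hom a) i = _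
    rw [cmpE_Eθ, cmpE_mkE]
    refine (hKB 0 i).choose_spec.trans ?_
    exact (HyperH0.ι_apply_π J X S.X₃ K y i).symm
  have h1 : mp X K S.g.hom 1 (dd X K S.X₂.obj 0 a) = 0 := by
    rw [mp_dd, hga, dd_ι]
  obtain ⟨s, hs⟩ := mp_exact J X hS K 1 _ h1
  have hds : dd X K S.X₁.obj 1 s = 0 := by
    apply mpf_injective J X hS K 2
    rw [mp_dd, hs, dd_dd, map_zero]
  obtain ⟨L, f₁, hL, t, ht⟩ := h K hK s hds
  have hda : dd X L S.X₂.obj 0 (pb X f₁ S.X₂.obj 0 a - mp X L S.f.hom 0 t) = 0 := by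
    rw [map_sub, ← pb_dd, ← mp_dd, ht, ← hs, pb_mp, sub_self]
  obtain ⟨ybar, hybar⟩ := HyperH0.exists_preimage J X S.X₂ L hL _
    (cocycle_zero_iff J X S.X₂ L _ hda)
  have hybar' : ιc J X S.X₂ L ybar =
      pb X f₁ S.X₂.obj 0 a - mp X L S.f.hom 0 t := hybar
  refine ⟨ybar, ?_⟩
  apply HyperH0.ι_injective J X S.X₃ L hL.1
  change ιc J X S.X₃ L _ = ιc J X S.X₃ L y
  rw [← mp_ι, hybar', map_sub, mpg_mpf J X hS, sub_zero, ← pb_mp, hga, pb_ι]

end shift

/-! ### The comparison -/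

theorem main (q : ℕ) : ∀ F : Sheaf J AddCommGrpCat.{u},
    Subsingleton (Ext (ZU J X) F q) ↔ DiesC J X F.obj q := by
  induction q with
  | zero => exact a0 J X
  | succ q ih =>
    intro F
    let S : ShortComplex (Sheaf J AddCommGrpCat.{u}) :=
      ShortComplex.mk (Injective.ι F) (cokernel.π (Injective.ι F)) (cokernel.condition _)
    have hS : S.ShortExact :=
      { exact := ShortComplex.exact_cokernel (Injective.ι F)
        mono_f := (inferInstance : Mono (Injective.ι F))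
        epi_g := (inferInstance : Epi (cokernel.π (Injective.ι F))) }
    haveI : Injective S.X₂ := (inferInstance : Injective (Injective.under F))
    cases q with
    | zero =>
      change Subsingleton (Ext (ZU J X) S.X₁ 1) ↔ DiesC J X S.X₁.obj 1
      rw [subsingleton_ext_one_iff hS X]
      exact ⟨a1_mp J X hS, a1_mpr J X hS⟩
    | succ p =>
      change Subsingleton (Ext (ZU J X) S.X₁ (p + 2)) ↔ DiesC J X S.X₁.obj (p + 2)
      rw [subsingleton_ext_succ_iff hS (ZU J X) p, ih S.X₃]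
      exact ⟨step1 J X hS (p + 1), step2 J X hS p⟩

theorem sheaf_version (F : Sheaf J AddCommGrpCat.{u}) (q : ℕ) :
    Subsingleton (CohSite.HU F q X) ↔ DiesH J X F.obj q :=
  (main J X q F).trans (diesH_iff_diesC J X F.obj q).symm

theorem presheaf_version (G : Cᵒᵖ ⥤ AddCommGrpCat.{u}) (q : ℕ) :
    Subsingleton (CohSite.HU ((presheafToSheaf J AddCommGrpCat.{u}).obj G) q X) ↔
      DiesH J X G q :=
  (main J X q _).trans ((diesC_sheafify_iff J X G q).symm.trans (diesH_iff_diesC J X G q).symm)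

end Groth.Agent.Lib.Helper62.VerdierCmp
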