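import Mathlib
import Groth.Prelude.Def_Hyper
import Groth.Agent.Lib.Helper62.FreeAcyclicG
import Groth.Agent.Lib.Helper62.MatchLiftW
import Groth.Agent.Lib.Helper62.FCLimits
import Groth.Agent.Lib.Helper62.HyperSiteH0

/-! # Hypercoverings of the final object (Verdier's sense): acyclicity of the free complex -/

set_option autoImplicit false
set_option backward.isDefEq.respectTransparency false
set_option backward.isDefEq.respectTransparency.types false

open CategoryTheory CategoryTheory.Limits Opposite Simplicial SimplexCategory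

universe u

namespace Groth.Agent.Lib.Helper62.VerdierHyper

open ConeExtG FreeAcyclicG HyperSite HyperSiteH0 HyperToSite MatchLift

variable {C : Type u} [SmallCategory C] [HasPullbacks C] [HasBinaryProducts C]
  (J : GrothendieckTopology C) (K : SimplicialObject (FormalCoproduct.{u} C))
  [∀ (n : ℕ) (F : (SimplexCategory.Truncated n)ᵒᵖ ⥤ FormalCoproduct.{u} C),
    (SimplexCategory.Truncated.inclusion n).op.HasRightKanExtension F]

lemma hV (hK : Hyper.IsHypercoveringSite J K) (T₀ : C) : vertexSieve K T₀ ∈ J T₀ := by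
  refine J.superset_covering ?_ (covS_mem J K hK.1 T₀)
  intro V g hg
  exact hg

lemma hL_zero (hK : Hyper.IsHypercoveringSite J K) {T : C} (b : Fin 2 → Y K T 0) :
    ∃ S ∈ J T, ∀ ⦃T' : C⦄ (g : T' ⟶ T), S.arrows g →
      ∃ m : Y K T' 1, ∀ i, m ≫ K.δ i = res g (b i) := by
  obtain ⟨x, hx1, hx0⟩ := exists_pair (Y := FormalCoproduct.yoneda.obj (K.obj (op ⦋0⦌)))
    (Y' := FormalCoproduct.yoneda.obj (K.obj (op ⦋0⦌))) (sec (b 1)) (sec (b 0))
  refine ⟨_, hK.2.1.imageSieve_mem x, ?_⟩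
  intro T' g hg
  obtain ⟨t, ht⟩ := hg
  obtain ⟨m, rfl⟩ := sec_surjective t
  refine ⟨m, ?_⟩
  have h1 : m ≫ K.δ 1 = res g (b 1) := by
    apply sec_injective
    have n1 := congrArg (fun φ => φ.app (op T') (sec m))
      (prod.lift_fst (FormalCoproduct.yoneda.map (K.δ (1 : Fin 2)))
        (FormalCoproduct.yoneda.map (K.δ (0 : Fin 2))))
    have n2 := congrArg (fun φ => φ x) ((prod.fst : FormalCoproduct.yoneda.obj (K.obj (op ⦋0⦌)) ⨯
      FormalCoproduct.yoneda.obj (K.obj (op ⦋0⦌)) ⟶ _).naturality g.op)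
    have n3 := congrArg (fun y => (prod.fst : FormalCoproduct.yoneda.obj (K.obj (op ⦋0⦌)) ⨯
      FormalCoproduct.yoneda.obj (K.obj (op ⦋0⦌)) ⟶ _).app (op T') y) ht
    rw [← map_sec]
    refine n1.symm.trans (n3.trans (n2.trans ?_))
    have e := congrArg (fun y => (FormalCoproduct.yoneda.obj (K.obj (op ⦋0⦌))).map g.op y) hx1
    exact e.trans (restrict_sec g (b 1))
  have h0 : m ≫ K.δ 0 = res g (b 0) := by
    apply sec_injective
    have n1 := congrArg (fun φ => φ.app (op T') (sec m))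
      (prod.lift_snd (FormalCoproduct.yoneda.map (K.δ (1 : Fin 2)))
        (FormalCoproduct.yoneda.map (K.δ (0 : Fin 2))))
    have n2 := congrArg (fun φ => φ x) ((prod.snd : FormalCoproduct.yoneda.obj (K.obj (op ⦋0⦌)) ⨯
      FormalCoproduct.yoneda.obj (K.obj (op ⦋0⦌)) ⟶ _).naturality g.op)
    have n3 := congrArg (fun y => (prod.snd : FormalCoproduct.yoneda.obj (K.obj (op ⦋0⦌)) ⨯
      FormalCoproduct.yoneda.obj (K.obj (op ⦋0⦌)) ⟶ _).app (op T') y) ht
    rw [← map_sec]
    refine n1.symm.trans (n3.trans (n2.trans ?_))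
    have e := congrArg (fun y => (FormalCoproduct.yoneda.obj (K.obj (op ⦋0⦌))).map g.op y) hx0
    exact e.trans (restrict_sec g (b 0))
  intro i
  fin_cases i
  · exact h0
  · exact h1

lemma hL_succ (hK : Hyper.IsHypercoveringSite J K) (k : ℕ) {T : C} (b : Fin (k + 3) → Y K T (k + 1))
    (hb : Compat (k + 1) K b) :
    ∃ S ∈ J T, ∀ ⦃T' : C⦄ (g : T' ⟶ T), S.arrows g →
      ∃ m : Y K T' (k + 2), ∀ i, m ≫ K.δ i = res g (b i) := by
  have hls := hK.2.2 (k + 1) (by omega)
  refine ⟨_, hls.imageSieve_mem (sec (MatchLiftW.matchLift (k + 1) b hb)), ?_⟩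
  intro T' g hg
  obtain ⟨t, ht⟩ := hg
  obtain ⟨m, rfl⟩ := sec_surjective t
  have hm : m ≫ (CoskW.η (k + 1) K).app (op ⦋k + 2⦌) =
      (FormalCoproduct.incl C).map g ≫ MatchLiftW.matchLift (k + 1) b hb := by
    apply sec_injective
    rw [← map_sec, ← restrict_sec]
    exact ht
  refine ⟨m, fun i => ?_⟩
  have h1 : K.δ i = (CoskW.η (k + 1) K).app (op ⦋k + 2⦌) ≫
      CoskW.cmp (k + 1) K ⦋k + 1⦌ le_rfl (SimplexCategory.δ i) :=
    (CoskW.η_cmp (k + 1) K ⦋k + 1⦌ le_rfl (SimplexCategory.δ i)).symm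
  rw [h1, ← Category.assoc, hm, Category.assoc, MatchLiftW.matchLift_cmp]
  rfl

theorem hL (hK : Hyper.IsHypercoveringSite J K) : HL J K := by
  intro k T b hb
  cases k with
  | zero => exact hL_zero J K hK b
  | succ k => exact hL_succ J K hK k b hb

/-- `ℤ` as a free abelian group -/
noncomputable def freeIso : AddCommGrpCat.free.{u}.obj PUnit.{u + 1} ≅ AddCommGrpCat.of (ULift.{u} ℤ) :=
  ((FreeAbelianGroup.uniqueEquiv PUnit.{u + 1}).trans AddEquiv.ulift.symm).toAddCommGrpIso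

theorem acyclic (hK : Hyper.IsHypercoveringSite J K) :
    (∀ n : ℕ, IsZero ((Hyper.freeChainCx J K).homology (n + 1))) ∧
    Nonempty ((Hyper.freeChainCx J K).homology 0 ≅
      (constantSheaf J AddCommGrpCat.{u}).obj (AddCommGrpCat.of (ULift.{u} ℤ))) := by
  refine ⟨fun n => homology_pos J K (hL J K hK) (hV J K hK) n, ?_⟩
  obtain ⟨e⟩ := homology_zero J K (hL J K hK) (hV J K hK)
  exact ⟨e ≪≫ (presheafToSheaf J AddCommGrpCat.{u}).mapIso ((Functor.const Cᵒᵖ).mapIso freeIso)⟩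

theorem cech_injective (hK : Hyper.IsHypercoveringSite J K) (I : Sheaf J AddCommGrpCat.{u})
    [Injective I] :
    (∀ p : ℕ, IsZero ((Hyper.cechCxSite K I.obj).homology (p + 1))) ∧
    Nonempty ((Hyper.cechCxSite K I.obj).homology 0 ≅ limit I.obj) := by
  refine ⟨fun p => HomCech.cech_vanish J K I p (homology_pos J K (hL J K hK) (hV J K hK) p), ?_⟩
  exact h0_iso_site J I K hK.1 hK.2.1

end Groth.Agent.Lib.Helper62.VerdierHyper
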