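import Mathlib.CategoryTheory.Triangulated.TStructure.TruncLEGT
import Mathlib.CategoryTheory.Triangulated.TStructure.Heart
import Mathlib.CategoryTheory.Triangulated.Subcategory
import Mathlib.CategoryTheory.Triangulated.Functor
import Mathlib.CategoryTheory.Localization.Predicate
import Mathlib.CategoryTheory.Localization.CalculusOfFractions
import Mathlib.CategoryTheory.Localization.Triangulated

/-!
# t-structure on a Verdier quotient (helper62)
-/

set_option autoImplicit false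
universe v u v' u'
open CategoryTheory CategoryTheory.Limits CategoryTheory.Pretriangulated CategoryTheory.Triangulated

namespace Groth.Agent.Lib.Helper62.VerdierT

variable {C : Type u} [Category.{v} C] [Preadditive C] [HasZeroObject C] [HasShift C ℤ]
    [∀ n : ℤ, (shiftFunctor C n).Additive] [Pretriangulated C] [IsTriangulated C]
    (t : TStructure C)
    (D : ObjectProperty C) [D.IsTriangulated] [D.IsClosedUnderIsomorphisms]

/-- Step A: `D` is stable under `τ≥m`. -/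
lemma D_truncGE (hb : ∀ X : C, t.bounded X)
    (h1 : ∀ X : C, D X → ∀ n : ℤ, D ((t.truncGELE n n).obj X))
    (X : C) (hX : D X) (m : ℤ) : D ((t.truncGE m).obj X) := by
  obtain ⟨b, hb'⟩ := (hb X).2
  have key : ∀ j : ℕ, D ((t.truncGE (b + 1 - j)).obj X) := by
    intro j
    induction j with
    | zero =>
      apply D.prop_of_isZero
      simp only [Nat.cast_zero, sub_zero]
      exact t.isZero_truncGE_obj_of_isLE b (b + 1) rfl X
    | succ j ih =>
      obtain ⟨m, hm⟩ : ∃ m : ℤ, m = b + 1 - ((j + 1 : ℕ) : ℤ) := ⟨_, rfl⟩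
      have hm' : b + 1 - (j : ℤ) = m + 1 := by push_cast at hm; lia
      rw [← hm]
      rw [hm'] at ih
      have hT := t.triangleLEGT_distinguished m ((t.truncGE m).obj X)
      refine D.ext_of_isTriangulatedClosed₂ _ hT ?_ ?_
      · exact D.prop_of_iso ((t.truncGELEIsoLEGE m m).app X) (h1 X hX m)
      · have hi : IsIso ((t.truncGE (m + 1)).map ((t.truncGEπ m).app X)) :=
          t.isIso_truncGE_map_truncGEπ_app (m + 1) m (by lia) X
        exact D.prop_of_iso (@asIso _ _ _ _ _ hi) ih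
  by_cases hm : b + 1 ≤ m
  · apply D.prop_of_isZero
    have : t.IsLE X (m - 1) := t.isLE_of_le X b (m - 1) (by lia)
    exact t.isZero_truncGE_obj_of_isLE (m - 1) m (by lia) X
  · have := key (b + 1 - m).toNat
    rwa [show b + 1 - ((b + 1 - m).toNat : ℤ) = m by lia] at this

lemma D_truncLT (hb : ∀ X : C, t.bounded X)
    (h1 : ∀ X : C, D X → ∀ n : ℤ, D ((t.truncGELE n n).obj X))
    (X : C) (hX : D X) (m : ℤ) : D ((t.truncLT m).obj X) :=
  D.ext_of_isTriangulatedClosed₁ _ (t.triangleLTGE_distinguished m X) hX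
    (D_truncGE t D hb h1 X hX m)

omit [IsTriangulated C] in
/-- Shifting a triangle with vertices in `[n,n]` lands in the heart; used to apply `h2`. -/
lemma D_cone_of_heart_shift
    (h2 : ∀ (X Y Z : C) (f : X ⟶ Y) (g : Y ⟶ Z) (h : Z ⟶ X⟦(1 : ℤ)⟧),
      Triangle.mk f g h ∈ distTriang C → t.heart X → t.heart Y → t.heart Z → D Y → D X ∧ D Z)
    {X Y Z : C} (f : X ⟶ Y) (g : Y ⟶ Z) (h : Z ⟶ X⟦(1 : ℤ)⟧)
    (hT : Triangle.mk f g h ∈ distTriang C) (n : ℤ)
    [t.IsLE X n] [t.IsGE X n] [t.IsLE Y n] [t.IsGE Y n]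
    [t.IsLE Z n] [t.IsGE Z n] (hD : D Y) : D X ∧ D Z := by
  have hT' := Triangle.shift_distinguished _ hT n
  have hh : ∀ (X : C) [t.IsLE X n] [t.IsGE X n], t.heart (X⟦n⟧) := fun X _ _ ↦ by
    rw [t.mem_heart_iff]
    exact ⟨t.isLE_shift X n n 0 (by lia), t.isGE_shift X n n 0 (by lia)⟩
  have := h2 _ _ _ _ _ _ hT' (hh X) (hh Y) (hh Z) (D.le_shift n _ hD)
  exact ⟨(D.prop_shift_iff_of_isStableUnderShift _ n).1 this.1,
    (D.prop_shift_iff_of_isStableUnderShift _ n).1 this.2⟩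

set_option backward.defeqAttrib.useBackward true in
/-- Step B: for a distinguished triangle `M ⟶ N ⟶ Q` with `M ≤ n`, `Q ≥ n` and `N ∈ D`,
one has `Q ∈ D`. -/
lemma D_of_triangle (hb : ∀ X : C, t.bounded X)
    (h1 : ∀ X : C, D X → ∀ n : ℤ, D ((t.truncGELE n n).obj X))
    (h2 : ∀ (X Y Z : C) (f : X ⟶ Y) (g : Y ⟶ Z) (h : Z ⟶ X⟦(1 : ℤ)⟧),
      Triangle.mk f g h ∈ distTriang C → t.heart X → t.heart Y → t.heart Z → D Y → D X ∧ D Z)
    (T : Triangle C) (hT : T ∈ distTriang C) (n : ℤ)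
    [t.IsLE T.obj₁ n] [t.IsGE T.obj₃ n] (hN : D T.obj₂) : D T.obj₃ := by
  obtain ⟨Cu, v₁₃, w₁₃, h₁₃⟩ :=
    distinguished_cocone_triangle ((t.truncLTι n).app T.obj₁ ≫ T.mor₁)
  have O1 := someOctahedron rfl (t.triangleLTGE_distinguished n T.obj₁) hT h₁₃
  have hCuGE : t.IsGE Cu n :=
    t.isGE₂ _ O1.mem n (by dsimp; infer_instance) (by dsimp; infer_instance)
  have hCuD : D Cu := by
    have hi : IsIso ((t.truncGE n).map v₁₃) :=
      t.isIso₂_truncGE_map_of_isLE _ h₁₃ (n - 1) n (by lia) (by dsimp; infer_instance)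
    have h' : D ((t.truncGE n).obj Cu) :=
      D.prop_of_iso (@asIso _ _ _ _ _ hi) (D_truncGE t D hb h1 _ hN n)
    exact D.prop_of_iso (asIso ((t.truncGEπ n).app Cu)).symm h'
  -- second octahedron
  have hH_le : t.IsLE ((t.truncGE n).obj T.obj₁) n := inferInstance
  obtain ⟨Lm, a, b, h₁₂'⟩ := distinguished_cocone_triangle (t.liftTruncLE O1.m₁ n)
  have O2 := someOctahedron (t.liftTruncLE_ι O1.m₁ n) h₁₂'
    (t.triangleLEGT_distinguished n Cu) O1.mem
  have hLmLE : t.IsLE Lm n := by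
    refine t.isLE₂ _ (rot_of_distTriang _ h₁₂') n (by dsimp; infer_instance) ?_
    dsimp
    have := t.isLE_shift ((t.truncGE n).obj T.obj₁) n 1 (n - 1) (by lia)
    exact t.isLE_of_le _ (n - 1) n (by lia)
  have hLmGE : t.IsGE Lm n := by
    refine t.isGE₂ _ (inv_rot_of_distTriang _ O2.mem) n ?_ (by dsimp; infer_instance)
    dsimp
    have := t.isGE_shift ((t.truncGT n).obj Cu) (n + 1) (-1) (n + 2) (by lia)
    exact t.isGE_of_ge _ n (n + 2) (by lia)
  have hLE_D : D ((t.truncLE n).obj Cu) :=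
    D.prop_of_iso (asIso ((t.truncGEπ n).app ((t.truncLE n).obj Cu))).symm (h1 Cu hCuD n)
  have hLmD : D Lm :=
    (D_cone_of_heart_shift t D h2 _ _ _ h₁₂' n hLE_D).2
  exact D.ext_of_isTriangulatedClosed₂ _ O2.mem hLmD
    (D_truncGE t D hb h1 Cu hCuD (n + 1))

set_option backward.defeqAttrib.useBackward true in
/-- Step C: if `s : X' ⟶ X` has cone in `D` and `X ≤ n`, then `τ≤n X' ⟶ X' ⟶ X` has cone in `D`. -/
lemma trW_truncLEι_comp (hb : ∀ X : C, t.bounded X)
    (h1 : ∀ X : C, D X → ∀ n : ℤ, D ((t.truncGELE n n).obj X))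
    (h2 : ∀ (X Y Z : C) (f : X ⟶ Y) (g : Y ⟶ Z) (h : Z ⟶ X⟦(1 : ℤ)⟧),
      Triangle.mk f g h ∈ distTriang C → t.heart X → t.heart Y → t.heart Z → D Y → D X ∧ D Z)
    {X' X : C} (s : X' ⟶ X) (hs : D.trW s) (n : ℤ) [t.IsLE X n] :
    D.trW ((t.truncLEι n).app X' ≫ s) := by
  obtain ⟨N, g, h, hT, hN⟩ := hs
  obtain ⟨M₀, v, w, h₁₃⟩ := distinguished_cocone_triangle ((t.truncLEι n).app X' ≫ s)
  have O := someOctahedron rfl (t.triangleLEGT_distinguished n X') hT h₁₃
  have hM₀ : t.IsLE M₀ n := by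
    refine t.isLE₂ _ (rot_of_distTriang _ h₁₃) n (by dsimp; infer_instance) ?_
    dsimp
    have := t.isLE_shift ((t.truncLE n).obj X') n 1 (n - 1) (by lia)
    exact t.isLE_of_le _ (n - 1) n (by lia)
  have hP1 : D (((t.truncGT n).obj X')⟦(1 : ℤ)⟧) := by
    have hr := rot_of_distTriang _ O.mem
    have : t.IsLE (Triangle.mk O.m₁ O.m₃ (h ≫ ((t.truncGTπ n).app X')⟦(1 : ℤ)⟧')).rotate.obj₁ n := by
      dsimp; infer_instance
    have : t.IsGE (Triangle.mk O.m₁ O.m₃ (h ≫ ((t.truncGTπ n).app X')⟦(1 : ℤ)⟧')).rotate.obj₃ n := by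
      dsimp
      exact t.isGE_shift ((t.truncGT n).obj X') (n + 1) 1 n (by lia)
    exact D_of_triangle t D hb h1 h2 _ hr n hN
  have hP : D ((t.truncGT n).obj X') := (D.prop_shift_iff_of_isStableUnderShift _ 1).1 hP1
  exact ⟨M₀, v, w, h₁₃, D.ext_of_isTriangulatedClosed₂ _ O.mem hP hN⟩

section Quotient

variable {E : Type u'} [Category.{v'} E] [Preadditive E] [HasZeroObject E] [HasShift E ℤ]
    [∀ n : ℤ, (shiftFunctor E n).Additive] [Pretriangulated E]
    (q : C ⥤ E) [q.CommShift ℤ] [q.IsTriangulated] [q.IsLocalization D.trW]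

/-- Vanishing of morphisms in the quotient. -/
lemma hom_eq_zero (hb : ∀ X : C, t.bounded X)
    (h1 : ∀ X : C, D X → ∀ n : ℤ, D ((t.truncGELE n n).obj X))
    (h2 : ∀ (X Y Z : C) (f : X ⟶ Y) (g : Y ⟶ Z) (h : Z ⟶ X⟦(1 : ℤ)⟧),
      Triangle.mk f g h ∈ distTriang C → t.heart X → t.heart Y → t.heart Z → D Y → D X ∧ D Z)
    {X Y : C} (n : ℤ) [t.IsLE X n] [t.IsGE Y (n + 1)] (φ : q.obj X ⟶ q.obj Y) : φ = 0 := by
  obtain ⟨ψ, rfl⟩ := Localization.exists_rightFraction q D.trW φ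
  have hs := trW_truncLEι_comp t D hb h1 h2 ψ.s ψ.hs n
  have hi : IsIso (q.map ((t.truncLEι n).app ψ.X' ≫ ψ.s)) := Localization.inverts q D.trW _ hs
  rw [← cancel_epi (q.map ((t.truncLEι n).app ψ.X' ≫ ψ.s))]
  rw [q.map_comp, Category.assoc, MorphismProperty.RightFraction.map_s_comp_map, ← q.map_comp,
    comp_zero]
  rw [t.zero ((t.truncLEι n).app ψ.X' ≫ ψ.f) n (n + 1) (by lia), q.map_zero]

set_option backward.defeqAttrib.useBackward true in
/-- Step D: the t-structure on the quotient. -/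
noncomputable def tE (hb : ∀ X : C, t.bounded X)
    (h1 : ∀ X : C, D X → ∀ n : ℤ, D ((t.truncGELE n n).obj X))
    (h2 : ∀ (X Y Z : C) (f : X ⟶ Y) (g : Y ⟶ Z) (h : Z ⟶ X⟦(1 : ℤ)⟧),
      Triangle.mk f g h ∈ distTriang C → t.heart X → t.heart Y → t.heart Z → D Y → D X ∧ D Z) :
    TStructure E where
  le n := fun Y => ∃ X : C, t.IsLE X n ∧ Nonempty (q.obj X ≅ Y)
  ge n := fun Y => ∃ X : C, t.IsGE X n ∧ Nonempty (q.obj X ≅ Y)
  le_isClosedUnderIsomorphisms n := ⟨fun e ⟨X, hX, ⟨e'⟩⟩ => ⟨X, hX, ⟨e' ≪≫ e⟩⟩⟩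
  ge_isClosedUnderIsomorphisms n := ⟨fun e ⟨X, hX, ⟨e'⟩⟩ => ⟨X, hX, ⟨e' ≪≫ e⟩⟩⟩
  le_shift n a n' h Y := by
    rintro ⟨X, hX, ⟨e⟩⟩
    exact ⟨X⟦a⟧, t.isLE_shift X n a n' h,
      ⟨(q.commShiftIso a).app X ≪≫ (shiftFunctor E a).mapIso e⟩⟩
  ge_shift n a n' h Y := by
    rintro ⟨X, hX, ⟨e⟩⟩
    exact ⟨X⟦a⟧, t.isGE_shift X n a n' h,
      ⟨(q.commShiftIso a).app X ≪≫ (shiftFunctor E a).mapIso e⟩⟩
  zero' X Y f := by
    rintro ⟨X₀, hX, ⟨e⟩⟩ ⟨Y₀, hY, ⟨e'⟩⟩
    have hY' : t.IsGE Y₀ (0 + 1) := by simpa using hY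
    have := hom_eq_zero t D q hb h1 h2 0 (e.hom ≫ f ≫ e'.inv)
    rw [← cancel_epi e.hom, ← cancel_mono e'.inv, Category.assoc, this, comp_zero, zero_comp]
  le_zero_le := fun Y ⟨X, hX, e⟩ => ⟨X, t.isLE_of_le X 0 1, e⟩
  ge_one_le := fun Y ⟨X, hX, e⟩ => ⟨X, t.isGE_of_ge X 0 1, e⟩
  exists_triangle_zero_one A := by
    have : q.EssSurj := Localization.essSurj q D.trW
    let A₀ := q.objPreimage A
    let e : q.obj A₀ ≅ A := q.objObjPreimageIso A
    have hT := q.map_distinguished _ (t.triangleLEGE_distinguished 0 1 rfl A₀)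
    refine ⟨q.obj ((t.truncLE 0).obj A₀), q.obj ((t.truncGE 1).obj A₀),
      ⟨_, inferInstance, ⟨Iso.refl _⟩⟩, ⟨_, inferInstance, ⟨Iso.refl _⟩⟩,
      q.map ((t.truncLEι 0).app A₀) ≫ e.hom, e.inv ≫ q.map ((t.truncGEπ 1).app A₀),
      q.map ((t.truncGEδLE 0 1 rfl).app A₀) ≫ (q.commShiftIso (1 : ℤ)).hom.app _, ?_⟩
    refine isomorphic_distinguished _ hT _ ?_
    exact Triangle.isoMk _ _ (Iso.refl _) e.symm (Iso.refl _) (by simp) (by simp) (by simp)

omit [IsTriangulated C] in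
lemma tStructure_ext {t₁ t₂ : TStructure E} (hle : t₁.le = t₂.le) (hge : t₁.ge = t₂.ge) :
    t₁ = t₂ := by
  cases t₁; cases t₂; cases hle; cases hge; rfl

set_option backward.defeqAttrib.useBackward true in
/-- Step E: uniqueness. -/
lemma tE_unique (hb : ∀ X : C, t.bounded X)
    (h1 : ∀ X : C, D X → ∀ n : ℤ, D ((t.truncGELE n n).obj X))
    (h2 : ∀ (X Y Z : C) (f : X ⟶ Y) (g : Y ⟶ Z) (h : Z ⟶ X⟦(1 : ℤ)⟧),
      Triangle.mk f g h ∈ distTriang C → t.heart X → t.heart Y → t.heart Z → D Y → D X ∧ D Z)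
    (t'' : TStructure E)
    (hle : ∀ (X : C) (n : ℤ), t.IsLE X n → t''.IsLE (q.obj X) n)
    (hge : ∀ (X : C) (n : ℤ), t.IsGE X n → t''.IsGE (q.obj X) n) :
    t'' = tE t D q hb h1 h2 := by
  have : q.EssSurj := Localization.essSurj q D.trW
  apply tStructure_ext
  · funext n Y
    apply propext
    constructor
    · intro hY
      let A := q.objPreimage Y
      let e : q.obj A ≅ Y := q.objObjPreimageIso Y
      have hT := q.map_distinguished _ (t.triangleLEGT_distinguished n A)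
      have hYi : t''.IsLE Y n := ⟨hY⟩
      have hA : t''.IsLE (q.obj A) n := t''.isLE_of_iso e.symm n
      have h3LE : t''.IsLE (q.obj ((t.truncGT n).obj A)) n := by
        refine t''.isLE₂ _ (rot_of_distTriang _ hT) n (by dsimp; infer_instance) ?_
        dsimp
        have := hle ((t.truncLE n).obj A) n inferInstance
        have := t''.isLE_shift (q.obj ((t.truncLE n).obj A)) n 1 (n - 1) (by lia)
        exact t''.isLE_of_le _ (n - 1) n (by lia)
      have h3GE : t''.IsGE (q.obj ((t.truncGT n).obj A)) (n + 1) := hge _ _ inferInstance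
      have hz : IsZero (q.obj ((t.truncGT n).obj A)) := t''.isZero _ n (n + 1) (by lia)
      have hi : IsIso (q.map ((t.truncLEι n).app A)) :=
        (Triangle.isZero₃_iff_isIso₁ _ hT).1 hz
      exact ⟨(t.truncLE n).obj A, inferInstance, ⟨asIso (q.map ((t.truncLEι n).app A)) ≪≫ e⟩⟩
    · rintro ⟨X, hX, ⟨e⟩⟩
      have := hle X n hX
      exact (t''.isLE_of_iso e n).le
  · funext n Y
    apply propext
    constructor
    · intro hY
      let A := q.objPreimage Y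
      let e : q.obj A ≅ Y := q.objObjPreimageIso Y
      have hT := q.map_distinguished _ (t.triangleLTGE_distinguished n A)
      have hYi : t''.IsGE Y n := ⟨hY⟩
      have hA : t''.IsGE (q.obj A) n := t''.isGE_of_iso e.symm n
      have h1GE : t''.IsGE (q.obj ((t.truncLT n).obj A)) n := by
        refine t''.isGE₂ _ (inv_rot_of_distTriang _ hT) n ?_ (by dsimp; infer_instance)
        dsimp
        have := hge ((t.truncGE n).obj A) n inferInstance
        have := t''.isGE_shift (q.obj ((t.truncGE n).obj A)) n (-1) (n + 1) (by lia)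
        exact t''.isGE_of_ge _ n (n + 1) (by lia)
      have h1LE : t''.IsLE (q.obj ((t.truncLT n).obj A)) (n - 1) := hle _ _ inferInstance
      have hz : IsZero (q.obj ((t.truncLT n).obj A)) := t''.isZero _ (n - 1) n (by lia)
      have hi : IsIso (q.map ((t.truncGEπ n).app A)) :=
        (Triangle.isZero₁_iff_isIso₂ _ hT).1 hz
      exact ⟨(t.truncGE n).obj A, inferInstance,
        ⟨(asIso (q.map ((t.truncGEπ n).app A))).symm ≪≫ e⟩⟩
    · rintro ⟨X, hX, ⟨e⟩⟩
      have := hge X n hX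
      exact (t''.isGE_of_iso e n).ge

end Quotient

end Groth.Agent.Lib.Helper62.VerdierT
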